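import Groth.Prelude.Def_DRing2
import Mathlib.Algebra.Homology.DerivedCategory.KInjective
import Mathlib.Algebra.Homology.DerivedCategory.KProjective
import Mathlib.Algebra.Homology.DerivedCategory.DerivabilityStructureInjectives
import Mathlib.Algebra.Category.ModuleCat.EnoughInjectives
import Mathlib.Algebra.Homology.HomotopyCategory.HomComplexSingle
import Mathlib.Algebra.Homology.ShortComplex.ModuleCat

/-!
# Objects of finite injective dimension in D(A)

If the morphisms M ⟶ ω[i] in D(A) vanish for all modules M and all i outside [a, b], then ω is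
isomorphic in D(A) to a complex of injective modules vanishing outside [a, b].
Also: morphisms Q K ⟶ (Q L)[n] in D(A) = cohomology classes of degree n of Hom(K, L) when L is
K-injective or K is K-projective.
-/

set_option autoImplicit false
universe w v u
open CategoryTheory Limits CochainComplex CochainComplex.HomComplex DerivedCategory

namespace Groth.Agent.LoccohB.InjRep

section General

variable {C : Type u} [Category.{v} C] [Abelian C] [HasDerivedCategory.{w} C]

/-- The morphism Q K ⟶ (Q L)[n] attached to a cocycle of degree n. -/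
noncomputable def ofCocycle {K L : CochainComplex C ℤ} {n : ℤ} (x : Cocycle K L n) :
    Q.obj K ⟶ (Q.obj L)⟦n⟧ :=
  Q.map (Cocycle.equivHomShift.symm x) ≫ (Q.commShiftIso n).hom.app L

lemma ofCocycle_add {K L : CochainComplex C ℤ} {n : ℤ} (x y : Cocycle K L n) :
    ofCocycle (x + y) = ofCocycle x + ofCocycle y := by
  simp [ofCocycle]

lemma ofCocycle_sub {K L : CochainComplex C ℤ} {n : ℤ} (x y : Cocycle K L n) :
    ofCocycle (x - y) = ofCocycle x - ofCocycle y := by
  simp [ofCocycle]

lemma ofCocycle_zero {K L : CochainComplex C ℤ} {n : ℤ} :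
    ofCocycle (0 : Cocycle K L n) = 0 := by
  simp [ofCocycle]

lemma ofCocycle_eq_zero_iff_Qh {K L : CochainComplex C ℤ} {n : ℤ} (x : Cocycle K L n) :
    ofCocycle x = 0 ↔
      Qh.map ((HomotopyCategory.quotient C (.up ℤ)).map (Cocycle.equivHomShift.symm x)) = 0 := by
  have h : Q.map (Cocycle.equivHomShift.symm x) = 0 ↔ 
      Qh.map ((HomotopyCategory.quotient C (.up ℤ)).map (Cocycle.equivHomShift.symm x)) = 0 := by
    have := (quotientCompQhIso C).hom.naturality (Cocycle.equivHomShift.symm x)
    constructor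
    · intro hx
      rw [hx] at this
      rw [← cancel_mono ((quotientCompQhIso C).hom.app _)]
      simpa using this
    · intro hx
      dsimp at this
      rw [hx] at this
      rw [← cancel_epi ((quotientCompQhIso C).hom.app _), ← this]
      simp
  rw [← h]
  unfold ofCocycle
  constructor
  · intro hx
    rw [← cancel_mono ((Q.commShiftIso n).hom.app L), hx, zero_comp]
  · intro hx
    rw [hx, zero_comp]

lemma ofCocycle_eq_zero_of_mem_coboundaries {K L : CochainComplex C ℤ} {n : ℤ} (x : Cocycle K L n)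
    (hx : x ∈ coboundaries K L n) : ofCocycle x = 0 := by
  rw [ofCocycle_eq_zero_iff_Qh]
  have := (CohomologyClass.toHom_mk_eq_zero_iff x).2 hx
  rw [CohomologyClass.toHom_mk] at this
  rw [this, Functor.map_zero]

/-- The abstract form: if Qh is bijective on morphisms from K to L[n]. -/
lemma ofCocycle_eq_zero_iff_of_bijective {K L : CochainComplex C ℤ} {n : ℤ}
    (h : Function.Bijective (Qh.map :
      ((HomotopyCategory.quotient C (.up ℤ)).obj K ⟶
        (HomotopyCategory.quotient C (.up ℤ)).obj (L⟦n⟧)) → _))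
    (x : Cocycle K L n) : ofCocycle x = 0 ↔ x ∈ coboundaries K L n := by
  refine ⟨fun hx ↦ ?_, ofCocycle_eq_zero_of_mem_coboundaries x⟩
  rw [ofCocycle_eq_zero_iff_Qh] at hx
  rw [← CohomologyClass.toHom_mk_eq_zero_iff, CohomologyClass.toHom_mk]
  apply h.1
  rw [hx, Functor.map_zero]

lemma ofCocycle_surjective_of_bijective {K L : CochainComplex C ℤ} {n : ℤ}
    (h : Function.Bijective (Qh.map :
      ((HomotopyCategory.quotient C (.up ℤ)).obj K ⟶
        (HomotopyCategory.quotient C (.up ℤ)).obj (L⟦n⟧)) → _)) :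
    Function.Surjective (ofCocycle : Cocycle K L n → (Q.obj K ⟶ (Q.obj L)⟦n⟧)) := by
  intro f
  obtain ⟨g, hg⟩ := h.2 ((quotientCompQhIso C).hom.app K ≫ f ≫ (Q.commShiftIso n).inv.app L ≫
    (quotientCompQhIso C).inv.app _)
  obtain ⟨g, rfl⟩ := (HomotopyCategory.quotient C (.up ℤ)).map_surjective g
  refine ⟨Cocycle.equivHomShift g, ?_⟩
  have := (quotientCompQhIso C).hom.naturality g
  dsimp at this
  rw [hg] at this
  unfold ofCocycle
  rw [AddEquiv.symm_apply_apply, ← cancel_epi ((quotientCompQhIso C).hom.app _),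
    ← Category.assoc]
  erw [← this]
  simp

variable (K L : CochainComplex C ℤ) (n : ℤ)

lemma ofCocycle_eq_zero_iff_of_isKInjective [L.IsKInjective] (x : Cocycle K L n) :
    ofCocycle x = 0 ↔ x ∈ coboundaries K L n :=
  ofCocycle_eq_zero_iff_of_bijective (IsKInjective.Qh_map_bijective _ _) x

lemma ofCocycle_surjective_of_isKInjective [L.IsKInjective] :
    Function.Surjective (ofCocycle : Cocycle K L n → (Q.obj K ⟶ (Q.obj L)⟦n⟧)) :=
  ofCocycle_surjective_of_bijective (IsKInjective.Qh_map_bijective _ _)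

lemma ofCocycle_eq_zero_iff_of_isKProjective [K.IsKProjective] (x : Cocycle K L n) :
    ofCocycle x = 0 ↔ x ∈ coboundaries K L n :=
  ofCocycle_eq_zero_iff_of_bijective (IsKProjective.Qh_map_bijective _ _) x

lemma ofCocycle_surjective_of_isKProjective [K.IsKProjective] :
    Function.Surjective (ofCocycle : Cocycle K L n → (Q.obj K ⟶ (Q.obj L)⟦n⟧)) :=
  ofCocycle_surjective_of_bijective (IsKProjective.Qh_map_bijective _ _)

end General

section Modules

attribute [local instance] HasDerivedCategory.standard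

variable {A : Type u} [CommRing A]

instance isKProjective_single (P : ModuleCat.{u} A) [Projective P] (n : ℤ) :
    ((CochainComplex.singleFunctor (ModuleCat.{u} A) n).obj P).IsKProjective := by
  have : ∀ (i : ℤ), Projective (((CochainComplex.singleFunctor (ModuleCat.{u} A) n).obj P).X i) := by
    intro i
    by_cases h : i = n
    · subst h
      exact Projective.of_iso (HomologicalComplex.singleObjXSelf (.up ℤ) i P).symm inferInstance
    · exact (HomologicalComplex.isZero_single_obj_X (.up ℤ) n P i h).projective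
  exact isKProjective_of_projective _ n

/-- The shape of Hom(M[0], Q(L)[n]) in D(A). -/
noncomputable def isoInD (M : Type u) [AddCommGroup M] [Module A M] :
    Dual.inD A M ≅ Q.obj ((CochainComplex.singleFunctor (ModuleCat.{u} A) 0).obj (ModuleCat.of A M)) :=
  (singleFunctorIsoCompQ (ModuleCat.{u} A) 0).app (ModuleCat.of A M)

lemma exactAt_of_subsingleton (L : CochainComplex (ModuleCat.{u} A) ℤ) (i : ℤ)
    (h : Subsingleton (Dual.inD A A ⟶ (Q.obj L)⟦i⟧)) : L.ExactAt i := by
  rw [L.exactAt_iff' (i - 1) i (i + 1) (by simp) (by simp), ShortComplex.moduleCat_exact_iff]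
  intro x hx
  let f : ModuleCat.of A A ⟶ L.X i := ModuleCat.ofHom (LinearMap.toSpanSingleton A _ x)
  have hf : f ≫ L.d i (i + 1) = 0 := by
    ext
    simpa [f] using! hx
  let z := Cocycle.fromSingleMk f (zero_add i) (i + 1) rfl hf
  have hz : ofCocycle z = 0 := by
    rw [← cancel_epi (isoInD A).hom]
    exact Subsingleton.elim _ _
  rw [ofCocycle_eq_zero_iff_of_isKProjective,
    Cocycle.fromSingleMk_mem_coboundaries_iff _ _ _ _ _ (i - 1) (by simp)] at hz
  obtain ⟨g, hg⟩ := hz
  refine ⟨g (1 : A), ?_⟩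
  have := ConcreteCategory.congr_hom hg (1 : A)
  simpa [f] using! this

/-- Morphisms from M[0] to (Q L)[i] all vanish, L K-injective: every map from M to the cycles lifts. -/
lemma exists_lift_of_subsingleton (L : CochainComplex (ModuleCat.{u} A) ℤ) [L.IsKInjective] (M : ModuleCat.{u} A)
    (i i' : ℤ) (hi' : i' + 1 = i) (h : Subsingleton (Dual.inD A M ⟶ (Q.obj L)⟦i⟧)) (f : M ⟶ L.X i)
    (hf : f ≫ L.d i (i + 1) = 0) : ∃ g : M ⟶ L.X i', g ≫ L.d i' i = f := by
  let z := Cocycle.fromSingleMk f (zero_add i) (i + 1) rfl hf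
  have hz : ofCocycle z = 0 := by
    rw [← cancel_epi (isoInD M).hom]
    exact Subsingleton.elim _ _
  rw [ofCocycle_eq_zero_iff_of_isKInjective,
    Cocycle.fromSingleMk_mem_coboundaries_iff _ _ _ _ _ i' hi'] at hz
  exact hz


/-- The cycles in degree b of a complex J of injectives are injective provided that
morphisms from the cyclic modules to (Q J)[b + 1] vanish (Baer). -/
lemma injective_cycles (J : CochainComplex (ModuleCat.{u} A) ℤ) [J.IsKInjective] (b : ℤ)
    [Injective (J.X b)]
    (h : ∀ (I : Ideal A), Subsingleton (Dual.inD A (A ⧸ I) ⟶ (Q.obj J)⟦b + 1⟧)) :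
    Injective (J.cycles b) := by
  rw [← Module.injective_iff_injective_object.{u, u} A]
  have hb : Module.Injective A (J.X b) := by
    rw [Module.injective_iff_injective_object.{u, u} A]
    infer_instance
  rw [← Module.Baer.iff_injective]
  intro I g
  obtain ⟨f', hf'⟩ := (Module.Baer.iff_injective.2 hb) I ((J.iCycles b).hom ∘ₗ g)
  -- the map A/I ⟶ J.X (b + 1) given by 1 ↦ d (f' 1)
  have hle : I ≤ LinearMap.ker ((J.d b (b + 1)).hom ∘ₗ f') := by
    intro x hx
    have h1 := hf' x hx
    simp only [LinearMap.mem_ker, LinearMap.comp_apply, h1]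
    exact ConcreteCategory.congr_hom (J.iCycles_d b (b + 1)) (g ⟨x, hx⟩)
  let u : ModuleCat.of A (A ⧸ I) ⟶ J.X (b + 1) :=
    ModuleCat.ofHom (Submodule.liftQ I ((J.d b (b + 1)).hom ∘ₗ f') hle)
  have hu : u ≫ J.d (b + 1) (b + 1 + 1) = 0 := by
    apply ModuleCat.hom_ext
    apply LinearMap.ext
    intro x
    obtain ⟨x, rfl⟩ := Submodule.Quotient.mk_surjective I x
    exact ConcreteCategory.congr_hom (J.d_comp_d b (b + 1) (b + 1 + 1)) (f' x)
  obtain ⟨v, hv⟩ := exists_lift_of_subsingleton J _ (b + 1) b rfl (h I) u hu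
  let w : ModuleCat.of A A ⟶ J.X b := ModuleCat.ofHom (f' - v.hom ∘ₗ I.mkQ)
  have hw : w ≫ J.d b (b + 1) = 0 := by
    apply ModuleCat.hom_ext
    apply LinearMap.ext
    intro x
    have := ConcreteCategory.congr_hom hv (I.mkQ x)
    simp only [w, u] at this ⊢
    simpa [sub_eq_zero] using! this.symm
  refine ⟨(J.liftCycles w (b + 1) (by simp) hw).hom, fun x hx => ?_⟩
  have hinj : Function.Injective (J.iCycles b) := 
    (ModuleCat.mono_iff_injective _).1 inferInstance
  apply hinj
  have h2 := ConcreteCategory.congr_hom (J.liftCycles_i w (b + 1) (by simp) hw) x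
  have h3 : I.mkQ x = 0 := by simpa [Ideal.Quotient.eq_zero_iff_mem] using hx
  refine h2.trans ?_
  change f' x - v.hom (I.mkQ x) = _
  rw [h3, map_zero, sub_zero, hf' x hx]
  rfl

/-- Vanishing of Hom(N, K[i]) is transported along isomorphisms in K. -/
lemma subsingleton_of_iso {N K L : Dual.D A} (e : K ≅ L) (i : ℤ)
    (h : Subsingleton (N ⟶ L⟦i⟧)) : Subsingleton (N ⟶ K⟦i⟧) :=
  ⟨fun x y => by
    rw [← cancel_mono ((CategoryTheory.shiftFunctor (Dual.D A) i).map e.hom)]
    exact Subsingleton.elim _ _⟩

lemma subsingleton_of_iso_left {N N' K : Dual.D A} (e : N ≅ N')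
    (h : Subsingleton (N' ⟶ K)) : Subsingleton (N ⟶ K) :=
  ⟨fun x y => by
    rw [← cancel_epi e.inv]
    exact Subsingleton.elim _ _⟩

/-- H^i(ω) = 0 when all morphisms A[0] ⟶ ω[i] vanish. -/
lemma isZero_homology_of_subsingleton (ω : Dual.D A) (i : ℤ)
    (h : Subsingleton (Dual.inD A A ⟶ ω⟦i⟧)) :
    IsZero ((DerivedCategory.homologyFunctor (ModuleCat.{u} A) i).obj ω) := by
  obtain ⟨L, ⟨e⟩⟩ : ∃ K, Nonempty (Q.obj K ≅ ω) := ⟨_, ⟨Q.objObjPreimageIso ω⟩⟩
  have : L.ExactAt i := exactAt_of_subsingleton L i (subsingleton_of_iso e i h)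
  rw [HomologicalComplex.exactAt_iff_isZero_homology] at this
  exact this.of_iso ((homologyFunctor _ i).mapIso e.symm ≪≫ (homologyFunctorFactors _ i).app L)

/-- An object of D(A) with cohomology in [a, b] such that the morphisms from the cyclic modules to
its shift by b + 1 vanish is represented by a complex of injectives in degrees [a, b]. -/
theorem exists_injective_representative (ω : Dual.D A) (a b : ℤ)
    [DerivedCategory.IsGE ω a] [DerivedCategory.IsLE ω b]
    (h : ∀ (I : Ideal A), Subsingleton (Dual.inD A (A ⧸ I) ⟶ ω⟦b + 1⟧)) :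
    ∃ (I : CochainComplex (ModuleCat.{u} A) ℤ), I.IsStrictlyGE a ∧ I.IsStrictlyLE b ∧
      (∀ i, Injective (I.X i)) ∧ Nonempty (Q.obj I ≅ ω) := by
  have : EnoughInjectives (ModuleCat.{u} A) := ModuleCat.enoughInjectives.{u, u} A
  obtain ⟨L, _, ⟨e⟩⟩ := DerivedCategory.exists_iso_Q_obj_of_isGE ω a
  obtain ⟨J, j, _, hJinj, _⟩ :=
    CochainComplex.Plus.modelCategoryQuillen.exists_quasiIso_injective L a
  have : J.IsKInjective := isKInjective_of_injective J a
  let e' : Q.obj J ≅ ω := (asIso (Q.map j)).symm ≪≫ e.symm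
  have hZ : Injective (J.cycles b) := injective_cycles J b fun I => subsingleton_of_iso e' _ (h I)
  have hLE : J.IsLE b := by
    rw [← DerivedCategory.isLE_Q_obj_iff]
    exact DerivedCategory.TStructure.t.isLE_of_iso e'.symm b
  refine ⟨J.truncLE b, ?_, inferInstance, ?_, ⟨(asIso (Q.map (J.ιTruncLE b))) ≪≫ e'⟩⟩
  · rw [CochainComplex.isStrictlyGE_iff]
    intro i hi
    by_cases hib : i < b
    · exact (J.isZero_of_isStrictlyGE a i hi).of_iso (J.truncLEXIso b i hib)
    · by_cases hib' : i = b
      · subst hib'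
        refine IsZero.of_iso ?_ (J.truncLEXIsoCycles i)
        exact IsZero.of_mono (J.iCycles i) (J.isZero_of_isStrictlyGE a i hi)
      · exact (J.truncLE b).isZero_of_isStrictlyLE b i (by lia)
  · intro i
    by_cases hib : i < b
    · exact Injective.of_iso (J.truncLEXIso b i hib).symm inferInstance
    · by_cases hib' : i = b
      · subst hib'
        exact Injective.of_iso (J.truncLEXIsoCycles i).symm inferInstance
      · exact ((J.truncLE b).isZero_of_isStrictlyLE b i (by lia)).injective

/-- Finite injective dimension in the form of Hom-vanishing gives injective amplitude. -/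
theorem exists_injective_representative_of_subsingleton (ω : Dual.D A) (a b : ℤ)
    (h : ∀ (M : Type u) [AddCommGroup M] [Module A M] (i : ℤ), (i < a ∨ b < i) →
      Subsingleton (Dual.inD A M ⟶ ω⟦i⟧)) :
    ∃ (I : CochainComplex (ModuleCat.{u} A) ℤ), I.IsStrictlyGE a ∧ I.IsStrictlyLE b ∧
      (∀ i, Injective (I.X i)) ∧ Nonempty (Q.obj I ≅ ω) := by
  have : DerivedCategory.IsGE ω a := by
    rw [DerivedCategory.isGE_iff]
    intro i hi
    exact isZero_homology_of_subsingleton ω i (h A i (Or.inl hi))
  have : DerivedCategory.IsLE ω b := by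
    rw [DerivedCategory.isLE_iff]
    intro i hi
    exact isZero_homology_of_subsingleton ω i (h A i (Or.inr hi))
  exact exists_injective_representative ω a b (fun I => h (A ⧸ I) (b + 1) (Or.inr (by lia)))

end Modules

end Groth.Agent.LoccohB.InjRep
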