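import Mathlib.Algebra.Homology.DerivedCategory.TStructure
import Mathlib.Algebra.Homology.DerivedCategory.FullyFaithful
import Mathlib.Algebra.Homology.DerivedCategory.HomologySequence
import Mathlib.CategoryTheory.Triangulated.TStructure.TruncLEGT
import Groth.Agent.Cohder.TruncFactor

/-!
Calculus in the derived category of an abelian category: cohomology of truncations, morphisms from an
object `≤ a` to an object `≥ a` are the same as morphisms on `H^a`.
-/

universe w v u
open CategoryTheory CategoryTheory.Limits CategoryTheory.Pretriangulated CategoryTheory.Triangulated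

namespace Groth.Agent.LoccohB.DCalc

open DerivedCategory ZeroObject

variable {A : Type u} [Category.{v} A] [Abelian A] [HasDerivedCategory.{w} A]

/-- The `t`-structure truncation triangle `τ_{≤a} K → K → τ_{≥b} K`, `a + 1 = b`. -/
lemma triangle_dist (K : DerivedCategory A) (a b : ℤ) (h : a + 1 = b) :
    (TStructure.t.triangleLEGE a b h).obj K ∈ distTriang (DerivedCategory A) :=
  TStructure.t.triangleLEGE_distinguished a b h K

lemma isIso_homology_truncLEι (K : DerivedCategory A) (n i : ℤ) (h : i ≤ n) :
    IsIso ((homologyFunctor A i).map ((TStructure.t.truncLEι n).app K)) := by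
  have hT := triangle_dist K n (n + 1) rfl
  have hz1 : IsZero ((homologyFunctor A i).obj ((TStructure.t.truncGE (n + 1)).obj K)) :=
    isZero_of_isGE _ (n + 1) i (by lia)
  have hz2 : IsZero ((homologyFunctor A (i - 1)).obj ((TStructure.t.truncGE (n + 1)).obj K)) :=
    isZero_of_isGE _ (n + 1) (i - 1) (by lia)
  have h1 : Epi ((homologyFunctor A i).map ((TStructure.t.triangleLEGE n (n + 1) rfl).obj K).mor₁) := by
    rw [HomologySequence.epi_homologyMap_mor₁_iff _ hT]
    exact hz1.eq_of_tgt _ _
  have h2 : Mono ((homologyFunctor A i).map ((TStructure.t.triangleLEGE n (n + 1) rfl).obj K).mor₁) := by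
    rw [HomologySequence.mono_homologyMap_mor₁_iff _ hT (i - 1) i (by lia)]
    exact hz2.eq_of_src _ _
  exact isIso_of_mono_of_epi ((homologyFunctor A i).map ((TStructure.t.triangleLEGE n (n + 1) _).obj K).mor₁)

lemma isIso_homology_truncGEπ (K : DerivedCategory A) (n i : ℤ) (h : n ≤ i) :
    IsIso ((homologyFunctor A i).map ((TStructure.t.truncGEπ n).app K)) := by
  have hT := triangle_dist K (n - 1) n (by lia)
  have hz1 : IsZero ((homologyFunctor A i).obj ((TStructure.t.truncLE (n - 1)).obj K)) :=
    isZero_of_isLE _ (n - 1) i (by lia)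
  have hz2 : IsZero ((homologyFunctor A (i + 1)).obj ((TStructure.t.truncLE (n - 1)).obj K)) :=
    isZero_of_isLE _ (n - 1) (i + 1) (by lia)
  have h1 : Epi ((homologyFunctor A i).map ((TStructure.t.triangleLEGE (n - 1) n (by lia)).obj K).mor₂) := by
    rw [HomologySequence.epi_homologyMap_mor₂_iff _ hT i (i + 1) (by lia)]
    exact hz2.eq_of_tgt _ _
  have h2 : Mono ((homologyFunctor A i).map ((TStructure.t.triangleLEGE (n - 1) n (by lia)).obj K).mor₂) := by
    rw [HomologySequence.mono_homologyMap_mor₂_iff _ hT]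
    exact hz1.eq_of_src _ _
  exact isIso_of_mono_of_epi ((homologyFunctor A i).map ((TStructure.t.triangleLEGE (n - 1) n _).obj K).mor₂)

/-- Objects with cohomology only in degree `a` are `single a (H^a)`, and the isomorphism can be
chosen to induce the canonical one on `H^a`. -/
lemma exists_iso_single (K : DerivedCategory A) (a : ℤ) [K.IsGE a] [K.IsLE a] :
    Nonempty (K ≅ (singleFunctor A a).obj ((homologyFunctor A a).obj K)) := by
  obtain ⟨Y, ⟨e⟩⟩ := exists_iso_singleFunctor_obj_of_isGE_of_isLE K a
  have e2 : Y ≅ (homologyFunctor A a).obj K :=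
    ((singleFunctorCompHomologyFunctorIso A a).app Y).symm ≪≫ ((homologyFunctor A a).mapIso e).symm
  exact ⟨e ≪≫ (singleFunctor A a).mapIso e2⟩

lemma exists_hom_of_single (a : ℤ) (Y Z : A)
    (g : (homologyFunctor A a).obj ((singleFunctor A a).obj Y) ⟶
      (homologyFunctor A a).obj ((singleFunctor A a).obj Z)) :
    ∃ f : (singleFunctor A a).obj Y ⟶ (singleFunctor A a).obj Z, (homologyFunctor A a).map f = g := by
  let α := singleFunctorCompHomologyFunctorIso A a
  refine ⟨(singleFunctor A a).map (α.inv.app Y ≫ g ≫ α.hom.app Z), ?_⟩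
  have := α.hom.naturality (α.inv.app Y ≫ g ≫ α.hom.app Z)
  dsimp at this
  rw [← cancel_mono (α.hom.app Z)]
  erw [this]
  simp

lemma exists_hom_of_both (a : ℤ) (K L : DerivedCategory A) [K.IsGE a] [K.IsLE a] [L.IsGE a] [L.IsLE a]
    (g : (homologyFunctor A a).obj K ⟶ (homologyFunctor A a).obj L) :
    ∃ f : K ⟶ L, (homologyFunctor A a).map f = g := by
  obtain ⟨e⟩ := exists_iso_single K a
  obtain ⟨e'⟩ := exists_iso_single L a
  obtain ⟨f, hf⟩ := exists_hom_of_single a _ _
    ((homologyFunctor A a).map e.inv ≫ g ≫ (homologyFunctor A a).map e'.hom)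
  refine ⟨e.hom ≫ f ≫ e'.inv, ?_⟩
  rw [Functor.map_comp, Functor.map_comp, hf]
  simp only [Category.assoc, ← Functor.map_comp, Iso.hom_inv_id]
  rw [← Functor.map_comp_assoc, Iso.hom_inv_id]
  simp

/-- A morphism `H^a K ⟶ H^a L` lifts to a morphism `K ⟶ L` if `K ≤ a` and `L ≥ a`. -/
lemma exists_hom (a : ℤ) (K L : DerivedCategory A) [K.IsLE a] [L.IsGE a]
    (g : (homologyFunctor A a).obj K ⟶ (homologyFunctor A a).obj L) :
    ∃ f : K ⟶ L, (homologyFunctor A a).map f = g := by
  let p := (TStructure.t.truncGEπ a).app K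
  let i := (TStructure.t.truncLEι a).app L
  have hp : IsIso ((homologyFunctor A a).map p) := isIso_homology_truncGEπ K a a le_rfl
  have hi : IsIso ((homologyFunctor A a).map i) := isIso_homology_truncLEι L a a le_rfl
  have : ((TStructure.t.truncGE a).obj K).IsLE a := by
    rw [isLE_iff]
    intro j hj
    have := isIso_homology_truncGEπ K a j hj.le
    exact (isZero_of_isLE K a j hj).of_iso (asIso ((homologyFunctor A j).map ((TStructure.t.truncGEπ a).app K))).symm
  have : ((TStructure.t.truncLE a).obj L).IsGE a := by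
    rw [isGE_iff]
    intro j hj
    have := isIso_homology_truncLEι L a j hj.le
    exact (isZero_of_isGE L a j hj).of_iso (asIso ((homologyFunctor A j).map ((TStructure.t.truncLEι a).app L)))
  obtain ⟨f, hf⟩ := exists_hom_of_both a ((TStructure.t.truncGE a).obj K) ((TStructure.t.truncLE a).obj L)
    (inv ((homologyFunctor A a).map p) ≫ g ≫ inv ((homologyFunctor A a).map i))
  refine ⟨p ≫ f ≫ i, ?_⟩
  rw [Functor.map_comp, Functor.map_comp, hf]
  simp

/-- For `K ≤ a` and `L ≥ a`, morphisms `K ⟶ L` are morphisms `H^a K ⟶ H^a L`. -/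
noncomputable def homEquiv (a : ℤ) (K L : DerivedCategory A) [K.IsLE a] [L.IsGE a] :
    (K ⟶ L) ≃+ ((homologyFunctor A a).obj K ⟶ (homologyFunctor A a).obj L) :=
  AddEquiv.ofBijective ((homologyFunctor A a).mapAddHom (X := K) (Y := L))
    ⟨fun _ _ h => Cohder.TruncFactor.hom_ext a _ _ h, fun g => exists_hom a K L g⟩

@[simp] lemma homEquiv_apply (a : ℤ) (K L : DerivedCategory A) [K.IsLE a] [L.IsGE a] (f : K ⟶ L) :
    homEquiv a K L f = (homologyFunctor A a).map f := rfl

/-- An isomorphism on `H^a` gives an isomorphism, for objects concentrated in degree `a`. -/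
lemma nonempty_iso_of_both (a : ℤ) (K L : DerivedCategory A) [K.IsGE a] [K.IsLE a] [L.IsGE a] [L.IsLE a]
    (e : (homologyFunctor A a).obj K ≅ (homologyFunctor A a).obj L) : Nonempty (K ≅ L) := by
  obtain ⟨e1⟩ := exists_iso_single K a
  obtain ⟨e2⟩ := exists_iso_single L a
  exact ⟨e1 ≪≫ (singleFunctor A a).mapIso e ≪≫ e2.symm⟩

/-- An object of the derived category is zero iff all its cohomology objects are. -/
lemma isZero_iff (K : DerivedCategory A) : IsZero K ↔ ∀ i : ℤ, IsZero ((homologyFunctor A i).obj K) := by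
  constructor
  · intro h i
    exact (homologyFunctor A i).map_isZero h
  · intro h
    have : IsIso (0 : K ⟶ 0) := by
      rw [isIso_iff]
      intro i
      have h2 : IsZero ((homologyFunctor A i).obj (0 : DerivedCategory A)) :=
        (homologyFunctor A i).map_isZero (isZero_zero _)
      exact ⟨0, (h i).eq_of_src _ _, h2.eq_of_src _ _⟩
    exact (isZero_zero _).of_iso (asIso (0 : K ⟶ 0))

end Groth.Agent.LoccohB.DCalc
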