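import Groth.Prelude.Def_Wider
import Mathlib.Algebra.Homology.DerivedCategory.Linear
import Mathlib.Algebra.Homology.DerivedCategory.HomologySequence

/-!
Shifts of dualizing complexes are dualizing; every dualizing complex over a local ring has a
normalized shift.
-/

universe u
open CategoryTheory CategoryTheory.Limits
attribute [local instance] HasDerivedCategory.standard

namespace Groth.Agent.LoccohB.DualShift

variable {A : Type u} [CommRing A]

/-- `H^i(K[n]) ≅ H^{n+i}(K)`. -/
noncomputable def shiftHD (K : Dual.D A) (n i j : ℤ) (h : n + i = j) :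
    (DerivedCategory.homologyFunctor (ModuleCat.{u} A) i).obj (K⟦n⟧) ≅
      (DerivedCategory.homologyFunctor (ModuleCat.{u} A) j).obj K :=
  ((DerivedCategory.homologyFunctor (ModuleCat.{u} A) 0).shiftIso n i j h).app K

/-- `Hom(X, K[n][i]) ≃ Hom(X, K[j])`, `n + i = j`. -/
noncomputable def homShift (X K : Dual.D A) (n i j : ℤ) (h : n + i = j) :
    (X ⟶ (K⟦n⟧)⟦i⟧) ≃ₗ[A] (X ⟶ K⟦j⟧) :=
  Linear.homCongr A (Iso.refl X) ((shiftFunctorAdd' (Dual.D A) n i j h).app K).symm

/-- `Hom(X[n], Y[n]) ≃ Hom(X, Y)`. -/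
noncomputable def homShiftBoth (X Y : Dual.D A) (n : ℤ) : (X ⟶ Y) ≃ (X⟦n⟧ ⟶ Y⟦n⟧) :=
  (Functor.FullyFaithful.ofFullyFaithful (shiftFunctor (Dual.D A) n)).homEquiv

theorem isDualizing_shift (ω : Dual.D A) (hω : Dual.IsDualizing A ω) (n : ℤ) :
    Dual.IsDualizing A (ω⟦n⟧) where
  isNoetherianRing := hω.isNoetherianRing
  finite_injective_dimension := by
    obtain ⟨a, b, h⟩ := hω.finite_injective_dimension
    refine ⟨a - n, b - n, fun M _ _ i hi => ?_⟩
    have := h M (n + i) (by omega)
    exact (homShift (Dual.inD A M) ω n i (n + i) rfl).toEquiv.subsingleton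
  finite_cohomology i := by
    have := hω.finite_cohomology (n + i)
    exact Module.Finite.equiv (shiftHD ω n i (n + i) rfl).symm.toLinearEquiv
  toEnd_bijective := by
    have h : (fun a : A => a • (𝟙 (ω⟦n⟧))) = (homShiftBoth ω ω n) ∘ (fun a : A => a • 𝟙 ω) := by
      funext a
      change a • 𝟙 (ω⟦n⟧) = (shiftFunctor (Dual.D A) n).map (a • 𝟙 ω)
      rw [CategoryTheory.Functor.map_smul, CategoryTheory.Functor.map_id]
    rw [h]
    exact (homShiftBoth ω ω n).bijective.comp hω.toEnd_bijective
  ext_self_subsingleton i hi := by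
    have := hω.ext_self_subsingleton i hi
    have h2 : Subsingleton (ω⟦n⟧ ⟶ (ω⟦i⟧)⟦n⟧) := (homShiftBoth ω (ω⟦i⟧) n).symm.subsingleton
    exact ((Iso.refl _).homCongr ((shiftComm ω n i))).subsingleton

/-- Being dualizing is invariant under isomorphism. -/
theorem isDualizing_of_iso {ω ω' : Dual.D A} (e : ω ≅ ω') (hω : Dual.IsDualizing A ω) :
    Dual.IsDualizing A ω' where
  isNoetherianRing := hω.isNoetherianRing
  finite_injective_dimension := by
    obtain ⟨a, b, h⟩ := hω.finite_injective_dimension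
    refine ⟨a, b, fun M _ _ i hi => ?_⟩
    have := h M i hi
    exact ((Iso.refl _).homCongr ((shiftFunctor _ i).mapIso e)).symm.subsingleton
  finite_cohomology i := by
    have := hω.finite_cohomology i
    exact Module.Finite.equiv
      ((DerivedCategory.homologyFunctor (ModuleCat.{u} A) i).mapIso e).toLinearEquiv
  toEnd_bijective := by
    have h : (fun a : A => a • (𝟙 ω')) = (e.homCongr e) ∘ (fun a : A => a • 𝟙 ω) := by
      funext a
      change a • 𝟙 ω' = e.inv ≫ (a • 𝟙 ω) ≫ e.hom
      rw [Linear.smul_comp, Linear.comp_smul, Category.id_comp, e.inv_hom_id]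
    rw [h]
    exact (e.homCongr e).bijective.comp hω.toEnd_bijective
  ext_self_subsingleton i hi := by
    have := hω.ext_self_subsingleton i hi
    exact (e.homCongr ((shiftFunctor _ i).mapIso e)).symm.subsingleton

theorem isNormalized_of_iso [IsLocalRing A] {ω ω' : Dual.D A} (e : ω ≅ ω')
    (hω : Dual.IsNormalized A ω) : Dual.IsNormalized A ω' := by
  intro i hi
  have := hω i hi
  exact ((Iso.refl _).homCongr ((shiftFunctor _ i).mapIso e)).symm.subsingleton

/-- If `Hom(κ, ω[i]) = 0` for `i ≠ n`, then `ω[n]` is normalized. -/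
theorem isNormalized_shift [IsLocalRing A] (ω : Dual.D A) (n : ℤ)
    (h : ∀ i : ℤ, i ≠ n → Subsingleton (Dual.inD A (IsLocalRing.ResidueField A) ⟶ ω⟦i⟧)) :
    Dual.IsNormalized A (ω⟦n⟧) := by
  intro i hi
  have := h (n + i) (by omega)
  exact (homShift (Dual.inD A (IsLocalRing.ResidueField A)) ω n i (n + i) rfl).toEquiv.subsingleton

end Groth.Agent.LoccohB.DualShift
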