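import Groth.Agent.LoccohB.HomBC

/-!
# Flat base change for Hom in D(A), with shifts and with `DRing.LBaseChange`; IsDualizing helpers
-/

set_option autoImplicit false
universe w v u w₁ v₁ u₁ uA uB v₂ u₂

open CategoryTheory CategoryTheory.Limits Opposite Pretriangulated
open scoped TensorProduct ChangeOfRings

attribute [local instance] HasDerivedCategory.standard

namespace Groth.Agent.LoccohB.HomBC

open DerivedCategory Groth.Agent.LoccohB.DBase Groth.Agent.LoccohB.FlatLBC
  Groth.Agent.LoccohB.Devissage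

section Shift

variable {A : Type u} [CommRing A]

/-- `Hom(M[-n], K) ≃ Hom(M[0], K[n])`, linearly. -/
noncomputable def sgEquiv (n : ℤ) (M : ModuleCat.{u} A) (K : Dual.D A) :
    ((singleFunctor (ModuleCat.{u} A) n).obj M ⟶ K) ≃ₗ[A]
      ((singleFunctor (ModuleCat.{u} A) 0).obj M ⟶ K⟦n⟧) :=
  (LinearEquiv.ofBijective (shiftLin A _ K n) (shiftLin_bijective A _ K n)) ≪≫ₗ
    Linear.homCongr A (((singleFunctors (ModuleCat.{u} A)).shiftIso n 0 n (by simp)).app M)
      (Iso.refl _)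

/-- `Hom(A[0], K[n]) ≃ H^n(K)`, linearly. -/
noncomputable def homShiftEquivHD (n : ℤ) (K : Dual.D A) :
    (Dual.inD A A ⟶ K⟦n⟧) ≃ₗ[A] Dual.HD A K n :=
  (sgEquiv n (ModuleCat.of A A) K).symm ≪≫ₗ homEquivHD n K

lemma isZero_homology_iff (K : Dual.D A) (n : ℤ) :
    IsZero ((homologyFunctor (ModuleCat.{u} A) n).obj K) ↔ Subsingleton (Dual.HD A K n) :=
  ModuleCat.isZero_iff_subsingleton

lemma subsingleton_HD_iff (K : Dual.D A) (n : ℤ) :
    Subsingleton (Dual.HD A K n) ↔ Subsingleton (Dual.inD A A ⟶ K⟦n⟧) :=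
  (homShiftEquivHD n K).toEquiv.subsingleton_congr.symm

lemma isGE_of_subsingleton (K : Dual.D A) (a : ℤ)
    (h : ∀ i < a, Subsingleton (Dual.inD A A ⟶ K⟦i⟧)) : K.IsGE a := by
  rw [isGE_iff]
  intro i hi
  rw [isZero_homology_iff, subsingleton_HD_iff]
  exact h i hi

lemma isLE_of_subsingleton (K : Dual.D A) (b : ℤ)
    (h : ∀ i, b < i → Subsingleton (Dual.inD A A ⟶ K⟦i⟧)) : K.IsLE b := by
  rw [isLE_iff]
  intro i hi
  rw [isZero_homology_iff, subsingleton_HD_iff]
  exact h i hi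

lemma exists_bounds_of_isDualizing {ω : Dual.D A} (hω : Dual.IsDualizing A ω) :
    ∃ a b : ℤ, ω.IsGE a ∧ ω.IsLE b ∧
      ∀ (M : Type u) [AddCommGroup M] [Module A M] (i : ℤ), (i < a ∨ b < i) →
        Subsingleton (Dual.inD A M ⟶ ω⟦i⟧) := by
  obtain ⟨a, b, hab⟩ := hω.finite_injective_dimension
  exact ⟨a, b, isGE_of_subsingleton ω a (fun i hi => hab A i (Or.inl hi)),
    isLE_of_subsingleton ω b (fun i hi => hab A i (Or.inr hi)), hab⟩

lemma isDualizing_of_iso {ω ω' : Dual.D A} (e : ω ≅ ω') (hω : Dual.IsDualizing A ω) :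
    Dual.IsDualizing A ω' where
  isNoetherianRing := hω.isNoetherianRing
  finite_injective_dimension := by
    obtain ⟨a, b, hab⟩ := hω.finite_injective_dimension
    refine ⟨a, b, fun M _ _ i hi => ?_⟩
    have := hab M i hi
    exact (Linear.homCongr A (Iso.refl _) ((shiftFunctor _ i).mapIso e)).toEquiv.subsingleton_congr.1
      this
  finite_cohomology i := by
    have := hω.finite_cohomology i
    exact Module.Finite.equiv ((homologyFunctor (ModuleCat.{u} A) i).mapIso e).toLinearEquiv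
  toEnd_bijective := by
    have h := hω.toEnd_bijective
    have h2 : (fun a : A => a • 𝟙 ω') =
        (Linear.homCongr A e e) ∘ (fun a : A => a • 𝟙 ω) := by
      ext a
      simp [Linear.homCongr]
    rw [h2]
    exact (Linear.homCongr A e e).bijective.comp h
  ext_self_subsingleton i hi := by
    have := hω.ext_self_subsingleton i hi
    exact (Linear.homCongr A e ((shiftFunctor _ i).mapIso e)).toEquiv.subsingleton_congr.1 this

end Shift

section BC

variable {A : Type u} (B : Type u) [CommRing A] [CommRing B] [Algebra A B]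
  (h : (algebraMap A B).Flat)

/-- The comparison map with shifts, as a linear map
`B ⊗ Hom(X, K[i]) → Hom(X ⊗ B, (K ⊗ B)[i])`. -/
noncomputable def bcShift (X K : Dual.D A) (i : ℤ) :
    B ⊗[A] (X ⟶ K⟦i⟧) →ₗ[B] ((flatBC (algebraMap A B) h).obj X ⟶
      ((flatBC (algebraMap A B) h).obj K)⟦i⟧) :=
  (Linear.rightComp B _ (((flatBC (algebraMap A B) h).commShiftIso i).hom.app K)).comp
    (bcLin A B (flatBC (algebraMap A B) h) X (K⟦i⟧))

lemma bcShift_tmul (X K : Dual.D A) (i : ℤ) (b : B) (f : X ⟶ K⟦i⟧) :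
    bcShift B h X K i (b ⊗ₜ f) = b • ((flatBC (algebraMap A B) h).map f ≫
      ((flatBC (algebraMap A B) h).commShiftIso i).hom.app K) := by
  simp [bcShift, bcLin]

lemma bcShift_bijective_iff (X K : Dual.D A) (i : ℤ) :
    Function.Bijective (bcShift B h X K i) ↔
      Function.Bijective (bc A B (flatBC (algebraMap A B) h) X (K⟦i⟧)) := by
  have h1 : Function.Bijective (Linear.rightComp B ((flatBC (algebraMap A B) h).obj X)
      (((flatBC (algebraMap A B) h).commShiftIso i).hom.app K)) :=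
    (Linear.homCongr B (Iso.refl _) (((flatBC (algebraMap A B) h).commShiftIso i).app K) :
      _ ≃ₗ[B] _).bijective.comp (by
        exact Function.bijective_id) |> fun hb => by
          convert hb using 1
          ext f
          simp [Linear.homCongr]
  exact Function.Bijective.of_comp_iff' h1 _

theorem bcShift_bijective [IsNoetherianRing A] (X : Dual.D A) (a b : ℤ) [X.IsGE a] [X.IsLE b]
    (hX : ∀ i, Module.Finite A (Dual.HD A X i)) (K : Dual.D A) (k : ℤ) [K.IsGE k] (i : ℤ) :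
    Function.Bijective (bcShift B h X K i) := by
  rw [bcShift_bijective_iff]
  have : (K⟦i⟧).IsGE (k - i) :=
    (TStructure.t : Triangulated.TStructure (Dual.D A)).isGE_shift K k i _ (by lia)
  exact bc_bijective_of_bounded B h X a b hX _ (k - i)

/-- `B ⊗ Hom(X, K[i]) ≃ Hom(X ⊗ B, (K ⊗ B)[i])`. -/
noncomputable def homBCEquiv [IsNoetherianRing A] (X : Dual.D A) (a b : ℤ) [X.IsGE a] [X.IsLE b]
    (hX : ∀ i, Module.Finite A (Dual.HD A X i)) (K : Dual.D A) (k : ℤ) [K.IsGE k] (i : ℤ) :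
    B ⊗[A] (X ⟶ K⟦i⟧) ≃ₗ[B] ((flatBC (algebraMap A B) h).obj X ⟶
      ((flatBC (algebraMap A B) h).obj K)⟦i⟧) :=
  LinearEquiv.ofBijective _ (bcShift_bijective B h X a b hX K k i)

/-- `B ⊗ Hom(M[0], K[i]) ≃ Hom((B ⊗ M)[0], (K ⊗ B)[i])` for a finite module `M`. -/
noncomputable def homBCModuleEquiv [IsNoetherianRing A] (M : ModuleCat.{u} A) [Module.Finite A M]
    (K : Dual.D A) (k : ℤ) [K.IsGE k] (i : ℤ) :
    B ⊗[A] ((singleFunctor (ModuleCat.{u} A) 0).obj M ⟶ K⟦i⟧) ≃ₗ[B]
      ((singleFunctor (ModuleCat.{u} B) 0).obj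
        ((ModuleCat.extendScalars.{u, u, u} (algebraMap A B)).obj M) ⟶
      ((flatBC (algebraMap A B) h).obj K)⟦i⟧) :=
  LinearEquiv.ofBijective _ ((bcShift_bijective_iff B h _ K i).2 (by
    have : (K⟦i⟧).IsGE (k - i) :=
      (TStructure.t : Triangulated.TStructure (Dual.D A)).isGE_shift K k i _ (by lia)
    exact bc_module_bijective B h M 0 (K⟦i⟧) (k - i))) ≪≫ₗ
  Linear.homCongr B ((flatBCSingle (algebraMap A B) h 0).app M) (Iso.refl _)

/-- `H^n(K ⊗ B) ≃ B ⊗ H^n(K)`. -/
noncomputable def flatHDEquiv (K : Dual.D A) (n : ℤ) :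
    B ⊗[A] (Dual.HD A K n) ≃ₗ[B] Dual.HD B ((flatBC (algebraMap A B) h).obj K) n :=
  extEquiv A B _ ≪≫ₗ ((flatBCHomology (algebraMap A B) h n).symm.app K).toLinearEquiv

end BC

end Groth.Agent.LoccohB.HomBC
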