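import Groth.Agent.LoccohB.FinInj
import Groth.Agent.LoccohB.HomBC2
import Mathlib.RingTheory.TensorProduct.Quotient

/-!
# Flat base change of dualizing complexes

If A → B is flat, A and B Noetherian, and every maximal ideal of B is generated by the image of an
ideal of A, then the base change of a dualizing complex of A is a dualizing complex of B.
-/

set_option autoImplicit false
universe u
open CategoryTheory Limits DerivedCategory
open Groth.Agent.LoccohB.InjRep Groth.Agent.LoccohB.FinInj Groth.Agent.LoccohB.HomBC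
  Groth.Agent.LoccohB.FlatLBC
open scoped TensorProduct

namespace Groth.Agent.LoccohB.FlatDual

attribute [local instance] HasDerivedCategory.standard

theorem isNormalized_of_iso {A : Type u} [CommRing A] [IsLocalRing A] {ω ω' : Dual.D A} (e : ω ≅ ω')
    (h : Dual.IsNormalized A ω) : Dual.IsNormalized A ω' :=
  fun i hi => subsingleton_of_iso e.symm i (h i hi)

variable {A B : Type u} [CommRing A] [CommRing B] [Algebra A B] (h : (algebraMap A B).Flat)

/-- Vanishing of Hom(X, K[i]) implies vanishing of Hom(G X, (G K)[i]). -/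
lemma subsingleton_map [IsNoetherianRing A] (X K : Dual.D A) (a b c : ℤ) [X.IsGE a]
    [X.IsLE b] [K.IsGE c] (hX : ∀ i, Module.Finite A (Dual.HD A X i))
    (i : ℤ) (h0 : Subsingleton (X ⟶ K⟦i⟧)) :
    Subsingleton ((flatBC (algebraMap A B) h).obj X ⟶ ((flatBC (algebraMap A B) h).obj K)⟦i⟧) := by
  have h1 : Subsingleton (B ⊗[A] (X ⟶ K⟦i⟧)) := by
    constructor
    have : ∀ t : B ⊗[A] (X ⟶ K⟦i⟧), t = 0 := by
      intro t
      induction t using TensorProduct.induction_on with
      | zero => rfl
      | tmul b f => rw [Subsingleton.elim f 0, TensorProduct.tmul_zero]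
      | add x y hx hy => rw [hx, hy, add_zero]
    intro x y
    rw [this x, this y]
  exact (bcShift_bijective B h X a b hX K c i).2.subsingleton

/-- extension of scalars of A/J. -/
noncomputable def extQuot (J : Ideal A) :
    (ModuleCat.extendScalars.{u, u, u} (algebraMap A B)).obj (ModuleCat.of A (A ⧸ J)) ≅
      ModuleCat.of B (B ⧸ J.map (algebraMap A B)) :=
  ((extEquiv A B (ModuleCat.of A (A ⧸ J))).symm ≪≫ₗ
    (Algebra.TensorProduct.quotIdealMapEquivTensorQuot B J).symm.toLinearEquiv).toModuleIso

/-- G(A/J[0]) = B/JB[0]. -/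
noncomputable def flatBCQuot (J : Ideal A) :
    (flatBC (algebraMap A B) h).obj (Dual.inD A (A ⧸ J)) ≅
      Dual.inD B (B ⧸ J.map (algebraMap A B)) :=
  (flatBCSingle (algebraMap A B) h 0).app (ModuleCat.of A (A ⧸ J)) ≪≫
    (singleFunctor (ModuleCat.{u} B) 0).mapIso (extQuot J)

lemma finite_HD_inD (M : Type u) [AddCommGroup M] [Module A M] [Module.Finite A M] (i : ℤ) :
    Module.Finite A (Dual.HD A (Dual.inD A M) i) := by
  by_cases hi : i = 0
  · subst hi
    have e : M ≃ₗ[A] Dual.HD A (Dual.inD A M) 0 :=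
      ((singleFunctorCompHomologyFunctorIso (ModuleCat.{u} A) 0).app
        (ModuleCat.of A M)).symm.toLinearEquiv
    exact Module.Finite.equiv e
  · have : IsZero ((homologyFunctor (ModuleCat.{u} A) i).obj (Dual.inD A M)) := by
      have h1 : (Dual.inD A M).IsGE 0 := by dsimp [Dual.inD]; infer_instance
      have h2 : (Dual.inD A M).IsLE 0 := by dsimp [Dual.inD]; infer_instance
      rcases lt_or_gt_of_ne hi with hi | hi
      · exact (Dual.inD A M).isZero_of_isGE 0 i hi
      · exact (Dual.inD A M).isZero_of_isLE 0 i hi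
    have := ModuleCat.isZero_iff_subsingleton.1 this
    infer_instance

/-- Vanishing of Hom(A/J, K[i]) ascends to Hom(B/JB, (G K)[i]). -/
lemma subsingleton_quot [IsNoetherianRing A] (K : Dual.D A) (c : ℤ) [K.IsGE c] (J : Ideal A)
    (i : ℤ) (h0 : Subsingleton (Dual.inD A (A ⧸ J) ⟶ K⟦i⟧)) :
    Subsingleton (Dual.inD B (B ⧸ J.map (algebraMap A B)) ⟶
      ((flatBC (algebraMap A B) h).obj K)⟦i⟧) := by
  have h1 : (Dual.inD A (A ⧸ J)).IsGE 0 := by dsimp [Dual.inD]; infer_instance
  have h2 : (Dual.inD A (A ⧸ J)).IsLE 0 := by dsimp [Dual.inD]; infer_instance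
  exact subsingleton_of_iso_left (flatBCQuot h J).symm
    (subsingleton_map h (Dual.inD A (A ⧸ J)) K 0 0 c (finite_HD_inD _) i h0)

/-- The conditions of IsDualizing other than finite injective dimension ascend along flat maps. -/
theorem isDualizing_flatBC [IsNoetherianRing A] [IsNoetherianRing B] (ω : Dual.D A)
    (hω : Dual.IsDualizing A ω)
    (hinj : ∃ a b : ℤ, ∀ (M : Type u) [AddCommGroup M] [Module B M] (i : ℤ),
      (i < a ∨ b < i) → Subsingleton (Dual.inD B M ⟶
        ((flatBC (algebraMap A B) h).obj ω)⟦i⟧)) :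
    Dual.IsDualizing B ((flatBC (algebraMap A B) h).obj ω) := by
  obtain ⟨a, b, _, _, hab⟩ := exists_bounds_of_isDualizing hω
  refine ⟨inferInstance, hinj, ?_, ?_, ?_⟩
  · intro i
    have := hω.finite_cohomology i
    exact Module.Finite.equiv (flatHDEquiv B h ω i)
  · have h1 := bc_bijective_of_bounded B h ω a b hω.finite_cohomology ω a
    let e : A ≃ₗ[A] (ω ⟶ ω) := LinearEquiv.ofBijective
      (LinearMap.toSpanSingleton A _ (𝟙 ω)) hω.toEnd_bijective
    let e' : B ≃ₗ[A] B ⊗[A] (ω ⟶ ω) :=
      (TensorProduct.rid A B).symm ≪≫ₗ TensorProduct.congr (LinearEquiv.refl A B) e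
    have h2 := h1.comp e'.bijective
    convert h2 using 1
    ext b
    simp [e', e]
  · intro i hi
    exact subsingleton_map h ω ω a b a hω.finite_cohomology i (hω.ext_self_subsingleton i hi)

/-- Flat base change of dualizing complexes when maximal ideals are extended. -/
theorem isDualizing_flatBC_of_maximal [IsNoetherianRing A] [IsNoetherianRing B] (ω : Dual.D A)
    (hω : Dual.IsDualizing A ω)
    (hm : ∀ m : Ideal B, m.IsMaximal → ∃ J : Ideal A, J.map (algebraMap A B) = m) :
    Dual.IsDualizing B ((flatBC (algebraMap A B) h).obj ω) := by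
  apply isDualizing_flatBC h ω hω
  obtain ⟨a, b, _, _, hab⟩ := exists_bounds_of_isDualizing hω
  have : ((flatBC (algebraMap A B) h).obj ω).IsGE a := isGE_flatBC B h ω a
  refine ⟨a, b, fun M _ _ i hi => ?_⟩
  refine finite_injective_dimension_of_maximal _ a b ?_ ?_ M i hi
  · intro i
    have := hω.finite_cohomology i
    exact Module.Finite.equiv (flatHDEquiv B h ω i)
  · intro m hmax i hi
    obtain ⟨J, rfl⟩ := hm m hmax
    exact subsingleton_quot h ω a J i (hab (A ⧸ J) i (Or.inr hi))

/-- The version for derived base change. -/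
theorem isDualizing_LBaseChange_of_maximal [Module.Flat A B] [IsNoetherianRing A]
    [IsNoetherianRing B] [DRing.HasLBaseChange (algebraMap A B)] (ω : Dual.D A)
    (hω : Dual.IsDualizing A ω)
    (hm : ∀ m : Ideal B, m.IsMaximal → ∃ J : Ideal A, J.map (algebraMap A B) = m) :
    Dual.IsDualizing B ((DRing.LBaseChange (algebraMap A B)).obj ω) := by
  have h : (algebraMap A B).Flat := (RingHom.flat_algebraMap_iff).2 inferInstance
  exact isDualizing_of_iso ((LBaseChangeIso (algebraMap A B) h).symm.app ω)
    (isDualizing_flatBC_of_maximal h ω hω hm)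

end Groth.Agent.LoccohB.FlatDual
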