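import Mathlib.RingTheory.LocalProperties.InjectiveDimension
import Mathlib.Algebra.Category.ModuleCat.InjectiveDimension
import Mathlib.Algebra.Category.ModuleCat.ChangeOfRings
import Mathlib.CategoryTheory.Preadditive.Injective.Preserves
import Mathlib.Algebra.Polynomial.Module.Basic
import Mathlib.Algebra.Polynomial.AlgebraMap
import Mathlib.Algebra.Polynomial.Basis

set_option autoImplicit false
universe u

open CategoryTheory CategoryTheory.Limits

namespace Groth.Agent.LoccohB.GorInjDim

section Finsupp

variable {R : Type u} [CommRing R] 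

/-- Direct sums of an exact pair are exact. -/
theorem exact_finsupp (ι : Type u) {M N L : Type u} [AddCommGroup M] [AddCommGroup N]
    [AddCommGroup L] [Module R M] [Module R N] [Module R L] (f : M →ₗ[R] N) (g : N →ₗ[R] L)
    (hf : Function.Injective f) (h : Function.Exact f g) :
    Function.Exact (Finsupp.mapRange.linearMap (α := ι) f)
      (Finsupp.mapRange.linearMap (α := ι) g) := by
  classical
  intro φ
  constructor
  · intro hφ
    have h1 : ∀ i, g (φ i) = 0 := fun i => by
      have := DFunLike.congr_fun hφ i
      simpa using this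
    choose m hm using fun i => (h (φ i)).1 (h1 i)
    refine ⟨Finsupp.onFinset φ.support m fun i hi => ?_, ?_⟩
    · rw [Finsupp.mem_support_iff]
      intro h0
      apply hi
      apply hf
      rw [hm, h0, map_zero]
    · ext i
      simp [hm]
  · rintro ⟨ψ, rfl⟩
    ext i
    simp [h.apply_apply_eq_zero]

variable [IsNoetherianRing R]

/-- Over a Noetherian ring a direct sum of copies of an injective module is injective. -/
theorem injective_finsupp (ι : Type u) (Q : Type u) [AddCommGroup Q] [Module R Q]
    (hQ : Module.Injective R Q) : Module.Injective R (ι →₀ Q) := by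
  classical
  rw [← Module.Baer.iff_injective]
  intro I g
  have hB : Module.Baer R Q := Module.Baer.of_injective hQ
  obtain ⟨s, hs⟩ := Module.finite_def.1 (inferInstance : Module.Finite R I)
  let T : Finset ι := s.biUnion fun x => (g x).support
  have hT : ∀ x : I, ∀ i : ι, i ∉ T → g x i = 0 := by
    intro x i hi
    have hx : x ∈ Submodule.span R (s : Set I) := by rw [hs]; trivial
    induction hx using Submodule.span_induction with
    | mem x hx =>
      by_contra hne
      exact hi (Finset.mem_biUnion.2 ⟨x, hx, Finsupp.mem_support_iff.2 hne⟩)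
    | zero => simp
    | add x y _ _ hx hy => simp [hx, hy]
    | smul a x _ hx => simp [hx]
  choose h hh using fun i : ι => hB I ((Finsupp.lapply i : (ι →₀ Q) →ₗ[R] Q).comp g)
  refine ⟨∑ i ∈ T, (Finsupp.lsingle i).comp (h i), fun x hx => ?_⟩
  ext j
  simp only [LinearMap.coe_sum, Finset.sum_apply, LinearMap.coe_comp, Function.comp_apply,
    Finsupp.lsingle_apply, Finsupp.coe_finsetSum]
  by_cases hj : j ∈ T
  · rw [Finset.sum_eq_single j]
    · simp [hh j x hx]
    · intro b _ hb
      simp [hb]
    · intro h'; exact absurd hj h'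
  · rw [hT _ _ hj]
    refine Finset.sum_eq_zero fun b hb => ?_
    have : b ≠ j := fun h' => hj (h' ▸ hb)
    simp [this]

/-- Over a Noetherian ring a direct sum of copies of a module of finite injective dimension has
finite injective dimension. -/
theorem hasInjectiveDimensionLT_finsupp (ι : Type u) (n : ℕ) (M : ModuleCat.{u} R)
    (hM : HasInjectiveDimensionLT M (n + 1)) :
    HasInjectiveDimensionLT (ModuleCat.of R (ι →₀ M)) (n + 1) := by
  induction n generalizing M with
  | zero =>
    simp only [zero_add, ← injective_iff_hasInjectiveDimensionLT_one] at hM ⊢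
    rw [← Module.injective_iff_injective_object] at hM ⊢
    exact injective_finsupp ι M hM
  | succ n ih =>
    obtain ⟨I, inj, f, monof⟩ := (inferInstance : EnoughInjectives (ModuleCat.{u} R)).1 M
    have hinj : Function.Injective f.hom := (ModuleCat.mono_iff_injective f).1 monof
    let S : ShortComplex (ModuleCat.{u} R) :=
      ModuleCat.shortComplexOfCompEqZero _ _ f.hom.exact_map_mkQ_range.linearMap_comp_eq_zero
    have hS : S.ShortExact := ModuleCat.shortComplex_shortExact S
      f.hom.exact_map_mkQ_range hinj (Submodule.mkQ_surjective _)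
    have hC : HasInjectiveDimensionLT S.X₃ (n + 1) :=
      (hS.hasInjectiveDimensionLT_X₃_iff n inj).2 hM
    have hex := exact_finsupp ι f.hom S.g.hom hinj f.hom.exact_map_mkQ_range
    let S' : ShortComplex (ModuleCat.{u} R) :=
      ModuleCat.shortComplexOfCompEqZero (Finsupp.mapRange.linearMap (α := ι) f.hom)
        (Finsupp.mapRange.linearMap (α := ι) (S.g.hom)) hex.linearMap_comp_eq_zero
    have hS' : S'.ShortExact := ModuleCat.shortComplex_shortExact S' hex
      (Finsupp.mapRange_injective _ (map_zero _) hinj)
      (Finsupp.mapRange_surjective _ (map_zero _) (Submodule.mkQ_surjective _))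
    have hI : Injective S'.X₂ := by
      rw [← Module.injective_iff_injective_object]
      exact injective_finsupp ι I (Module.injective_module_of_injective_object R I)
    exact (hS'.hasInjectiveDimensionLT_X₃_iff n hI).1 (ih _ hC)

end Finsupp

section Coext

variable (A B : Type u) [CommRing A] [CommRing B] [Algebra A B]

/-- The `B`-module `Hom_A(B, M)`. -/
def Co (M : Type u) [AddCommGroup M] [Module A M] : Type u := B →ₗ[A] M

namespace Co

variable (M : Type u) [AddCommGroup M] [Module A M]

instance : AddCommGroup (Co A B M) := inferInstanceAs (AddCommGroup (B →ₗ[A] M))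

variable {A B M}

/-- Underlying linear map. -/
def toLin (g : Co A B M) : B →ₗ[A] M := g

/-- Build an element of `Hom_A(B, M)`. -/
def ofLin (g : B →ₗ[A] M) : Co A B M := g

@[simp] theorem toLin_ofLin (g : B →ₗ[A] M) : toLin (ofLin g) = g := rfl

theorem ext' {g g' : Co A B M} (h : ∀ b, g.toLin b = g'.toLin b) : g = g' :=
  LinearMap.ext h

instance : Module B (Co A B M) where
  smul s g := ofLin (g.toLin.comp (LinearMap.mulRight A s))
  one_smul g := ext' fun b => congrArg g.toLin (mul_one b)
  mul_smul s t g := ext' fun b => congrArg g.toLin (by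
    simp only [LinearMap.mulRight_apply]
    rw [mul_assoc, mul_comm s t])
  smul_zero s := ext' fun b => rfl
  smul_add s g g' := ext' fun b => rfl
  add_smul s t g := ext' fun b => by
    change g.toLin (b * (s + t)) = g.toLin (b * s) + g.toLin (b * t)
    rw [mul_add, map_add]
  zero_smul g := ext' fun b => by
    change g.toLin (b * 0) = 0
    rw [mul_zero, map_zero]

@[simp] theorem toLin_smul (s : B) (g : Co A B M) (b : B) : (s • g).toLin b = g.toLin (b * s) :=
  rfl

@[simp] theorem toLin_add (g g' : Co A B M) (b : B) :
    (g + g').toLin b = g.toLin b + g'.toLin b := rfl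

@[simp] theorem toLin_zero (b : B) : (0 : Co A B M).toLin b = 0 := rfl

/-- Functoriality of `Hom_A(B, -)`. -/
def map {M' : Type u} [AddCommGroup M'] [Module A M'] (f : M →ₗ[A] M') :
    Co A B M →ₗ[B] Co A B M' where
  toFun g := ofLin (f.comp g.toLin)
  map_add' _ _ := ext' fun _ => f.map_add _ _
  map_smul' _ _ := ext' fun _ => rfl

@[simp] theorem toLin_map {M' : Type u} [AddCommGroup M'] [Module A M'] (f : M →ₗ[A] M')
    (g : Co A B M) (b : B) : (map f g).toLin b = f (g.toLin b) := rfl

theorem map_injective {M' : Type u} [AddCommGroup M'] [Module A M'] (f : M →ₗ[A] M')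
    (hf : Function.Injective f) : Function.Injective (map (B := B) f) := by
  intro g g' h
  refine ext' fun b => hf ?_
  exact congrArg (fun g : Co A B M' => g.toLin b) h

theorem map_exact {M' M'' : Type u} [AddCommGroup M'] [Module A M'] [AddCommGroup M'']
    [Module A M''] (f : M →ₗ[A] M') (f' : M' →ₗ[A] M'') (hf : Function.Injective f)
    (h : Function.Exact f f') : Function.Exact (map (B := B) f) (map (B := B) f') := by
  intro g
  constructor
  · intro hg
    have hg' : ∀ b : B, ∃ m : M, f m = g.toLin b := fun b =>
      (h _).1 (congrArg (fun g : Co A B M'' => g.toLin b) hg)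
    choose m hm using hg'
    refine ⟨ofLin { toFun := m, map_add' := fun x y => ?_, map_smul' := fun a x => ?_ }, ?_⟩
    · apply hf
      rw [hm, map_add, map_add, hm, hm]
    · apply hf
      rw [hm, RingHom.id_apply, map_smul, map_smul, hm]
    · exact ext' fun b => hm b
  · rintro ⟨g, rfl⟩
    exact ext' fun b => h.apply_apply_eq_zero _

theorem injective_of_injective (hM : Module.Injective A M) : Module.Injective B (Co A B M) := by
  constructor
  intro X Y _ _ _ _ i hi g
  let _ : Module A X := Module.compHom X (algebraMap A B)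
  let _ : Module A Y := Module.compHom Y (algebraMap A B)
  have hX : IsScalarTower A B X := ⟨fun a b x => by
    rw [Algebra.smul_def, mul_smul]; rfl⟩
  have hY : IsScalarTower A B Y := ⟨fun a b x => by
    rw [Algebra.smul_def, mul_smul]; rfl⟩
  have hone : ∀ (a : A) (h : Co A B M), (algebraMap A B a • h).toLin 1 = a • h.toLin 1 := by
    intro a h
    rw [toLin_smul, one_mul, ← map_smul, Algebra.smul_def, mul_one]
  let g1 : X →ₗ[A] M :=
    { toFun := fun x => (g x).toLin 1
      map_add' := fun x y => by rw [map_add]; rfl
      map_smul' := fun a x => by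
        have : a • x = algebraMap A B a • x := rfl
        rw [this, map_smul, hone]; rfl }
  obtain ⟨h, hh⟩ := hM.out (i.restrictScalars A) hi g1
  refine ⟨{ toFun := fun y => ofLin
              { toFun := fun b => h (b • y)
                map_add' := fun b b' => by rw [add_smul, map_add]
                map_smul' := fun a b => by
                  rw [RingHom.id_apply, ← map_smul, smul_assoc] }
            map_add' := fun y y' => ext' fun b => by
              change h (b • (y + y')) = h (b • y) + h (b • y')
              rw [smul_add, map_add]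
            map_smul' := fun s y => ext' fun b => by
              change h (b • s • y) = h ((b * s) • y)
              rw [mul_smul] }, fun x => ext' fun b => ?_⟩
  change h (b • i x) = (g x).toLin b
  rw [← map_smul]
  refine (hh _).trans ?_
  change (g (b • x)).toLin 1 = _
  rw [map_smul, toLin_smul, one_mul]

/-- If `B` is projective over `A`, then `Hom_A(B, -)` does not increase injective dimension. -/
theorem hasInjectiveDimensionLT [Module.Projective A B] (n : ℕ) (M : ModuleCat.{u} A)
    (hM : HasInjectiveDimensionLT M (n + 1)) :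
    HasInjectiveDimensionLT (ModuleCat.of B (Co A B M)) (n + 1) := by
  induction n generalizing M with
  | zero =>
    simp only [zero_add, ← injective_iff_hasInjectiveDimensionLT_one] at hM ⊢
    rw [← Module.injective_iff_injective_object] at hM ⊢
    exact injective_of_injective hM
  | succ n ih =>
    obtain ⟨I, inj, f, monof⟩ := (inferInstance : EnoughInjectives (ModuleCat.{u} A)).1 M
    have hinj : Function.Injective f.hom := (ModuleCat.mono_iff_injective f).1 monof
    let S : ShortComplex (ModuleCat.{u} A) :=
      ModuleCat.shortComplexOfCompEqZero _ _ f.hom.exact_map_mkQ_range.linearMap_comp_eq_zero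
    have hS : S.ShortExact := ModuleCat.shortComplex_shortExact S
      f.hom.exact_map_mkQ_range hinj (Submodule.mkQ_surjective _)
    have hC : HasInjectiveDimensionLT S.X₃ (n + 1) :=
      (hS.hasInjectiveDimensionLT_X₃_iff n inj).2 hM
    have hex := map_exact (B := B) f.hom S.g.hom hinj f.hom.exact_map_mkQ_range
    let S' : ShortComplex (ModuleCat.{u} B) :=
      ModuleCat.shortComplexOfCompEqZero (map (B := B) f.hom) (map (B := B) S.g.hom)
        hex.linearMap_comp_eq_zero
    have hS' : S'.ShortExact := ModuleCat.shortComplex_shortExact S' hex (map_injective _ hinj)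
      (fun g => by
        obtain ⟨g', hg'⟩ := Module.projective_lifting_property S.g.hom g.toLin
          (Submodule.mkQ_surjective _)
        exact ⟨ofLin g', ext' fun b => LinearMap.congr_fun hg' b⟩)
    have hI : Injective S'.X₂ := by
      rw [← Module.injective_iff_injective_object]
      exact injective_of_injective (Module.injective_module_of_injective_object A I)
    exact (hS'.hasInjectiveDimensionLT_X₃_iff n hI).1 (ih _ hC)

end Co
end Coext

section Polynomial

open Polynomial

variable {A : Type u} [CommRing A]

/-- The map `N → Hom_A(A[X], N)`. -/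
noncomputable def polyη (N : Type u) [AddCommGroup N] [Module A N] [Module A[X] N] [IsScalarTower A A[X] N] :
    N →ₗ[A[X]] Co A A[X] N where
  toFun m := Co.ofLin ((LinearMap.toSpanSingleton A[X] N m).restrictScalars A)
  map_add' m m' := Co.ext' fun b => smul_add b m m'
  map_smul' s m := Co.ext' fun b => by
    change b • s • m = (b * s) • m
    rw [mul_smul]

theorem polyη_apply {N : Type u} [AddCommGroup N] [Module A N] [Module A[X] N]
    [IsScalarTower A A[X] N] (m : N) (b : A[X]) : (polyη N m).toLin b = b • m := rfl

/-- The map `Hom_A(A[X], N) → Hom_A(A[X], N)`, `g ↦ (b ↦ g (b X) - X g(b))`. -/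
noncomputable def polyD (N : Type u) [AddCommGroup N] [Module A N] [Module A[X] N] [IsScalarTower A A[X] N] :
    Co A A[X] N →ₗ[A[X]] Co A A[X] N where
  toFun g := Co.ofLin (g.toLin.comp (LinearMap.mulRight A (X : A[X])) -
    ((LinearMap.lsmul A[X] N (X : A[X])).restrictScalars A).comp g.toLin)
  map_add' g g' := Co.ext' fun b => by
    change (g.toLin (b * X) + g'.toLin (b * X)) - (X : A[X]) • (g.toLin b + g'.toLin b) =
      (g.toLin (b * X) - (X : A[X]) • g.toLin b) + (g'.toLin (b * X) - (X : A[X]) • g'.toLin b)
    rw [smul_add]; abel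
  map_smul' s g := Co.ext' fun b => by
    change g.toLin (b * X * s) - (X : A[X]) • g.toLin (b * s) =
      g.toLin (b * s * X) - (X : A[X]) • g.toLin (b * s)
    rw [mul_right_comm]

theorem polyD_apply {N : Type u} [AddCommGroup N] [Module A N] [Module A[X] N]
    [IsScalarTower A A[X] N] (g : Co A A[X] N) (b : A[X]) :
    (polyD N g).toLin b = g.toLin (b * X) - (X : A[X]) • g.toLin b := rfl

theorem polyη_injective {N : Type u} [AddCommGroup N] [Module A N] [Module A[X] N]
    [IsScalarTower A A[X] N] : Function.Injective (polyη (A := A) N) := by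
  intro m m' h
  have := congrArg (fun g : Co A A[X] N => g.toLin 1) h
  simpa [polyη_apply] using this

theorem polyη_exact_polyD {N : Type u} [AddCommGroup N] [Module A N] [Module A[X] N]
    [IsScalarTower A A[X] N] : Function.Exact (polyη (A := A) N) (polyD (A := A) N) := by
  intro g
  constructor
  · intro hg
    have hstep : ∀ s : A[X], g.toLin (s * X) = (X : A[X]) • g.toLin s := by
      intro s
      have := polyD_apply g s
      rw [hg, Co.toLin_zero] at this
      exact sub_eq_zero.1 this.symm
    refine ⟨g.toLin 1, Co.ext' fun s => ?_⟩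
    rw [polyη_apply]
    induction s using Polynomial.induction_on with
    | C a =>
      have h1 := g.toLin.map_smul a (1 : A[X])
      rw [Polynomial.smul_eq_C_mul, mul_one] at h1
      rw [h1, ← Polynomial.algebraMap_eq, algebraMap_smul]
    | add p q hp hq => rw [add_smul, hp, hq, map_add]
    | monomial n a ih =>
      rw [pow_succ, ← mul_assoc, hstep, ← ih, smul_smul, mul_comm]
  · rintro ⟨m, rfl⟩
    refine Co.ext' fun s => ?_
    rw [polyD_apply, polyη_apply, polyη_apply, smul_smul, mul_comm, sub_self, Co.toLin_zero]

theorem polyD_surjective {N : Type u} [AddCommGroup N] [Module A N] [Module A[X] N]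
    [IsScalarTower A A[X] N] : Function.Surjective (polyD (A := A) N) := by
  intro g
  let y : ℕ → N := fun n => Nat.rec (0 : N)
    (fun k yk => g.toLin (X ^ k : A[X]) + (X : A[X]) • yk) n
  have hy : ∀ k, y (k + 1) = g.toLin (X ^ k : A[X]) + (X : A[X]) • (y k) := fun k => rfl
  let f : A[X] →ₗ[A] N := (Polynomial.basisMonomials A).constr A y
  have hk : ∀ k, Polynomial.basisMonomials A k = X ^ k := fun k => by
    rw [Polynomial.coe_basisMonomials, X_pow_eq_monomial]
  have hf : ∀ k, f (X ^ k) = y k := fun k => by
    have := (Polynomial.basisMonomials A).constr_basis A y k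
    rw [hk] at this
    exact this
  refine ⟨Co.ofLin f, ?_⟩
  have : (polyD N (Co.ofLin f)).toLin = g.toLin := by
    refine (Polynomial.basisMonomials A).ext fun k => ?_
    rw [hk, polyD_apply, Co.toLin_ofLin, ← pow_succ, hf, hf, hy, add_sub_cancel_right]
  exact Co.ext' fun b => LinearMap.congr_fun this b

/-- The injective dimension over `A[X]` is at most one more than the injective dimension over
`A`. -/
theorem hasInjectiveDimensionLT_polynomial (n : ℕ) (N : Type u) [AddCommGroup N] [Module A N]
    [Module A[X] N] [IsScalarTower A A[X] N]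
    (hN : HasInjectiveDimensionLT (ModuleCat.of A N) (n + 1)) :
    HasInjectiveDimensionLT (ModuleCat.of A[X] N) (n + 2) := by
  have h1 := Co.hasInjectiveDimensionLT (B := A[X]) n (ModuleCat.of A N) hN
  let S : ShortComplex (ModuleCat.{u} A[X]) :=
    ModuleCat.shortComplexOfCompEqZero (polyη (A := A) N) (polyD (A := A) N)
      polyη_exact_polyD.linearMap_comp_eq_zero
  have hS : S.ShortExact := ModuleCat.shortComplex_shortExact S polyη_exact_polyD
    polyη_injective polyD_surjective
  exact hS.hasInjectiveDimensionLT_X₁ (n + 1) h1 (hasInjectiveDimensionLT_of_ge _ (n + 1) _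
    (Nat.le_succ _))

/-- If `A` is Noetherian of finite injective dimension over itself, so is `A[X]`. -/
theorem hasInjectiveDimensionLT_polynomial_self [IsNoetherianRing A] (n : ℕ)
    (hA : HasInjectiveDimensionLT (ModuleCat.of A A) (n + 1)) :
    HasInjectiveDimensionLT (ModuleCat.of A[X] A[X]) (n + 2) := by
  apply hasInjectiveDimensionLT_polynomial
  have h1 := hasInjectiveDimensionLT_finsupp (ULift.{u} ℕ) n (ModuleCat.of A A) hA
  let e : A[X] ≃ₗ[A] (ULift.{u} ℕ →₀ A) := (Polynomial.basisMonomials A).repr.trans
    (Finsupp.domLCongr Equiv.ulift.symm)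
  exact hasInjectiveDimensionLT_of_iso e.toModuleIso.symm (n + 1)

end Polynomial

section Quotient

variable {A : Type u} [CommRing A] (f : A)

/-- The element of `Hom_A(A/f, M)` given by an element of `M` killed by `f`. -/
noncomputable def coOfTorsion {M : Type u} [AddCommGroup M] [Module A M] (m : M) (hm : f • m = 0) :
    Co A (A ⧸ Ideal.span {f}) M :=
  Co.ofLin (Submodule.liftQ (Ideal.span {f}) (LinearMap.toSpanSingleton A M m) (by
    rw [Ideal.span, Submodule.span_singleton_le_iff_mem, LinearMap.mem_ker]
    exact hm))

theorem coOfTorsion_mk {M : Type u} [AddCommGroup M] [Module A M] (m : M) (hm : f • m = 0)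
    (a : A) : (coOfTorsion f m hm).toLin (Ideal.Quotient.mk _ a) = a • m := rfl

theorem co_torsion {M : Type u} [AddCommGroup M] [Module A M]
    (g : Co A (A ⧸ Ideal.span {f}) M) : f • g.toLin 1 = 0 := by
  rw [← map_smul]
  have : f • (1 : A ⧸ Ideal.span {f}) = 0 := by
    rw [Algebra.smul_def, mul_one]
    exact Ideal.Quotient.eq_zero_iff_mem.2 (Ideal.mem_span_singleton_self f)
  rw [this, map_zero]

theorem co_ext {M : Type u} [AddCommGroup M] [Module A M]
    {g g' : Co A (A ⧸ Ideal.span {f}) M} (h : g.toLin 1 = g'.toLin 1) : g = g' := by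
  refine Co.ext' fun b => ?_
  obtain ⟨a, rfl⟩ := Ideal.Quotient.mk_surjective b
  have : Ideal.Quotient.mk (Ideal.span {f}) a = a • (1 : A ⧸ Ideal.span {f}) := by
    rw [Algebra.smul_def, mul_one]; rfl
  rw [this, map_smul, map_smul, h]

theorem injective_divisible (hf : IsSMulRegular A f) {I : Type u} [AddCommGroup I] [Module A I]
    (hI : Module.Injective A I) (i : I) : ∃ i' : I, f • i' = i := by
  obtain ⟨h, hh⟩ := hI.out (LinearMap.mulLeft A f) (fun a b hab => hf hab)
    (LinearMap.toSpanSingleton A I i)
  refine ⟨h 1, ?_⟩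
  rw [← map_smul]
  have := hh 1
  simpa using this

/-- Divisible modules: `Hom_A(A/f, -)` does not increase the injective dimension. -/
theorem coTorsion_hasInjectiveDimensionLT (hf : IsSMulRegular A f) (n : ℕ) (M : ModuleCat.{u} A)
    (hdiv : ∀ m : M, ∃ m' : M, f • m' = m)
    (hM : HasInjectiveDimensionLT M (n + 1)) :
    HasInjectiveDimensionLT
      (ModuleCat.of (A ⧸ Ideal.span {f}) (Co A (A ⧸ Ideal.span {f}) M)) (n + 1) := by
  induction n generalizing M with
  | zero =>
    simp only [zero_add, ← injective_iff_hasInjectiveDimensionLT_one] at hM ⊢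
    rw [← Module.injective_iff_injective_object] at hM ⊢
    exact Co.injective_of_injective hM
  | succ n ih =>
    obtain ⟨I, inj, φ, monof⟩ := (inferInstance : EnoughInjectives (ModuleCat.{u} A)).1 M
    have hinj : Function.Injective φ.hom := (ModuleCat.mono_iff_injective φ).1 monof
    let S : ShortComplex (ModuleCat.{u} A) :=
      ModuleCat.shortComplexOfCompEqZero _ _ φ.hom.exact_map_mkQ_range.linearMap_comp_eq_zero
    have hS : S.ShortExact := ModuleCat.shortComplex_shortExact S
      φ.hom.exact_map_mkQ_range hinj (Submodule.mkQ_surjective _)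
    have hC : HasInjectiveDimensionLT S.X₃ (n + 1) :=
      (hS.hasInjectiveDimensionLT_X₃_iff n inj).2 hM
    have hlift : ∀ c : S.X₃, f • c = 0 → ∃ i : I, S.g.hom i = c ∧ f • i = 0 := by
      intro c hc
      obtain ⟨i, rfl⟩ := Submodule.mkQ_surjective _ c
      rw [← map_smul] at hc
      obtain ⟨m, hm⟩ := (φ.hom.exact_map_mkQ_range _).1 hc
      obtain ⟨m', rfl⟩ := hdiv m
      refine ⟨i - φ.hom m', ?_, ?_⟩
      · change (LinearMap.range φ.hom).mkQ (i - φ.hom m') = (LinearMap.range φ.hom).mkQ i
        rw [map_sub, φ.hom.exact_map_mkQ_range.apply_apply_eq_zero, sub_zero]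
      · rw [smul_sub, ← map_smul, hm, sub_self]
    have hdivI : ∀ m : I, ∃ m' : I, f • m' = m :=
      injective_divisible f hf (Module.injective_module_of_injective_object A I)
    have hex := Co.map_exact (B := A ⧸ Ideal.span {f}) φ.hom S.g.hom hinj
      φ.hom.exact_map_mkQ_range
    let S' : ShortComplex (ModuleCat.{u} (A ⧸ Ideal.span {f})) :=
      ModuleCat.shortComplexOfCompEqZero (Co.map φ.hom) (Co.map S.g.hom)
        hex.linearMap_comp_eq_zero
    have hS' : S'.ShortExact := ModuleCat.shortComplex_shortExact S' hex (Co.map_injective _ hinj)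
      (fun g => by
        obtain ⟨i, hi, hi'⟩ := hlift _ (co_torsion f g)
        exact ⟨coOfTorsion f i hi', co_ext f (by
          change S.g.hom ((1 : A) • i) = g.toLin 1
          rw [one_smul, hi])⟩)
    have hI : Injective S'.X₂ := by
      rw [← Module.injective_iff_injective_object]
      exact Co.injective_of_injective (Module.injective_module_of_injective_object A I)
    refine (hS'.hasInjectiveDimensionLT_X₃_iff n hI).1 (ih _ ?_ hC)
    intro c
    obtain ⟨i, rfl⟩ := Submodule.mkQ_surjective _ c
    obtain ⟨i', rfl⟩ := hdivI i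
    exact ⟨(LinearMap.range φ.hom).mkQ i', (map_smul _ _ _).symm⟩

/-- Rees: if `f` is a nonzerodivisor of `A` and `A` has finite injective dimension over itself,
then so has `A/f`. -/
theorem hasInjectiveDimensionLT_quotient (hf : IsSMulRegular A f) (n : ℕ)
    (hA : HasInjectiveDimensionLT (ModuleCat.of A A) (n + 1)) :
    HasInjectiveDimensionLT
      (ModuleCat.of (A ⧸ Ideal.span {f}) (A ⧸ Ideal.span {f})) (n + 1) := by
  obtain ⟨I, inj, φ, monof⟩ :=
    (inferInstance : EnoughInjectives (ModuleCat.{u} A)).1 (ModuleCat.of A A)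
  have hinj : Function.Injective φ.hom := (ModuleCat.mono_iff_injective φ).1 monof
  have hIinj := Module.injective_module_of_injective_object A I
  let S : ShortComplex (ModuleCat.{u} A) :=
    ModuleCat.shortComplexOfCompEqZero _ _ φ.hom.exact_map_mkQ_range.linearMap_comp_eq_zero
  have hS : S.ShortExact := ModuleCat.shortComplex_shortExact S
    φ.hom.exact_map_mkQ_range hinj (Submodule.mkQ_surjective _)
  have hC : HasInjectiveDimensionLT S.X₃ (n + 1) :=
    (hS.hasInjectiveDimensionLT_X₃_iff n inj).2 (hasInjectiveDimensionLT_of_ge _ (n + 1) _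
      (Nat.le_succ _))
  have hdivI : ∀ m : I, ∃ m' : I, f • m' = m := injective_divisible f hf hIinj
  have hC' := coTorsion_hasInjectiveDimensionLT f hf n S.X₃ (by
    intro c
    obtain ⟨i, rfl⟩ := Submodule.mkQ_surjective _ c
    obtain ⟨i', rfl⟩ := hdivI i
    exact ⟨(LinearMap.range φ.hom).mkQ i', (map_smul _ _ _).symm⟩) hC
  set B := A ⧸ Ideal.span {f} with hB
  -- the sequence `0 → Hom(B, I) → Hom(B, C) → K → 0`
  let ψ : Co A B I →ₗ[B] Co A B S.X₃ := Co.map S.g.hom
  have hψ : Function.Injective ψ := by
    intro g g' hgg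
    apply co_ext
    have h1 : S.g.hom (g.toLin 1 - g'.toLin 1) = 0 := by
      rw [map_sub, sub_eq_zero]
      exact congrArg (fun g : Co A B S.X₃ => g.toLin 1) hgg
    obtain ⟨a, ha⟩ := (φ.hom.exact_map_mkQ_range _).1 h1
    have h2 : f • (φ.hom a) = 0 := by
      rw [ha, smul_sub, co_torsion, co_torsion, sub_zero]
    rw [← map_smul] at h2
    have h3 : f • a = 0 := hinj (by rw [h2, map_zero])
    have h4 : a = 0 := hf (by change f • a = f • (0 : A); rw [h3, smul_zero])
    rw [h4, map_zero] at ha
    exact (sub_eq_zero.1 ha.symm)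
  let T : ShortComplex (ModuleCat.{u} B) :=
    ModuleCat.shortComplexOfCompEqZero _ _ ψ.exact_map_mkQ_range.linearMap_comp_eq_zero
  have hT : T.ShortExact := ModuleCat.shortComplex_shortExact T
    ψ.exact_map_mkQ_range hψ (Submodule.mkQ_surjective _)
  have hT2 : HasInjectiveDimensionLT T.X₂ (n + 1) := hC'
  have hT1 : HasInjectiveDimensionLT T.X₁ (n + 1 + 1) := by
    have : Injective T.X₁ := by
      rw [← Module.injective_iff_injective_object]
      exact Co.injective_of_injective hIinj
    exact hasInjectiveDimensionLT_of_ge _ 1 _ (by omega)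
  have hT3 := hT.hasInjectiveDimensionLT_X₃ (n + 1) hT2 hT1
  -- identify the cokernel with `B`
  obtain ⟨i₀, hi₀⟩ := hdivI (φ.hom (1 : A))
  have hc₀ : f • (S.g.hom i₀) = 0 := by
    rw [← map_smul, hi₀]
    exact φ.hom.exact_map_mkQ_range.apply_apply_eq_zero _
  let c₀ : Co A B S.X₃ := coOfTorsion f (S.g.hom i₀) hc₀
  let K := Co A B S.X₃ ⧸ LinearMap.range ψ
  let e : B →ₗ[B] K := LinearMap.toSpanSingleton B K ((LinearMap.range ψ).mkQ c₀)
  have he : Function.Bijective e := by
    constructor
    · rw [← LinearMap.ker_eq_bot, LinearMap.ker_eq_bot']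
      intro b hb
      obtain ⟨a, rfl⟩ := Ideal.Quotient.mk_surjective b
      have h1 : (LinearMap.range ψ).mkQ ((Ideal.Quotient.mk (Ideal.span {f}) a) • c₀) = 0 := by
        rw [map_smul]; exact hb
      obtain ⟨g, hg⟩ := (ψ.exact_map_mkQ_range _).1 h1
      have h2 : S.g.hom (g.toLin 1) = a • S.g.hom i₀ := by
        have := congrArg (fun g : Co A B S.X₃ => g.toLin 1) hg
        simp only [Co.toLin_smul, one_mul] at this
        exact this
      have h3 : S.g.hom (g.toLin 1 - a • i₀) = 0 := by rw [map_sub, h2, map_smul, sub_self]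
      obtain ⟨r, hr⟩ := (φ.hom.exact_map_mkQ_range _).1 h3
      have h4 : f • φ.hom r = - φ.hom a := by
        rw [hr, smul_sub, co_torsion, smul_comm f a, hi₀, ← map_smul, smul_eq_mul, mul_one,
          zero_sub]
      rw [← map_smul, ← map_neg] at h4
      have h5 : f • r = - a := hinj h4
      rw [Ideal.Quotient.eq_zero_iff_mem, Ideal.mem_span_singleton]
      exact ⟨-r, by rw [mul_neg, ← smul_eq_mul, h5, neg_neg]⟩
    · intro k
      obtain ⟨c, rfl⟩ := Submodule.mkQ_surjective _ k
      obtain ⟨i, hi⟩ := Submodule.mkQ_surjective _ (c.toLin 1)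
      have h1 : S.g.hom (f • i) = 0 := by
        rw [map_smul]
        change f • (LinearMap.range φ.hom).mkQ i = 0
        rw [hi, co_torsion]
      obtain ⟨a, ha⟩ := (φ.hom.exact_map_mkQ_range _).1 h1
      refine ⟨Ideal.Quotient.mk _ a, ?_⟩
      have h2 : f • (a • i₀ - i) = 0 := by
        rw [smul_sub, smul_comm f a, hi₀, ← map_smul, smul_eq_mul, mul_one, ha, sub_self]
      change (Ideal.Quotient.mk (Ideal.span {f}) a) • ((LinearMap.range ψ).mkQ c₀) =
        (LinearMap.range ψ).mkQ c
      rw [← map_smul, ← sub_eq_zero, ← map_sub]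
      refine (ψ.exact_map_mkQ_range _).2 ⟨coOfTorsion f (a • i₀ - i) h2, ?_⟩
      apply co_ext
      change S.g.hom ((1 : A) • (a • i₀ - i)) = ((Ideal.Quotient.mk (Ideal.span {f}) a) • c₀ - c).toLin 1
      have h3 : ((Ideal.Quotient.mk (Ideal.span {f}) a) • c₀ - c).toLin 1 =
        c₀.toLin (1 * Ideal.Quotient.mk (Ideal.span {f}) a) - c.toLin 1 := rfl
      rw [h3, one_mul, one_smul, map_sub, map_smul, ← hi]
      rfl
  exact hasInjectiveDimensionLT_of_iso (LinearEquiv.ofBijective e he).toModuleIso.symm (n + 1)

end Quotient

end Groth.Agent.LoccohB.GorInjDim
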