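import Groth.Prelude.Def_CAlg
import Groth.Agent.LoccohB.GorInjDim
import Mathlib.RingTheory.RegularLocalRing.Polynomial
import Mathlib.RingTheory.Regular.Flat
import Mathlib.RingTheory.Polynomial.Basic
import Mathlib.RingTheory.SimpleModule.InjectiveProjective

set_option autoImplicit false
universe u

open CategoryTheory CategoryTheory.Limits

namespace Groth.Agent.LoccohB.GorBasic

open GorInjDim

/-- Finite injective dimension over itself. -/
def FID (R : Type u) [CommRing R] : Prop :=
  ∃ n : ℕ, HasInjectiveDimensionLT (ModuleCat.of R R) n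

theorem FID.exists_succ {R : Type u} [CommRing R] (h : FID R) :
    ∃ n : ℕ, HasInjectiveDimensionLT (ModuleCat.of R R) (n + 1) := by
  obtain ⟨n, hn⟩ := h
  exact ⟨n, hasInjectiveDimensionLT_of_ge _ n _ (Nat.le_succ _)⟩

theorem FID.of_ringEquiv {R R' : Type u} [CommRing R] [CommRing R'] (e : R ≃+* R')
    (h : FID R) : FID R' := by
  obtain ⟨n, hn⟩ := h.exists_succ
  refine ⟨n + 1, ?_⟩
  have hn' : HasInjectiveDimensionLE (ModuleCat.of R R) n := hn
  let _ := RingHomInvPair.of_ringEquiv e
  let _ := RingHomInvPair.of_ringEquiv e.symm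
  let _ := (RingHomInvPair.of_ringEquiv e).symm
  let e' : (ModuleCat.of R R) ≃ₛₗ[RingHomClass.toRingHom e] (ModuleCat.of R' R') :=
    { e with
      map_smul' := fun a b => map_mul e a b }
  exact (ModuleCat.hasInjectiveDimensionLE_iff_of_semiLinearEquiv e e' n).1 hn'

theorem FID.localization {R : Type u} [CommRing R] [IsNoetherianRing R] (h : FID R)
    (S : Submonoid R) : FID (Localization S) := by
  obtain ⟨n, hn⟩ := h.exists_succ
  have hn' : HasInjectiveDimensionLE (ModuleCat.of R R) n := hn
  have := ModuleCat.localizedModule_hasInjectiveDimensionLE n S (ModuleCat.of R R)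
  refine ⟨n + 1, ?_⟩
  have e1 : LocalizedModule S R ≃ₗ[R] Localization S :=
    IsLocalizedModule.linearEquiv S (LocalizedModule.mkLinearMap S R)
      (Algebra.linearMap R (Localization S))
  have e2 := e1.extendScalarsOfIsLocalization S (Localization S)
  exact (ModuleCat.hasInjectiveDimensionLE_iff_of_linearEquiv
    ((Shrink.linearEquiv (Localization S) (LocalizedModule S R)).trans e2) n).1 this

theorem FID.atPrime {R : Type u} [CommRing R] [IsNoetherianRing R] (h : FID R)
    (p : Ideal R) [p.IsPrime] : FID (Localization.AtPrime p) := h.localization _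

theorem FID.polynomial {R : Type u} [CommRing R] [IsNoetherianRing R] (h : FID R) :
    FID (Polynomial R) := by
  obtain ⟨n, hn⟩ := h.exists_succ
  exact ⟨n + 2, hasInjectiveDimensionLT_polynomial_self n hn⟩

theorem FID.quotient {R : Type u} [CommRing R] (h : FID R) (f : R) (hf : IsSMulRegular R f) :
    FID (R ⧸ Ideal.span {f}) := by
  obtain ⟨n, hn⟩ := h.exists_succ
  exact ⟨n + 1, hasInjectiveDimensionLT_quotient f hf n hn⟩

/-! ### Gorenstein rings -/

open LocCoh

theorem isGorensteinLocalRing_iff {R : Type u} [CommRing R] :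
    IsGorensteinLocalRing R ↔ IsNoetherianRing R ∧ IsLocalRing R ∧ FID R :=
  ⟨fun h => ⟨inferInstance, h.toIsLocalRing, h.exists_hasInjectiveDimensionLT⟩,
    fun h => { h.1, h.2.1 with exists_hasInjectiveDimensionLT := h.2.2 }⟩

theorem isGorensteinLocalRing_of_ringEquiv {R R' : Type u} [CommRing R] [CommRing R']
    (e : R ≃+* R') (h : IsGorensteinLocalRing R) : IsGorensteinLocalRing R' := by
  rw [isGorensteinLocalRing_iff] at h ⊢
  obtain ⟨h1, h2, h3⟩ := h
  exact ⟨isNoetherianRing_of_ringEquiv R e, e.isLocalRing, h3.of_ringEquiv e⟩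

/-- A Noetherian ring all of whose localizations at primes are of finite injective dimension. -/
theorem isGorensteinRing_iff {R : Type u} [CommRing R] :
    IsGorensteinRing R ↔ IsNoetherianRing R ∧
      ∀ (p : Ideal R) [p.IsPrime], FID (Localization.AtPrime p) := by
  constructor
  · intro h
    refine ⟨inferInstance, fun p hp => ?_⟩
    have := h.isGorensteinLocalRing_localization p
    exact this.exists_hasInjectiveDimensionLT
  · rintro ⟨h1, h2⟩
    refine { h1 with isGorensteinLocalRing_localization := fun p hp => ?_ }
    rw [isGorensteinLocalRing_iff]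
    exact ⟨inferInstance, inferInstance, h2 p⟩

theorem isGorensteinRing_of_FID {R : Type u} [CommRing R] [IsNoetherianRing R] (h : FID R) :
    IsGorensteinRing R :=
  isGorensteinRing_iff.2 ⟨inferInstance, fun p _ => h.atPrime p⟩

theorem isGorensteinRing_of_isGorensteinLocalRing {R : Type u} [CommRing R]
    (h : IsGorensteinLocalRing R) : IsGorensteinRing R :=
  isGorensteinRing_of_FID h.exists_hasInjectiveDimensionLT

theorem isGorensteinRing_of_ringEquiv {R R' : Type u} [CommRing R] [CommRing R']
    (e : R ≃+* R') (h : IsGorensteinRing R) : IsGorensteinRing R' := by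
  rw [isGorensteinRing_iff] at h ⊢
  obtain ⟨h1, h2⟩ := h
  refine ⟨isNoetherianRing_of_ringEquiv R e, fun p hp => ?_⟩
  exact (h2 (p.comap e.toRingHom)).of_ringEquiv
    (IsLocalization.ringEquivOfRingEquiv (M := (p.comap e.toRingHom).primeCompl)
      (T := p.primeCompl) (Localization.AtPrime (p.comap e.toRingHom)) (Localization.AtPrime p) e
      (by
        ext x
        constructor
        · rintro ⟨y, hy, rfl⟩
          exact hy
        · intro hx
          refine ⟨e.symm x, ?_, by simp⟩
          change ¬ (e (e.symm x) ∈ p)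
          rwa [RingEquiv.apply_symm_apply]))

/-- If `M ⊆ R`, `S = M⁻¹ R`, and `p` is a prime of `R` disjoint from `M`, then `R_p` is the
localization of `S` at `p S`. -/
theorem FID.of_isLocalization {R S : Type u} [CommRing R] [CommRing S] [Algebra R S]
    (M : Submonoid R) [IsLocalization M S] (p : Ideal R) [p.IsPrime]
    (disj : Disjoint (M : Set R) (p : Set R)) [IsNoetherianRing S]
    (h : ∀ q : Ideal S, [q.IsPrime] → FID (Localization.AtPrime q)) :
    FID (Localization.AtPrime p) := by
  let pS := p.map (algebraMap R S)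
  have : pS.IsPrime := IsLocalization.isPrime_of_isPrime_disjoint M _ _ ‹_› disj
  have : IsLocalization.AtPrime (Localization.AtPrime pS) p := by
    convert IsLocalization.isLocalization_isLocalization_atPrime_isLocalization M
      (Localization.AtPrime pS) pS
    exact (IsLocalization.under_map_of_isPrime_disjoint M _ ‹_› disj).symm
  exact (h pS).of_ringEquiv (IsLocalization.algEquiv p.primeCompl
    (Localization.AtPrime pS) (Localization.AtPrime p)).toRingEquiv

open Polynomial in
theorem isGorensteinRing_polynomial {R : Type u} [CommRing R] (h : IsGorensteinRing R) :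
    IsGorensteinRing R[X] := by
  refine isGorensteinRing_iff.2 ⟨inferInstance, fun p hp => ?_⟩
  let q := p.comap C
  let S := (Localization.AtPrime q)[X]
  let pc := Submonoid.map Polynomial.C.toMonoidHom q.primeCompl
  let : Algebra R[X] S := algebra R (Localization.AtPrime q)
  have : IsLocalization pc S := Polynomial.isLocalization _ _
  have disj : Disjoint (pc : Set R[X]) (p : Set R[X]) := by
    simpa [pc, q] using! Set.disjoint_image_left.mpr
      (Set.disjoint_compl_left_iff_subset.mpr (fun _ a ↦ a))
  have hq : FID S := ((isGorensteinRing_iff.1 h).2 q).polynomial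
  exact FID.of_isLocalization pc p disj fun q' _ => hq.atPrime q'

theorem isGorensteinRing_mvPolynomial {R : Type u} [CommRing R] (h : IsGorensteinRing R)
    (n : ℕ) : IsGorensteinRing (MvPolynomial (Fin n) R) := by
  induction n with
  | zero =>
    exact isGorensteinRing_of_ringEquiv (MvPolynomial.isEmptyRingEquiv R (Fin 0)).symm h
  | succ n ih =>
    exact isGorensteinRing_of_ringEquiv (MvPolynomial.finSuccEquiv R n).toRingEquiv.symm
      (isGorensteinRing_polynomial ih)

open RingTheory.Sequence Pointwise in
theorem isWeaklyRegular_self_cons_iff {R : Type u} [CommRing R] (r : R) (rs : List R) :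
    IsWeaklyRegular R (r :: rs) ↔ IsSMulRegular R r ∧
      IsWeaklyRegular (R ⧸ Ideal.span {r}) (rs.map (Ideal.Quotient.mk (Ideal.span {r}))) := by
  rw [isWeaklyRegular_cons_iff, ← Ideal.Quotient.algebraMap_eq, isWeaklyRegular_map_algebraMap_iff]
  refine and_congr_right' ?_
  have h : (r • (⊤ : Submodule R R)) = Ideal.span {r} := by
    ext x
    rw [Submodule.mem_smul_pointwise_iff_exists, Ideal.mem_span_singleton]
    constructor
    · rintro ⟨y, -, rfl⟩
      exact ⟨y, rfl⟩
    · rintro ⟨y, rfl⟩
      exact ⟨y, trivial, rfl⟩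
  exact (Submodule.quotEquivOfEq _ _ h).isWeaklyRegular_congr rs

/-- The quotient of a ring of finite injective dimension by a (weakly) regular sequence has
finite injective dimension. -/
theorem FID.quotient_ofList {R : Type u} [CommRing R] (rs : List R) (h : FID R)
    (hrs : RingTheory.Sequence.IsWeaklyRegular R rs) : FID (R ⧸ Ideal.ofList rs) := by
  obtain ⟨n, hn⟩ : ∃ n, n = rs.length := ⟨_, rfl⟩
  induction n generalizing R with
  | zero =>
    rw [List.eq_nil_of_length_eq_zero hn.symm]
    exact h.of_ringEquiv ((RingEquiv.quotientBot R).symm.trans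
      (Ideal.quotEquivOfEq (Ideal.ofList_nil (R := R)).symm))
  | succ n ih =>
    match rs, hn, hrs with
    | r :: rs, hn, hrs =>
    obtain ⟨h1, h2⟩ := (isWeaklyRegular_self_cons_iff r rs).1 hrs
    have h3 := ih (R := R ⧸ Ideal.span {r}) (rs.map (Ideal.Quotient.mk (Ideal.span {r})))
      (h.quotient r h1) h2 (by simpa using hn)
    refine h3.of_ringEquiv ?_
    refine (Ideal.quotEquivOfEq (Ideal.map_ofList _ _).symm).trans
      ((DoubleQuot.quotQuotEquivQuotSup _ _).trans (Ideal.quotEquivOfEq ?_))
    exact (Ideal.ofList_cons _ _).symm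

/-- Fields are of finite injective dimension. -/
theorem FID.of_field (k : Type u) [Field k] : FID k := by
  refine ⟨1, ?_⟩
  rw [← injective_iff_hasInjectiveDimensionLT_one, ← Module.injective_iff_injective_object]
  exact Module.injective_of_isSemisimpleRing k k

theorem isGorensteinRing_of_field (k : Type u) [Field k] : IsGorensteinRing k :=
  isGorensteinRing_of_FID (FID.of_field k)

end Groth.Agent.LoccohB.GorBasic
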