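import Mathlib.CategoryTheory.Triangulated.Functor
import Mathlib.CategoryTheory.Linear.LinearFunctor
import Mathlib.LinearAlgebra.TensorProduct.Basic
import Mathlib.RingTheory.Flat.Basic
import Mathlib.Algebra.FiveLemma
import Mathlib.CategoryTheory.Shift.Linear

/-!
# The comparison map `B ⊗_A Hom(X, Y) → Hom(G X, G Y)` for a semilinear triangulated functor
-/

set_option autoImplicit false
universe v₁ v₂ u₁ u₂ uA uB

open CategoryTheory CategoryTheory.Limits Pretriangulated
open scoped TensorProduct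

namespace Groth.Agent.LoccohB.HomBC

section Def

variable (A : Type uA) (B : Type uB) [CommRing A] [CommRing B] [Algebra A B]
  {𝒞 : Type u₁} [Category.{v₁} 𝒞] [Preadditive 𝒞] [Linear A 𝒞]
  {𝒟 : Type u₂} [Category.{v₂} 𝒟] [Preadditive 𝒟] [Linear B 𝒟]

/-- A functor which is semilinear along `A → B`. -/
class SemiLinear (G : 𝒞 ⥤ 𝒟) : Prop where
  map_smul' : ∀ {X Y : 𝒞} (a : A) (f : X ⟶ Y), G.map (a • f) = algebraMap A B a • G.map f

variable (G : 𝒞 ⥤ 𝒟) [G.Additive] [SemiLinear A B G]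

omit [G.Additive] in
lemma semi_map_smul {X Y : 𝒞} (a : A) (f : X ⟶ Y) :
    G.map (a • f) = algebraMap A B a • G.map f :=
  SemiLinear.map_smul' a f

/-- The comparison map `b ⊗ f ↦ b • G f`. -/
noncomputable def bc (X Y : 𝒞) : B ⊗[A] (X ⟶ Y) →+ (G.obj X ⟶ G.obj Y) :=
  TensorProduct.liftAddHom
    { toFun := fun b =>
        { toFun := fun f => b • G.map f
          map_zero' := by simp
          map_add' := fun f g => by rw [G.map_add, smul_add] }
      map_zero' := by ext; simp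
      map_add' := fun b b' => by ext f; simp [add_smul] }
    (fun a b f => by
      change (a • b) • G.map f = b • G.map (a • f)
      rw [semi_map_smul A B G, smul_smul, Algebra.smul_def, mul_comm])

@[simp]
lemma bc_tmul {X Y : 𝒞} (b : B) (f : X ⟶ Y) : bc A B G X Y (b ⊗ₜ f) = b • G.map f := rfl

lemma bc_smul {X Y : 𝒞} (b : B) (t : B ⊗[A] (X ⟶ Y)) :
    bc A B G X Y (b • t) = b • bc A B G X Y t := by
  induction t using TensorProduct.induction_on with
  | zero => simp
  | tmul b' f => simp [TensorProduct.smul_tmul', smul_smul]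
  | add x y hx hy => simp only [smul_add, map_add, hx, hy]

/-- the comparison map as a `B`-linear map. -/
noncomputable def bcLin (X Y : 𝒞) : B ⊗[A] (X ⟶ Y) →ₗ[B] (G.obj X ⟶ G.obj Y) where
  toFun := bc A B G X Y
  map_add' := map_add _
  map_smul' b t := bc_smul A B G b t

lemma bc_precomp {X X' Y : 𝒞} (g : X' ⟶ X) (t : B ⊗[A] (X ⟶ Y)) :
    bc A B G X' Y ((Linear.leftComp A Y g).lTensor B t) = G.map g ≫ bc A B G X Y t := by
  induction t using TensorProduct.induction_on with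
  | zero => simp
  | tmul b' f => simp
  | add x y hx hy => simp only [map_add, hx, hy, Preadditive.comp_add]

lemma bc_postcomp {X Y Y' : 𝒞} (g : Y ⟶ Y') (t : B ⊗[A] (X ⟶ Y)) :
    bc A B G X Y' ((Linear.rightComp A X g).lTensor B t) = bc A B G X Y t ≫ G.map g := by
  induction t using TensorProduct.induction_on with
  | zero => simp
  | tmul b' f => simp
  | add x y hx hy => simp only [map_add, hx, hy, Preadditive.add_comp]

lemma lTensor_leftComp_comp {X X' X'' Y : 𝒞} (g : X' ⟶ X) (h : X'' ⟶ X') (t : B ⊗[A] (X ⟶ Y)) :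
    (Linear.leftComp A Y h).lTensor B ((Linear.leftComp A Y g).lTensor B t) =
      (Linear.leftComp A Y (h ≫ g)).lTensor B t := by
  rw [← LinearMap.comp_apply, ← LinearMap.lTensor_comp]
  congr 2
  ext f
  simp

lemma lTensor_rightComp_comp {X Y Y' Y'' : 𝒞} (g : Y ⟶ Y') (h : Y' ⟶ Y'') (t : B ⊗[A] (X ⟶ Y)) :
    (Linear.rightComp A X h).lTensor B ((Linear.rightComp A X g).lTensor B t) =
      (Linear.rightComp A X (g ≫ h)).lTensor B t := by
  rw [← LinearMap.comp_apply, ← LinearMap.lTensor_comp]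
  congr 2
  ext f
  simp

lemma lTensor_leftComp_id {X Y : 𝒞} (t : B ⊗[A] (X ⟶ Y)) :
    (Linear.leftComp A Y (𝟙 X)).lTensor B t = t := by
  have : Linear.leftComp A Y (𝟙 X) = LinearMap.id := by ext f; simp
  rw [this, LinearMap.lTensor_id]
  rfl

lemma lTensor_rightComp_id {X Y : 𝒞} (t : B ⊗[A] (X ⟶ Y)) :
    (Linear.rightComp A X (𝟙 Y)).lTensor B t = t := by
  have : Linear.rightComp A X (𝟙 Y) = LinearMap.id := by ext f; simp
  rw [this, LinearMap.lTensor_id]
  rfl

lemma bc_injective_of_iso_left {X X' Y : 𝒞} (e : X ≅ X')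
    (h : Function.Injective (bc A B G X Y)) : Function.Injective (bc A B G X' Y) := by
  intro s t hst
  have := h (a₁ := (Linear.leftComp A Y e.hom).lTensor B s)
    (a₂ := (Linear.leftComp A Y e.hom).lTensor B t) (by rw [bc_precomp, bc_precomp, hst])
  have h2 := congrArg ((Linear.leftComp A Y e.inv).lTensor B) this
  rwa [lTensor_leftComp_comp, lTensor_leftComp_comp, Iso.inv_hom_id, lTensor_leftComp_id,
    lTensor_leftComp_id] at h2

lemma bc_surjective_of_iso_left {X X' Y : 𝒞} (e : X ≅ X')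
    (h : Function.Surjective (bc A B G X Y)) : Function.Surjective (bc A B G X' Y) := by
  intro f
  obtain ⟨t, ht⟩ := h (G.map e.hom ≫ f)
  refine ⟨(Linear.leftComp A Y e.inv).lTensor B t, ?_⟩
  rw [bc_precomp, ht, ← Category.assoc, ← G.map_comp, Iso.inv_hom_id, G.map_id, Category.id_comp]

lemma bc_injective_of_iso_right {X Y Y' : 𝒞} (e : Y ≅ Y')
    (h : Function.Injective (bc A B G X Y)) : Function.Injective (bc A B G X Y') := by
  intro s t hst
  have := h (a₁ := (Linear.rightComp A X e.inv).lTensor B s)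
    (a₂ := (Linear.rightComp A X e.inv).lTensor B t) (by rw [bc_postcomp, bc_postcomp, hst])
  have h2 := congrArg ((Linear.rightComp A X e.hom).lTensor B) this
  rwa [lTensor_rightComp_comp, lTensor_rightComp_comp, Iso.inv_hom_id, lTensor_rightComp_id,
    lTensor_rightComp_id] at h2

lemma bc_surjective_of_iso_right {X Y Y' : 𝒞} (e : Y ≅ Y')
    (h : Function.Surjective (bc A B G X Y)) : Function.Surjective (bc A B G X Y') := by
  intro f
  obtain ⟨t, ht⟩ := h (f ≫ G.map e.inv)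
  refine ⟨(Linear.rightComp A X e.hom).lTensor B t, ?_⟩
  rw [bc_postcomp, ht, Category.assoc, ← G.map_comp, Iso.inv_hom_id, G.map_id, Category.comp_id]

end Def

section Shift

variable (A : Type uA) (B : Type uB) [CommRing A] [CommRing B] [Algebra A B]
  {𝒞 : Type u₁} [Category.{v₁} 𝒞] [Preadditive 𝒞] [Linear A 𝒞] [HasShift 𝒞 ℤ]
  [∀ n : ℤ, (shiftFunctor 𝒞 n).Additive] [∀ n : ℤ, (shiftFunctor 𝒞 n).Linear A]
  {𝒟 : Type u₂} [Category.{v₂} 𝒟] [Preadditive 𝒟] [Linear B 𝒟] [HasShift 𝒟 ℤ]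
  [∀ n : ℤ, (shiftFunctor 𝒟 n).Additive] [∀ n : ℤ, (shiftFunctor 𝒟 n).Linear B]
  (G : 𝒞 ⥤ 𝒟) [G.Additive] [SemiLinear A B G] [G.CommShift ℤ]

/-- the shift as a linear map. -/
noncomputable def shiftLin (X Y : 𝒞) (n : ℤ) : (X ⟶ Y) →ₗ[A] (X⟦n⟧ ⟶ Y⟦n⟧) where
  toFun f := f⟦n⟧'
  map_add' f g := by simp
  map_smul' a f := by simp

lemma shiftLin_bijective (X Y : 𝒞) (n : ℤ) : Function.Bijective (shiftLin A X Y n) :=
  (Functor.FullyFaithful.ofFullyFaithful (shiftFunctor 𝒞 n)).map_bijective X Y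

lemma bc_shift {X Y : 𝒞} (n : ℤ) (t : B ⊗[A] (X ⟶ Y)) :
    bc A B G (X⟦n⟧) (Y⟦n⟧) ((shiftLin A X Y n).lTensor B t) =
      (G.commShiftIso n).hom.app X ≫ (bc A B G X Y t)⟦n⟧' ≫ (G.commShiftIso n).inv.app Y := by
  induction t using TensorProduct.induction_on with
  | zero => simp
  | tmul b' f =>
    simp only [LinearMap.lTensor_tmul, bc_tmul, Functor.map_smul, Linear.smul_comp,
      Linear.comp_smul]
    congr 1
    have := (G.commShiftIso n).hom.naturality f
    simp only [Functor.comp_map] at this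
    rw [← reassoc_of% this, Iso.hom_inv_id_app]
    simp [shiftLin]
  | add x y hx hy => simp only [map_add, hx, hy, Preadditive.add_comp, Preadditive.comp_add,
      Functor.map_add]

lemma lTensor_shiftLin_bijective (X Y : 𝒞) (n : ℤ) :
    Function.Bijective ((shiftLin A X Y n).lTensor B) := by
  let e : (X ⟶ Y) ≃ₗ[A] (X⟦n⟧ ⟶ Y⟦n⟧) :=
    LinearEquiv.ofBijective (shiftLin A X Y n) (shiftLin_bijective A X Y n)
  exact (TensorProduct.congr (LinearEquiv.refl A B) e).bijective

lemma bc_shift_injective_iff (X Y : 𝒞) (n : ℤ) :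
    Function.Injective (bc A B G (X⟦n⟧) (Y⟦n⟧)) ↔ Function.Injective (bc A B G X Y) := by
  constructor
  · intro h s t hst
    apply (lTensor_shiftLin_bijective A B X Y n).1
    apply h
    rw [bc_shift, bc_shift, hst]
  · intro h s t hst
    obtain ⟨s, rfl⟩ := (lTensor_shiftLin_bijective A B X Y n).2 s
    obtain ⟨t, rfl⟩ := (lTensor_shiftLin_bijective A B X Y n).2 t
    rw [bc_shift, bc_shift, cancel_epi, cancel_mono] at hst
    rw [h ((shiftFunctor 𝒟 n).map_injective hst)]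

lemma bc_shift_surjective_iff (X Y : 𝒞) (n : ℤ) :
    Function.Surjective (bc A B G (X⟦n⟧) (Y⟦n⟧)) ↔ Function.Surjective (bc A B G X Y) := by
  constructor
  · intro h f
    obtain ⟨t, ht⟩ := h ((G.commShiftIso n).hom.app X ≫ f⟦n⟧' ≫ (G.commShiftIso n).inv.app Y)
    obtain ⟨t, rfl⟩ := (lTensor_shiftLin_bijective A B X Y n).2 t
    rw [bc_shift, cancel_epi, cancel_mono] at ht
    exact ⟨t, (shiftFunctor 𝒟 n).map_injective ht⟩
  · intro h f
    obtain ⟨g, hg⟩ := (shiftFunctor 𝒟 n).map_surjective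
      ((G.commShiftIso n).inv.app X ≫ f ≫ (G.commShiftIso n).hom.app Y)
    obtain ⟨t, rfl⟩ := h g
    refine ⟨(shiftLin A X Y n).lTensor B t, ?_⟩
    rw [bc_shift, hg]
    simp

end Shift

section Triangle

variable (A : Type uA) (B : Type uB) [CommRing A] [CommRing B] [Algebra A B]
  {𝒞 : Type u₁} [Category.{v₁} 𝒞] [Preadditive 𝒞] [Linear A 𝒞] [HasShift 𝒞 ℤ]
  [∀ n : ℤ, (shiftFunctor 𝒞 n).Additive] [HasZeroObject 𝒞] [Pretriangulated 𝒞]
  {𝒟 : Type u₂} [Category.{v₂} 𝒟] [Preadditive 𝒟] [Linear B 𝒟] [HasShift 𝒟 ℤ]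
  [∀ n : ℤ, (shiftFunctor 𝒟 n).Additive] [HasZeroObject 𝒟] [Pretriangulated 𝒟]
  (G : 𝒞 ⥤ 𝒟) [G.Additive] [SemiLinear A B G] [G.CommShift ℤ] [G.IsTriangulated]

lemma exact_yo (T : Triangle 𝒞) (hT : T ∈ distTriang 𝒞) (K : 𝒞) :
    Function.Exact (Linear.leftComp A K T.mor₂) (Linear.leftComp A K T.mor₁) := by
  intro f
  constructor
  · intro hf
    obtain ⟨g, hg⟩ := Triangle.yoneda_exact₂ T hT f hf
    exact ⟨g, hg.symm⟩
  · rintro ⟨g, rfl⟩
    simp [comp_distTriang_mor_zero₁₂_assoc _ hT]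

lemma exact_coyo (T : Triangle 𝒞) (hT : T ∈ distTriang 𝒞) (X : 𝒞) :
    Function.Exact (Linear.rightComp A X T.mor₁) (Linear.rightComp A X T.mor₂) := by
  intro f
  constructor
  · intro hf
    obtain ⟨g, hg⟩ := Triangle.coyoneda_exact₂ T hT f hf
    exact ⟨g, hg.symm⟩
  · rintro ⟨g, rfl⟩
    simp [comp_distTriang_mor_zero₁₂ _ hT]

omit [Linear B 𝒟] [G.Additive] in
lemma exact_yo_map (T : Triangle 𝒞) (hT : T ∈ distTriang 𝒞) (L : 𝒟) :
    Function.Exact (Preadditive.leftComp L (G.map T.mor₂))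
      (Preadditive.leftComp L (G.map T.mor₁)) := by
  have hT' := G.map_distinguished _ hT
  intro f
  constructor
  · intro hf
    obtain ⟨g, hg⟩ := Triangle.yoneda_exact₂ _ hT' f hf
    exact ⟨g, hg.symm⟩
  · rintro ⟨g, rfl⟩
    change G.map T.mor₁ ≫ G.map T.mor₂ ≫ g = 0
    rw [← Functor.map_comp_assoc, comp_distTriang_mor_zero₁₂ _ hT, Functor.map_zero, zero_comp]

omit [Linear B 𝒟] [G.Additive] in
lemma exact_coyo_map (T : Triangle 𝒞) (hT : T ∈ distTriang 𝒞) (L : 𝒟) :
    Function.Exact (Preadditive.rightComp L (G.map T.mor₁))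
      (Preadditive.rightComp L (G.map T.mor₂)) := by
  have hT' := G.map_distinguished _ hT
  intro f
  constructor
  · intro hf
    obtain ⟨g, hg⟩ := Triangle.coyoneda_exact₂ _ hT' f hf
    exact ⟨g, hg.symm⟩
  · rintro ⟨g, rfl⟩
    change (g ≫ G.map T.mor₁) ≫ G.map T.mor₂ = 0
    rw [Category.assoc, ← Functor.map_comp, comp_distTriang_mor_zero₁₂ _ hT, Functor.map_zero,
      comp_zero]

variable [Module.Flat A B] {T : Triangle 𝒞} (hT : T ∈ distTriang 𝒞)

include hT in
/-- four lemma for the first variable: injectivity at the third vertex. -/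
lemma bc_injective₃ (K : 𝒞) (h₁ : Function.Surjective (bc A B G (T.obj₂⟦(1 : ℤ)⟧) K))
    (h₂ : Function.Injective (bc A B G (T.obj₁⟦(1 : ℤ)⟧) K))
    (h₃ : Function.Injective (bc A B G T.obj₂ K)) :
    Function.Injective (bc A B G T.obj₃ K) := by
  have hT₂ := rot_of_distTriang _ hT
  have hT₃ := rot_of_distTriang _ hT₂
  refine AddMonoidHom.injective_of_surjective_of_injective_of_injective
    ((Linear.leftComp A K T.rotate.mor₃).lTensor B).toAddMonoidHom
    ((Linear.leftComp A K T.mor₃).lTensor B).toAddMonoidHom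
    ((Linear.leftComp A K T.mor₂).lTensor B).toAddMonoidHom
    (Preadditive.leftComp (G.obj K) (G.map T.rotate.mor₃))
    (Preadditive.leftComp (G.obj K) (G.map T.mor₃))
    (Preadditive.leftComp (G.obj K) (G.map T.mor₂))
    (bc A B G (T.obj₂⟦(1 : ℤ)⟧) K) (bc A B G (T.obj₁⟦(1 : ℤ)⟧) K)
    (bc A B G T.obj₃ K) (bc A B G T.obj₂ K) ?_ ?_ ?_ ?_ ?_ ?_ h₁ h₂ h₃
  · ext t; exact (bc_precomp A B G _ t).symm
  · ext t; exact (bc_precomp A B G _ t).symm
  · ext t; exact (bc_precomp A B G _ t).symm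
  · exact Module.Flat.lTensor_exact B (exact_yo A _ hT₃ K)
  · exact Module.Flat.lTensor_exact B (exact_yo A _ hT₂ K)
  · exact exact_yo_map G _ hT₃ (G.obj K)

include hT in
/-- four lemma for the first variable: surjectivity at the third vertex. -/
lemma bc_surjective₃ (K : 𝒞) (h₁ : Function.Surjective (bc A B G (T.obj₁⟦(1 : ℤ)⟧) K))
    (h₂ : Function.Surjective (bc A B G T.obj₂ K))
    (h₃ : Function.Injective (bc A B G T.obj₁ K)) :
    Function.Surjective (bc A B G T.obj₃ K) := by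
  have hT₂ := rot_of_distTriang _ hT
  refine AddMonoidHom.surjective_of_surjective_of_surjective_of_injective
    ((Linear.leftComp A K T.mor₃).lTensor B).toAddMonoidHom
    ((Linear.leftComp A K T.mor₂).lTensor B).toAddMonoidHom
    ((Linear.leftComp A K T.mor₁).lTensor B).toAddMonoidHom
    (Preadditive.leftComp (G.obj K) (G.map T.mor₃))
    (Preadditive.leftComp (G.obj K) (G.map T.mor₂))
    (Preadditive.leftComp (G.obj K) (G.map T.mor₁))
    (bc A B G (T.obj₁⟦(1 : ℤ)⟧) K)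
    (bc A B G T.obj₃ K) (bc A B G T.obj₂ K) (bc A B G T.obj₁ K) ?_ ?_ ?_ ?_ ?_ ?_ h₁ h₂ h₃
  · ext t; exact (bc_precomp A B G _ t).symm
  · ext t; exact (bc_precomp A B G _ t).symm
  · ext t; exact (bc_precomp A B G _ t).symm
  · exact Module.Flat.lTensor_exact B (exact_yo A _ hT K)
  · exact exact_yo_map G _ hT₂ (G.obj K)
  · exact exact_yo_map G _ hT (G.obj K)

include hT in
/-- four lemma for the second variable: injectivity at the third vertex. -/
lemma bc_injective₃' (X : 𝒞) (h₁ : Function.Surjective (bc A B G X T.obj₁))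
    (h₂ : Function.Injective (bc A B G X T.obj₂))
    (h₃ : Function.Injective (bc A B G X (T.obj₁⟦(1 : ℤ)⟧))) :
    Function.Injective (bc A B G X T.obj₃) := by
  have hT₂ := rot_of_distTriang _ hT
  refine AddMonoidHom.injective_of_surjective_of_injective_of_injective
    ((Linear.rightComp A X T.mor₁).lTensor B).toAddMonoidHom
    ((Linear.rightComp A X T.mor₂).lTensor B).toAddMonoidHom
    ((Linear.rightComp A X T.mor₃).lTensor B).toAddMonoidHom
    (Preadditive.rightComp (G.obj X) (G.map T.mor₁))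
    (Preadditive.rightComp (G.obj X) (G.map T.mor₂))
    (Preadditive.rightComp (G.obj X) (G.map T.mor₃))
    (bc A B G X T.obj₁) (bc A B G X T.obj₂)
    (bc A B G X T.obj₃) (bc A B G X (T.obj₁⟦(1 : ℤ)⟧)) ?_ ?_ ?_ ?_ ?_ ?_ h₁ h₂ h₃
  · ext t; exact (bc_postcomp A B G _ t).symm
  · ext t; exact (bc_postcomp A B G _ t).symm
  · ext t; exact (bc_postcomp A B G _ t).symm
  · exact Module.Flat.lTensor_exact B (exact_coyo A _ hT X)
  · exact Module.Flat.lTensor_exact B (exact_coyo A _ hT₂ X)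
  · exact exact_coyo_map G _ hT (G.obj X)

include hT in
/-- four lemma for the second variable: surjectivity at the third vertex. -/
lemma bc_surjective₃' (X : 𝒞) (h₁ : Function.Surjective (bc A B G X T.obj₂))
    (h₂ : Function.Surjective (bc A B G X (T.obj₁⟦(1 : ℤ)⟧)))
    (h₃ : Function.Injective (bc A B G X (T.obj₂⟦(1 : ℤ)⟧))) :
    Function.Surjective (bc A B G X T.obj₃) := by
  have hT₂ := rot_of_distTriang _ hT
  have hT₃ := rot_of_distTriang _ hT₂
  refine AddMonoidHom.surjective_of_surjective_of_surjective_of_injective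
    ((Linear.rightComp A X T.mor₂).lTensor B).toAddMonoidHom
    ((Linear.rightComp A X T.mor₃).lTensor B).toAddMonoidHom
    ((Linear.rightComp A X T.rotate.mor₃).lTensor B).toAddMonoidHom
    (Preadditive.rightComp (G.obj X) (G.map T.mor₂))
    (Preadditive.rightComp (G.obj X) (G.map T.mor₃))
    (Preadditive.rightComp (G.obj X) (G.map T.rotate.mor₃))
    (bc A B G X T.obj₂)
    (bc A B G X T.obj₃) (bc A B G X (T.obj₁⟦(1 : ℤ)⟧)) (bc A B G X (T.obj₂⟦(1 : ℤ)⟧))
    ?_ ?_ ?_ ?_ ?_ ?_ h₁ h₂ h₃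
  · ext t; exact (bc_postcomp A B G _ t).symm
  · ext t; exact (bc_postcomp A B G _ t).symm
  · ext t; exact (bc_postcomp A B G _ t).symm
  · exact Module.Flat.lTensor_exact B (exact_coyo A _ hT₃ X)
  · exact exact_coyo_map G _ hT₂ (G.obj X)
  · exact exact_coyo_map G _ hT₃ (G.obj X)

end Triangle

end Groth.Agent.LoccohB.HomBC
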