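import Groth.Agent.LoccohB.DBase3
import Groth.Agent.LoccohB.HomBCAbs
import Mathlib.Algebra.Category.ModuleCat.Descent
import Mathlib.Algebra.Category.ModuleCat.ChangeOfRingsExact
import Mathlib.CategoryTheory.Functor.Derived.PointwiseLeftDerived

/-!
# Flat base change on D(A)

* `flatBC φ h : D(A) ⥤ D(B)` termwise extension of scalars, for `φ` flat.
* `LBaseChangeIso φ h : DRing.LBaseChange φ ≅ flatBC φ h`.
* it is semilinear, `H^n(K ⊗ B) = H^n(K) ⊗ B`.
* the comparison map is bijective for `X = A[-n]`.
-/

set_option autoImplicit false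
universe w v u

open CategoryTheory CategoryTheory.Limits Opposite Pretriangulated
open scoped TensorProduct

attribute [local instance] HasDerivedCategory.standard

namespace Groth.Agent.LoccohB.FlatLBC

open DerivedCategory Groth.Agent.LoccohB.DBase Groth.Agent.LoccohB.HomBC

variable {A B : Type u} [CommRing A] [CommRing B] (φ : A →+* B)

section Semi

universe w₁ w₂ v₁ v₂ u₁ u₂ uA uB

variable {A' : Type uA} {B' : Type uB} [CommRing A'] [CommRing B'] [Algebra A' B']
  {C₁ : Type u₁} [Category.{v₁} C₁] [Abelian C₁] [Linear A' C₁] [HasDerivedCategory.{w₁} C₁]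
  {C₂ : Type u₂} [Category.{v₂} C₂] [Abelian C₂] [Linear B' C₂] [HasDerivedCategory.{w₂} C₂]
  (F : C₁ ⥤ C₂) [F.Additive] [PreservesFiniteLimits F] [PreservesFiniteColimits F]

lemma semiLinear_of_id {C D : Type*} [Category* C] [Category* D] [Preadditive C] [Preadditive D]
    [Linear A' C] [Linear B' D] (G : C ⥤ D)
    (h : ∀ (X : C) (a : A'), G.map (a • 𝟙 X) = algebraMap A' B' a • 𝟙 (G.obj X)) :
    SemiLinear A' B' G where
  map_smul' {X Y} a f := by
    have : a • f = (a • 𝟙 X) ≫ f := by simp
    rw [this, G.map_comp, h, Linear.smul_comp, Category.id_comp]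

set_option backward.isDefEq.respectTransparency false in
lemma semiLinear_mapDerivedCategory [SemiLinear A' B' F] :
    SemiLinear A' B' F.mapDerivedCategory := by
  apply semiLinear_of_id
  intro X a
  obtain ⟨L, ⟨e⟩⟩ : ∃ L : CochainComplex C₁ ℤ, Nonempty (Q.obj L ≅ X) :=
    ⟨_, ⟨Q.objObjPreimageIso X⟩⟩
  have h1 : a • 𝟙 X = e.inv ≫ Q.map (a • 𝟙 L) ≫ e.hom := by
    rw [Functor.map_smul]
    simp
  have h2 : (F.mapHomologicalComplex (ComplexShape.up ℤ)).map (a • 𝟙 L) =
      algebraMap A' B' a • 𝟙 _ := by
    ext n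
    refine (semi_map_smul A' B' F a (𝟙 (L.X n))).trans ?_
    rw [F.map_id]
    rfl
  have h3 : F.mapDerivedCategory.map (Q.map (a • 𝟙 L)) = algebraMap A' B' a • 𝟙 _ := by
    rw [← cancel_mono (F.mapDerivedCategoryFactors.hom.app L)]
    erw [F.mapDerivedCategoryFactors.hom.naturality (a • 𝟙 L)]
    simp only [Functor.comp_map]
    rw [h2, Functor.map_smul, CategoryTheory.Functor.map_id]
    erw [Linear.comp_smul, Linear.smul_comp, Category.comp_id, Category.id_comp]
  rw [h1, Functor.map_comp, Functor.map_comp, h3, Linear.smul_comp, Linear.comp_smul,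
    Category.id_comp, ← Functor.map_comp, Iso.inv_hom_id, CategoryTheory.Functor.map_id]

end Semi

section

variable (hφ : φ.Flat)

/-- Termwise extension of scalars along a flat ring map. -/
noncomputable def flatBC : Dual.D A ⥤ Dual.D B :=
  haveI := ModuleCat.preservesFiniteLimits_extendScalars_of_flat hφ
  (ModuleCat.extendScalars.{u, u, u} φ).mapDerivedCategory

noncomputable instance : (flatBC φ hφ).CommShift ℤ :=
  haveI := ModuleCat.preservesFiniteLimits_extendScalars_of_flat hφ
  inferInstanceAs (((ModuleCat.extendScalars.{u, u, u} φ).mapDerivedCategory).CommShift ℤ)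

instance : (flatBC φ hφ).IsTriangulated :=
  haveI := ModuleCat.preservesFiniteLimits_extendScalars_of_flat hφ
  inferInstanceAs (((ModuleCat.extendScalars.{u, u, u} φ).mapDerivedCategory).IsTriangulated)

instance : (flatBC φ hφ).Additive := inferInstance

/-- For flat `φ` derived base change is termwise extension of scalars. -/
noncomputable def LBaseChangeIso [DRing.HasLBaseChange φ] : DRing.LBaseChange φ ≅ flatBC φ hφ :=
  haveI := ModuleCat.preservesFiniteLimits_extendScalars_of_flat hφ
  haveI : ((ModuleCat.extendScalars.{u, u, u} φ).mapDerivedCategory).IsLeftDerivedFunctor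
      (ModuleCat.extendScalars.{u, u, u} φ).mapDerivedCategoryFactorsh.hom
      (HomotopyCategory.quasiIso (ModuleCat.{u} A) (ComplexShape.up ℤ)) :=
    Functor.isLeftDerivedFunctor_of_inverts _ _ _
  Functor.leftDerivedUnique
    (ModuleCat.extendScalars.{u, u, u} φ).mapDerivedCategory (DRing.LBaseChange φ)
    ((DRing.baseChangeKh φ).totalLeftDerivedCounit DerivedCategory.Qh
      (HomotopyCategory.quasiIso (ModuleCat.{u} A) (ComplexShape.up ℤ)))
    (ModuleCat.extendScalars.{u, u, u} φ).mapDerivedCategoryFactorsh.hom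
    (HomotopyCategory.quasiIso (ModuleCat.{u} A) (ComplexShape.up ℤ))

/-- `(M ⊗ B)[-n] = M[-n] ⊗ B`. -/
noncomputable def flatBCSingle (n : ℤ) :
    singleFunctor (ModuleCat.{u} A) n ⋙ flatBC φ hφ ≅
      ModuleCat.extendScalars.{u, u, u} φ ⋙ singleFunctor (ModuleCat.{u} B) n :=
  haveI := ModuleCat.preservesFiniteLimits_extendScalars_of_flat hφ
  (ModuleCat.extendScalars.{u, u, u} φ).mapDerivedCategorySingleFunctor n

/-- `H^n(K ⊗ B) = H^n(K) ⊗ B`. -/
noncomputable def flatBCHomology (n : ℤ) :
    flatBC φ hφ ⋙ homologyFunctor (ModuleCat.{u} B) n ≅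
      homologyFunctor (ModuleCat.{u} A) n ⋙ ModuleCat.extendScalars.{u, u, u} φ :=
  haveI := ModuleCat.preservesFiniteLimits_extendScalars_of_flat hφ
  mapDerivedCategoryHomologyIso (ModuleCat.extendScalars.{u, u, u} φ) n

end

section

variable (A B) [Algebra A B]

instance semiLinear_extendScalars :
    SemiLinear A B (ModuleCat.extendScalars.{u, u, u} (algebraMap A B)) := by
  apply semiLinear_of_id
  intro M a
  ext x
  let _ := (algebraMap A B).toAlgebra
  change (1 : B) ⊗ₜ[A] (a • (x : M)) = algebraMap A B a • ((1 : B) ⊗ₜ[A] (x : M))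
  rw [TensorProduct.tmul_smul]
  rfl

instance semiLinear_flatBC (h : (algebraMap A B).Flat) :
    SemiLinear A B (flatBC (algebraMap A B) h) :=
  haveI := ModuleCat.preservesFiniteLimits_extendScalars_of_flat h
  semiLinear_mapDerivedCategory (ModuleCat.extendScalars.{u, u, u} (algebraMap A B))

open scoped ChangeOfRings

set_option backward.isDefEq.respectTransparency false in
/-- `B ⊗_A M` is the extension of scalars of `M`. -/
noncomputable def extEquiv (M : ModuleCat.{u} A) :
    B ⊗[A] M ≃ₗ[B] (ModuleCat.extendScalars.{u, u, u} (algebraMap A B)).obj M :=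
  let e₁ : B ≃ₗ[A] ((ModuleCat.restrictScalars (algebraMap A B)).obj (ModuleCat.of B B)) :=
    { toFun := fun b => b
      invFun := fun b => b
      left_inv := fun _ => rfl
      right_inv := fun _ => rfl
      map_add' := fun _ _ => rfl
      map_smul' := fun a b => by rw [Algebra.smul_def]; rfl }
  let e₂ := TensorProduct.congr e₁ (LinearEquiv.refl A M)
  { toFun := fun t => e₂ t
    invFun := fun t => e₂.symm t
    left_inv := e₂.left_inv
    right_inv := e₂.right_inv
    map_add' := e₂.map_add
    map_smul' := fun b t => by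
      induction t using TensorProduct.induction_on with
      | zero => rw [smul_zero, map_zero, smul_zero]
      | tmul b' m => rfl
      | add x y hx hy =>
        rw [smul_add, map_add, hx, hy, map_add, smul_add] }

lemma extEquiv_tmul (M : ModuleCat.{u} A) (b : B) (m : M) :
    extEquiv A B M (b ⊗ₜ m) = b ⊗ₜ[A, algebraMap A B] m := rfl

end

end Groth.Agent.LoccohB.FlatLBC
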