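import Groth.Agent.LoccohB.LBC
import Mathlib.CategoryTheory.Triangulated.Adjunction
import Mathlib.CategoryTheory.Adjunction.Unique

/-!
# Derived base change, continued

* `natIsoOfQ`, `mapDerComp`: natural isomorphisms out of a derived category, composites of exact functors.
* `restrictDComp`, `restrictDId`, `restrictDCongr`.
* `lbcComp`, `lbcId`: base change along composites and identities.
* `lbcQIso φ P`: value on K-projective complexes; `lbcSingleIso`: on projective modules; `lbcSelfIso`.
* semilinearity of `restrictD`, `LBaseChange`, and of right adjoints of `restrictD`.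
* shift compatibility / triangulatedness of `LBaseChange` (scoped instances) and of right adjoints.
-/

set_option autoImplicit false

universe u v w

open CategoryTheory CategoryTheory.Limits CategoryTheory.Functor

attribute [local instance] HasDerivedCategory.standard

namespace Groth.Agent.LoccohB.LBC

open DerivedCategory

section MapDer

variable {C₁ : Type*} [Category* C₁] [Abelian C₁] [HasDerivedCategory C₁]
  {C₂ : Type*} [Category* C₂] [Abelian C₂] [HasDerivedCategory C₂]
  {C₃ : Type*} [Category* C₃] [Abelian C₃] [HasDerivedCategory C₃]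
  {E : Type*} [Category* E]

/-- A natural isomorphism of functors out of the derived category, from one on complexes. -/
noncomputable def natIsoOfQ {F G : DerivedCategory C₁ ⥤ E} (e : Q ⋙ F ≅ Q ⋙ G) : F ≅ G :=
  Localization.liftNatIso Q (HomologicalComplex.quasiIso C₁ (ComplexShape.up ℤ)) (Q ⋙ F) (Q ⋙ G)
    F G e

/-- A natural transformation of functors out of the derived category, from one on complexes. -/
noncomputable def natTransOfQ {F G : DerivedCategory C₁ ⥤ E} (e : Q ⋙ F ⟶ Q ⋙ G) : F ⟶ G :=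
  Localization.liftNatTrans Q (HomologicalComplex.quasiIso C₁ (ComplexShape.up ℤ)) (Q ⋙ F) (Q ⋙ G)
    F G e

@[simp]
lemma natTransOfQ_app {F G : DerivedCategory C₁ ⥤ E} (e : Q ⋙ F ⟶ Q ⋙ G)
    (K : CochainComplex C₁ ℤ) : (natTransOfQ e).app (Q.obj K) = e.app K := by
  dsimp only [natTransOfQ]
  rw [Localization.liftNatTrans_app]
  change 𝟙 _ ≫ e.app K ≫ 𝟙 _ = e.app K
  rw [Category.id_comp, Category.comp_id]

@[simp]
lemma natIsoOfQ_hom_app {F G : DerivedCategory C₁ ⥤ E} (e : Q ⋙ F ≅ Q ⋙ G)
    (K : CochainComplex C₁ ℤ) : (natIsoOfQ e).hom.app (Q.obj K) = e.hom.app K :=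
  natTransOfQ_app e.hom K

@[simp]
lemma natIsoOfQ_inv_app {F G : DerivedCategory C₁ ⥤ E} (e : Q ⋙ F ≅ Q ⋙ G)
    (K : CochainComplex C₁ ℤ) : (natIsoOfQ e).inv.app (Q.obj K) = e.inv.app K :=
  natTransOfQ_app e.inv K

variable (F : C₁ ⥤ C₂) (G : C₂ ⥤ C₃) (H : C₁ ⥤ C₃)
  [F.Additive] [PreservesFiniteLimits F] [PreservesFiniteColimits F]
  [G.Additive] [PreservesFiniteLimits G] [PreservesFiniteColimits G]
  [H.Additive] [PreservesFiniteLimits H] [PreservesFiniteColimits H]

/-- The derived functor of a composite of exact functors. -/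
noncomputable def mapDerComp (e : F ⋙ G ≅ H) :
    F.mapDerivedCategory ⋙ G.mapDerivedCategory ≅ H.mapDerivedCategory :=
  natIsoOfQ ((Functor.associator _ _ _).symm ≪≫
    isoWhiskerRight F.mapDerivedCategoryFactors G.mapDerivedCategory ≪≫
    Functor.associator _ _ _ ≪≫
    isoWhiskerLeft _ G.mapDerivedCategoryFactors ≪≫
    (Functor.associator _ _ _).symm ≪≫
    isoWhiskerRight (Functor.mapHomologicalComplexCompIso e (ComplexShape.up ℤ)) Q ≪≫
    H.mapDerivedCategoryFactors.symm)

/-- Isomorphic exact functors have isomorphic derived functors. -/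
noncomputable def mapDerIso {F F' : C₁ ⥤ C₂}
    [F.Additive] [PreservesFiniteLimits F] [PreservesFiniteColimits F]
    [F'.Additive] [PreservesFiniteLimits F'] [PreservesFiniteColimits F'] (e : F ≅ F') :
    F.mapDerivedCategory ≅ F'.mapDerivedCategory :=
  natIsoOfQ (F.mapDerivedCategoryFactors ≪≫
    isoWhiskerRight (NatIso.mapHomologicalComplex e (ComplexShape.up ℤ)) Q ≪≫
    F'.mapDerivedCategoryFactors.symm)

/-- The derived functor of (a functor isomorphic to) the identity. -/
noncomputable def mapDerId {F : C₁ ⥤ C₁}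
    [F.Additive] [PreservesFiniteLimits F] [PreservesFiniteColimits F] (e : F ≅ 𝟭 C₁) :
    F.mapDerivedCategory ≅ 𝟭 (DerivedCategory C₁) :=
  natIsoOfQ (F.mapDerivedCategoryFactors ≪≫
    isoWhiskerRight (NatIso.mapHomologicalComplex e (ComplexShape.up ℤ) ≪≫
      Functor.mapHomologicalComplexIdIso C₁ (ComplexShape.up ℤ)) Q ≪≫
    Functor.leftUnitor _ ≪≫ (Functor.rightUnitor _).symm)

end MapDer

section Restrict

variable {A B C : Type u} [CommRing A] [CommRing B] [CommRing C]

/-- `restrictD` of a composite. -/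
noncomputable def restrictDComp (φ : A →+* B) (ψ : B →+* C) (χ : A →+* C) (h : χ = ψ.comp φ) :
    DRing.restrictD ψ ⋙ DRing.restrictD φ ≅ DRing.restrictD χ :=
  mapDerComp _ _ _ (ModuleCat.restrictScalarsComp' φ ψ χ h).symm

/-- `restrictD` of the identity. -/
noncomputable def restrictDId (φ : A →+* A) (h : φ = RingHom.id A) :
    DRing.restrictD φ ≅ 𝟭 _ :=
  mapDerId (ModuleCat.restrictScalarsId' φ h)

/-- `restrictD` of equal maps. -/
noncomputable def restrictDCongr (φ ψ : A →+* B) (h : φ = ψ) :
    DRing.restrictD φ ≅ DRing.restrictD ψ :=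
  mapDerIso (ModuleCat.restrictScalarsCongr h)

end Restrict

section Comp

variable {A B C : Type u} [CommRing A] [CommRing B] [CommRing C]

/-- Base change along a composite. -/
noncomputable def lbcComp (φ : A →+* B) (ψ : B →+* C) (χ : A →+* C) (h : χ = ψ.comp φ)
    [DRing.HasLBaseChange φ] [DRing.HasLBaseChange ψ] [DRing.HasLBaseChange χ] :
    DRing.LBaseChange φ ⋙ DRing.LBaseChange ψ ≅ DRing.LBaseChange χ :=
  Adjunction.leftAdjointUniq
    (((lbcAdj φ).comp (lbcAdj ψ)).ofNatIsoRight (restrictDComp φ ψ χ h)) (lbcAdj χ)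

/-- Base change along the identity. -/
noncomputable def lbcId (φ : A →+* A) (h : φ = RingHom.id A) [DRing.HasLBaseChange φ] :
    DRing.LBaseChange φ ≅ 𝟭 _ :=
  Adjunction.leftAdjointUniq ((lbcAdj φ).ofNatIsoRight (restrictDId φ h)) Adjunction.id

/-- Base change along equal maps. -/
noncomputable def lbcCongr (φ ψ : A →+* B) (h : φ = ψ) [DRing.HasLBaseChange φ]
    [DRing.HasLBaseChange ψ] :
    DRing.LBaseChange φ ≅ DRing.LBaseChange ψ :=
  Adjunction.leftAdjointUniq ((lbcAdj φ).ofNatIsoRight (restrictDCongr φ ψ h)) (lbcAdj ψ)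

end Comp

section Value

variable {A B : Type u} [CommRing A] [CommRing B] (φ : A →+* B) [DRing.HasLBaseChange φ]

/-- The natural map `LBC (Q K) ⟶ Q (K ⊗ B)` on complexes. -/
noncomputable def lbcQCounit : Q ⋙ DRing.LBaseChange φ ⟶
    (ModuleCat.extendScalars.{u, u, u} φ).mapHomologicalComplex (ComplexShape.up ℤ) ⋙ Q :=
  whiskerRight (quotientCompQhIso (ModuleCat.{u} A)).inv (DRing.LBaseChange φ) ≫
    (Functor.associator _ _ _).hom ≫
    whiskerLeft (HomotopyCategory.quotient (ModuleCat.{u} A) (ComplexShape.up ℤ)) (lbcCounit φ) ≫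
    (Functor.associator _ _ _).inv ≫
    whiskerRight ((ModuleCat.extendScalars.{u, u, u} φ).mapHomotopyCategoryFactors
      (ComplexShape.up ℤ)).hom Qh ≫ (Functor.associator _ _ _).hom ≫
    whiskerLeft _ (quotientCompQhIso (ModuleCat.{u} B)).hom

instance isIso_lbcQCounit_app (P : CochainComplex (ModuleCat.{u} A) ℤ) [P.IsKProjective] :
    IsIso ((lbcQCounit φ).app P) := by
  dsimp only [lbcQCounit, NatTrans.comp_app, whiskerRight_app, whiskerLeft_app,
    Functor.associator_hom_app, Functor.associator_inv_app]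
  infer_instance

/-- The value of derived base change on K-projective complexes. -/
noncomputable def lbcQIso (P : CochainComplex (ModuleCat.{u} A) ℤ) [P.IsKProjective] :
    (DRing.LBaseChange φ).obj (Q.obj P) ≅
      Q.obj (((ModuleCat.extendScalars.{u, u, u} φ).mapHomologicalComplex
        (ComplexShape.up ℤ)).obj P) :=
  asIso ((lbcQCounit φ).app P)

instance isKProjective_single (M : ModuleCat.{u} A) [Projective M] (n : ℤ) :
    ((CochainComplex.singleFunctor (ModuleCat.{u} A) n).obj M).IsKProjective := by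
  have : ∀ i : ℤ, Projective (((CochainComplex.singleFunctor (ModuleCat.{u} A) n).obj M).X i) := by
    intro i
    by_cases hi : i = n
    · subst hi
      exact Projective.of_iso (HomologicalComplex.singleObjXSelf (ComplexShape.up ℤ) i M).symm
        inferInstance
    · have h0 := HomologicalComplex.isZero_single_obj_X (ComplexShape.up ℤ) n M i hi
      exact Projective.of_iso h0.isoZero.symm inferInstance
  have : ((CochainComplex.singleFunctor (ModuleCat.{u} A) n).obj M).IsStrictlyLE n := by
    infer_instance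
  exact CochainComplex.isKProjective_of_projective _ n

/-- Base change of a projective module placed in degree `n`. -/
noncomputable def lbcSingleIso (M : ModuleCat.{u} A) [Projective M] (n : ℤ) :
    (DRing.LBaseChange φ).obj ((singleFunctor (ModuleCat.{u} A) n).obj M) ≅
      (singleFunctor (ModuleCat.{u} B) n).obj ((ModuleCat.extendScalars.{u, u, u} φ).obj M) :=
  (DRing.LBaseChange φ).mapIso ((singleFunctorIsoCompQ (ModuleCat.{u} A) n).app M) ≪≫
    lbcQIso φ ((CochainComplex.singleFunctor (ModuleCat.{u} A) n).obj M) ≪≫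
    Q.mapIso ((HomologicalComplex.singleMapHomologicalComplex
      (ModuleCat.extendScalars.{u, u, u} φ) (ComplexShape.up ℤ) n).app M) ≪≫
    ((singleFunctorIsoCompQ (ModuleCat.{u} B) n).app _).symm

end Value

section Self

variable {A B : Type u} [CommRing A] [CommRing B] (φ : A →+* B)

/-- `A ⟶ restrict B`, `a ↦ φ a`. -/
noncomputable def unitSelf : ModuleCat.of A A ⟶ (ModuleCat.restrictScalars.{u} φ).obj (ModuleCat.of B B) :=
  ModuleCat.ofHom (Y := (ModuleCat.restrictScalars.{u} φ).obj (ModuleCat.of B B))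
    { toFun := fun a => φ a
      map_add' := fun a b => φ.map_add a b
      map_smul' := fun a b => φ.map_mul a b }

/-- `b ↦ b • m` -/
noncomputable def spanMap (M : ModuleCat.{u} B) (m : M) : ModuleCat.of B B ⟶ M :=
  ModuleCat.ofHom (LinearMap.toSpanSingleton B M m)

lemma spanMap_one (M : ModuleCat.{u} B) (m : M) : (spanMap M m).hom (1 : B) = m := by
  simp [spanMap]

lemma spanMap_comp {M N : ModuleCat.{u} B} (m : M) (f : M ⟶ N) :
    spanMap M m ≫ f = spanMap N (f.hom m) := by
  apply ModuleCat.hom_ext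
  apply LinearMap.ext_ring
  rw [spanMap_one, ModuleCat.hom_comp, LinearMap.comp_apply, spanMap_one]

/-- the element `1 ⊗ 1`. -/
noncomputable def oneExt : ((ModuleCat.extendScalars.{u, u, u} φ).obj (ModuleCat.of A A) : ModuleCat.{u} B) :=
  ((ModuleCat.extendRestrictScalarsAdj.{u, u, u} φ).unit.app (ModuleCat.of A A)).hom (1 : A)

/-- `B ⊗ A ≅ B`. -/
noncomputable def extendSelfIso : (ModuleCat.extendScalars.{u, u, u} φ).obj (ModuleCat.of A A) ≅
    ModuleCat.of B B where
  hom := ((ModuleCat.extendRestrictScalarsAdj.{u, u, u} φ).homEquiv _ _).symm (unitSelf φ)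
  inv := spanMap _ (oneExt φ)
  hom_inv_id := by
    apply ((ModuleCat.extendRestrictScalarsAdj.{u, u, u} φ).homEquiv _ _).injective
    rw [Adjunction.homEquiv_naturality_right, Equiv.apply_symm_apply,
      Adjunction.homEquiv_id]
    apply ModuleCat.hom_ext
    apply LinearMap.ext_ring
    change (spanMap _ (oneExt φ)).hom (φ 1) = oneExt φ
    rw [map_one, spanMap_one]
  inv_hom_id := by
    rw [spanMap_comp]
    apply ModuleCat.hom_ext
    apply LinearMap.ext_ring
    rw [spanMap_one]
    have h1 := congrArg (fun t => t.hom (1 : A)) (((ModuleCat.extendRestrictScalarsAdj.{u, u, u} φ).homEquiv _ _).apply_symm_apply (unitSelf φ))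
    have h2 : (((ModuleCat.extendRestrictScalarsAdj.{u, u, u} φ).homEquiv _ _).symm (unitSelf φ)).hom
      (oneExt φ) = φ 1 := h1
    rw [h2, map_one]
    rfl

/-- `LBC (A[n]) ≅ B[n]` (placed in degree `n`). -/
noncomputable def lbcSelfIso [DRing.HasLBaseChange φ] (n : ℤ) :
    (DRing.LBaseChange φ).obj ((singleFunctor (ModuleCat.{u} A) n).obj (ModuleCat.of A A)) ≅
      (singleFunctor (ModuleCat.{u} B) n).obj (ModuleCat.of B B) :=
  haveI : Projective (ModuleCat.of A A) :=
    (IsProjective.iff_projective (ModuleCat.of A A)).1 inferInstance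
  lbcSingleIso φ (ModuleCat.of A A) n ≪≫ (singleFunctor (ModuleCat.{u} B) n).mapIso (extendSelfIso φ)

end Self

section Shift

variable {A B : Type u} [CommRing A] [CommRing B] (φ : A →+* B) [DRing.HasLBaseChange φ]

instance lbc_additive : (DRing.LBaseChange φ).Additive := (lbcAdj φ).left_adjoint_additive

/-- `LBaseChange` commutes with shifts (structure transported from `restrictD`). -/
noncomputable scoped instance lbcCommShift : (DRing.LBaseChange φ).CommShift ℤ :=
  (lbcAdj φ).leftAdjointCommShift ℤ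

scoped instance lbcAdj_commShift : (lbcAdj φ).CommShift ℤ :=
  (lbcAdj φ).commShift_of_rightAdjoint ℤ

scoped instance lbc_isTriangulated : (DRing.LBaseChange φ).IsTriangulated :=
  (lbcAdj φ).isTriangulated_leftAdjoint

/-- `LBC (K[n]) ≅ (LBC K)[n]`. -/
noncomputable def lbcShiftIso (K : Dual.D A) (n : ℤ) :
    (DRing.LBaseChange φ).obj (K⟦n⟧) ≅ ((DRing.LBaseChange φ).obj K)⟦n⟧ :=
  ((DRing.LBaseChange φ).commShiftIso n).app K

instance lbc_isLeftAdjoint : (DRing.LBaseChange φ).IsLeftAdjoint := (lbcAdj φ).isLeftAdjoint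

omit [DRing.HasLBaseChange φ] in
/-- A right adjoint of restriction commutes with shifts. -/
theorem radj_shift {R : Dual.D A ⥤ Dual.D B} (adj : DRing.restrictD φ ⊣ R) (K : Dual.D A) (n : ℤ) :
    Nonempty (R.obj (K⟦n⟧) ≅ (R.obj K)⟦n⟧) := by
  let _ := adj.rightAdjointCommShift ℤ
  exact ⟨(R.commShiftIso n).app K⟩

omit [DRing.HasLBaseChange φ] in
/-- Right adjoints of restriction are unique. -/
theorem radj_unique {R R' : Dual.D A ⥤ Dual.D B} (adj : DRing.restrictD φ ⊣ R)
    (adj' : DRing.restrictD φ ⊣ R') : Nonempty (R ≅ R') :=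
  ⟨Adjunction.rightAdjointUniq adj adj'⟩

end Shift

section Linear

variable {A B : Type u} [CommRing A] [CommRing B] (φ : A →+* B)

lemma restrictD_map_smul_id (a : A) (K : Dual.D B) :
    (DRing.restrictD φ).map ((φ a) • 𝟙 K) = a • 𝟙 ((DRing.restrictD φ).obj K) := by
  obtain ⟨L, ⟨e⟩⟩ : ∃ L, Nonempty (Q.obj L ≅ K) := ⟨_, ⟨Q.objObjPreimageIso K⟩⟩
  have h1 : (φ a) • 𝟙 (Q.obj L) = Q.map ((φ a) • 𝟙 L) := by
    rw [Functor.map_smul, CategoryTheory.Functor.map_id]
  have h2 : (DRing.restrictD φ).map ((φ a) • 𝟙 (Q.obj L)) =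
      a • 𝟙 ((DRing.restrictD φ).obj (Q.obj L)) := by
    rw [h1]
    have h3 := (ModuleCat.restrictScalars.{u} φ).mapDerivedCategoryFactors_hom_naturality
      ((φ a) • 𝟙 L)
    have h4 : ((ModuleCat.restrictScalars.{u} φ).mapHomologicalComplex (ComplexShape.up ℤ)).map
        ((φ a) • 𝟙 L) = a • 𝟙 _ := by
      ext i x
      rfl
    have h6 : Q.map (a • 𝟙 (((ModuleCat.restrictScalars.{u} φ).mapHomologicalComplex
        (ComplexShape.up ℤ)).obj L)) = a • 𝟙 _ := by
      rw [Functor.map_smul, CategoryTheory.Functor.map_id]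
    rw [h4, h6] at h3
    rw [← cancel_mono ((ModuleCat.restrictScalars.{u} φ).mapDerivedCategoryFactors.hom.app L), h3]
    rw [Linear.comp_smul, Linear.smul_comp]
    congr 1
    exact (Category.comp_id _).trans (Category.id_comp _).symm
  have h5 : (φ a) • 𝟙 K = e.inv ≫ ((φ a) • 𝟙 (Q.obj L)) ≫ e.hom := by
    rw [Linear.smul_comp, Linear.comp_smul, Category.id_comp, e.inv_hom_id]
  rw [h5, Functor.map_comp, Functor.map_comp, h2, Linear.smul_comp, Linear.comp_smul,
    Category.id_comp, ← Functor.map_comp, e.inv_hom_id, CategoryTheory.Functor.map_id]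

lemma restrictD_map_smul (a : A) {K L : Dual.D B} (f : K ⟶ L) :
    (DRing.restrictD φ).map ((φ a) • f) = a • (DRing.restrictD φ).map f := by
  have h : (φ a) • f = f ≫ ((φ a) • 𝟙 L) := by rw [Linear.comp_smul, Category.comp_id]
  rw [h, Functor.map_comp, restrictD_map_smul_id, Linear.comp_smul, Category.comp_id]

lemma lbc_map_smul [DRing.HasLBaseChange φ] (a : A) {K L : Dual.D A} (f : K ⟶ L) :
    (DRing.LBaseChange φ).map (a • f) = (φ a) • (DRing.LBaseChange φ).map f := by
  apply ((lbcAdj φ).homEquiv _ _).injective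
  rw [Adjunction.homEquiv_unit, Adjunction.homEquiv_unit, restrictD_map_smul,
    Adjunction.unit_naturality, Linear.comp_smul, Adjunction.unit_naturality, Linear.smul_comp]

lemma radj_map_smul {R : Dual.D A ⥤ Dual.D B} (adj : DRing.restrictD φ ⊣ R) (a : A)
    {K L : Dual.D A} (f : K ⟶ L) : R.map (a • f) = (φ a) • R.map f := by
  apply (adj.homEquiv _ _).symm.injective
  rw [Adjunction.homEquiv_counit, Adjunction.homEquiv_counit, restrictD_map_smul,
    Adjunction.counit_naturality, Linear.smul_comp, Adjunction.counit_naturality, Linear.comp_smul]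

/-- The adjunction bijection is semilinear. -/
lemma lbc_homEquiv_smul [DRing.HasLBaseChange φ] (a : A) {K : Dual.D A} {L : Dual.D B}
    (f : (DRing.LBaseChange φ).obj K ⟶ L) :
    (lbcAdj φ).homEquiv _ _ ((φ a) • f) = a • (lbcAdj φ).homEquiv _ _ f := by
  rw [Adjunction.homEquiv_unit, Adjunction.homEquiv_unit, restrictD_map_smul, Linear.comp_smul]

/-- The adjunction bijection is semilinear. -/
lemma radj_homEquiv_smul {R : Dual.D A ⥤ Dual.D B} (adj : DRing.restrictD φ ⊣ R) (a : A)
    {K : Dual.D B} {L : Dual.D A} (f : (DRing.restrictD φ).obj K ⟶ L) :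
    adj.homEquiv _ _ (a • f) = (φ a) • adj.homEquiv _ _ f := by
  rw [Adjunction.homEquiv_unit, Adjunction.homEquiv_unit, radj_map_smul φ adj, Linear.comp_smul]

end Linear

end Groth.Agent.LoccohB.LBC
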