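import Mathlib.CategoryTheory.Functor.Derived.PointwiseLeftDerived
import Mathlib.CategoryTheory.Functor.Derived.PointwiseRightDerived

/-!
# Abstract criteria for (pointwise) derived functors

`L : C ⥤ D` a localization functor for `W`, and a class of good objects `P` (K-projectives, resp.
K-injectives) such that `L.map : (P ⟶ Y) → (L.obj P ⟶ L.obj Y)` is surjective.
-/

set_option autoImplicit false

universe v₁ v₂ v₃ u₁ u₂ u₃

open CategoryTheory Limits

namespace Groth.Agent.LoccohB.DerAbs

variable {C : Type u₁} {D : Type u₂} {H : Type u₃}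
  [Category.{v₁} C] [Category.{v₂} D] [Category.{v₃} H]
  (L : C ⥤ D) (F : C ⥤ H) (W : MorphismProperty C)

section Left

/-- All maps out of `L.obj P` to objects `L.obj Y` lift. -/
def LiftsFrom (P : C) : Prop := ∀ ⦃Y : C⦄ (f : L.obj P ⟶ L.obj Y), ∃ g : P ⟶ Y, L.map g = f

/-- `F` identifies maps out of `P` which are identified by `L`. -/
def IdentFrom (P : C) : Prop := ∀ ⦃Y : C⦄ (f g : P ⟶ Y), L.map f = L.map g → F.map f = F.map g

variable {L F}

/-- a chosen lift -/
noncomputable def LiftsFrom.lift {P : C} (hP : LiftsFrom L P) {Y : C} (f : L.obj P ⟶ L.obj Y) :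
    P ⟶ Y := (hP f).choose

@[simp]
lemma LiftsFrom.map_lift {P : C} (hP : LiftsFrom L P) {Y : C} (f : L.obj P ⟶ L.obj Y) :
    L.map (hP.lift f) = f := (hP f).choose_spec

/-- If `α.app P` is an isomorphism and all maps from `L.obj P` lift, then `(G, α)` is a pointwise
right Kan extension at `L.obj P`. -/
noncomputable def isPointwiseAt {G : D ⥤ H} (α : L ⋙ G ⟶ F) {P : C} (hP : LiftsFrom L P)
    [hα : IsIso (α.app P)] :
    (Functor.RightExtension.mk _ α).IsPointwiseRightKanExtensionAt (L.obj P) :=
  let e : G.obj (L.obj P) ≅ F.obj P := @asIso _ _ _ _ (α.app P) hα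
  { lift s := s.π.app (StructuredArrow.mk (𝟙 (L.obj P))) ≫ e.inv
    fac s j := by
      obtain ⟨g, hg⟩ := hP j.hom
      have h1 : 𝟙 _ ≫ s.π.app j = s.π.app (StructuredArrow.mk (𝟙 (L.obj P))) ≫ F.map g :=
        s.π.naturality (StructuredArrow.homMk g (by simpa using hg) :
          StructuredArrow.mk (𝟙 (L.obj P)) ⟶ j)
      have h2 : G.map (L.map g) ≫ α.app j.right = e.hom ≫ F.map g := α.naturality g
      rw [hg] at h2
      have h3 : e.inv ≫ G.map j.hom ≫ α.app j.right = F.map g := by
        rw [h2, Iso.inv_hom_id_assoc]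
      refine Eq.trans ?_ ((congrArg (s.π.app (StructuredArrow.mk (𝟙 (L.obj P))) ≫ ·) h3).trans
        (h1.symm.trans (Category.id_comp _)))
      exact Category.assoc _ _ _
    uniq s m hm := by
      have h1 : m ≫ G.map (𝟙 (L.obj P)) ≫ e.hom = s.π.app (StructuredArrow.mk (𝟙 (L.obj P))) :=
        hm (StructuredArrow.mk (𝟙 (L.obj P)))
      rw [G.map_id] at h1
      have h2 : m ≫ e.hom = s.π.app (StructuredArrow.mk (𝟙 (L.obj P))) :=
        (congrArg (m ≫ ·) (Category.id_comp e.hom).symm).trans h1
      exact (Iso.eq_comp_inv e).2 h2 }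

variable (L F) in
lemma identFrom_of_isIso {G : D ⥤ H} (α : L ⋙ G ⟶ F) (P : C) [IsIso (α.app P)] :
    IdentFrom L F P := by
  intro Y f g h
  rw [← cancel_epi (α.app P), ← α.naturality, ← α.naturality, Functor.comp_map, h,
    Functor.comp_map]

variable (L) in
/-- Criterion: `(G, α)` is a left derived functor if `α` is an isomorphism on good objects. -/
theorem isLeftDerivedFunctor_of_isIso [L.IsLocalization W] {G : D ⥤ H} (α : L ⋙ G ⟶ F)
    (h : ∀ X : C, ∃ (P : C) (w : P ⟶ X), W w ∧ LiftsFrom L P ∧ IsIso (α.app P)) :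
    G.IsLeftDerivedFunctor α W ∧ F.HasPointwiseLeftDerivedFunctor W := by
  have key : (Functor.RightExtension.mk _ α).IsPointwiseRightKanExtension := by
    intro Y
    have := Localization.essSurj L W
    let X := L.objPreimage Y
    let P := (h X).choose
    let w : P ⟶ X := (h X).choose_spec.choose
    have hw : W w := (h X).choose_spec.choose_spec.1
    have hP : LiftsFrom L P := (h X).choose_spec.choose_spec.2.1
    have : IsIso (α.app P) := (h X).choose_spec.choose_spec.2.2
    exact (Functor.RightExtension.mk _ α).isPointwiseRightKanExtensionAtEquivOfIso'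
      (Localization.isoOfHom L W w hw ≪≫ L.objObjPreimageIso Y) (isPointwiseAt α hP)
  refine ⟨⟨key.isRightKanExtension⟩, fun X => ?_⟩
  rw [Functor.hasPointwiseLeftDerivedFunctorAt_iff F L W]
  exact key.hasPointwiseRightKanExtension _

/-- Existence of the pointwise right Kan extension at a good object, together with the value. -/
noncomputable def coneFrom {P : C} (hP : LiftsFrom L P) (hF : IdentFrom L F P) :
    Cone (StructuredArrow.proj (L.obj P) L ⋙ F) where
  pt := F.obj P
  π :=
    { app j := F.map (hP.lift j.hom)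
      naturality j k φ := by
        have h1 : F.map (hP.lift k.hom) = F.map (hP.lift j.hom ≫ φ.right) := by
          apply hF
          rw [L.map_comp, hP.map_lift, hP.map_lift]
          exact (StructuredArrow.w φ).symm
        rw [F.map_comp] at h1
        exact (Category.id_comp _).trans h1 }

lemma map_lift_id {P : C} (hP : LiftsFrom L P) (hF : IdentFrom L F P) :
    F.map (hP.lift (𝟙 (L.obj P))) = 𝟙 (F.obj P) := by
  rw [← F.map_id]
  exact hF _ _ ((hP.map_lift _).trans (L.map_id P).symm)

/-- The cone `coneFrom` is a limit. -/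
noncomputable def isLimitConeFrom {P : C} (hP : LiftsFrom L P) (hF : IdentFrom L F P) :
    IsLimit (coneFrom hP hF) where
  lift s := s.π.app (StructuredArrow.mk (𝟙 (L.obj P)))
  fac s j := by
    have h1 := s.π.naturality (StructuredArrow.homMk (hP.lift j.hom)
      (by simp) : StructuredArrow.mk (𝟙 (L.obj P)) ⟶ j)
    exact (h1.symm).trans (Category.id_comp _)
  uniq s m hm := by
    have h1 := hm (StructuredArrow.mk (𝟙 (L.obj P)))
    refine Eq.trans ?_ h1
    have h2 : m ≫ F.map (hP.lift (𝟙 (L.obj P))) = m :=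
      (congrArg (m ≫ ·) (map_lift_id hP hF)).trans (Category.comp_id m)
    exact h2.symm

variable (L F) in
/-- Existence criterion for pointwise left derived functors. -/
theorem hasPointwiseLeftDerivedFunctor [L.IsLocalization W]
    (h : ∀ X : C, ∃ (P : C) (w : P ⟶ X), W w ∧ LiftsFrom L P ∧ IdentFrom L F P) :
    F.HasPointwiseLeftDerivedFunctor W := by
  intro X
  obtain ⟨P, w, hw, hP, hF⟩ := h X
  rw [← F.hasPointwiseLeftDerivedFunctorAt_iff_of_mem W w hw,
    Functor.hasPointwiseLeftDerivedFunctorAt_iff F L W]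
  exact ⟨⟨_, isLimitConeFrom hP hF⟩⟩

/-- The counit of a left derived functor is an isomorphism on good objects. -/
theorem isIso_app_of_isLeftDerivedFunctor [L.IsLocalization W] {G : D ⥤ H} (α : L ⋙ G ⟶ F)
    [G.IsLeftDerivedFunctor α W] [F.HasPointwiseLeftDerivedFunctor W] {P : C}
    (hP : LiftsFrom L P) (hF : IdentFrom L F P) : IsIso (α.app P) := by
  have h1 := Functor.isPointwiseRightKanExtensionOfHasPointwiseLeftDerivedFunctor G α W
    (L.obj P)
  let e : G.obj (L.obj P) ≅ F.obj P := h1.conePointUniqueUpToIso (isLimitConeFrom hP hF)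
  have h2 := h1.conePointUniqueUpToIso_hom_comp (isLimitConeFrom hP hF)
    (StructuredArrow.mk (𝟙 (L.obj P)))
  have h4 : α.app P = e.hom := by
    have h5 : e.hom ≫ F.map (hP.lift (𝟙 (L.obj P))) = G.map (𝟙 (L.obj P)) ≫ α.app P := h2
    rw [map_lift_id hP hF, G.map_id, Category.comp_id] at h5
    exact (h5.trans (Category.id_comp _)).symm
  rw [h4]
  infer_instance

end Left

section Right

/-- All maps from objects `L.obj Y` to `L.obj I` lift. -/
def LiftsTo (I : C) : Prop := ∀ ⦃Y : C⦄ (f : L.obj Y ⟶ L.obj I), ∃ g : Y ⟶ I, L.map g = f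

/-- `F` identifies maps to `I` which are identified by `L`. -/
def IdentTo (I : C) : Prop := ∀ ⦃Y : C⦄ (f g : Y ⟶ I), L.map f = L.map g → F.map f = F.map g

variable {L F}

/-- a chosen lift -/
noncomputable def LiftsTo.lift {I : C} (hI : LiftsTo L I) {Y : C} (f : L.obj Y ⟶ L.obj I) :
    Y ⟶ I := (hI f).choose

@[simp]
lemma LiftsTo.map_lift {I : C} (hI : LiftsTo L I) {Y : C} (f : L.obj Y ⟶ L.obj I) :
    L.map (hI.lift f) = f := (hI f).choose_spec

/-- If `α.app I` is an isomorphism and all maps to `L.obj I` lift, then `(G, α)` is a pointwise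
left Kan extension at `L.obj I`. -/
noncomputable def isPointwiseAtRight {G : D ⥤ H} (α : F ⟶ L ⋙ G) {I : C} (hI : LiftsTo L I)
    [hα : IsIso (α.app I)] :
    (Functor.LeftExtension.mk _ α).IsPointwiseLeftKanExtensionAt (L.obj I) :=
  let e : F.obj I ≅ G.obj (L.obj I) := @asIso _ _ _ _ (α.app I) hα
  { desc s := e.inv ≫ s.ι.app (CostructuredArrow.mk (𝟙 (L.obj I)))
    fac s j := by
      obtain ⟨g, hg⟩ := hI j.hom
      have h1 : F.map g ≫ s.ι.app (CostructuredArrow.mk (𝟙 (L.obj I))) = s.ι.app j ≫ 𝟙 _ :=
        s.ι.naturality (CostructuredArrow.homMk g (by simpa using hg) :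
          j ⟶ CostructuredArrow.mk (𝟙 (L.obj I)))
      have h2 : F.map g ≫ e.hom = α.app j.left ≫ G.map (L.map g) := α.naturality g
      rw [hg] at h2
      have h3 : (α.app j.left ≫ G.map j.hom) ≫ e.inv = F.map g := by
        rw [← h2, Category.assoc, Iso.hom_inv_id, Category.comp_id]
      refine Eq.trans ?_ ((congrArg (· ≫ s.ι.app (CostructuredArrow.mk (𝟙 (L.obj I)))) h3).trans
        (h1.trans (Category.comp_id _)))
      exact (Category.assoc _ _ _).symm
    uniq s m hm := by
      have h1 : (e.hom ≫ G.map (𝟙 (L.obj I))) ≫ m =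
          s.ι.app (CostructuredArrow.mk (𝟙 (L.obj I))) :=
        hm (CostructuredArrow.mk (𝟙 (L.obj I)))
      rw [G.map_id] at h1
      have h2 : e.hom ≫ m = s.ι.app (CostructuredArrow.mk (𝟙 (L.obj I))) :=
        (congrArg (· ≫ m) (Category.comp_id e.hom).symm).trans h1
      exact (Iso.eq_inv_comp e).2 h2 }

variable (L F) in
lemma identTo_of_isIso {G : D ⥤ H} (α : F ⟶ L ⋙ G) (I : C) [IsIso (α.app I)] :
    IdentTo L F I := by
  intro Y f g h
  rw [← cancel_mono (α.app I), α.naturality, α.naturality, Functor.comp_map, h,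
    Functor.comp_map]

variable (L) in
/-- Criterion: `(G, α)` is a right derived functor if `α` is an isomorphism on good objects. -/
theorem isRightDerivedFunctor_of_isIso [L.IsLocalization W] {G : D ⥤ H} (α : F ⟶ L ⋙ G)
    (h : ∀ X : C, ∃ (I : C) (w : X ⟶ I), W w ∧ LiftsTo L I ∧ IsIso (α.app I)) :
    G.IsRightDerivedFunctor α W ∧ F.HasPointwiseRightDerivedFunctor W := by
  have key : (Functor.LeftExtension.mk _ α).IsPointwiseLeftKanExtension := by
    intro Y
    have := Localization.essSurj L W
    let X := L.objPreimage Y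
    let P := (h X).choose
    let w : X ⟶ P := (h X).choose_spec.choose
    have hw : W w := (h X).choose_spec.choose_spec.1
    have hP : LiftsTo L P := (h X).choose_spec.choose_spec.2.1
    have : IsIso (α.app P) := (h X).choose_spec.choose_spec.2.2
    exact (Functor.LeftExtension.mk _ α).isPointwiseLeftKanExtensionAtEquivOfIso'
      ((Localization.isoOfHom L W w hw).symm ≪≫ L.objObjPreimageIso Y) (isPointwiseAtRight α hP)
  refine ⟨⟨key.isLeftKanExtension⟩, fun X => ?_⟩
  rw [Functor.hasPointwiseRightDerivedFunctorAt_iff F L W]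
  exact key.hasPointwiseLeftKanExtension _

/-- Existence of the pointwise left Kan extension at a good object, together with the value. -/
noncomputable def coconeTo {I : C} (hI : LiftsTo L I) (hF : IdentTo L F I) :
    Cocone (CostructuredArrow.proj L (L.obj I) ⋙ F) where
  pt := F.obj I
  ι :=
    { app j := F.map (hI.lift j.hom)
      naturality j k φ := by
        have h1 : F.map (φ.left ≫ hI.lift k.hom) = F.map (hI.lift j.hom) := by
          apply hF
          rw [L.map_comp, hI.map_lift, hI.map_lift]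
          exact CostructuredArrow.w φ
        rw [F.map_comp] at h1
        exact h1.trans (Category.comp_id _).symm }

lemma map_liftTo_id {I : C} (hI : LiftsTo L I) (hF : IdentTo L F I) :
    F.map (hI.lift (𝟙 (L.obj I))) = 𝟙 (F.obj I) := by
  rw [← F.map_id]
  exact hF _ _ ((hI.map_lift _).trans (L.map_id I).symm)

/-- The cocone `coconeTo` is a colimit. -/
noncomputable def isColimitCoconeTo {I : C} (hI : LiftsTo L I) (hF : IdentTo L F I) :
    IsColimit (coconeTo hI hF) where
  desc s := s.ι.app (CostructuredArrow.mk (𝟙 (L.obj I)))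
  fac s j := by
    have h1 := s.ι.naturality (CostructuredArrow.homMk (hI.lift j.hom)
      (by simp) : j ⟶ CostructuredArrow.mk (𝟙 (L.obj I)))
    exact h1.trans (Category.comp_id _)
  uniq s m hm := by
    have h1 := hm (CostructuredArrow.mk (𝟙 (L.obj I)))
    refine Eq.trans ?_ h1
    have h2 : F.map (hI.lift (𝟙 (L.obj I))) ≫ m = m :=
      (congrArg (· ≫ m) (map_liftTo_id hI hF)).trans (Category.id_comp m)
    exact h2.symm

variable (L F) in
/-- Existence criterion for pointwise right derived functors. -/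
theorem hasPointwiseRightDerivedFunctor [L.IsLocalization W]
    (h : ∀ X : C, ∃ (I : C) (w : X ⟶ I), W w ∧ LiftsTo L I ∧ IdentTo L F I) :
    F.HasPointwiseRightDerivedFunctor W := by
  intro X
  obtain ⟨I, w, hw, hI, hF⟩ := h X
  rw [F.hasPointwiseRightDerivedFunctorAt_iff_of_mem W w hw,
    Functor.hasPointwiseRightDerivedFunctorAt_iff F L W]
  exact ⟨⟨_, isColimitCoconeTo hI hF⟩⟩

/-- The unit of a right derived functor is an isomorphism on good objects. -/
theorem isIso_app_of_isRightDerivedFunctor [L.IsLocalization W] {G : D ⥤ H} (α : F ⟶ L ⋙ G)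
    [G.IsRightDerivedFunctor α W] [F.HasPointwiseRightDerivedFunctor W] {I : C}
    (hI : LiftsTo L I) (hF : IdentTo L F I) : IsIso (α.app I) := by
  have h1 := Functor.isPointwiseLeftKanExtensionOfHasPointwiseRightDerivedFunctor G α W
    (L.obj I)
  let e : G.obj (L.obj I) ≅ F.obj I := h1.coconePointUniqueUpToIso (isColimitCoconeTo hI hF)
  have h2 := h1.comp_coconePointUniqueUpToIso_inv (isColimitCoconeTo hI hF)
    (CostructuredArrow.mk (𝟙 (L.obj I)))
  have h4 : α.app I = e.inv := by
    have h5 : F.map (hI.lift (𝟙 (L.obj I))) ≫ e.inv = α.app I ≫ G.map (𝟙 (L.obj I)) := h2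
    rw [map_liftTo_id hI hF, G.map_id, Category.id_comp] at h5
    exact (h5.trans (Category.comp_id _)).symm
  rw [h4]
  infer_instance

end Right

end Groth.Agent.LoccohB.DerAbs
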