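import Groth.Agent.LoccohB.KProj
import Groth.Agent.LoccohB.DerAbs
import Mathlib.Algebra.Homology.DerivedCategory.KProjective
import Mathlib.Algebra.Homology.DerivedCategory.KInjective

/-!
# Derived functors computed by K-projective / K-injective complexes
-/

set_option autoImplicit false

universe w v u v₃ u₃

open CategoryTheory Limits DerivedCategory

namespace Groth.Agent.LoccohB.KDer

open DerAbs

variable {C : Type u} [Category.{v} C] [Abelian C] [HasDerivedCategory.{w} C]
  {H : Type u₃} [Category.{v₃} H]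

section Hom

lemma liftsFrom_Qh (P : CochainComplex C ℤ) [P.IsKProjective] :
    LiftsFrom (DerivedCategory.Qh (C := C)) ((HomotopyCategory.quotient _ _).obj P) :=
  fun Y => (CochainComplex.IsKProjective.Qh_map_bijective P Y).2

lemma identFrom_Qh (P : CochainComplex C ℤ) [P.IsKProjective]
    (F : HomotopyCategory C (ComplexShape.up ℤ) ⥤ H) :
    IdentFrom (DerivedCategory.Qh (C := C)) F ((HomotopyCategory.quotient _ _).obj P) :=
  fun Y _ _ h => congrArg F.map ((CochainComplex.IsKProjective.Qh_map_bijective P Y).1 h)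

lemma liftsTo_Qh (I : CochainComplex C ℤ) [I.IsKInjective] :
    LiftsTo (DerivedCategory.Qh (C := C)) ((HomotopyCategory.quotient _ _).obj I) :=
  fun Y => (CochainComplex.IsKInjective.Qh_map_bijective Y I).2

lemma identTo_Qh (I : CochainComplex C ℤ) [I.IsKInjective]
    (F : HomotopyCategory C (ComplexShape.up ℤ) ⥤ H) :
    IdentTo (DerivedCategory.Qh (C := C)) F ((HomotopyCategory.quotient _ _).obj I) :=
  fun Y _ _ h => congrArg F.map ((CochainComplex.IsKInjective.Qh_map_bijective Y I).1 h)

lemma Q_map_eq {K L : CochainComplex C ℤ} (f : K ⟶ L) :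
    Q.map f = (quotientCompQhIso C).inv.app K ≫ Qh.map ((HomotopyCategory.quotient _ _).map f) ≫
      (quotientCompQhIso C).hom.app L := by
  simp

/-- For `P` K-projective: morphisms `Q P ⟶ Q Y` lift to morphisms of complexes. -/
lemma liftsFrom_Q (P : CochainComplex C ℤ) [P.IsKProjective] :
    LiftsFrom (DerivedCategory.Q (C := C)) P := by
  intro Y f
  obtain ⟨g, hg⟩ := (CochainComplex.IsKProjective.Qh_map_bijective P _).2
    ((quotientCompQhIso C).hom.app P ≫ f ≫ (quotientCompQhIso C).inv.app Y)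
  obtain ⟨g, rfl⟩ := (HomotopyCategory.quotient _ _).map_surjective g
  exact ⟨g, by rw [Q_map_eq, hg]; simp⟩

/-- For `P` K-projective, two maps out of `P` which agree in `D(C)` are homotopic. -/
lemma homotopy_of_Q_map_eq_of_isKProjective {P Y : CochainComplex C ℤ} [P.IsKProjective]
    {f g : P ⟶ Y} (h : Q.map f = Q.map g) : Nonempty (Homotopy f g) := by
  rw [Q_map_eq, Q_map_eq, cancel_epi, cancel_mono] at h
  exact ⟨HomotopyCategory.homotopyOfEq _ _
    ((CochainComplex.IsKProjective.Qh_map_bijective P _).1 h)⟩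

lemma identFrom_Q (P : CochainComplex C ℤ) [P.IsKProjective]
    (F : CochainComplex C ℤ ⥤ H)
    (hF : ∀ ⦃K L : CochainComplex C ℤ⦄ (f g : K ⟶ L), Homotopy f g → F.map f = F.map g) :
    IdentFrom (DerivedCategory.Q (C := C)) F P :=
  fun _ _ _ h => hF _ _ (homotopy_of_Q_map_eq_of_isKProjective h).some

/-- For `I` K-injective: morphisms `Q Y ⟶ Q I` lift to morphisms of complexes. -/
lemma liftsTo_Q (I : CochainComplex C ℤ) [I.IsKInjective] :
    LiftsTo (DerivedCategory.Q (C := C)) I := by
  intro Y f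
  obtain ⟨g, hg⟩ := (CochainComplex.IsKInjective.Qh_map_bijective _ I).2
    ((quotientCompQhIso C).hom.app Y ≫ f ≫ (quotientCompQhIso C).inv.app I)
  obtain ⟨g, rfl⟩ := (HomotopyCategory.quotient _ _).map_surjective g
  exact ⟨g, by rw [Q_map_eq, hg]; simp⟩

/-- For `I` K-injective, two maps into `I` which agree in `D(C)` are homotopic. -/
lemma homotopy_of_Q_map_eq_of_isKInjective {I Y : CochainComplex C ℤ} [I.IsKInjective]
    {f g : Y ⟶ I} (h : Q.map f = Q.map g) : Nonempty (Homotopy f g) := by
  rw [Q_map_eq, Q_map_eq, cancel_epi, cancel_mono] at h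
  exact ⟨HomotopyCategory.homotopyOfEq _ _
    ((CochainComplex.IsKInjective.Qh_map_bijective _ I).1 h)⟩

lemma identTo_Q (I : CochainComplex C ℤ) [I.IsKInjective]
    (F : CochainComplex C ℤ ⥤ H)
    (hF : ∀ ⦃K L : CochainComplex C ℤ⦄ (f g : K ⟶ L), Homotopy f g → F.map f = F.map g) :
    IdentTo (DerivedCategory.Q (C := C)) F I :=
  fun _ _ _ h => hF _ _ (homotopy_of_Q_map_eq_of_isKInjective h).some

end Hom

/-- Every complex has a K-projective resolution. -/
def EnoughKProjectives (C : Type u) [Category.{v} C] [Abelian C] : Prop :=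
  ∀ K : CochainComplex C ℤ, ∃ (P : CochainComplex C ℤ) (p : P ⟶ K),
    P.IsKProjective ∧ QuasiIso p

/-- Every complex has a K-injective resolution. -/
def EnoughKInjectives (C : Type u) [Category.{v} C] [Abelian C] : Prop :=
  ∀ K : CochainComplex C ℤ, ∃ (I : CochainComplex C ℤ) (p : K ⟶ I),
    I.IsKInjective ∧ QuasiIso p

lemma enoughKProjectives_moduleCat (A : Type u) [Ring A] :
    EnoughKProjectives (ModuleCat.{u} A) := fun K => by
  obtain ⟨P, p, h1, h2, -⟩ := KProj.exists_kprojective K
  exact ⟨P, p, h1, h2⟩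

section FromHomotopyCategory

variable (F : HomotopyCategory C (ComplexShape.up ℤ) ⥤ H)

/-- With enough K-projectives, any functor from the homotopy category has a pointwise left
derived functor. -/
theorem hasPointwiseLeftDerived (hC : EnoughKProjectives C) :
    F.HasPointwiseLeftDerivedFunctor (HomotopyCategory.quasiIso C (ComplexShape.up ℤ)) := by
  apply DerAbs.hasPointwiseLeftDerivedFunctor (DerivedCategory.Qh (C := C))
  intro X
  obtain ⟨K, rfl⟩ := HomotopyCategory.quotient_obj_surjective X
  obtain ⟨P, p, hP, hp⟩ := hC K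
  refine ⟨_, (HomotopyCategory.quotient _ _).map p, ?_, liftsFrom_Qh P, identFrom_Qh P F⟩
  rw [HomotopyCategory.quotient_map_mem_quasiIso_iff]
  exact hp

theorem hasLeftDerived (hC : EnoughKProjectives C) :
    F.HasLeftDerivedFunctor (HomotopyCategory.quasiIso C (ComplexShape.up ℤ)) := by
  have := hasPointwiseLeftDerived F hC
  infer_instance

/-- The counit of the left derived functor is an isomorphism on K-projectives. -/
theorem isIso_counit (hC : EnoughKProjectives C) {G : DerivedCategory C ⥤ H}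
    (α : Qh ⋙ G ⟶ F)
    [G.IsLeftDerivedFunctor α (HomotopyCategory.quasiIso C (ComplexShape.up ℤ))]
    (P : CochainComplex C ℤ) [P.IsKProjective] :
    IsIso (α.app ((HomotopyCategory.quotient _ _).obj P)) := by
  have := hasPointwiseLeftDerived F hC
  exact DerAbs.isIso_app_of_isLeftDerivedFunctor
    (HomotopyCategory.quasiIso C (ComplexShape.up ℤ)) α (liftsFrom_Qh P) (identFrom_Qh P F)

/-- Criterion to be a left derived functor. -/
theorem isLeftDerivedFunctor_of_isIso (hC : EnoughKProjectives C) {G : DerivedCategory C ⥤ H}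
    (α : Qh ⋙ G ⟶ F)
    (hα : ∀ (P : CochainComplex C ℤ) [P.IsKProjective],
      IsIso (α.app ((HomotopyCategory.quotient _ _).obj P))) :
    G.IsLeftDerivedFunctor α (HomotopyCategory.quasiIso C (ComplexShape.up ℤ)) := by
  refine (DerAbs.isLeftDerivedFunctor_of_isIso _ _ α fun X => ?_).1
  obtain ⟨K, rfl⟩ := HomotopyCategory.quotient_obj_surjective X
  obtain ⟨P, p, hP, hp⟩ := hC K
  refine ⟨_, (HomotopyCategory.quotient _ _).map p, ?_, liftsFrom_Qh P, hα P⟩
  rw [HomotopyCategory.quotient_map_mem_quasiIso_iff]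
  exact hp

theorem hasPointwiseRightDerived (hC : EnoughKInjectives C) :
    F.HasPointwiseRightDerivedFunctor (HomotopyCategory.quasiIso C (ComplexShape.up ℤ)) := by
  apply DerAbs.hasPointwiseRightDerivedFunctor (DerivedCategory.Qh (C := C))
  intro X
  obtain ⟨K, rfl⟩ := HomotopyCategory.quotient_obj_surjective X
  obtain ⟨P, p, hP, hp⟩ := hC K
  refine ⟨_, (HomotopyCategory.quotient _ _).map p, ?_, liftsTo_Qh P, identTo_Qh P F⟩
  rw [HomotopyCategory.quotient_map_mem_quasiIso_iff]
  exact hp

theorem hasRightDerived (hC : EnoughKInjectives C) :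
    F.HasRightDerivedFunctor (HomotopyCategory.quasiIso C (ComplexShape.up ℤ)) := by
  have := hasPointwiseRightDerived F hC
  infer_instance

/-- The unit of the right derived functor is an isomorphism on K-injectives. -/
theorem isIso_unit (hC : EnoughKInjectives C) {G : DerivedCategory C ⥤ H}
    (α : F ⟶ Qh ⋙ G)
    [G.IsRightDerivedFunctor α (HomotopyCategory.quasiIso C (ComplexShape.up ℤ))]
    (P : CochainComplex C ℤ) [P.IsKInjective] :
    IsIso (α.app ((HomotopyCategory.quotient _ _).obj P)) := by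
  have := hasPointwiseRightDerived F hC
  exact DerAbs.isIso_app_of_isRightDerivedFunctor
    (HomotopyCategory.quasiIso C (ComplexShape.up ℤ)) α (liftsTo_Qh P) (identTo_Qh P F)

/-- Criterion to be a right derived functor. -/
theorem isRightDerivedFunctor_of_isIso (hC : EnoughKInjectives C) {G : DerivedCategory C ⥤ H}
    (α : F ⟶ Qh ⋙ G)
    (hα : ∀ (P : CochainComplex C ℤ) [P.IsKInjective],
      IsIso (α.app ((HomotopyCategory.quotient _ _).obj P))) :
    G.IsRightDerivedFunctor α (HomotopyCategory.quasiIso C (ComplexShape.up ℤ)) := by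
  refine (DerAbs.isRightDerivedFunctor_of_isIso _ _ α fun X => ?_).1
  obtain ⟨K, rfl⟩ := HomotopyCategory.quotient_obj_surjective X
  obtain ⟨P, p, hP, hp⟩ := hC K
  refine ⟨_, (HomotopyCategory.quotient _ _).map p, ?_, liftsTo_Qh P, hα P⟩
  rw [HomotopyCategory.quotient_map_mem_quasiIso_iff]
  exact hp

end FromHomotopyCategory

section FromComplexes

variable (F : CochainComplex C ℤ ⥤ H)
  (hF : ∀ ⦃K L : CochainComplex C ℤ⦄ (f g : K ⟶ L), Homotopy f g → F.map f = F.map g)

include hF

theorem hasPointwiseLeftDerivedCx (hC : EnoughKProjectives C) :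
    F.HasPointwiseLeftDerivedFunctor (HomologicalComplex.quasiIso C (ComplexShape.up ℤ)) := by
  apply DerAbs.hasPointwiseLeftDerivedFunctor (DerivedCategory.Q (C := C))
  intro K
  obtain ⟨P, p, hP, hp⟩ := hC K
  exact ⟨_, p, hp, liftsFrom_Q P, identFrom_Q P F hF⟩

theorem hasLeftDerivedCx (hC : EnoughKProjectives C) :
    F.HasLeftDerivedFunctor (HomologicalComplex.quasiIso C (ComplexShape.up ℤ)) := by
  have := hasPointwiseLeftDerivedCx F hF hC
  infer_instance

theorem isIso_counitCx (hC : EnoughKProjectives C) {G : DerivedCategory C ⥤ H}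
    (α : Q ⋙ G ⟶ F)
    [G.IsLeftDerivedFunctor α (HomologicalComplex.quasiIso C (ComplexShape.up ℤ))]
    (P : CochainComplex C ℤ) [P.IsKProjective] : IsIso (α.app P) := by
  have := hasPointwiseLeftDerivedCx F hF hC
  exact DerAbs.isIso_app_of_isLeftDerivedFunctor
    (HomologicalComplex.quasiIso C (ComplexShape.up ℤ)) α (liftsFrom_Q P) (identFrom_Q P F hF)

theorem hasPointwiseRightDerivedCx (hC : EnoughKInjectives C) :
    F.HasPointwiseRightDerivedFunctor (HomologicalComplex.quasiIso C (ComplexShape.up ℤ)) := by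
  apply DerAbs.hasPointwiseRightDerivedFunctor (DerivedCategory.Q (C := C))
  intro K
  obtain ⟨P, p, hP, hp⟩ := hC K
  exact ⟨_, p, hp, liftsTo_Q P, identTo_Q P F hF⟩

theorem hasRightDerivedCx (hC : EnoughKInjectives C) :
    F.HasRightDerivedFunctor (HomologicalComplex.quasiIso C (ComplexShape.up ℤ)) := by
  have := hasPointwiseRightDerivedCx F hF hC
  infer_instance

theorem isIso_unitCx (hC : EnoughKInjectives C) {G : DerivedCategory C ⥤ H}
    (α : F ⟶ Q ⋙ G)
    [G.IsRightDerivedFunctor α (HomologicalComplex.quasiIso C (ComplexShape.up ℤ))]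
    (P : CochainComplex C ℤ) [P.IsKInjective] : IsIso (α.app P) := by
  have := hasPointwiseRightDerivedCx F hF hC
  exact DerAbs.isIso_app_of_isRightDerivedFunctor
    (HomologicalComplex.quasiIso C (ComplexShape.up ℤ)) α (liftsTo_Q P) (identTo_Q P F hF)

end FromComplexes

section FromComplexesCriterion

variable (F : CochainComplex C ℤ ⥤ H)

theorem isLeftDerivedFunctorCx_of_isIso (hC : EnoughKProjectives C)
    {G : DerivedCategory C ⥤ H} (α : Q ⋙ G ⟶ F)
    (hα : ∀ (P : CochainComplex C ℤ) [P.IsKProjective], IsIso (α.app P)) :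
    G.IsLeftDerivedFunctor α (HomologicalComplex.quasiIso C (ComplexShape.up ℤ)) := by
  refine (DerAbs.isLeftDerivedFunctor_of_isIso _ _ α fun K => ?_).1
  obtain ⟨P, p, hP, hp⟩ := hC K
  exact ⟨_, p, hp, liftsFrom_Q P, hα P⟩

theorem isRightDerivedFunctorCx_of_isIso (hC : EnoughKInjectives C)
    {G : DerivedCategory C ⥤ H} (α : F ⟶ Q ⋙ G)
    (hα : ∀ (P : CochainComplex C ℤ) [P.IsKInjective], IsIso (α.app P)) :
    G.IsRightDerivedFunctor α (HomologicalComplex.quasiIso C (ComplexShape.up ℤ)) := by
  refine (DerAbs.isRightDerivedFunctor_of_isIso _ _ α fun K => ?_).1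
  obtain ⟨P, p, hP, hp⟩ := hC K
  exact ⟨_, p, hp, liftsTo_Q P, hα P⟩

end FromComplexesCriterion

end Groth.Agent.LoccohB.KDer
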