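import Groth.Agent.LoccohB.HomCxK
import Groth.Agent.LoccohB.KDer
import Groth.Agent.Cohder.KInjEss2

/-!
# The value of `RHom_A(K, -)` on K-injective complexes

For any complex `K` and any K-injective `I`: `(DRing.RHomCx K).obj (Q I) ≅ Q (DRing.homCx K I)`.
-/

set_option autoImplicit false

universe u

open CategoryTheory Limits CochainComplex CochainComplex.HomComplex

attribute [local instance] HasDerivedCategory.standard

namespace Groth.Agent.LoccohB.RHomVal

variable {A : Type u} [CommRing A]

/-- An element of `Hom•(K, I)` in degree `q`, as a cochain. -/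
abbrev asCochain {K I : DRing.Cx A} {q : ℤ} (φ : (DRing.homCx K I).X q) : Cochain K I q := φ

/-- Enough K-injectives in the category of modules over a ring. -/
theorem enoughKInjectives_moduleCat (R : Type u) [Ring R] :
    KDer.EnoughKInjectives (ModuleCat.{u} R) := fun K => by
  obtain ⟨I, f, _, hf, hI, _⟩ := Cohder.KInjEss2.exists_kInjective_mono_moduleCat R K
  exact ⟨I, f, hI, hf⟩

/-- `Hom•(K, -)` sends homotopic maps to homotopic maps. -/
noncomputable def homCxMapHomotopy (K : DRing.Cx A) {L L' : DRing.Cx A} {f g : L ⟶ L'}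
    (h : Homotopy f g) : Homotopy (DRing.homCxMap K f) (DRing.homCxMap K g) where
  hom i j := if hij : i + (-1) = j then
      ModuleCat.ofHom (X := (DRing.homCx K L).X i) (Y := (DRing.homCx K L').X j)
        { toFun := fun (z : Cochain K L i) => z.comp (Cochain.ofHomotopy h) hij
          map_add' := fun z z' => Cochain.add_comp (asCochain z) (asCochain z') _ hij
          map_smul' := fun a z => Cochain.smul_comp a (asCochain z) _ hij }
    else 0
  zero i j hij := dif_neg (fun h' => hij (by simp only [ComplexShape.up_Rel]; lia))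
  comm i := by
    rw [dNext_eq _ (show (ComplexShape.up ℤ).Rel i (i + 1) by simp),
      prevD_eq _ (show (ComplexShape.up ℤ).Rel (i - 1) i by simp), dif_pos (by lia),
      dif_pos (by lia)]
    refine ModuleCat.hom_ext (LinearMap.ext fun (z : Cochain K L i) => ?_)
    change z.comp (Cochain.ofHom f) (add_zero i) =
      (δ i (i + 1) z).comp (Cochain.ofHomotopy h) (by lia) +
      δ (i - 1) i (z.comp (Cochain.ofHomotopy h) (by lia)) +
      z.comp (Cochain.ofHom g) (add_zero i)
    rw [δ_comp z (Cochain.ofHomotopy h) (show i + -1 = i - 1 by lia) (i + 1) 0 i (by lia) rfl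
      (by lia), δ_ofHomotopy, Cochain.comp_sub]
    simp

theorem homCxQ_map_eq (K : DRing.Cx A) ⦃L L' : DRing.Cx A⦄ (f g : L ⟶ L') (h : Homotopy f g) :
    (DRing.homCxQ K).map f = (DRing.homCxQ K).map g := by
  have h' := homCxMapHomotopy K h
  change DerivedCategory.Q.map (DRing.homCxMap K f) = DerivedCategory.Q.map (DRing.homCxMap K g)
  rw [KDer.Q_map_eq, KDer.Q_map_eq, HomotopyCategory.eq_of_homotopy _ _ h']

theorem hasRHomCx (K : DRing.Cx A) : DRing.HasRHomCx K :=
  KDer.hasRightDerivedCx (DRing.homCxQ K) (homCxQ_map_eq K) (enoughKInjectives_moduleCat A)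

section

variable (K : DRing.Cx A) [DRing.HasRHomCx K]

/-- The unit `Hom•(K, -) ⟶ RHom(K, Q -)`. -/
noncomputable abbrev rhomUnit : DRing.homCxQ K ⟶ DerivedCategory.Q ⋙ DRing.RHomCx K :=
  (DRing.homCxQ K).totalRightDerivedUnit DerivedCategory.Q
    (HomologicalComplex.quasiIso (ModuleCat.{u} A) (ComplexShape.up ℤ))

instance isIso_rhomUnit_app (I : DRing.Cx A) [I.IsKInjective] :
    IsIso (show (DRing.toD (DRing.homCx K I)) ⟶
      (DRing.RHomCx K).obj (DerivedCategory.Q.obj I) from (rhomUnit K).app I) :=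
  KDer.isIso_unitCx (DRing.homCxQ K) (homCxQ_map_eq K) (enoughKInjectives_moduleCat A)
    (rhomUnit K) I

/-- `RHom(K, Q I) ≅ Q Hom•(K, I)` for `I` K-injective. -/
noncomputable def rhomIso (I : DRing.Cx A) [I.IsKInjective] :
    DRing.toD (DRing.homCx K I) ≅ (DRing.RHomCx K).obj (DerivedCategory.Q.obj I) :=
  asIso (C := Dual.D A) (show (DRing.toD (DRing.homCx K I)) ⟶
    (DRing.RHomCx K).obj (DerivedCategory.Q.obj I) from (rhomUnit K).app I)

lemma rhomIso_naturality {I I' : DRing.Cx A} [I.IsKInjective] [I'.IsKInjective] (f : I ⟶ I') :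
    DerivedCategory.Q.map (DRing.homCxMap K f) ≫ (rhomIso K I').hom =
      (rhomIso K I).hom ≫ (DRing.RHomCx K).map (DerivedCategory.Q.map f) :=
  (rhomUnit K).naturality f

end

end Groth.Agent.LoccohB.RHomVal
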