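import Groth.Agent.LoccohB.TenCx
import Groth.Agent.LoccohB.RHomVal
import Mathlib.CategoryTheory.Functor.Derived.Adjunction

/-!
# The derived tensor product `DRing.LTensorCx A E`

* `hasLTensorCx E`: it exists for every complex `E`;
* `ltenIso E P`: the value on K-projective complexes `P` is `Q (P ⊗ E)`;
* `ltenAdj E : DRing.LTensorCx A E ⊣ DRing.RHomCx E`;
* `quasiIso_whiskerLeft`: K-projective complexes are K-flat;
* `ltenCongr`: `LTensorCx A E` only depends on the class of `E` in `D(A)`.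
-/

set_option autoImplicit false

universe u

open CategoryTheory Limits MonoidalCategory CochainComplex CochainComplex.HomComplex

attribute [local instance] HasDerivedCategory.standard

namespace Groth.Agent.LoccohB.LTen

open TenCx DerivedCategory

variable {A : Type u} [CommRing A]

/-- `- ⊗ E` preserves homotopies. -/
noncomputable def whiskerRightHomotopy {K L : DRing.Cx A} {f g : K ⟶ L} (h : Homotopy f g)
    (E : DRing.Cx A) : Homotopy (f ▷ E) (g ▷ E) :=
  HomologicalComplex.mapBifunctorMapHomotopy₁ h (𝟙 E) (curriedTensor (ModuleCat.{u} A))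
    (ComplexShape.up ℤ)

/-- `E ⊗ -` preserves homotopies. -/
noncomputable def whiskerLeftHomotopy (E : DRing.Cx A) {K L : DRing.Cx A} {f g : K ⟶ L}
    (h : Homotopy f g) : Homotopy (E ◁ f) (E ◁ g) :=
  HomologicalComplex.mapBifunctorMapHomotopy₂ (𝟙 E) h (curriedTensor (ModuleCat.{u} A))
    (ComplexShape.up ℤ)

lemma Q_map_eq_of_homotopy {K L : DRing.Cx A} {f g : K ⟶ L} (h : Homotopy f g) :
    Q.map f = Q.map g := by
  rw [KDer.Q_map_eq, KDer.Q_map_eq, HomotopyCategory.eq_of_homotopy _ _ h]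

theorem tensorCxQ_map_eq (E : DRing.Cx A) ⦃K L : DRing.Cx A⦄ (f g : K ⟶ L) (h : Homotopy f g) :
    (DRing.tensorCxQ A E).map f = (DRing.tensorCxQ A E).map g :=
  Q_map_eq_of_homotopy (whiskerRightHomotopy h E)

/-- The derived tensor product exists. -/
theorem hasLTensorCx (E : DRing.Cx A) : DRing.HasLTensorCx A E :=
  KDer.hasLeftDerivedCx (DRing.tensorCxQ A E) (tensorCxQ_map_eq E)
    (KDer.enoughKProjectives_moduleCat A)

section

variable (E : DRing.Cx A) [DRing.HasLTensorCx A E]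

/-- The counit `(Q K) ⊗^L E ⟶ Q (K ⊗ E)`. -/
noncomputable abbrev ltenCounit : Q ⋙ DRing.LTensorCx A E ⟶ DRing.tensorCxQ A E :=
  (DRing.tensorCxQ A E).totalLeftDerivedCounit Q
    (HomologicalComplex.quasiIso (ModuleCat.{u} A) (ComplexShape.up ℤ))

instance isIso_ltenCounit_app (P : DRing.Cx A) [P.IsKProjective] :
    IsIso ((ltenCounit E).app P) :=
  KDer.isIso_counitCx (DRing.tensorCxQ A E) (tensorCxQ_map_eq E)
    (KDer.enoughKProjectives_moduleCat A) (ltenCounit E) P

/-- `(Q P) ⊗^L E ≅ Q (P ⊗ E)` for `P` K-projective. -/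
noncomputable def ltenIso (P : DRing.Cx A) [P.IsKProjective] :
    (DRing.LTensorCx A E).obj (Q.obj P) ≅ Q.obj (P ⊗ E : DRing.Cx A) :=
  asIso (C := Dual.D A) ((ltenCounit E).app P)

lemma ltenIso_naturality {P P' : DRing.Cx A} [P.IsKProjective] [P'.IsKProjective] (f : P ⟶ P') :
    (DRing.LTensorCx A E).map (Q.map f) ≫ (ltenIso E P').hom =
      (ltenIso E P).hom ≫ Q.map (f ▷ E) :=
  (ltenCounit E).naturality f

variable [DRing.HasRHomCx E]

/-- The derived tensor-hom adjunction. -/
noncomputable def ltenAdj : DRing.LTensorCx A E ⊣ DRing.RHomCx E := by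
  letI : (DRing.LTensorCx A E ⋙ DRing.RHomCx E).IsLeftDerivedFunctor
      ((Functor.associator _ _ _).inv ≫ Functor.whiskerRight (ltenCounit E) (DRing.RHomCx E))
      (HomologicalComplex.quasiIso (ModuleCat.{u} A) (ComplexShape.up ℤ)) := by
    apply KDer.isLeftDerivedFunctorCx_of_isIso _ (KDer.enoughKProjectives_moduleCat A)
    intro P hP
    rw [NatTrans.comp_app, Functor.whiskerRight_app]
    infer_instance
  letI : (DRing.RHomCx E ⋙ DRing.LTensorCx A E).IsRightDerivedFunctor
      (Functor.whiskerRight (RHomVal.rhomUnit E) (DRing.LTensorCx A E) ≫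
        (Functor.associator _ _ _).hom)
      (HomologicalComplex.quasiIso (ModuleCat.{u} A) (ComplexShape.up ℤ)) := by
    apply KDer.isRightDerivedFunctorCx_of_isIso _ (RHomVal.enoughKInjectives_moduleCat A)
    intro J hJ
    rw [NatTrans.comp_app, Functor.whiskerRight_app]
    have : IsIso ((RHomVal.rhomUnit E).app J) := RHomVal.isIso_rhomUnit_app E J
    infer_instance
  exact (thAdj E).derived
    (HomologicalComplex.quasiIso (ModuleCat.{u} A) (ComplexShape.up ℤ))
    (HomologicalComplex.quasiIso (ModuleCat.{u} A) (ComplexShape.up ℤ))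
    (ltenCounit E) (RHomVal.rhomUnit E)

end

section KFlat

lemma curry_eq {K E L : DRing.Cx A} (g : (K ⊗ E : DRing.Cx A) ⟶ L) :
    curry g = curry (𝟙 (K ⊗ E : DRing.Cx A)) ≫ DRing.homCxMap E g := by
  refine cx_hom_ext_homCx fun p q n h x y => ?_
  refine (ev_curry g p q n h x y).trans ?_
  refine ((ev_homCxMap E g p q n h _ y).trans (congrArg (g.f n).hom
    (ev_curry (𝟙 (K ⊗ E : DRing.Cx A)) p q n h x y))).symm

lemma uncurry_eq {K E L : DRing.Cx A} (ψ : K ⟶ DRing.homCx E L) :
    uncurry ψ = (ψ ▷ E) ≫ uncurry (𝟙 (DRing.homCx E L)) := by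
  refine cx_hom_ext fun p q n h x y => ?_
  refine (uncurry_tmk ψ p q n h x y).trans ?_
  refine ((congrArg ((uncurry (𝟙 (DRing.homCx E L))).f n).hom
    (whiskerRight_tmk ψ E p q n h x y)).trans (uncurry_tmk (𝟙 (DRing.homCx E L)) p q n h _ y)).symm

lemma uncurry_curry {K E L : DRing.Cx A} (g : (K ⊗ E : DRing.Cx A) ⟶ L) :
    uncurry (curry g) = g := (thEquiv K E L).left_inv g

lemma curry_uncurry {K E L : DRing.Cx A} (ψ : K ⟶ DRing.homCx E L) :
    curry (uncurry ψ) = ψ := (thEquiv K E L).right_inv ψ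

/-- currying preserves homotopies -/
noncomputable def curryHomotopy {K E L : DRing.Cx A} {g g' : (K ⊗ E : DRing.Cx A) ⟶ L}
    (h : Homotopy g g') : Homotopy (curry g) (curry g') := by
  rw [curry_eq g, curry_eq g']
  exact (RHomVal.homCxMapHomotopy E h).compLeft _

/-- uncurrying preserves homotopies -/
noncomputable def uncurryHomotopy {K E L : DRing.Cx A} {g g' : K ⟶ DRing.homCx E L}
    (h : Homotopy g g') : Homotopy (uncurry g) (uncurry g') := by
  rw [uncurry_eq g, uncurry_eq g']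
  exact (whiskerRightHomotopy h E).compRight _

/-- For `P` K-projective and `J` K-injective, equality of maps `P ⊗ E ⟶ J` in `D(A)` can be tested
after currying. -/
lemma Q_map_curry_eq_iff {P E J : DRing.Cx A} [P.IsKProjective] [J.IsKInjective]
    (g g' : (P ⊗ E : DRing.Cx A) ⟶ J) :
    Q.map g = Q.map g' ↔ Q.map (curry g) = Q.map (curry g') := by
  constructor
  · intro h
    obtain ⟨h⟩ := KDer.homotopy_of_Q_map_eq_of_isKInjective h
    exact Q_map_eq_of_homotopy (curryHomotopy h)
  · intro h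
    obtain ⟨h⟩ := KDer.homotopy_of_Q_map_eq_of_isKProjective h
    have h' := Q_map_eq_of_homotopy (uncurryHomotopy h)
    rwa [uncurry_curry, uncurry_curry] at h'

lemma curry_whiskerLeft {P E E' J : DRing.Cx A} (f : E ⟶ E') (g : (P ⊗ E' : DRing.Cx A) ⟶ J) :
    curry ((P ◁ f) ≫ g) = curry g ≫ HomCx.homCxPre f J := by
  refine cx_hom_ext_homCx fun p q n h x y => ?_
  refine (ev_curry ((P ◁ f) ≫ g) p q n h x y).trans ?_
  refine (congrArg (g.f n).hom (whiskerLeft_tmk P f p q n h x y)).trans ?_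
  refine (evC_curryX g p q n h x ((f.f q).hom y)).symm.trans ?_
  change (Cochain.v (curryX g p x) q n (by omega)).hom ((f.f q).hom y) =
    (Cochain.v ((Cochain.ofHom f).comp (curryX g p x) (zero_add p)) q n (by omega)).hom y
  rw [Cochain.comp_v _ _ (zero_add p) q q n (by omega) (by omega), Cochain.ofHom_v]
  rfl

/-- Every object of `D(A)` is `Q J` with `J` K-injective. -/
lemma exists_kinj (K : Dual.D A) : ∃ J : DRing.Cx A, J.IsKInjective ∧ Nonempty (Q.obj J ≅ K) := by
  obtain ⟨I, f, hI, hf⟩ := RHomVal.enoughKInjectives_moduleCat A (Q.objPreimage K)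
  exact ⟨I, hI, ⟨(asIso (Q.map f)).symm ≪≫ Q.objObjPreimageIso K⟩⟩

lemma isIso_of_bijective_kinj {K L : Dual.D A} (f : K ⟶ L)
    (h : ∀ (J : DRing.Cx A) [J.IsKInjective],
      Function.Bijective (fun g : L ⟶ Q.obj J => f ≫ g)) : IsIso f := by
  have h' : ∀ M : Dual.D A, Function.Bijective (fun g : L ⟶ M => f ≫ g) := by
    intro M
    obtain ⟨J, hJ, ⟨e⟩⟩ := exists_kinj M
    constructor
    · intro g g' hg
      have : g ≫ e.inv = g' ≫ e.inv := by
        apply (h J).1
        dsimp only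
        rw [← Category.assoc, ← Category.assoc]
        exact congrArg (· ≫ e.inv) hg
      exact (cancel_mono e.inv).1 this
    · intro g
      obtain ⟨g', hg'⟩ := (h J).2 (g ≫ e.inv)
      refine ⟨g' ≫ e.hom, ?_⟩
      dsimp only at hg' ⊢
      rw [← Category.assoc, hg', Category.assoc, e.inv_hom_id, Category.comp_id]
  obtain ⟨g, hg⟩ := (h' K).2 (𝟙 K)
  refine ⟨g, hg, ?_⟩
  apply (h' L).1
  dsimp only at hg ⊢
  rw [← Category.assoc, hg, Category.id_comp, Category.comp_id]

/-- K-projective complexes are K-flat. -/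
theorem quasiIso_whiskerLeft (P : DRing.Cx A) [P.IsKProjective] {E E' : DRing.Cx A} (f : E ⟶ E')
    [QuasiIso f] : QuasiIso (P ◁ f) := by
  suffices IsIso (Q.map (P ◁ f)) by
    rwa [DerivedCategory.isIso_Q_map_iff_quasiIso] at this
  apply isIso_of_bijective_kinj
  intro J hJ
  have hpre : QuasiIso (HomCx.homCxPre f J) := HomCx.quasiIso_homCxPre f J
  have hpre' : IsIso (Q.map (HomCx.homCxPre f J)) := inferInstance
  constructor
  · intro g g' hg
    obtain ⟨g, rfl⟩ := KDer.liftsTo_Q J g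
    obtain ⟨g', rfl⟩ := KDer.liftsTo_Q J g'
    dsimp only at hg
    rw [← Functor.map_comp, ← Functor.map_comp, Q_map_curry_eq_iff, curry_whiskerLeft,
      curry_whiskerLeft, Functor.map_comp, Functor.map_comp, cancel_mono] at hg
    rwa [Q_map_curry_eq_iff]
  · intro g
    obtain ⟨g, rfl⟩ := KDer.liftsTo_Q J g
    obtain ⟨ψ, hψ⟩ := KDer.liftsFrom_Q P (Q.map (curry g) ≫ inv (Q.map (HomCx.homCxPre f J)))
    refine ⟨Q.map (uncurry ψ), ?_⟩
    dsimp only
    rw [← Functor.map_comp, Q_map_curry_eq_iff, curry_whiskerLeft, curry_uncurry,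
      Functor.map_comp, hψ, Category.assoc, IsIso.inv_hom_id, Category.comp_id]

end KFlat

section Swap

/-- The symmetry `K ⊗ E ⟶ E ⊗ K`, `x ⊗ y ↦ (-1)^{pq} y ⊗ x`. -/
noncomputable def swap (K E : DRing.Cx A) : (K ⊗ E : DRing.Cx A) ⟶ (E ⊗ K : DRing.Cx A) :=
  homMk (fun p q n h => (p * q).negOnePow • (tmk E K q p n (by omega)).flip) (by
    intro p q n h x y
    simp only [LinearMap.smul_apply, LinearMap.flip_apply]
    rw [Units.smul_def, map_zsmul, d_tmk, smul_add]
    refine (add_comm _ _).trans ?_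
    rw [← Units.smul_def, ← Units.smul_def, smul_smul, smul_smul, ← Int.negOnePow_add,
      ← Int.negOnePow_add]
    have e1 : p * q + q = (p + 1) * q := by ring
    have e2 : (p + p * (q + 1)).negOnePow = (p * q).negOnePow := by
      have : p + p * (q + 1) = p * q + (p + p) := by ring
      rw [this, Int.negOnePow_add, Int.negOnePow_add p p, Int.units_mul_self, mul_one]
    rw [e1, e2])

lemma swap_tmk (K E : DRing.Cx A) (p q n : ℤ) (h : p + q = n) (x : K.X p) (y : E.X q) :
    ((swap K E).f n).hom (tmk K E p q n h x y) =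
      (p * q).negOnePow • tmk E K q p n (by omega) y x :=
  homMk_tmk _ _ p q n h x y

lemma swap_swap (K E : DRing.Cx A) : swap K E ≫ swap E K = 𝟙 _ := by
  refine cx_hom_ext fun p q n h x y => ?_
  refine (congrArg ((swap E K).f n).hom (swap_tmk K E p q n h x y)).trans ?_
  rw [Units.smul_def, map_zsmul, swap_tmk, ← Units.smul_def, smul_smul, mul_comm q p,
    Int.units_mul_self, one_smul]
  rfl

/-- `K ⊗ E ≅ E ⊗ K`. -/
noncomputable def swapIso (K E : DRing.Cx A) : (K ⊗ E : DRing.Cx A) ≅ (E ⊗ K : DRing.Cx A) where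
  hom := swap K E
  inv := swap E K
  hom_inv_id := swap_swap K E
  inv_hom_id := swap_swap E K

lemma swap_naturality {K K' : DRing.Cx A} (f : K ⟶ K') (E : DRing.Cx A) :
    (f ▷ E) ≫ swap K' E = swap K E ≫ (E ◁ f) := by
  refine cx_hom_ext fun p q n h x y => ?_
  refine (congrArg ((swap K' E).f n).hom (whiskerRight_tmk f E p q n h x y)).trans ?_
  refine (swap_tmk K' E p q n h _ y).trans ?_
  refine ((congrArg ((E ◁ f).f n).hom (swap_tmk K E p q n h x y)).trans ?_).symm
  rw [Units.smul_def, map_zsmul, whiskerLeft_tmk, ← Units.smul_def]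

/-- K-projective complexes are K-flat. -/
theorem quasiIso_whiskerRight (P : DRing.Cx A) [P.IsKProjective] {E E' : DRing.Cx A} (f : E ⟶ E')
    [QuasiIso f] : QuasiIso (f ▷ P) := by
  have := quasiIso_whiskerLeft P f
  have e : f ▷ P = (swapIso E P).hom ≫ (P ◁ f) ≫ (swapIso E' P).inv := by
    rw [← Category.assoc, Iso.eq_comp_inv]
    exact swap_naturality f P
  rw [e]
  infer_instance

end Swap

section KFlat2

/-- Quasi-isomorphisms between K-projective complexes are preserved by `- ⊗ E`, for any `E`. -/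
theorem quasiIso_whiskerRight_of_isKProjective {P P' : DRing.Cx A} [P.IsKProjective]
    [P'.IsKProjective] (f : P ⟶ P') [QuasiIso f] (E : DRing.Cx A) : QuasiIso (f ▷ E) := by
  suffices IsIso (Q.map (f ▷ E)) by
    rwa [DerivedCategory.isIso_Q_map_iff_quasiIso] at this
  obtain ⟨g, hg⟩ := KDer.liftsFrom_Q P' (inv (Q.map f))
  obtain ⟨h1⟩ := KDer.homotopy_of_Q_map_eq_of_isKProjective (f := f ≫ g) (g := 𝟙 P) (by
    rw [Functor.map_comp, hg, IsIso.hom_inv_id, CategoryTheory.Functor.map_id])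
  obtain ⟨h2⟩ := KDer.homotopy_of_Q_map_eq_of_isKProjective (f := g ≫ f) (g := 𝟙 P') (by
    rw [Functor.map_comp, hg, IsIso.inv_hom_id, CategoryTheory.Functor.map_id])
  refine ⟨Q.map (g ▷ E), ?_, ?_⟩
  · rw [← Functor.map_comp, ← comp_whiskerRight]
    refine (Q_map_eq_of_homotopy (whiskerRightHomotopy h1 E)).trans ?_
    rw [id_whiskerRight, CategoryTheory.Functor.map_id]
  · rw [← Functor.map_comp, ← comp_whiskerRight]
    refine (Q_map_eq_of_homotopy (whiskerRightHomotopy h2 E)).trans ?_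
    rw [id_whiskerRight, CategoryTheory.Functor.map_id]

/-- For `E` K-projective, `(Q K) ⊗^L E = Q (K ⊗ E)` for all `K`. -/
instance isIso_ltenCounit_app' (E : DRing.Cx A) [DRing.HasLTensorCx A E] [E.IsKProjective]
    (K : DRing.Cx A) : IsIso ((ltenCounit E).app K) := by
  obtain ⟨P, p, hP, hp, -, -⟩ := KProj.exists_kprojective K
  have h1 := (ltenCounit E).naturality p
  have h2 : QuasiIso (p ▷ E) := quasiIso_whiskerRight E p
  have h3 : IsIso (Q.map (p ▷ E)) := inferInstance
  have h4 : IsIso (Q.map p) := inferInstance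
  have h5 : IsIso ((DRing.LTensorCx A E).map (Q.map p)) := inferInstance
  have h6 : (ltenCounit E).app K = inv ((DRing.LTensorCx A E).map (Q.map p)) ≫
      (ltenCounit E).app P ≫ Q.map (p ▷ E) := by
    rw [IsIso.eq_inv_comp]
    exact h1
  rw [h6]
  infer_instance

/-- `(Q K) ⊗^L E ≅ Q (K ⊗ E)` for `E` K-projective. -/
noncomputable def ltenIso' (E : DRing.Cx A) [DRing.HasLTensorCx A E] [E.IsKProjective]
    (K : DRing.Cx A) : (DRing.LTensorCx A E).obj (Q.obj K) ≅ Q.obj (K ⊗ E : DRing.Cx A) :=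
  asIso (C := Dual.D A) ((ltenCounit E).app K)

/-- Functoriality of the derived tensor product in the second variable. -/
noncomputable def ltenMap {E E' : DRing.Cx A} [DRing.HasLTensorCx A E] [DRing.HasLTensorCx A E']
    (f : E ⟶ E') : DRing.LTensorCx A E ⟶ DRing.LTensorCx A E' :=
  Functor.leftDerivedNatTrans _ _ (ltenCounit E) (ltenCounit E')
    (HomologicalComplex.quasiIso (ModuleCat.{u} A) (ComplexShape.up ℤ))
    (Functor.whiskerRight ((tensoringRight (DRing.Cx A)).map f) Q)

lemma ltenMap_app {E E' : DRing.Cx A} [DRing.HasLTensorCx A E] [DRing.HasLTensorCx A E']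
    (f : E ⟶ E') (K : DRing.Cx A) :
    (ltenMap f).app (Q.obj K) ≫ (ltenCounit E').app K = (ltenCounit E).app K ≫ Q.map (K ◁ f) :=
  Functor.leftDerivedNatTrans_app _ _ (ltenCounit E) (ltenCounit E')
    (HomologicalComplex.quasiIso (ModuleCat.{u} A) (ComplexShape.up ℤ))
    (Functor.whiskerRight ((tensoringRight (DRing.Cx A)).map f) Q) K

lemma exists_kproj (K : Dual.D A) : ∃ P : DRing.Cx A, P.IsKProjective ∧ Nonempty (Q.obj P ≅ K) := by
  obtain ⟨P, p, hP, hp, -, -⟩ := KProj.exists_kprojective (Q.objPreimage K)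
  exact ⟨P, hP, ⟨asIso (Q.map p) ≪≫ Q.objObjPreimageIso K⟩⟩

instance isIso_ltenMap {E E' : DRing.Cx A} [DRing.HasLTensorCx A E] [DRing.HasLTensorCx A E']
    (f : E ⟶ E') [QuasiIso f] : IsIso (ltenMap f) := by
  rw [NatTrans.isIso_iff_isIso_app]
  intro K
  obtain ⟨P, hP, ⟨e⟩⟩ := exists_kproj K
  rw [← NatTrans.isIso_app_iff_of_iso (ltenMap f) e]
  have h1 := ltenMap_app f P
  have h2 : QuasiIso (P ◁ f) := quasiIso_whiskerLeft P f
  have h3 : IsIso (Q.map (P ◁ f)) := inferInstance
  have h4 : (ltenMap f).app (Q.obj P) =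
      ((ltenCounit E).app P ≫ Q.map (P ◁ f)) ≫ inv ((ltenCounit E').app P) := by
    rw [IsIso.eq_comp_inv]
    exact h1
  rw [h4]
  infer_instance

/-- `LTensorCx A E` only depends on the class of `E` in the derived category. -/
theorem ltenCongr {E E' : DRing.Cx A} [DRing.HasLTensorCx A E] [DRing.HasLTensorCx A E']
    (e : Q.obj E ≅ Q.obj E') : Nonempty (DRing.LTensorCx A E ≅ DRing.LTensorCx A E') := by
  obtain ⟨P, p, hP, hp, -, -⟩ := KProj.exists_kprojective E
  have := hasLTensorCx P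
  obtain ⟨p', hp'⟩ := KDer.liftsFrom_Q P (Q.map p ≫ e.hom)
  have h1 : IsIso (Q.map p') := by rw [hp']; infer_instance
  have h2 : QuasiIso p' := by rwa [DerivedCategory.isIso_Q_map_iff_quasiIso] at h1
  exact ⟨(asIso (ltenMap p)).symm ≪≫ asIso (ltenMap p')⟩

end KFlat2

end Groth.Agent.LoccohB.LTen
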