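import Mathlib.Algebra.Homology.DerivedCategory.KInjective
import Mathlib.Algebra.Homology.DerivedCategory.KProjective
import Mathlib.Algebra.Homology.DerivedCategory.Linear
import Mathlib.Algebra.Homology.HomotopyCategory.HomComplexSingle

/-!
# Morphisms in the derived category attached to cocycles

`hcls z : Q.obj K ⟶ (Q.obj L)⟦n⟧` for a cocycle `z : Cocycle K L n`.  When `L` is K-injective (or
`K` is K-projective) every morphism is of that form and `hcls z = 0` iff `z` is a coboundary.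
`scls f hf : M[0] ⟶ (Q.obj L)⟦n⟧` for `f : M ⟶ L.X n` with `f ≫ L.d n (n+1) = 0`.
-/

set_option autoImplicit false

universe w v u t

open CategoryTheory CochainComplex CochainComplex.HomComplex

namespace Groth.Agent.LoccohB.HomCls

variable {C : Type u} [Category.{v} C] [Abelian C] [HasDerivedCategory.{w} C]

lemma Q_map_eq {K L : CochainComplex C ℤ} (g : K ⟶ L) :
    DerivedCategory.Q.map g = (DerivedCategory.quotientCompQhIso C).inv.app K ≫
      DerivedCategory.Qh.map ((HomotopyCategory.quotient _ _).map g) ≫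
        (DerivedCategory.quotientCompQhIso C).hom.app L := by
  rw [DerivedCategory.quotientCompQhIso_hom_naturality, Iso.inv_hom_id_app_assoc]

lemma Qh_map_eq {K L : CochainComplex C ℤ} (g : K ⟶ L) :
    DerivedCategory.Qh.map ((HomotopyCategory.quotient _ _).map g) =
      (DerivedCategory.quotientCompQhIso C).hom.app K ≫ DerivedCategory.Q.map g ≫
        (DerivedCategory.quotientCompQhIso C).inv.app L := by
  rw [DerivedCategory.quotientCompQhIso_inv_naturality, Iso.hom_inv_id_app_assoc]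

lemma Q_map_eq_zero_of_homotopy {K L : CochainComplex C ℤ} (g : K ⟶ L)
    (h : Nonempty (Homotopy g 0)) : DerivedCategory.Q.map g = 0 := by
  rw [← HomotopyCategory.quotient_map_eq_zero_iff] at h
  rw [Q_map_eq, h]
  simp

lemma Q_map_eq_zero_iff {K L : CochainComplex C ℤ} [L.IsKInjective] (g : K ⟶ L) :
    DerivedCategory.Q.map g = 0 ↔ Nonempty (Homotopy g 0) := by
  rw [← HomotopyCategory.quotient_map_eq_zero_iff]
  refine ⟨fun h => ?_, fun h => ?_⟩
  · apply (CochainComplex.IsKInjective.Qh_map_bijective _ _).injective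
    rw [Qh_map_eq, h]
    simp
  · rw [Q_map_eq, h]
    simp

lemma Q_map_surjective (K L : CochainComplex C ℤ) [L.IsKInjective] :
    Function.Surjective (DerivedCategory.Q.map : (K ⟶ L) → _) := by
  intro f
  obtain ⟨g, hg⟩ := (CochainComplex.IsKInjective.Qh_map_bijective
      ((HomotopyCategory.quotient _ _).obj K) L).surjective
    ((DerivedCategory.quotientCompQhIso C).hom.app K ≫ f ≫
      (DerivedCategory.quotientCompQhIso C).inv.app L)
  obtain ⟨g, rfl⟩ := (HomotopyCategory.quotient _ _).map_surjective g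
  refine ⟨g, ?_⟩
  rw [Q_map_eq, hg]
  simp

lemma Q_map_eq_zero_iff_of_kProj {K L : CochainComplex C ℤ} [K.IsKProjective] (g : K ⟶ L) :
    DerivedCategory.Q.map g = 0 ↔ Nonempty (Homotopy g 0) := by
  rw [← HomotopyCategory.quotient_map_eq_zero_iff]
  refine ⟨fun h => ?_, fun h => ?_⟩
  · apply (CochainComplex.IsKProjective.Qh_map_bijective _ _).injective
    rw [Qh_map_eq, h]
    simp
  · rw [Q_map_eq, h]
    simp

lemma Q_map_surjective_of_kProj (K L : CochainComplex C ℤ) [K.IsKProjective] :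
    Function.Surjective (DerivedCategory.Q.map : (K ⟶ L) → _) := by
  intro f
  obtain ⟨g, hg⟩ := (CochainComplex.IsKProjective.Qh_map_bijective K
      ((HomotopyCategory.quotient _ _).obj L)).surjective
    ((DerivedCategory.quotientCompQhIso C).hom.app K ≫ f ≫
      (DerivedCategory.quotientCompQhIso C).inv.app L)
  obtain ⟨g, rfl⟩ := (HomotopyCategory.quotient _ _).map_surjective g
  refine ⟨g, ?_⟩
  rw [Q_map_eq, hg]
  simp

/-- the morphism in the derived category attached to a cocycle. -/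
noncomputable def hcls {K L : CochainComplex C ℤ} {n : ℤ} (z : Cocycle K L n) :
    DerivedCategory.Q.obj K ⟶ (DerivedCategory.Q.obj L)⟦n⟧ :=
  DerivedCategory.Q.map (Cocycle.equivHomShift.symm z) ≫
    (DerivedCategory.Q.commShiftIso n).hom.app L

variable {K L : CochainComplex C ℤ} {n : ℤ}

@[simp]
lemma hcls_add (z z' : Cocycle K L n) : hcls (z + z') = hcls z + hcls z' := by
  simp [hcls, Functor.map_add, Preadditive.add_comp]

@[simp]
lemma hcls_zero : hcls (0 : Cocycle K L n) = 0 := by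
  simp [hcls]

@[simp]
lemma hcls_sub (z z' : Cocycle K L n) : hcls (z - z') = hcls z - hcls z' := by
  simp [hcls, Functor.map_sub, Preadditive.sub_comp]

lemma hcls_smul {R : Type t} [Ring R] [Linear R C] (r : R) (z : Cocycle K L n) :
    hcls (r • z) = r • hcls z := by
  have : Cocycle.equivHomShift.symm (r • z) = r • Cocycle.equivHomShift.symm z := by
    ext p
    simp [Cocycle.equivHomShift_symm_apply]
  rw [hcls, this, Functor.map_smul, Linear.smul_comp, hcls]

lemma hcls_precomp (z : Cocycle K L n) {K' : CochainComplex C ℤ} (g : K' ⟶ K) :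
    hcls (z.precomp g) = DerivedCategory.Q.map g ≫ hcls z := by
  rw [hcls, Cocycle.equivHomShift_symm_precomp, Functor.map_comp, Category.assoc, hcls]

lemma hcls_postcomp (z : Cocycle K L n) {L' : CochainComplex C ℤ} (g : L ⟶ L') :
    hcls (z.postcomp g) = hcls z ≫ (DerivedCategory.Q.map g)⟦n⟧' := by
  rw [hcls, Cocycle.equivHomShift_symm_postcomp, Functor.map_comp, Category.assoc, hcls,
    Category.assoc]
  congr 1
  exact (DerivedCategory.Q.commShiftIso n).hom.naturality g

lemma hcls_eq_zero_of_mem (z : Cocycle K L n) (hz : z ∈ coboundaries K L n) : hcls z = 0 := by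
  rw [← CohomologyClass.toHom_mk_eq_zero_iff, CohomologyClass.toHom_mk,
    HomotopyCategory.quotient_map_eq_zero_iff] at hz
  rw [hcls, Q_map_eq_zero_of_homotopy _ hz, Limits.zero_comp]

lemma hcls_eq_zero_iff [L.IsKInjective] (z : Cocycle K L n) :
    hcls z = 0 ↔ z ∈ coboundaries K L n := by
  refine ⟨fun h => ?_, hcls_eq_zero_of_mem z⟩
  rw [← CohomologyClass.toHom_mk_eq_zero_iff, CohomologyClass.toHom_mk,
    HomotopyCategory.quotient_map_eq_zero_iff, ← Q_map_eq_zero_iff,
    ← cancel_mono ((DerivedCategory.Q.commShiftIso n).hom.app L), Limits.zero_comp]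
  exact h

lemma hcls_eq_zero_iff_of_kProj [K.IsKProjective] (z : Cocycle K L n) :
    hcls z = 0 ↔ z ∈ coboundaries K L n := by
  refine ⟨fun h => ?_, hcls_eq_zero_of_mem z⟩
  rw [← CohomologyClass.toHom_mk_eq_zero_iff, CohomologyClass.toHom_mk,
    HomotopyCategory.quotient_map_eq_zero_iff, ← Q_map_eq_zero_iff_of_kProj,
    ← cancel_mono ((DerivedCategory.Q.commShiftIso n).hom.app L), Limits.zero_comp]
  exact h

lemma hcls_surjective [L.IsKInjective] :
    Function.Surjective (hcls : Cocycle K L n → _) := by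
  intro f
  obtain ⟨g, hg⟩ := Q_map_surjective K (L⟦n⟧) (f ≫ (DerivedCategory.Q.commShiftIso n).inv.app L)
  refine ⟨Cocycle.equivHomShift g, ?_⟩
  rw [hcls, AddEquiv.symm_apply_apply, hg, Category.assoc, Iso.inv_hom_id_app]
  exact Category.comp_id _

lemma hcls_surjective_of_kProj [K.IsKProjective] :
    Function.Surjective (hcls : Cocycle K L n → _) := by
  intro f
  obtain ⟨g, hg⟩ := Q_map_surjective_of_kProj K (L⟦n⟧)
    (f ≫ (DerivedCategory.Q.commShiftIso n).inv.app L)
  refine ⟨Cocycle.equivHomShift g, ?_⟩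
  rw [hcls, AddEquiv.symm_apply_apply, hg, Category.assoc, Iso.inv_hom_id_app]
  exact Category.comp_id _

section Single

open HomologicalComplex

variable {M : C}

/-- auxiliary definition for `scls` -/
noncomputable def scls0 (f : M ⟶ L.X n) (hf : f ≫ L.d n (n + 1) = 0) :
    DerivedCategory.Q.obj ((CochainComplex.singleFunctor C 0).obj M) ⟶
      (DerivedCategory.Q.obj L)⟦n⟧ :=
  hcls (Cocycle.fromSingleMk f (zero_add n) (n + 1) rfl hf)

lemma scls0_add (f f' : M ⟶ L.X n) (hf : f ≫ L.d n (n + 1) = 0)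
    (hf' : f' ≫ L.d n (n + 1) = 0) :
    scls0 (f + f') (by simp [hf, hf']) = scls0 f hf + scls0 f' hf' := by
  rw [scls0, Cocycle.fromSingleMk_add _ _ _ _ _ hf hf', hcls_add, scls0, scls0]

lemma scls0_smul {R : Type t} [Ring R] [Linear R C] (r : R) (f : M ⟶ L.X n)
    (hf : f ≫ L.d n (n + 1) = 0) :
    scls0 (r • f) (by simp [hf]) = r • scls0 f hf := by
  rw [scls0, scls0, ← hcls_smul]
  congr 1
  ext p q hpq
  by_cases hp : p = 0
  · subst hp
    obtain rfl : n = q := by lia
    rw [Cocycle.coe_smul, Cochain.smul_v, Cocycle.fromSingleMk_coe, Cocycle.fromSingleMk_coe,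
      Cochain.fromSingleMk_v, Cochain.fromSingleMk_v, Linear.comp_smul]
    rfl
  · apply (HomologicalComplex.isZero_single_obj_X _ _ _ _ hp).eq_of_src

lemma scls0_precomp {M' : C} (g : M' ⟶ M) (f : M ⟶ L.X n) (hf : f ≫ L.d n (n + 1) = 0) :
    scls0 (g ≫ f) (by simp [hf]) =
      DerivedCategory.Q.map ((CochainComplex.singleFunctor C 0).map g) ≫ scls0 f hf := by
  rw [scls0, Cocycle.fromSingleMk_precomp _ _ _ _ _ hf, hcls_precomp, scls0]

lemma scls0_postcomp (f : M ⟶ L.X n) (hf : f ≫ L.d n (n + 1) = 0) {L' : CochainComplex C ℤ}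
    (g : L ⟶ L') :
    scls0 (f ≫ g.f n) (by simp [reassoc_of% hf]) =
      scls0 f hf ≫ (DerivedCategory.Q.map g)⟦n⟧' := by
  rw [scls0, Cocycle.fromSingleMk_postcomp _ _ _ _ hf, hcls_postcomp, scls0]

lemma scls0_surjective [L.IsKInjective]
    (φ : DerivedCategory.Q.obj ((CochainComplex.singleFunctor C 0).obj M) ⟶
      (DerivedCategory.Q.obj L)⟦n⟧) :
    ∃ (f : M ⟶ L.X n) (hf : f ≫ L.d n (n + 1) = 0), scls0 f hf = φ := by
  obtain ⟨z, hz⟩ := hcls_surjective (K := (CochainComplex.singleFunctor C 0).obj M) (L := L)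
    (n := n) φ
  obtain ⟨f, hf, rfl⟩ := Cocycle.fromSingleMk_surjective z n (zero_add n) (n + 1) rfl
  exact ⟨f, hf, hz⟩

lemma scls0_eq_zero_iff [L.IsKInjective] (f : M ⟶ L.X n) (hf : f ≫ L.d n (n + 1) = 0) :
    scls0 f hf = 0 ↔ ∃ g : M ⟶ L.X (n - 1), g ≫ L.d (n - 1) n = f := by
  rw [scls0, hcls_eq_zero_iff,
    Cocycle.fromSingleMk_mem_coboundaries_iff _ _ _ _ _ (n - 1) (by simp)]

lemma scls0_eq_zero_of_exists (f : M ⟶ L.X n) (hf : f ≫ L.d n (n + 1) = 0)
    (h : ∃ g : M ⟶ L.X (n - 1), g ≫ L.d (n - 1) n = f) : scls0 f hf = 0 := by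
  refine hcls_eq_zero_of_mem (K := (CochainComplex.singleFunctor C 0).obj M) _ ?_
  rwa [Cocycle.fromSingleMk_mem_coboundaries_iff _ _ _ _ _ (n - 1) (by simp)]

/-- the morphism `M[0] ⟶ L[n]` in the derived category attached to `f : M ⟶ L.X n` with
`f ≫ d = 0`. -/
noncomputable def scls (f : M ⟶ L.X n) (hf : f ≫ L.d n (n + 1) = 0) :
    (DerivedCategory.singleFunctor C 0).obj M ⟶ (DerivedCategory.Q.obj L)⟦n⟧ :=
  scls0 f hf

lemma scls_add (f f' : M ⟶ L.X n) (hf : f ≫ L.d n (n + 1) = 0) (hf' : f' ≫ L.d n (n + 1) = 0) :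
    scls (f + f') (by simp [hf, hf']) = scls f hf + scls f' hf' :=
  scls0_add f f' hf hf'

lemma scls_smul {R : Type t} [Ring R] [Linear R C] (r : R) (f : M ⟶ L.X n)
    (hf : f ≫ L.d n (n + 1) = 0) :
    scls (r • f) (by simp [hf]) = r • scls f hf :=
  scls0_smul r f hf

lemma scls_precomp {M' : C} (g : M' ⟶ M) (f : M ⟶ L.X n) (hf : f ≫ L.d n (n + 1) = 0) :
    scls (g ≫ f) (by simp [hf]) =
      (DerivedCategory.singleFunctor C 0).map g ≫ scls f hf :=
  scls0_precomp g f hf

lemma scls_postcomp (f : M ⟶ L.X n) (hf : f ≫ L.d n (n + 1) = 0) {L' : CochainComplex C ℤ}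
    (g : L ⟶ L') :
    scls (f ≫ g.f n) (by simp [reassoc_of% hf]) = scls f hf ≫ (DerivedCategory.Q.map g)⟦n⟧' :=
  scls0_postcomp f hf g

lemma scls_surjective [L.IsKInjective]
    (φ : (DerivedCategory.singleFunctor C 0).obj M ⟶ (DerivedCategory.Q.obj L)⟦n⟧) :
    ∃ (f : M ⟶ L.X n) (hf : f ≫ L.d n (n + 1) = 0), scls f hf = φ :=
  scls0_surjective φ

lemma scls_eq_zero_iff [L.IsKInjective] (f : M ⟶ L.X n) (hf : f ≫ L.d n (n + 1) = 0) :
    scls f hf = 0 ↔ ∃ g : M ⟶ L.X (n - 1), g ≫ L.d (n - 1) n = f :=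
  scls0_eq_zero_iff f hf

lemma scls_eq_zero_of_exists (f : M ⟶ L.X n) (hf : f ≫ L.d n (n + 1) = 0)
    (h : ∃ g : M ⟶ L.X (n - 1), g ≫ L.d (n - 1) n = f) : scls f hf = 0 :=
  scls0_eq_zero_of_exists f hf h

end Single

end Groth.Agent.LoccohB.HomCls
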