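import Groth.Agent.LoccohB.Divisor
import Mathlib.Algebra.MvPolynomial.Equiv
import Mathlib.RingTheory.Polynomial.Basic
import Mathlib.RingTheory.Regular.RegularSequence

/-!
# More good surjections: ring isomorphisms, evaluation maps, quotients by weakly regular sequences
-/

set_option autoImplicit false

universe u v w

open CategoryTheory CategoryTheory.Limits CategoryTheory.Functor

attribute [local instance] HasDerivedCategory.standard

namespace Groth.Agent.LoccohB.GoodEval

open DerivedCategory Divisor

section Id

variable (A : Type u) [CommRing A]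

/-- `restrictD` along a ring homomorphism equal to the identity. -/
noncomputable def restrictDId (φ : A →+* A) (h : φ = RingHom.id A) : DRing.restrictD φ ≅ 𝟭 (Dual.D A) := by
  letI : Localization.Lifting (Q (C := ModuleCat.{u} A)) (HomologicalComplex.quasiIso _ (ComplexShape.up ℤ))
      Q (𝟭 (Dual.D A)) := ⟨Functor.rightUnitor _⟩
  exact Localization.liftNatIso Q (HomologicalComplex.quasiIso _ (ComplexShape.up ℤ))
    ((ModuleCat.restrictScalars.{u} φ).mapHomologicalComplex (ComplexShape.up ℤ) ⋙ Q)
    Q _ _ (isoWhiskerRight (NatIso.mapHomologicalComplex (ModuleCat.restrictScalarsId' φ h) _ ≪≫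
      Functor.mapHomologicalComplexIdIso _ _) Q ≪≫ Functor.leftUnitor _)

end Id

section Equiv

variable {A B : Type u} [CommRing A] [CommRing B] (e : A ≃+* B)

/-- `restrictD` along a ring isomorphism is an equivalence. -/
noncomputable def restrictDEquiv : Dual.D B ≌ Dual.D A :=
  CategoryTheory.Equivalence.mk (DRing.restrictD (e : A →+* B)) (DRing.restrictD (e.symm : B →+* A))
    ((restrictDId B ((e : A →+* B).comp (e.symm : B →+* A)) (by ext x; simp)).symm ≪≫
      RAdj.restrictDComp (e.symm : B →+* A) (e : A →+* B))
    ((RAdj.restrictDComp (e : A →+* B) (e.symm : B →+* A)).symm ≪≫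
      restrictDId A ((e.symm : B →+* A).comp (e : A →+* B)) (by ext x; simp))

theorem isEquivalence_restrictD : (DRing.restrictD (e : A →+* B)).IsEquivalence :=
  (restrictDEquiv e).isEquivalence_functor

/-- Ring isomorphisms are `0`-good. -/
theorem isGood_equiv : IsGood (e : A →+* B) 0 := by
  intro _ R adj N
  have a1 : DRing.restrictD (e : A →+* B) ⊣ (restrictDEquiv e).inverse := (restrictDEquiv e).toAdjunction
  have a2 : (restrictDEquiv e).inverse ⊣ DRing.restrictD (e : A →+* B) := (restrictDEquiv e).symm.toAdjunction
  let e1 := adj.rightAdjointUniq a1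
  let e2 := (LBC.lbcAdj (e : A →+* B)).leftAdjointUniq a2
  exact ⟨(shiftFunctorZero _ ℤ).app _ ≪≫ e1.app N ≪≫ (e2.app N).symm⟩

end Equiv

theorem isGood_congr {A B : Type u} [CommRing A] [CommRing B] {φ ψ : A →+* B} {m n : ℤ} (h : IsGood φ m)
    (hφ : φ = ψ) (hm : m = n) : IsGood ψ n := by
  subst hφ hm
  exact h

section Eval

open Polynomial in
/-- `S[X] → S`, `X ↦ a` is `1`-good. -/
theorem isGood_polynomial_eval {S : Type u} [CommRing S] (a : S) : IsGood (Polynomial.evalRingHom a) 1 := by
  refine isGood_of_nonZeroDivisor _ (X - C a) (fun s => ⟨C s, by simp⟩) ?_ ?_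
  · ext p
    rw [RingHom.mem_ker, Ideal.mem_span_singleton, Polynomial.dvd_iff_isRoot]
    rfl
  · exact (Polynomial.monic_X_sub_C a).mem_nonZeroDivisors

/-- Evaluation `S[y_1, …, y_m] → S`, `y_i ↦ c_i` is `m`-good. -/
theorem isGood_mvPolynomial_eval {S : Type u} [CommRing S] : ∀ (m : ℕ) (c : Fin m → S),
    IsGood (MvPolynomial.eval c) m
  | 0, c => by
    refine isGood_congr (isGood_equiv (MvPolynomial.isEmptyRingEquiv S (Fin 0))) ?_ rfl
    ext x
    · simp only [RingHom.comp_apply, MvPolynomial.eval_C]
      exact MvPolynomial.coeff_zero_C _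
    · exact Fin.elim0 x
  | m + 1, c => by
    have h1 := isGood_equiv (MvPolynomial.finSuccEquiv S m).toRingEquiv
    have h2 := isGood_polynomial_eval (MvPolynomial.C (σ := Fin m) (c 0))
    have h3 := isGood_mvPolynomial_eval m (fun i => c i.succ)
    refine isGood_congr ((h1.comp h2).comp h3) ?_ ?_
    · apply MvPolynomial.ringHom_ext
      · intro r
        have h : MvPolynomial.finSuccEquiv S m (MvPolynomial.C r) =
            Polynomial.C (MvPolynomial.C r) := (MvPolynomial.finSuccEquiv S m).commutes r
        simp [h]
      · intro i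
        refine Fin.cases ?_ (fun i => ?_) i
        · simp [MvPolynomial.finSuccEquiv_X_zero]
        · simp [MvPolynomial.finSuccEquiv_X_succ]
    · push_cast; ring

end Eval

section Regular

open RingTheory.Sequence Pointwise

theorem isWeaklyRegular_quotient {S : Type u} [CommRing S] (f : S) (l : List S)
    (h : IsWeaklyRegular (QuotSMulTop f S) l) :
    IsWeaklyRegular (S ⧸ Ideal.span {f}) (l.map (Ideal.Quotient.mk (Ideal.span {f}))) := by
  have hEq : (f • ⊤ : Submodule S S) = Ideal.span {f} := by
    rw [← Submodule.ideal_span_singleton_smul, smul_eq_mul, Ideal.mul_top]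
  let e : QuotSMulTop f S ≃ₗ[S] S ⧸ (Ideal.span {f} : Submodule S S) := Submodule.quotEquivOfEq _ _ hEq
  refine (AddEquiv.isWeaklyRegular_congr (e := e.toAddEquiv) ?_).1 h
  rw [List.forall₂_map_right_iff, List.forall₂_same]
  intro r _ x
  exact e.map_smul r x

/-- A surjection whose kernel is generated by a weakly regular sequence of length `m` is `m`-good. -/
theorem isGood_of_isWeaklyRegular : ∀ (n : ℕ) {C : Type u} [CommRing C] (l : List C) (_ : l.length = n)
    (_ : IsWeaklyRegular C l) {C' : Type u} [CommRing C'] (π : C →+* C') (_ : Function.Surjective π)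
    (_ : RingHom.ker π = Ideal.ofList l), IsGood π n
  | 0, C, _, l, hn, h, C', _, π, hπ, hker => by
    obtain rfl : l = [] := List.length_eq_zero_iff.1 hn
    rw [Ideal.ofList_nil] at hker
    have hinj : Function.Injective π := (RingHom.injective_iff_ker_eq_bot π).2 hker
    exact isGood_congr (isGood_equiv (RingEquiv.ofBijective π ⟨hinj, hπ⟩)) (by ext; rfl) rfl
  | n + 1, C, _, [], hn, h, C', _, π, hπ, hker => by simp at hn
  | n + 1, C, _, f :: l, hn, h, C', _, π, hπ, hker => by
    rw [isWeaklyRegular_cons_iff] at h
    have hfker : ∀ a ∈ Ideal.span {f}, π a = 0 := by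
      intro a ha
      have : a ∈ RingHom.ker π := by
        rw [hker, Ideal.ofList_cons]
        exact Ideal.mem_sup_left ha
      exact this
    let π' : C ⧸ Ideal.span {f} →+* C' := Ideal.Quotient.lift (Ideal.span {f}) π hfker
    have h1 : IsGood (Ideal.Quotient.mk (Ideal.span {f})) 1 := by
      refine isGood_of_nonZeroDivisor _ f Ideal.Quotient.mk_surjective (Ideal.mk_ker) ?_
      rw [mem_nonZeroDivisors_iff_right]
      intro x hx
      apply h.1
      change f * x = f * 0
      rw [mul_comm, hx, mul_zero]
    have h2 : IsGood π' n := by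
      refine isGood_of_isWeaklyRegular n (l.map (Ideal.Quotient.mk (Ideal.span {f}))) (by simpa using hn)
        (isWeaklyRegular_quotient f l h.2) π' ?_ ?_
      · intro x
        obtain ⟨c, rfl⟩ := hπ x
        exact ⟨Ideal.Quotient.mk _ c, rfl⟩
      · ext x
        obtain ⟨c, rfl⟩ := Ideal.Quotient.mk_surjective x
        rw [← Ideal.map_ofList]
        change π c = 0 ↔ _
        rw [Ideal.mem_map_iff_of_surjective _ Ideal.Quotient.mk_surjective]
        constructor
        · intro hc
          have : c ∈ RingHom.ker π := hc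
          rw [hker, Ideal.ofList_cons, Submodule.mem_sup] at this
          obtain ⟨y, hy, z, hz, rfl⟩ := this
          refine ⟨z, hz, ?_⟩
          rw [_root_.map_add, Ideal.Quotient.eq_zero_iff_mem.2 hy, zero_add]
        · rintro ⟨z, hz, hzc⟩
          have hz0 : π z = 0 := by
            have : z ∈ RingHom.ker π := by
              rw [hker, Ideal.ofList_cons]
              exact Ideal.mem_sup_right hz
            exact this
          have : π c = π' (Ideal.Quotient.mk _ c) := rfl
          rw [this, ← hzc]
          exact hz0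
    refine isGood_congr (h1.comp h2) ?_ ?_
    · ext x
      rfl
    · push_cast; ring

end Regular

end Groth.Agent.LoccohB.GoodEval
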