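import Groth.Agent.LoccohB.GorKoszul
import Mathlib.Algebra.Category.ModuleCat.Descent
import Groth.Prelude.Def_DDual2
import Groth.Prelude.Def_LCI2

/-!
# Flat base change of Koszul-regular sequences
-/

set_option autoImplicit false

universe u

open CategoryTheory CategoryTheory.Limits TensorProduct

namespace Groth.Agent.LoccohB.GorKoszulFlat

open GorKoszul Groth.Agent.Flat2H.KoszulGen

variable {A B : Type u} [CommRing A] [CommRing B]

theorem isZero_homology_map (F : ModuleCat.{u} A ⥤ ModuleCat.{u} B) [F.Additive]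
    [F.PreservesHomology] (K : CochainComplex (ModuleCat.{u} A) ℤ) (i : ℤ)
    (h : IsZero (K.homology i)) :
    IsZero (((F.mapHomologicalComplex (ComplexShape.up ℤ)).obj K).homology i) :=
  (F.map_isZero h).of_iso ((K.sc i).mapHomologyIso F)

theorem extendScalars_map_smul (φ : A →+* B) (X : ModuleCat.{u} A) (a : A) :
    (ModuleCat.extendScalars.{u, u, u} φ).map (a • 𝟙 X) =
      φ a • 𝟙 ((ModuleCat.extendScalars.{u, u, u} φ).obj X) := by
  let _ : Algebra A B := φ.toAlgebra
  refine ModuleCat.hom_ext (LinearMap.ext fun (z : B ⊗[A] X) => ?_)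
  change ((a • (LinearMap.id : X →ₗ[A] X)).lTensor B) z = φ a • z
  rw [LinearMap.lTensor_smul, LinearMap.smul_apply, LinearMap.lTensor_id, LinearMap.id_apply]
  rfl

noncomputable def extendUnit (φ : A →+* B) :
    (ModuleCat.extendScalars.{u, u, u} φ).obj (ModuleCat.of A A) ≅ ModuleCat.of B B := by
  let _ : Algebra A B := φ.toAlgebra
  exact (show B ⊗[A] A ≃ₗ[B] B from TensorProduct.AlgebraTensorModule.rid A B B).toModuleIso

theorem extend_kos (φ : A →+* B) (l : List A) :
    Nonempty (((ModuleCat.extendScalars.{u, u, u} φ).mapHomologicalComplex (ComplexShape.up ℤ)).obj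
      (kos l (unitCx A)) ≅ kos (l.map φ) (unitCx B)) := by
  obtain ⟨e⟩ := map_kos (ModuleCat.extendScalars.{u, u, u} φ) φ (extendScalars_map_smul φ) l
    (unitCx A)
  obtain ⟨e'⟩ := kos_congr (A := B) (l.map φ)
    ((HomologicalComplex.singleMapHomologicalComplex (ModuleCat.extendScalars.{u, u, u} φ)
      (ComplexShape.up ℤ) 0).app (ModuleCat.of A A) ≪≫
      (HomologicalComplex.single _ (ComplexShape.up ℤ) 0).mapIso (extendUnit φ))
  exact ⟨e ≪≫ e'⟩

theorem isZero_homology_kos_map_of_flat (φ : A →+* B) (hφ : φ.Flat) (l : List A) (i : ℤ)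
    (h : IsZero ((kos l (unitCx A)).homology i)) :
    IsZero ((kos (l.map φ) (unitCx B)).homology i) := by
  have := ModuleCat.preservesFiniteLimits_extendScalars_of_flat hφ
  obtain ⟨e⟩ := extend_kos φ l
  refine (isZero_homology_map (ModuleCat.extendScalars.{u, u, u} φ) _ i h).of_iso ?_
  exact (HomologicalComplex.homologyFunctor _ _ i).mapIso e.symm

theorem isKoszulRegularSeq_iff (l : List A) : LCI.IsKoszulRegularSeq A l ↔
    ∀ i : ℤ, i ≠ 0 → IsZero ((kos l (unitCx A)).homology i) := by
  refine forall_congr' fun i => imp_congr_right fun _ => ?_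
  exact ((HomologicalComplex.homologyFunctor _ _ i).mapIso
    (eqToIso (koszul_eq_kos A l))).isZero_iff

theorem isKoszulRegularSeq_map_of_flat (φ : A →+* B) (hφ : φ.Flat) (l : List A)
    (h : LCI.IsKoszulRegularSeq A l) : LCI.IsKoszulRegularSeq B (l.map φ) := by
  rw [isKoszulRegularSeq_iff] at h ⊢
  exact fun i hi => isZero_homology_kos_map_of_flat φ hφ l i (h i hi)

/-- A Koszul-regular sequence in the maximal ideal of a Noetherian local ring is regular. -/
theorem isWeaklyRegular_of_isKoszulRegularSeq [IsNoetherianRing A] [IsLocalRing A] (l : List A)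
    (hl : ∀ x ∈ l, x ∈ IsLocalRing.maximalIdeal A) (h : LCI.IsKoszulRegularSeq A l) :
    RingTheory.Sequence.IsWeaklyRegular A l := by
  have := isWeaklyRegular_reverse l hl fun i hi => (isKoszulRegularSeq_iff l).1 h i hi.ne
  exact IsLocalRing.isWeaklyRegular_of_perm_of_subset_maximalIdeal this (List.reverse_perm l)
    (fun x hx => hl x (List.mem_reverse.1 hx))

end Groth.Agent.LoccohB.GorKoszulFlat
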