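import Groth.Agent.LoccohB.GorBasic
import Groth.Agent.LoccohB.GorKoszulFlat
import Mathlib.RingTheory.Localization.LocalizationLocalization
import Mathlib.RingTheory.Flat.Localization

/-!
# Quotients of Gorenstein rings by Koszul-regular ideals are Gorenstein
-/

set_option autoImplicit false

universe u

open CategoryTheory CategoryTheory.Limits

namespace Groth.Agent.LoccohB.GorLci

open GorBasic GorKoszul GorKoszulFlat LocCoh

/-- `(P/I)_q` is `P_p / I P_p`. -/
theorem FID_localization_of_surjective {P B : Type u} [CommRing P] [CommRing B] (φ : P →+* B)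
    (hφ : Function.Surjective φ) (q : Ideal B) [q.IsPrime]
    (h : FID (Localization.AtPrime (q.comap φ) ⧸
      (RingHom.ker φ).map (algebraMap P (Localization.AtPrime (q.comap φ))))) :
    FID (Localization.AtPrime q) := by
  set p := q.comap φ with hp
  set Pp := Localization.AtPrime p
  set J : Ideal Pp := (RingHom.ker φ).map (algebraMap P Pp)
  let g : Pp →+* Pp ⧸ J := Ideal.Quotient.mk J
  have hker : ∀ x, φ x = 0 → (g.comp (algebraMap P Pp)) x = 0 := by
    intro x hx
    change Ideal.Quotient.mk J (algebraMap P Pp x) = 0
    rw [Ideal.Quotient.eq_zero_iff_mem]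
    exact Ideal.mem_map_of_mem _ hx
  let h' : B →+* Pp ⧸ J := (Ideal.Quotient.lift (RingHom.ker φ) (g.comp (algebraMap P Pp)) hker).comp
    (RingHom.quotientKerEquivOfSurjective hφ).symm.toRingHom
  let _ : Algebra B (Pp ⧸ J) := h'.toAlgebra
  have H : g.comp (algebraMap P Pp) = (algebraMap B (Pp ⧸ J)).comp φ := by
    ext x
    change g (algebraMap P Pp x) = (Ideal.Quotient.lift (RingHom.ker φ) (g.comp (algebraMap P Pp)) hker)
      ((RingHom.quotientKerEquivOfSurjective hφ).symm (φ x))
    have : (RingHom.quotientKerEquivOfSurjective hφ).symm (φ x) = Ideal.Quotient.mk _ x := by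
      rw [RingEquiv.symm_apply_eq]
      rfl
    rw [this]
    rfl
  have hmap : p.primeCompl.map φ = q.primeCompl := Ideal.map_primeCompl_comap_of_surjective φ hφ q
  have hloc : IsLocalization (p.primeCompl.map φ) (Pp ⧸ J) :=
    IsLocalization.of_surjective p.primeCompl Pp φ hφ g Ideal.Quotient.mk_surjective H (by
      rw [Ideal.mk_ker])
  rw [hmap] at hloc
  exact h.of_ringEquiv
    (IsLocalization.algEquiv q.primeCompl (Localization.AtPrime q) (Pp ⧸ J)).symm.toRingEquiv

/-- At a prime containing a Koszul-regular ideal of a Noetherian ring, the ideal is generated by a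
regular sequence. -/
theorem exists_isWeaklyRegular_atPrime {P : Type u} [CommRing P] [IsNoetherianRing P]
    (I : Ideal P) (hI : LCI.IsKoszulRegularIdeal I) (p : Ideal P) [p.IsPrime] (hp : I ≤ p) :
    ∃ l : List (Localization.AtPrime p),
      RingTheory.Sequence.IsWeaklyRegular (Localization.AtPrime p) l ∧
      LCI.IsKoszulRegularSeq (Localization.AtPrime p) l ∧
      (∀ x ∈ l, x ∈ IsLocalRing.maximalIdeal (Localization.AtPrime p)) ∧
      I.map (algebraMap P (Localization.AtPrime p)) = Ideal.ofList l := by
  obtain ⟨g, hg, l, hl, hIl⟩ := hI ⟨p, inferInstance⟩ hp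
  have hle : Submonoid.powers g ≤ p.primeCompl := by
    rw [Submonoid.powers_le]; exact hg
  let _ : Algebra (Localization.Away g) (Localization.AtPrime p) :=
    IsLocalization.localizationAlgebraOfSubmonoidLe (Localization.Away g)
      (Localization.AtPrime p) (Submonoid.powers g) p.primeCompl hle
  have := IsLocalization.localization_isScalarTower_of_submonoid_le (Localization.Away g)
      (Localization.AtPrime p) (Submonoid.powers g) p.primeCompl hle
  have hloc := IsLocalization.isLocalization_of_submonoid_le (Localization.Away g)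
      (Localization.AtPrime p) (Submonoid.powers g) p.primeCompl hle
  have hflat : (algebraMap (Localization.Away g) (Localization.AtPrime p)).Flat := by
    rw [RingHom.flat_algebraMap_iff]
    exact IsLocalization.flat _ (p.primeCompl.map (algebraMap P (Localization.Away g)))
  have h1 := isKoszulRegularSeq_map_of_flat _ hflat l hl
  have h2 : I.map (algebraMap P (Localization.AtPrime p)) =
      Ideal.ofList (l.map (algebraMap (Localization.Away g) (Localization.AtPrime p))) := by
    rw [IsScalarTower.algebraMap_eq P (Localization.Away g) (Localization.AtPrime p),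
      ← Ideal.map_map, hIl, Ideal.map_span]
    unfold Ideal.ofList
    congr 1
    ext x
    simp
  have h3 : ∀ x ∈ l.map (algebraMap (Localization.Away g) (Localization.AtPrime p)),
      x ∈ IsLocalRing.maximalIdeal (Localization.AtPrime p) := by
    intro x hx
    have : x ∈ I.map (algebraMap P (Localization.AtPrime p)) := by
      rw [h2]; exact Ideal.subset_span hx
    rw [← Localization.AtPrime.map_eq_maximalIdeal]
    exact Ideal.map_mono hp this
  exact ⟨_, isWeaklyRegular_of_isKoszulRegularSeq _ h3 h1, h1, h3, h2⟩

theorem isGorensteinRing_of_surjective {P B : Type u} [CommRing P] [CommRing B]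
    (hP : IsGorensteinRing P) (φ : P →+* B) (hφ : Function.Surjective φ)
    (hI : LCI.IsKoszulRegularIdeal (RingHom.ker φ)) : IsGorensteinRing B := by
  have : IsNoetherianRing P := inferInstance
  have : IsNoetherianRing B := isNoetherianRing_of_surjective P B φ hφ
  refine isGorensteinRing_iff.2 ⟨inferInstance, fun q hq => ?_⟩
  apply FID_localization_of_surjective φ hφ q
  obtain ⟨l, hl, -, -, hIl⟩ := exists_isWeaklyRegular_atPrime (RingHom.ker φ) hI (q.comap φ)
    (Ideal.ker_le_comap φ)
  exact (((isGorensteinRing_iff.1 hP).2 (q.comap φ)).quotient_ofList l hl).of_ringEquiv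
    (Ideal.quotEquivOfEq hIl.symm)

theorem isGorensteinRing_of_isLCI (A B : Type u) [CommRing A] [CommRing B] [Algebra A B]
    (hA : IsGorensteinRing A) (h : LCI.IsLCI A B) : IsGorensteinRing B := by
  obtain ⟨-, n, f, hf, hI⟩ := h
  exact isGorensteinRing_of_surjective (isGorensteinRing_mvPolynomial hA n) f.toRingHom hf hI

end Groth.Agent.LoccohB.GorLci
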