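import Groth.Agent.LoccohB.DQCohTri
import Groth.Agent.PerfA.Restrict
import Groth.Agent.PerfA.CohSerre

/-!
# Perfect objects have quasi-coherent cohomology
-/

set_option autoImplicit false

universe u

open CategoryTheory CategoryTheory.Limits AlgebraicGeometry Pretriangulated

attribute [local instance] HasDerivedCategory.standard

namespace Groth.Agent.LoccohB.PerfQCoh

open Groth.Agent.PerfA.CohomIn Groth.Agent.PerfA.QCohSerre Groth.Agent.PerfA

variable {X : Scheme.{u}}

lemma isQCohD_Q_of_isStrictlyPerfect {E : CochainComplex X.Modules ℤ}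
    (hE : DCoh.IsStrictlyPerfect E) : DCoh.IsQCohD (DerivedCategory.Q.obj E) :=
  coh_Q_of_terms (qcoh X) E (fun i => (CohSerre.isCoh_of_isFinLocFree (hE.2 i)).1)

/-- A perfect object of `D(O_X)` has quasi-coherent cohomology sheaves. -/
theorem isQCohD_of_isPerfect {K : DCoh.D X} (hK : DCoh.IsPerfect K) : DCoh.IsQCohD K := by
  intro i
  refine isQCoh_of_restrict_opens _ (fun x => ?_)
  obtain ⟨V, hxV, E, hE, ⟨e⟩⟩ := (Restrict.isPerfect_iff K).1 hK x
  refine ⟨V, hxV, ?_⟩
  refine DQCohBasic.isQCoh_of_iso (Restrict.HDrestrict V.ι K i) ?_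
  exact DQCohBasic.isQCohD_of_iso e.symm (isQCohD_Q_of_isStrictlyPerfect hE) i

end Groth.Agent.LoccohB.PerfQCoh
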