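import Groth.Agent.LoccohB.RpushTri
import Groth.Agent.LoccohB.PerfQCoh
import Groth.Agent.S1000
import Groth.Agent.S1003
import Groth.Agent.S1008

/-!
# `D_QCoh(O_X)` is compactly generated, `Rf_*` commutes with coproducts on it
-/

set_option autoImplicit false

universe u

open CategoryTheory CategoryTheory.Limits AlgebraicGeometry Pretriangulated

attribute [local instance] HasDerivedCategory.standard

namespace Groth.Agent.LoccohB.RightAdj

open Groth.Agent.CohtopA.BrownW DQCohTri

variable {X : Scheme.{u}} {Y : Scheme.{u}}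

/-- A perfect object is compact in `D_QCoh(O_X)`. -/
lemma isCompactW_of_isPerfect [CompactSpace X] [QuasiSeparatedSpace X] (K : DCoh.DQCoh X)
    (hK : DCoh.IsPerfect K.obj) : IsCompactW.{u} K :=
  FullSubTri.isCompactW_fullSubcategory DCoh.IsQCohD K ((S1003.result X K.obj K.property).2 hK)

variable (X) in
/-- `D_QCoh(O_X)` has a perfect generator which is compact. -/
lemma exists_compact_generator [CompactSpace X] [QuasiSeparatedSpace X] :
    ∃ P : DCoh.DQCoh X, DCoh.IsPerfect P.obj ∧ IsCompactW.{u} P ∧
      CohDer.Generates (fun _ : PUnit.{u + 1} => P) := by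
  obtain ⟨P, hP, hP'⟩ := S1008.result X
  refine ⟨⟨P, PerfQCoh.isQCohD_of_isPerfect hP⟩, hP, isCompactW_of_isPerfect _ hP, ?_⟩
  exact FullSubTri.generates_fullSubcategory DCoh.IsQCohD _
    (fun L hL h => (hP' L hL).2 (fun n φ => h PUnit.unit n φ))

/-- `Rf_*` commutes with coproducts on `D_QCoh`. -/
lemma preservesCoproducts (f : X ⟶ Y) [QuasiCompact f] [QuasiSeparated f] [DCoh.HasRpush f]
    (J : Type u) : PreservesColimitsOfShape (Discrete J)
      (ObjectProperty.ι (DCoh.IsQCohD (X := X)) ⋙ DCoh.Rpush f) := by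
  have h : ∀ (K : J → DCoh.DQCoh X), PreservesColimit (Discrete.functor K)
      (ObjectProperty.ι (DCoh.IsQCohD (X := X)) ⋙ DCoh.Rpush f) := by
    intro K
    have h1 : IsIso (sigmaComparison (DCoh.Rpush f) (fun i => (K i).obj)) :=
      S1000.result f (fun i => (K i).obj) (fun i => (K i).property)
    have h2 : PreservesColimit (Discrete.functor (fun i => (K i).obj)) (DCoh.Rpush f) :=
      PreservesCoproduct.of_iso_comparison (DCoh.Rpush f) (fun i => (K i).obj)
    have h3 : PreservesColimit (Discrete.functor K ⋙ ObjectProperty.ι (DCoh.IsQCohD (X := X)))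
        (DCoh.Rpush f) :=
      preservesColimit_of_iso_diagram (DCoh.Rpush f)
        (K₁ := Discrete.functor (fun i => (K i).obj)) (Discrete.natIso (fun _ => Iso.refl _))
    exact comp_preservesColimit _ _
  exact ⟨fun {K} => preservesColimit_of_iso_diagram _ (Discrete.natIsoFunctor (F := K)).symm⟩

end Groth.Agent.LoccohB.RightAdj
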