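import Groth.Agent.CohtopA.BrownW
import Mathlib.CategoryTheory.Adjunction.Additive

/-!
# Right adjoints of functors preserving compact generators commute with coproducts
-/

set_option autoImplicit false

universe w v u v' u' t

open CategoryTheory CategoryTheory.Limits Pretriangulated

namespace Groth.Agent.LoccohB.AdjCoprod

open Groth.Agent.CohtopA.BrownW Groth.Agent.CohtopA.Compact

variable {D : Type u} [Category.{v} D] [Preadditive D]
  {D' : Type u'} [Category.{v'} D'] [Preadditive D']

/-- If `F ⊣ G` and `F.obj K` is compact, morphisms from `K` to `G.obj c.pt` are finite sums. -/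
lemma exists_finset_sum {F : D ⥤ D'} {G : D' ⥤ D} (adj : F ⊣ G) [G.Additive] {K : D}
    (hK : IsCompactW.{w} (F.obj K)) {ι : Type w} {X : ι → D'} {c : Cofan X} (hc : IsColimit c)
    (f : K ⟶ G.obj c.pt) :
    ∃ (s : Finset ι) (g : ∀ i, K ⟶ G.obj (X i)), f = ∑ i ∈ s, g i ≫ G.map (c.inj i) := by
  obtain ⟨s, g, hg⟩ := hK _ _ c hc ((adj.homEquiv _ _).symm f)
  refine ⟨s, fun i => adj.homEquiv _ _ (g i), ?_⟩
  rw [← (adj.homEquiv _ _).apply_symm_apply f, hg]
  simp only [Adjunction.homEquiv_unit, Functor.map_sum, Preadditive.comp_sum, Functor.map_comp,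
    Category.assoc]

/-- The comparison morphism `∐ G(X i) ⟶ G(∐ X i)` induces a bijection on morphisms from `K`
when `K` and `F.obj K` are compact. -/
lemma bijective_comp_desc {F : D ⥤ D'} {G : D' ⥤ D} (adj : F ⊣ G) [G.Additive] {K : D}
    (hK : IsCompactW.{w} K) (hK' : IsCompactW.{w} (F.obj K)) {ι : Type w} {X : ι → D'}
    {c : Cofan X} (hc : IsColimit c) {c' : Cofan (fun i => G.obj (X i))} (hc' : IsColimit c')
    (j : c'.pt ⟶ G.obj c.pt) (hj : ∀ i, c'.inj i ≫ j = G.map (c.inj i)) :
    Function.Bijective (fun f : K ⟶ c'.pt => f ≫ j) := by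
  classical
  constructor
  · intro f₁ f₂ h
    rw [← sub_eq_zero]
    dsimp only at h
    have h' : (f₁ - f₂) ≫ j = 0 := by rw [Preadditive.sub_comp, h, sub_self]
    obtain ⟨s, hs, hs'⟩ := IsFiniteSum.eq_sum_proj hc' (hK ι _ c' hc' (f₁ - f₂))
    rw [hs']
    refine Finset.sum_eq_zero (fun i hi => ?_)
    have h1 : ((f₁ - f₂) ≫ j) ≫ G.map (proj hc i) = (f₁ - f₂) ≫ proj hc' i := by
      rw [Category.assoc]
      congr 1
      refine Cofan.IsColimit.hom_ext hc' _ _ (fun k => ?_)
      rw [← Category.assoc, hj, ← Functor.map_comp]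
      by_cases hki : k = i
      · subst hki
        rw [inj_proj_self, inj_proj_self, CategoryTheory.Functor.map_id]
      · rw [inj_proj_of_ne hc k i hki, inj_proj_of_ne hc' k i hki, Functor.map_zero]
    rw [← h1, h', zero_comp, zero_comp]
  · intro f
    obtain ⟨s, g, hg⟩ := exists_finset_sum adj hK' hc f
    refine ⟨∑ i ∈ s, g i ≫ c'.inj i, ?_⟩
    dsimp only
    rw [hg, Preadditive.sum_comp]
    exact Finset.sum_congr rfl (fun i _ => by rw [Category.assoc, hj])

/-- A right adjoint `G` of an additive functor `F` commutes with `w`-coproducts if the source of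
`F` is compactly generated by `E` and `F` sends the shifts of the `E k` to compact objects. -/
theorem preservesCoproducts_of_adj [HasZeroObject D] [HasShift D ℤ]
    [∀ n : ℤ, (shiftFunctor D n).Additive] [Pretriangulated D] [HasCoproducts.{w} D]
    {κ : Type t} (E : κ → D) (hE : ∀ k, IsCompactW.{w} (E k)) (hE' : CohDer.Generates E)
    {F : D ⥤ D'} {G : D' ⥤ D} (adj : F ⊣ G) [G.Additive]
    (hF : ∀ (k : κ) (n : ℤ), IsCompactW.{w} (F.obj ((E k)⟦n⟧))) (ι : Type w) :
    PreservesColimitsOfShape (Discrete ι) G := by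
  have h : ∀ (X : ι → D'), PreservesColimit (Discrete.functor X) G := by
    intro X
    refine ⟨fun {c} hc => ?_⟩
    let c₀ : Cofan X := c
    have hc₀ : IsColimit c₀ := hc
    let c' : Cofan (fun i => G.obj (X i)) := Cofan.mk (∐ fun i => G.obj (X i)) (Sigma.ι _)
    have hc' : IsColimit c' := coproductIsCoproduct _
    let j : c'.pt ⟶ G.obj c₀.pt := Sigma.desc (fun i => G.map (c₀.inj i))
    have hj : ∀ i, c'.inj i ≫ j = G.map (c₀.inj i) := fun i => by simp [c', j, Cofan.inj]
    have : IsIso j := isIso_of_generates E hE' j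
      (fun k n => bijective_comp_desc adj (isCompactW_shift (hE k) n) (hF k n) hc₀ hc' j hj)
    have h1 : IsColimit (Cofan.mk (G.obj c₀.pt) (fun i => G.map (c₀.inj i))) := by
      refine IsColimit.ofIsoColimit hc' (Cofan.ext (asIso j) (fun i => ?_))
      exact hj i
    exact ⟨(isColimitMapCoconeCofanMkEquiv G _ _).symm h1⟩
  exact ⟨fun {K} => preservesColimit_of_iso_diagram _ (Discrete.natIsoFunctor (F := K)).symm⟩

end Groth.Agent.LoccohB.AdjCoprod
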