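import Groth.Agent.LoccohB.RightAdj
import Groth.Agent.LoccohB.AdjCoprod
import Groth.Agent.PerfA.PerfLocal

/-!
# The right adjoint of `Rf_*` commutes with coproducts when `Rf_*` preserves perfect objects
-/

set_option autoImplicit false

universe u

open CategoryTheory CategoryTheory.Limits AlgebraicGeometry Pretriangulated

attribute [local instance] HasDerivedCategory.standard

namespace Groth.Agent.LoccohB.RightAdj2

open Groth.Agent.CohtopA.BrownW DQCohTri RightAdj

variable {X Y : Scheme.{u}}

lemma locallyOfFinitePresentation_of_isLocallyNoetherian (f : X ⟶ Y) [IsLocallyNoetherian Y]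
    [LocallyOfFiniteType f] : LocallyOfFinitePresentation f where
  finitePresentation_appLE {U} hU {V} hV e := by
    have : IsNoetherianRing Γ(Y, U) := IsLocallyNoetherian.component_noetherian ⟨U, hU⟩
    exact RingHom.FinitePresentation.of_finiteType.1 (f.finiteType_appLE hU hV e)

lemma isPerfect_shift_DQCoh {K : DCoh.DQCoh X} (hK : DCoh.IsPerfect K.obj) (n : ℤ) :
    DCoh.IsPerfect (K⟦n⟧).obj :=
  PerfA.PerfLocal.isPerfect_of_iso
    (((ObjectProperty.ι (DCoh.IsQCohD (X := X))).commShiftIso n).app K).symm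
    (PerfA.PerfLocal.isPerfect_shift hK n)

variable (f : X ⟶ Y) [DCoh.HasRpush f]
    (h : ∀ K : DCoh.D X, DCoh.IsQCohD K → DCoh.IsQCohD ((DCoh.Rpush f).obj K))

instance additive_lift_Rpush : (ObjectProperty.lift DCoh.IsQCohD
    (ObjectProperty.ι DCoh.IsQCohD ⋙ DCoh.Rpush f) (fun K => h K.obj K.property)).Additive := by
  obtain ⟨_, _, -⟩ := LoccohB.RpushTri.exists_isTriangulated_Rpush f
  infer_instance

theorem preservesCoproducts_of_perfect [CompactSpace X] [QuasiSeparatedSpace X]
    [CompactSpace Y] [QuasiSeparatedSpace Y]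
    (hf : ∀ K : DCoh.D X, DCoh.IsPerfect K → DCoh.IsPerfect ((DCoh.Rpush f).obj K))
    (a : DCoh.DQCoh Y ⥤ DCoh.DQCoh X)
    (adj : (ObjectProperty.lift DCoh.IsQCohD (ObjectProperty.ι DCoh.IsQCohD ⋙ DCoh.Rpush f)
      (fun K => h K.obj K.property)) ⊣ a) (J : Type u) :
    PreservesColimitsOfShape (Discrete J) a := by
  obtain ⟨P, hP, hP', hP''⟩ := exists_compact_generator X
  have : a.Additive := adj.right_adjoint_additive
  refine AdjCoprod.preservesCoproducts_of_adj (fun _ : PUnit.{u + 1} => P) (fun _ => hP') hP''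
    adj (fun _ n => ?_) J
  exact isCompactW_of_isPerfect _ (hf _ (isPerfect_shift_DQCoh hP n))

end Groth.Agent.LoccohB.RightAdj2
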