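import Groth.Agent.LoccohB.FullSubTri
import Groth.Agent.LoccohB.DQCohBasic
import Groth.Agent.PerfA.CohomIn
import Groth.Agent.PerfA.QCohSerre
import Groth.Agent.PerfB.CoprodDerived
import Groth.Agent.PerfB.ModExactCoprod
import Groth.Agent.CohqB.QC5
import Groth.Agent.S1040

/-!
# `D_QCoh(O_X)` as a full triangulated subcategory closed under coproducts
-/

set_option autoImplicit false

universe u

open CategoryTheory CategoryTheory.Limits AlgebraicGeometry Pretriangulated

attribute [local instance] HasDerivedCategory.standard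

namespace Groth.Agent.LoccohB.DQCohTri

open Groth.Agent.PerfA.CohomIn Groth.Agent.PerfA.QCohSerre

variable (X : Scheme.{u})

instance isClosedUnderExtensions_qcoh : (qcoh X).IsClosedUnderExtensions where
  prop_X₂_of_shortExact {S} hS h₁ h₃ := by
    have := hS.mono_f
    have := hS.epi_g
    exact CohqB.QC5.isQuasicoherent_of_extension hS.exact h₁ h₃

lemma isQCohD_eq_coh : (DCoh.IsQCohD : ObjectProperty (DCoh.D X)) = coh (qcoh X) := rfl

instance isTriangulated_isQCohD : (DCoh.IsQCohD : ObjectProperty (DCoh.D X)).IsTriangulated :=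
  inferInstanceAs (coh (qcoh X)).IsTriangulated

instance isClosedUnderIsomorphisms_isQCohD :
    (DCoh.IsQCohD : ObjectProperty (DCoh.D X)).IsClosedUnderIsomorphisms :=
  inferInstanceAs (coh (qcoh X)).IsClosedUnderIsomorphisms

noncomputable instance hasCoproducts : HasCoproducts.{u} (DCoh.D X) := fun J =>
  inferInstanceAs (HasColimitsOfShape (Discrete J) (DerivedCategory X.Modules))

instance isClosedUnderColimitsOfShape_isQCohD (J : Type u) :
    (DCoh.IsQCohD : ObjectProperty (DCoh.D X)).IsClosedUnderColimitsOfShape (Discrete J) :=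
  .mk' (by
    rintro _ ⟨F, hF⟩
    refine (DCoh.IsQCohD (X := X)).prop_of_iso (HasColimit.isoOfNatIso Discrete.natIsoFunctor).symm ?_
    exact S1040.result X _ (fun i => hF ⟨i⟩))

end Groth.Agent.LoccohB.DQCohTri
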