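import Groth.Agent.LoccohB.InjRep
import Groth.Prelude.Def_DRing4

/-!
# Cohomology of Hom complexes and morphisms in D(A)

For complexes K, L of A-modules with L K-injective or K K-projective, an A-linear isomorphism
H^n(Hom(K, L)) = Hom_{D(A)}(K, L[n]), natural in K and L.
-/

set_option autoImplicit false
universe w v u
open CategoryTheory Limits CochainComplex CochainComplex.HomComplex DerivedCategory
open Groth.Agent.LoccohB.InjRep

namespace Groth.Agent.LoccohB.HomCxHD

attribute [local instance] HasDerivedCategory.standard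

variable {A : Type u} [CommRing A]

section Cls

/-- The homology class of a family of cocycles, parametrized linearly. -/
noncomputable def cls (C : DRing.Cx A) (n : ℤ) {M : Type u} [AddCommGroup M] [Module A M]
    (f : M →ₗ[A] C.X n) (hf : ∀ x, (C.d n (n + 1)).hom (f x) = 0) : M →ₗ[A] C.homology n :=
  (C.liftCycles (ModuleCat.ofHom f) (n + 1) (by simp) (by ext x; exact hf x) ≫ C.homologyπ n).hom

variable (C : DRing.Cx A) (n : ℤ) {M : Type u} [AddCommGroup M] [Module A M]
  (f : M →ₗ[A] C.X n) (hf : ∀ x, (C.d n (n + 1)).hom (f x) = 0)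

lemma cls_surjective (h : ∀ y : C.X n, (C.d n (n + 1)).hom y = 0 → ∃ x, f x = y) :
    Function.Surjective (cls C n f hf) := by
  intro z
  obtain ⟨c, rfl⟩ := (ModuleCat.epi_iff_surjective (C.homologyπ n)).1 inferInstance z
  obtain ⟨x, hx⟩ := h ((C.iCycles n).hom c)
    (ConcreteCategory.congr_hom (C.iCycles_d n (n + 1)) c)
  refine ⟨x, ?_⟩
  have hinj : Function.Injective (C.iCycles n) := (ModuleCat.mono_iff_injective _).1 inferInstance
  have : (C.liftCycles (ModuleCat.ofHom f) (n + 1) (by simp) (by ext x; exact hf x)).hom x = c := by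
    apply hinj
    exact (ConcreteCategory.congr_hom (C.liftCycles_i (ModuleCat.ofHom f) (n + 1) (by simp)
      (by ext x; exact hf x)) x).trans hx
  exact congrArg (C.homologyπ n).hom this

lemma cls_eq_zero_iff (x : M) (n' : ℤ) (hn' : n' + 1 = n) :
    cls C n f hf x = 0 ↔ ∃ y : C.X n', (C.d n' n).hom y = f x := by
  have hinj : Function.Injective (C.iCycles n) := (ModuleCat.mono_iff_injective _).1 inferInstance
  let c := (C.liftCycles (ModuleCat.ofHom f) (n + 1) (by simp) (by ext x; exact hf x)).hom x
  have hc : (C.iCycles n).hom c = f x :=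
    ConcreteCategory.congr_hom (C.liftCycles_i (ModuleCat.ofHom f) (n + 1) (by simp)
      (by ext x; exact hf x)) x
  have hex : (ShortComplex.mk (C.toCycles n' n) (C.homologyπ n)
      (C.toCycles_comp_homologyπ n' n)).Exact :=
    ShortComplex.exact_of_g_is_cokernel _ (C.homologyIsCokernel n' n (by simp; omega))
  rw [ShortComplex.moduleCat_exact_iff] at hex
  constructor
  · intro h
    obtain ⟨y, hy⟩ := hex c h
    refine ⟨y, ?_⟩
    rw [← hc, ← hy]
    exact (ConcreteCategory.congr_hom (C.toCycles_i n' n) y).symm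
  · rintro ⟨y, hy⟩
    have : (C.toCycles n' n).hom y = c := by
      apply hinj
      refine (ConcreteCategory.congr_hom (C.toCycles_i n' n) y).trans ?_
      exact hy.trans hc.symm
    change (C.homologyπ n).hom c = 0
    rw [← this]
    exact ConcreteCategory.congr_hom (C.toCycles_comp_homologyπ n' n) y

lemma homologyMap_cls {C' : DRing.Cx A} (g : C ⟶ C') (f' : M →ₗ[A] C'.X n)
    (hf' : ∀ x, (C'.d n (n + 1)).hom (f' x) = 0) (h : ∀ x, (g.f n).hom (f x) = f' x) (x : M) :
    (HomologicalComplex.homologyMap g n).hom (cls C n f hf x) = cls C' n f' hf' x := by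
  have e : C.liftCycles (ModuleCat.ofHom f) (n + 1) (by simp) (by ext x; exact hf x) ≫
      HomologicalComplex.cyclesMap g n =
      C'.liftCycles (ModuleCat.ofHom f') (n + 1) (by simp) (by ext x; exact hf' x) := by
    rw [HomologicalComplex.liftCycles_comp_cyclesMap]
    congr 1
    ext x
    exact h x
  have e2 : (C.liftCycles (ModuleCat.ofHom f) (n + 1) (by simp) (by ext x; exact hf x) ≫
      C.homologyπ n) ≫ HomologicalComplex.homologyMap g n =
      C'.liftCycles (ModuleCat.ofHom f') (n + 1) (by simp) (by ext x; exact hf' x) ≫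
        C'.homologyπ n := by
    rw [Category.assoc, HomologicalComplex.homologyπ_naturality, ← Category.assoc, e]
  exact ConcreteCategory.congr_hom e2 x

lemma cls_comp {N : Type u} [AddCommGroup N] [Module A N] (g : N →ₗ[A] M) (x : N) :
    cls C n (f ∘ₗ g) (fun x => hf (g x)) x = cls C n f hf (g x) := by
  have e : C.liftCycles (ModuleCat.ofHom (f ∘ₗ g)) (n + 1) (by simp)
      (by ext x; exact hf (g x)) = ModuleCat.ofHom g ≫
      C.liftCycles (ModuleCat.ofHom f) (n + 1) (by simp) (by ext x; exact hf x) := by
    rw [← cancel_mono (C.iCycles n)]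
    simp
  have e2 : C.liftCycles (ModuleCat.ofHom (f ∘ₗ g)) (n + 1) (by simp)
      (by ext x; exact hf (g x)) ≫ C.homologyπ n = ModuleCat.ofHom g ≫
      C.liftCycles (ModuleCat.ofHom f) (n + 1) (by simp) (by ext x; exact hf x) ≫
      C.homologyπ n := by
    rw [e, Category.assoc]
  exact ConcreteCategory.congr_hom e2 x

end Cls

section HomCx

variable (K L : DRing.Cx A) (n : ℤ)

/-- The inclusion of cocycles into cochains, A-linear. -/
def incl : Cocycle K L n →ₗ[A] (DRing.homCx K L).X n where
  toFun x := (x : Cochain K L n)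
  map_add' _ _ := rfl
  map_smul' _ _ := rfl

lemma d_incl (x : Cocycle K L n) : ((DRing.homCx K L).d n (n + 1)).hom (incl K L n x) = 0 :=
  x.δ_eq_zero (n + 1)

/-- The homology class of a cocycle in the complex of A-modules Hom(K, L). -/
noncomputable def clsCocycle : Cocycle K L n →ₗ[A] (DRing.homCx K L).homology n :=
  cls (DRing.homCx K L) n (incl K L n) (d_incl K L n)

lemma clsCocycle_surjective : Function.Surjective (clsCocycle K L n) := by
  apply cls_surjective
  intro y hy
  exact ⟨⟨y, (Cocycle.mem_iff n (n + 1) rfl _).2 hy⟩, rfl⟩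

lemma clsCocycle_eq_zero_iff (x : Cocycle K L n) :
    clsCocycle K L n x = 0 ↔ x ∈ coboundaries K L n := by
  unfold clsCocycle
  rw [cls_eq_zero_iff _ _ _ _ _ (n - 1) (by simp), mem_coboundaries_iff x (n - 1) (by simp)]
  rfl

/-- The A-linear map sending a cocycle to the corresponding morphism in D(A). -/
noncomputable def ofCocycleLin : Cocycle K L n →ₗ[A] (Q.obj K ⟶ (Q.obj L)⟦n⟧) where
  toFun x := ofCocycle x
  map_add' x y := ofCocycle_add x y
  map_smul' a x := by
    have : Cocycle.equivHomShift.symm (a • x) = a • Cocycle.equivHomShift.symm x := by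
      ext p : 1
      simp [Cocycle.equivHomShift_symm_apply, Cochain.rightShift_v _ _ _ _ _ _ _ _ rfl]
    simp only [ofCocycle, this, Functor.map_smul, Linear.smul_comp, RingHom.id_apply]

variable {K L n} in
/-- The condition that cocycles modulo coboundaries compute morphisms in D(A). -/
structure Computes (K L : DRing.Cx A) : Prop where
  surj : ∀ n, Function.Surjective (ofCocycle : Cocycle K L n → (Q.obj K ⟶ (Q.obj L)⟦n⟧))
  zero_iff : ∀ n, ∀ x : Cocycle K L n, ofCocycle x = 0 ↔ x ∈ coboundaries K L n

lemma computes_of_isKInjective [L.IsKInjective] : Computes K L where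
  surj n := ofCocycle_surjective_of_isKInjective K L n
  zero_iff n x := ofCocycle_eq_zero_iff_of_isKInjective K L n x

lemma computes_of_isKProjective [K.IsKProjective] : Computes K L where
  surj n := ofCocycle_surjective_of_isKProjective K L n
  zero_iff n x := ofCocycle_eq_zero_iff_of_isKProjective K L n x

/-- H^n(Hom(K, L)) = Hom_{D(A)}(K, L[n]) when L is K-injective or K is K-projective. -/
noncomputable def homologyEquiv (h : Computes K L) :
    (DRing.homCx K L).homology n ≃ₗ[A] (Q.obj K ⟶ (Q.obj L)⟦n⟧) :=
  ((clsCocycle K L n).quotKerEquivOfSurjective (clsCocycle_surjective K L n)).symm ≪≫ₗ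
    Submodule.quotEquivOfEq _ _ (by
      ext x
      rw [LinearMap.mem_ker, LinearMap.mem_ker, clsCocycle_eq_zero_iff]
      exact (h.zero_iff n x).symm) ≪≫ₗ
    (ofCocycleLin K L n).quotKerEquivOfSurjective (show Function.Surjective _ from h.surj n)

lemma homologyEquiv_clsCocycle (h : Computes K L) (x : Cocycle K L n) :
    homologyEquiv K L n h (clsCocycle K L n x) = ofCocycle x := by
  have : ((clsCocycle K L n).quotKerEquivOfSurjective (clsCocycle_surjective K L n)).symm
      (clsCocycle K L n x) = Submodule.Quotient.mk x := by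
    rw [LinearEquiv.symm_apply_eq]
    rfl
  unfold homologyEquiv
  rw [LinearEquiv.trans_apply, LinearEquiv.trans_apply, this]
  rfl

/-- Precomposition Hom(K', L) ⟶ Hom(K, L) on complexes of A-modules. -/
noncomputable def pre {K K' : DRing.Cx A} (f : K ⟶ K') (L : DRing.Cx A) :
    DRing.homCx K' L ⟶ DRing.homCx K L where
  f i := ModuleCat.ofHom
    { toFun := fun z : Cochain K' L i => (Cochain.ofHom f).comp z (zero_add i)
      map_add' := fun z z' => by simp
      map_smul' := fun a z => by simp }
  comm' i j _ := by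
    ext z
    exact (δ_ofHom_comp f z j)

lemma ofCocycle_precomp {K K' L : DRing.Cx A} (f : K ⟶ K') {n : ℤ} (x : Cocycle K' L n) :
    ofCocycle (x.precomp f) = Q.map f ≫ ofCocycle x := by
  unfold ofCocycle
  rw [Cocycle.equivHomShift_symm_precomp, Functor.map_comp, Category.assoc]

lemma ofCocycle_postcomp {K L L' : DRing.Cx A} (f : L ⟶ L') {n : ℤ} (x : Cocycle K L n) :
    ofCocycle (x.postcomp f) = ofCocycle x ≫ (Q.map f)⟦n⟧' := by
  unfold ofCocycle
  rw [Cocycle.equivHomShift_symm_postcomp, Functor.map_comp, Category.assoc, Category.assoc]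
  congr 1
  exact (Q.commShiftIso n).hom.naturality f

lemma homologyMap_pre_clsCocycle {K K' L : DRing.Cx A} (f : K ⟶ K') (n : ℤ) (x : Cocycle K' L n) :
    (HomologicalComplex.homologyMap (pre f L) n).hom (clsCocycle K' L n x) =
      clsCocycle K L n (x.precomp f) := by
  let pl : Cocycle K' L n →ₗ[A] Cocycle K L n :=
    { toFun := fun x => x.precomp f
      map_add' := fun x y => by ext : 1; simp
      map_smul' := fun a x => by ext : 1; simp }
  refine (homologyMap_cls _ _ (incl K' L n) (d_incl K' L n) (pre f L) (incl K L n ∘ₗ pl)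
    (fun x => d_incl K L n _) (fun x => rfl) x).trans ?_
  exact cls_comp _ _ _ (d_incl K L n) pl x

lemma homologyMap_homCxMap_clsCocycle {K L L' : DRing.Cx A} (f : L ⟶ L') (n : ℤ) (x : Cocycle K L n) :
    (HomologicalComplex.homologyMap (DRing.homCxMap K f) n).hom (clsCocycle K L n x) =
      clsCocycle K L' n (x.postcomp f) := by
  let pl : Cocycle K L n →ₗ[A] Cocycle K L' n :=
    { toFun := fun x => x.postcomp f
      map_add' := fun x y => by ext : 1; simp
      map_smul' := fun a x => by ext : 1; simp }
  refine (homologyMap_cls _ _ (incl K L n) (d_incl K L n) (DRing.homCxMap K f) (incl K L' n ∘ₗ pl)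
    (fun x => d_incl K L' n _) (fun x => rfl) x).trans ?_
  exact cls_comp _ _ _ (d_incl K L' n) pl x

lemma homologyEquiv_pre {K K' L : DRing.Cx A} (f : K ⟶ K') (n : ℤ) (h : Computes K L)
    (h' : Computes K' L) (y : (DRing.homCx K' L).homology n) :
    homologyEquiv K L n h ((HomologicalComplex.homologyMap (pre f L) n).hom y) =
      Q.map f ≫ homologyEquiv K' L n h' y := by
  obtain ⟨x, rfl⟩ := clsCocycle_surjective K' L n y
  rw [homologyMap_pre_clsCocycle, homologyEquiv_clsCocycle, homologyEquiv_clsCocycle,
    ofCocycle_precomp]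

lemma homologyEquiv_post {K L L' : DRing.Cx A} (f : L ⟶ L') (n : ℤ) (h : Computes K L)
    (h' : Computes K L') (y : (DRing.homCx K L).homology n) :
    homologyEquiv K L' n h' ((HomologicalComplex.homologyMap (DRing.homCxMap K f) n).hom y) =
      homologyEquiv K L n h y ≫ (Q.map f)⟦n⟧' := by
  obtain ⟨x, rfl⟩ := clsCocycle_surjective K L n y
  rw [homologyMap_homCxMap_clsCocycle, homologyEquiv_clsCocycle, homologyEquiv_clsCocycle,
    ofCocycle_postcomp]

/-- Cohomology of the object of D(A) given by a complex, A-linearly. -/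
noncomputable def hdEquiv (C : DRing.Cx A) (n : ℤ) :
    Dual.HD A (DRing.toD C) n ≃ₗ[A] C.homology n :=
  ((homologyFunctorFactors (ModuleCat.{u} A) n).app C).toLinearEquiv

end HomCx

end Groth.Agent.LoccohB.HomCxHD
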