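import Groth.Agent.LoccohB.InjRep
import Groth.Agent.LoccohB.HomCxHD
import Mathlib.Algebra.Homology.DerivedCategory.SingleTriangle
import Mathlib.RingTheory.Nakayama
import Mathlib.RingTheory.Ideal.AssociatedPrime.Finiteness

/-!
# Criteria for finite injective dimension of objects of D(A)

Long exact sequences for Hom(-, K[i]), finiteness of Hom(M, K[i]) for M finite and K bounded below
with finite cohomology (A Noetherian), reduction of the vanishing of Hom(M, K[i]) to cyclic modules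
A/m with m maximal.
-/

set_option autoImplicit false
universe w v u
open CategoryTheory Limits CochainComplex CochainComplex.HomComplex DerivedCategory
open Groth.Agent.LoccohB.InjRep Groth.Agent.LoccohB.HomCxHD

namespace Groth.Agent.LoccohB.FinInj

attribute [local instance] HasDerivedCategory.standard

section LES

variable {A : Type u} [CommRing A] {M₁ M₂ M₃ : Type u}
  [AddCommGroup M₁] [Module A M₁] [AddCommGroup M₂] [Module A M₂] [AddCommGroup M₃] [Module A M₃]

/-- The map in D(A) attached to a linear map. -/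
noncomputable abbrev inDMap (f : M₁ →ₗ[A] M₂) : Dual.inD A M₁ ⟶ Dual.inD A M₂ :=
  (DerivedCategory.singleFunctor (ModuleCat.{u} A) 0).map (ModuleCat.ofHom f)

variable (f : M₁ →ₗ[A] M₂) (g : M₂ →ₗ[A] M₃) (hf : Function.Injective f)
  (hfg : Function.Exact f g) (hg : Function.Surjective g)

include hf hfg hg in
lemma shortExact : (ShortComplex.mk (ModuleCat.ofHom f) (ModuleCat.ofHom g)
    (by ext x; exact hfg.apply_apply_eq_zero x)).ShortExact where
  exact := by
    rw [ShortComplex.moduleCat_exact_iff]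
    intro x hx
    exact (hfg x).1 hx
  mono_f := (ModuleCat.mono_iff_injective _).2 hf
  epi_g := (ModuleCat.epi_iff_surjective _).2 hg

/-- Exactness of Hom(M₃, Y) → Hom(M₂, Y) → Hom(M₁, Y). -/
lemma exists_of_comp_eq_zero {Y : Dual.D A} (x : Dual.inD A M₂ ⟶ Y) (hx : inDMap f ≫ x = 0)
    (hf : Function.Injective f) (hfg : Function.Exact f g) (hg : Function.Surjective g) :
    ∃ y : Dual.inD A M₃ ⟶ Y, x = inDMap g ≫ y :=
  Pretriangulated.Triangle.yoneda_exact₂ _
    (shortExact f g hf hfg hg).singleTriangle_distinguished x hx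

/-- Extension of morphisms M₁ ⟶ Y along an injection M₁ → M₂ whose cokernel M₃ has no
morphisms to Y[1]. -/
lemma exists_extension {Y : Dual.D A} (x : Dual.inD A M₁ ⟶ Y)
    (hf : Function.Injective f) (hfg : Function.Exact f g) (hg : Function.Surjective g)
    (h : (shortExact f g hf hfg hg).singleTriangle.mor₃ ≫ x⟦(1 : ℤ)⟧' = 0) :
    ∃ y : Dual.inD A M₂ ⟶ Y, x = inDMap f ≫ y := by
  have hT := (shortExact f g hf hfg hg).singleTriangle_distinguished
  have key : ∃ y : Dual.inD A M₂ ⟶ Y, x⟦(1 : ℤ)⟧' = (-(inDMap f)⟦(1 : ℤ)⟧') ≫ y⟦(1 : ℤ)⟧' := by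
    obtain ⟨y, hy⟩ := Pretriangulated.Triangle.yoneda_exact₂ _
      (Pretriangulated.rot_of_distTriang _ (Pretriangulated.rot_of_distTriang _ hT)) (x⟦(1 : ℤ)⟧') h
    obtain ⟨y, rfl⟩ := (CategoryTheory.shiftFunctor (Dual.D A) (1 : ℤ)).map_surjective y
    exact ⟨y, hy⟩
  obtain ⟨y, hy⟩ := key
  refine ⟨-y, ?_⟩
  apply (CategoryTheory.shiftFunctor (Dual.D A) (1 : ℤ)).map_injective
  rw [Functor.map_comp, Functor.map_neg, hy, Preadditive.comp_neg, Preadditive.neg_comp]

/-- Y[1] for Y = K[i] is K[i + 1]. -/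
lemma subsingleton_shift_shift {X K : Dual.D A} (i j : ℤ) (hij : i + 1 = j)
    (h : Subsingleton (X ⟶ K⟦j⟧)) : Subsingleton (X ⟶ K⟦i⟧⟦(1 : ℤ)⟧) :=
  ⟨fun x y => by
    rw [← cancel_mono ((CategoryTheory.shiftFunctorAdd' (Dual.D A) i 1 j hij).inv.app K)]
    exact Subsingleton.elim _ _⟩

lemma exists_extension' {K : Dual.D A} (i j : ℤ) (hij : i + 1 = j) (x : Dual.inD A M₁ ⟶ K⟦i⟧)
    (hf : Function.Injective f) (hfg : Function.Exact f g) (hg : Function.Surjective g)
    (h : Subsingleton (Dual.inD A M₃ ⟶ K⟦j⟧)) :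
    ∃ y : Dual.inD A M₂ ⟶ K⟦i⟧, x = inDMap f ≫ y := by
  apply exists_extension f g x hf hfg hg
  exact (subsingleton_shift_shift i j hij h).elim _ _

lemma subsingleton_middle {Y : Dual.D A}
    (hf : Function.Injective f) (hfg : Function.Exact f g) (hg : Function.Surjective g)
    (h₁ : Subsingleton (Dual.inD A M₁ ⟶ Y)) (h₃ : Subsingleton (Dual.inD A M₃ ⟶ Y)) :
    Subsingleton (Dual.inD A M₂ ⟶ Y) := by
  suffices h : ∀ x : Dual.inD A M₂ ⟶ Y, x = 0 from ⟨fun x y => by rw [h x, h y]⟩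
  intro x
  obtain ⟨y, rfl⟩ := exists_of_comp_eq_zero f g x (Subsingleton.elim _ _) hf hfg hg
  rw [Subsingleton.elim y 0, comp_zero]

end LES

section Noeth

variable {A : Type u} [CommRing A]

open Pretriangulated

/-- Two out of three (middle term) for Hom(-, Y) Noetherian. -/
lemma isNoetherian_middle (T : Triangle (Dual.D A)) (hT : T ∈ distTriang (Dual.D A))
    (Y : Dual.D A) (h₁ : IsNoetherian A (T.obj₁ ⟶ Y)) (h₃ : IsNoetherian A (T.obj₃ ⟶ Y)) :
    IsNoetherian A (T.obj₂ ⟶ Y) := by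
  refine isNoetherian_of_range_eq_ker (Linear.leftComp A Y T.mor₂) (Linear.leftComp A Y T.mor₁) ?_
  ext x
  simp only [LinearMap.mem_range, LinearMap.mem_ker, Linear.leftComp_apply]
  constructor
  · rintro ⟨y, rfl⟩
    rw [← Category.assoc, comp_distTriang_mor_zero₁₂ _ hT, zero_comp]
  · intro hx
    obtain ⟨y, rfl⟩ := Triangle.yoneda_exact₂ T hT x hx
    exact ⟨y, rfl⟩

lemma isNoetherian_third (T : Triangle (Dual.D A)) (hT : T ∈ distTriang (Dual.D A))
    (Y : Dual.D A) (h₁ : IsNoetherian A (T.obj₁⟦(1 : ℤ)⟧ ⟶ Y))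
    (h₂ : IsNoetherian A (T.obj₂ ⟶ Y)) :
    IsNoetherian A (T.obj₃ ⟶ Y) :=
  isNoetherian_middle _ (rot_of_distTriang _ hT) Y h₂ h₁

lemma isNoetherian_shift {X Y : Dual.D A} (h : IsNoetherian A (X ⟶ Y)) (n : ℤ) :
    IsNoetherian A (X⟦n⟧ ⟶ Y⟦n⟧) := by
  refine isNoetherian_of_surjective
    ((CategoryTheory.shiftFunctor (Dual.D A) n).mapLinearMap A (X := X) (Y := Y)) ?_
  rw [LinearMap.range_eq_top]
  exact (CategoryTheory.shiftFunctor (Dual.D A) n).map_surjective

lemma isNoetherian_of_iso {X Y X' Y' : Dual.D A} (e : X ≅ X') (e' : Y ≅ Y')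
    (h : IsNoetherian A (X ⟶ Y)) : IsNoetherian A (X' ⟶ Y') := by
  refine isNoetherian_of_surjective
    (Linear.leftComp A Y' e.inv ∘ₗ Linear.rightComp A X e'.hom) ?_
  rw [LinearMap.range_eq_top]
  intro x
  refine ⟨e.hom ≫ x ≫ e'.inv, ?_⟩
  simp

lemma fromSingleMk_smul {M : ModuleCat.{u} A} {L : DRing.Cx A} {q n : ℤ} (h : 0 + n = q)
    (f : M ⟶ L.X q) (a : A) :
    Cochain.fromSingleMk (p := 0) (a • f) h = a • Cochain.fromSingleMk (p := 0) f h := by
  apply (Cochain.fromSingleEquiv h).injective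
  simp only [Cochain.fromSingleEquiv, AddEquiv.coe_mk, Equiv.coe_fn_mk, Cochain.fromSingleMk_v,
    Cochain.smul_v]
  rw [Linear.comp_smul]
  rfl

/-- The cocycle attached to an element. -/
noncomputable def eltCocycle (L : DRing.Cx A) (n : ℤ) (z : LinearMap.ker (L.d n (n + 1)).hom) :
    Cocycle ((CochainComplex.singleFunctor (ModuleCat.{u} A) 0).obj (ModuleCat.of A A)) L n :=
  Cocycle.fromSingleMk (ModuleCat.ofHom (LinearMap.toSpanSingleton A (L.X n) z.1)) (zero_add n)
    (n + 1) rfl (by ext; simp)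

/-- The A-linear map from n-cocycles of L to Hom(A[0], (Q L)[n]). -/
noncomputable def ofElt (L : DRing.Cx A) (n : ℤ) :
    LinearMap.ker (L.d n (n + 1)).hom →ₗ[A] (Dual.inD A A ⟶ (Q.obj L)⟦n⟧) :=
  Linear.leftComp A _ (isoInD A).hom ∘ₗ ofCocycleLin _ L n ∘ₗ
    { toFun := fun z => eltCocycle L n z
      map_add' := fun z z' => by
        ext : 1
        simp only [eltCocycle, Cocycle.fromSingleMk_coe, Cocycle.coe_add, ← Cochain.fromSingleMk_add]
        congr 1
        ext
        simp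
      map_smul' := fun a z => by
        ext : 1
        simp only [eltCocycle, Cocycle.fromSingleMk_coe, Cocycle.coe_smul, RingHom.id_apply,
          ← fromSingleMk_smul]
        congr 1
        ext
        simp }

lemma ofElt_apply (L : DRing.Cx A) (n : ℤ) (z : LinearMap.ker (L.d n (n + 1)).hom) :
    ofElt L n z = (isoInD A).hom ≫ ofCocycle (eltCocycle L n z) := rfl

lemma ofElt_surjective (L : DRing.Cx A) (n : ℤ) : Function.Surjective (ofElt L n) := by
  intro x
  obtain ⟨z, hz⟩ := ofCocycle_surjective_of_isKProjective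
    ((CochainComplex.singleFunctor (ModuleCat.{u} A) 0).obj (ModuleCat.of A A)) L n
    ((isoInD A).inv ≫ x)
  obtain ⟨f, hf, rfl⟩ := Cocycle.fromSingleMk_surjective z n (zero_add n) (n + 1) rfl
  refine ⟨⟨f.hom (1 : A), by simpa using! ConcreteCategory.congr_hom hf (1 : A)⟩, ?_⟩
  have : (isoInD A).hom ≫ ofCocycle (Cocycle.fromSingleMk f (zero_add n) (n + 1) rfl hf) = x := by
    rw [hz]
    simp
  rw [← this, ofElt_apply]
  have e : ModuleCat.ofHom (LinearMap.toSpanSingleton A (L.X n) (f.hom (1 : A))) = f := by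
    ext
    simp
  simp only [eltCocycle, e]

lemma ofElt_eq_zero_iff (L : DRing.Cx A) (n : ℤ) (z : LinearMap.ker (L.d n (n + 1)).hom)
    (n' : ℤ) (hn' : n' + 1 = n) :
    ofElt L n z = 0 ↔ ∃ y : L.X n', (L.d n' n).hom y = z.1 := by
  have h1 : ofElt L n z = 0 ↔ ofCocycle (eltCocycle L n z) = 0 := by
    rw [ofElt_apply]
    constructor
    · intro h
      rw [← cancel_epi (isoInD A).hom, comp_zero]
      exact h
    · intro h
      rw [h, comp_zero]
  rw [h1, ofCocycle_eq_zero_iff_of_isKProjective, eltCocycle,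
    Cocycle.fromSingleMk_mem_coboundaries_iff _ _ _ _ _ n' hn']
  constructor
  · rintro ⟨g, hg⟩
    refine ⟨g.hom (1 : A), ?_⟩
    simpa using! ConcreteCategory.congr_hom hg (1 : A)
  · rintro ⟨y, hy⟩
    refine ⟨ModuleCat.ofHom (LinearMap.toSpanSingleton A (L.X n') y), ?_⟩
    ext
    simpa using! hy

/-- Hom(A[0], (Q L)[n]) = H^n(L), linearly. -/
noncomputable def homSelfEquiv (L : DRing.Cx A) (n : ℤ) :
    L.homology n ≃ₗ[A] (Dual.inD A A ⟶ (Q.obj L)⟦n⟧) :=
  ((cls L n (LinearMap.ker (L.d n (n + 1)).hom).subtype (fun x => x.2)).quotKerEquivOfSurjective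
    (cls_surjective _ _ _ _ (fun y hy => ⟨⟨y, hy⟩, rfl⟩))).symm ≪≫ₗ
    Submodule.quotEquivOfEq _ _ (by
      ext x
      rw [LinearMap.mem_ker, LinearMap.mem_ker, cls_eq_zero_iff _ _ _ _ _ (n - 1) (by simp),
        ofElt_eq_zero_iff L n x (n - 1) (by simp)]
      rfl) ≪≫ₗ
    (ofElt L n).quotKerEquivOfSurjective (ofElt_surjective L n)

/-- Hom(A[0], K[i]) = H^i(K), linearly. -/
noncomputable def homInDSelfEquiv (K : Dual.D A) (i : ℤ) :
    (Dual.inD A A ⟶ K⟦i⟧) ≃ₗ[A] Dual.HD A K i :=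
  let e : Q.obj (Q.objPreimage K) ≅ K := Q.objObjPreimageIso K
  (LinearEquiv.ofLinearMap
      (Linear.rightComp A _ ((CategoryTheory.shiftFunctor (Dual.D A) i).map e.inv))
      (Linear.rightComp A _ ((CategoryTheory.shiftFunctor (Dual.D A) i).map e.hom))
      (by ext x; simp [← Functor.map_comp])
      (by ext x; simp [← Functor.map_comp])) ≪≫ₗ
    (homSelfEquiv (Q.objPreimage K) i).symm ≪≫ₗ (hdEquiv (Q.objPreimage K) i).symm ≪≫ₗ
    ((homologyFunctor (ModuleCat.{u} A) i).mapIso e).toLinearEquiv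

/-- Hom(A[0], K[i]) is Noetherian when H^i(K) is. -/
lemma isNoetherian_hom_inD_self (K : Dual.D A) (i : ℤ) (h : IsNoetherian A (Dual.HD A K i)) :
    IsNoetherian A (Dual.inD A A ⟶ K⟦i⟧) :=
  isNoetherian_of_linearEquiv (homInDSelfEquiv K i).symm

/-- Nothing from degree 0 to degrees > 0. -/
lemma subsingleton_of_isGE (M : Type u) [AddCommGroup M] [Module A M] (K : Dual.D A) (a i : ℤ)
    [DerivedCategory.IsGE K a] (hi : i < a) : Subsingleton (Dual.inD A M ⟶ K⟦i⟧) := by
  have : DerivedCategory.IsLE (Dual.inD A M) 0 := by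
    dsimp [Dual.inD]
    infer_instance
  have : DerivedCategory.IsGE (K⟦i⟧) (a - i) :=
    TStructure.t.isGE_shift K a i (a - i) (by lia)
  exact ⟨fun x y => by
    rw [TStructure.t.zero_of_isLE_of_isGE x 0 (a - i) (by lia) inferInstance inferInstance,
      TStructure.t.zero_of_isLE_of_isGE y 0 (a - i) (by lia) inferInstance inferInstance]⟩

/-- Hom(M, K[i]) is a Noetherian module when A is Noetherian, M finite and K is bounded below
with finite cohomology. -/
theorem isNoetherian_hom [IsNoetherianRing A] (K : Dual.D A) (a : ℤ) [DerivedCategory.IsGE K a]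
    (hK : ∀ i, Module.Finite A (Dual.HD A K i)) (M : Type u) [AddCommGroup M] [Module A M]
    [Module.Finite A M] (i : ℤ) : IsNoetherian A (Dual.inD A M ⟶ K⟦i⟧) := by
  have main : ∀ (n : ℕ) (M : Type u) [AddCommGroup M] [Module A M] [Module.Finite A M],
      IsNoetherian A (Dual.inD A M ⟶ K⟦a - 1 + (n : ℤ)⟧) := by
    intro n
    induction n with
    | zero =>
      intro M _ _ _
      have := subsingleton_of_isGE M K a (a - 1 + ((0 : ℕ) : ℤ)) (by simp)
      infer_instance
    | succ n ih =>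
      intro M _ _ _
      induction (inferInstance : Module.Finite A M) using
        IsNoetherianRing.induction_on_isQuotientEquivQuotientPrime A with
      | subsingleton N =>
        have : IsZero (ModuleCat.of A N) := ModuleCat.isZero_of_subsingleton _
        have := (DerivedCategory.singleFunctor (ModuleCat.{u} A) 0).map_isZero this
        have : Subsingleton (Dual.inD A N ⟶ K⟦a - 1 + ((n + 1 : ℕ) : ℤ)⟧) :=
          ⟨fun x y => this.eq_of_src x y⟩
        infer_instance
      | quotient N p e =>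
        have hS := shortExact (M₁ := p.asIdeal) (M₂ := A) (M₃ := A ⧸ p.asIdeal)
          p.asIdeal.subtype p.asIdeal.mkQ (Submodule.injective_subtype _)
          (LinearMap.exact_subtype_mkQ _) (Submodule.mkQ_surjective _)
        have h₁ : IsNoetherian A ((Dual.inD A p.asIdeal)⟦(1 : ℤ)⟧ ⟶
            K⟦a - 1 + ((n + 1 : ℕ) : ℤ)⟧) :=
          isNoetherian_of_iso (Iso.refl _)
            ((CategoryTheory.shiftFunctorAdd' (Dual.D A) (a - 1 + (n : ℤ)) 1
              (a - 1 + ((n + 1 : ℕ) : ℤ)) (by push_cast; ring)).symm.app K)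
            (isNoetherian_shift (ih p.asIdeal) 1)
        have h₂ : IsNoetherian A (Dual.inD A A ⟶ K⟦a - 1 + ((n + 1 : ℕ) : ℤ)⟧) := by
          have := hK (a - 1 + ((n + 1 : ℕ) : ℤ))
          exact isNoetherian_hom_inD_self K _ inferInstance
        exact isNoetherian_of_iso
          ((DerivedCategory.singleFunctor (ModuleCat.{u} A) 0).mapIso e.symm.toModuleIso)
          (Iso.refl _) (isNoetherian_third _ hS.singleTriangle_distinguished _ h₁ h₂)
      | exact N₁ N₂ N₃ f g hf hg hfg h₁ h₃ =>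
        exact isNoetherian_middle _ (shortExact f g hf hfg hg).singleTriangle_distinguished _ h₁ h₃
  by_cases h : i < a
  · have := subsingleton_of_isGE M K a i h
    infer_instance
  · obtain ⟨n, hn⟩ : ∃ n : ℕ, i = a - 1 + (n : ℤ) := ⟨(i - (a - 1)).toNat, by lia⟩
    rw [hn]
    exact main n M

end Noeth

section Criterion

variable {A : Type u} [CommRing A]

/-- The map x ↦ [f x] from A to A/J. -/
def mulMap (J : Ideal A) (f : A) : A →ₗ[A] A ⧸ J := J.mkQ ∘ₗ LinearMap.lsmul A A f

lemma mulMap_apply (J : Ideal A) (f x : A) : mulMap J f x = J.mkQ (f * x) := rfl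

lemma mem_ker_mulMap (J : Ideal A) (f x : A) : x ∈ LinearMap.ker (mulMap J f) ↔ f * x ∈ J := by
  rw [LinearMap.mem_ker, mulMap_apply, Submodule.mkQ_apply, Submodule.Quotient.mk_eq_zero]

/-- The ideal (J : f). -/
abbrev col (J : Ideal A) (f : A) : Ideal A := LinearMap.ker (mulMap J f)

/-- The injection A/(J : f) → A/J, multiplication by f. -/
def u (J : Ideal A) (f : A) : A ⧸ (col J f) →ₗ[A] A ⧸ J := (col J f).liftQ (mulMap J f) le_rfl

/-- The projection A/J → A/(J + (f)). -/
def v (J : Ideal A) (f : A) : A ⧸ J →ₗ[A] A ⧸ (J ⊔ Ideal.span {f}) :=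
  Submodule.mapQ J (J ⊔ Ideal.span {f}) LinearMap.id (by
    rw [Submodule.comap_id]
    exact le_sup_left)

lemma u_injective (J : Ideal A) (f : A) : Function.Injective (u J f) :=
  LinearMap.ker_eq_bot.1 (Submodule.ker_liftQ_eq_bot _ _ _ le_rfl)

lemma v_surjective (J : Ideal A) (f : A) : Function.Surjective (v J f) := by
  intro x
  obtain ⟨x, rfl⟩ := Submodule.Quotient.mk_surjective _ x
  exact ⟨Submodule.Quotient.mk x, rfl⟩

lemma exact_u_v (J : Ideal A) (f : A) : Function.Exact (u J f) (v J f) := by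
  intro x
  obtain ⟨x, rfl⟩ := Submodule.Quotient.mk_surjective _ x
  constructor
  · intro h
    have h' : x ∈ J ⊔ Ideal.span {f} := (Submodule.Quotient.mk_eq_zero _).1 h
    obtain ⟨y, hy, z, hz, rfl⟩ := Submodule.mem_sup.1 h'
    obtain ⟨c, rfl⟩ := Ideal.mem_span_singleton.1 hz
    refine ⟨Submodule.Quotient.mk c, ?_⟩
    change J.mkQ (f * c) = J.mkQ (y + f * c)
    rw [map_add, (show J.mkQ y = 0 from (Submodule.Quotient.mk_eq_zero _).2 hy), zero_add]
  · rintro ⟨y, hy⟩
    obtain ⟨y, rfl⟩ := Submodule.Quotient.mk_surjective _ y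
    rw [← hy]
    change Submodule.Quotient.mk (f * y) = 0
    rw [Submodule.Quotient.mk_eq_zero]
    exact Ideal.mem_sup_right (Ideal.mul_mem_right _ _ (Ideal.mem_span_singleton_self f))

/-- The canonical map A/J → A/(J : f). -/
def w (J : Ideal A) (f : A) : A ⧸ J →ₗ[A] A ⧸ (col J f) :=
  Submodule.mapQ J (col J f) LinearMap.id (by
    rw [Submodule.comap_id]
    intro x hx
    rw [mem_ker_mulMap]
    exact Ideal.mul_mem_left _ _ hx)

lemma u_comp_w (J : Ideal A) (f : A) : u J f ∘ₗ w J f = f • LinearMap.id := by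
  ext
  change J.mkQ (f * 1) = f • J.mkQ 1
  rw [← smul_eq_mul, map_smul]

lemma w_bijective (J : Ideal A) (f : A) (h : col J f = J) : Function.Bijective (w J f) := by
  constructor
  · rw [injective_iff_map_eq_zero]
    intro x hx
    obtain ⟨x, rfl⟩ := Submodule.Quotient.mk_surjective _ x
    have hx' : x ∈ col J f := (Submodule.Quotient.mk_eq_zero _).1 hx
    rw [h] at hx'
    exact (Submodule.Quotient.mk_eq_zero _).2 hx'
  · intro x
    obtain ⟨x, rfl⟩ := Submodule.Quotient.mk_surjective _ x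
    exact ⟨Submodule.Quotient.mk x, rfl⟩

lemma inDMap_comp {M₁ M₂ M₃ : Type u}
    [AddCommGroup M₁] [Module A M₁] [AddCommGroup M₂] [Module A M₂] [AddCommGroup M₃] [Module A M₃]
    (f : M₁ →ₗ[A] M₂) (g : M₂ →ₗ[A] M₃) : inDMap (g ∘ₗ f) = inDMap f ≫ inDMap g := by
  rw [inDMap, inDMap, inDMap, ← Functor.map_comp]
  rfl

lemma inDMap_smul_id {M : Type u} [AddCommGroup M] [Module A M] (f : A) :
    inDMap (f • (LinearMap.id : M →ₗ[A] M)) = f • 𝟙 (Dual.inD A M) := by
  have : ModuleCat.ofHom (f • (LinearMap.id : M →ₗ[A] M)) = f • 𝟙 (ModuleCat.of A M) := rfl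
  rw [inDMap, this, Functor.map_smul, CategoryTheory.Functor.map_id]

/-- Multiplication by f is surjective on Hom(A/J, K[i]) if (J : f) = J and
Hom(A/(J + (f)), K[i + 1]) = 0. -/
lemma smul_surjective (K : Dual.D A) (J : Ideal A) (f : A) (i : ℤ) (h : col J f = J)
    (h' : Subsingleton (Dual.inD A (A ⧸ (J ⊔ Ideal.span {f})) ⟶ K⟦i + 1⟧))
    (x : Dual.inD A (A ⧸ J) ⟶ K⟦i⟧) : ∃ y : Dual.inD A (A ⧸ J) ⟶ K⟦i⟧, f • y = x := by
  let e : (A ⧸ J) ≃ₗ[A] A ⧸ (col J f) := LinearEquiv.ofBijective (w J f) (w_bijective J f h)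
  have he : inDMap (w J f) ≫ inDMap (e.symm : _ →ₗ[A] _) = 𝟙 _ := by
    rw [← inDMap_comp]
    have : (e.symm : _ →ₗ[A] _) ∘ₗ w J f = LinearMap.id := by
      ext
      exact e.symm_apply_apply _
    rw [this]
    exact (DerivedCategory.singleFunctor (ModuleCat.{u} A) 0).map_id _
  obtain ⟨y, hy⟩ := exists_extension' (u J f) (v J f) i (i + 1) rfl
    (inDMap (e.symm : _ →ₗ[A] _) ≫ x) (u_injective J f) (exact_u_v J f) (v_surjective J f) h'
  refine ⟨y, ?_⟩
  calc f • y = (f • 𝟙 _) ≫ y := by rw [Linear.smul_comp, Category.id_comp]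
    _ = (inDMap (w J f) ≫ inDMap (u J f)) ≫ y := by
        rw [← inDMap_smul_id, ← u_comp_w J f, inDMap_comp]
    _ = x := by rw [Category.assoc, ← hy, ← Category.assoc, he, Category.id_comp]

/-- Vanishing of Hom(A/m, K[i]) for all i > b and m maximal implies vanishing of
Hom(A/J, K[i]) for all i > b and all ideals J, if K is bounded below with finite cohomology. -/
theorem subsingleton_of_maximal [IsNoetherianRing A] (K : Dual.D A) (a b : ℤ)
    [DerivedCategory.IsGE K a] (hK : ∀ i, Module.Finite A (Dual.HD A K i))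
    (h : ∀ (m : Ideal A) [m.IsMaximal] (i : ℤ), b < i → Subsingleton (Dual.inD A (A ⧸ m) ⟶ K⟦i⟧))
    (J : Ideal A) : ∀ (i : ℤ), b < i → Subsingleton (Dual.inD A (A ⧸ J) ⟶ K⟦i⟧) := by
  induction J using IsNoetherian.induction with
  | hgt J ih =>
    by_cases hmax : Ideal.IsMaximal J
    · exact fun i hi => h J i hi
    by_cases htop : J = ⊤
    · subst htop
      intro i _
      have : Subsingleton (A ⧸ (⊤ : Ideal A)) := Ideal.Quotient.subsingleton_iff.2 rfl
      have : IsZero (ModuleCat.of A (A ⧸ (⊤ : Ideal A))) := ModuleCat.isZero_of_subsingleton _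
      have := (DerivedCategory.singleFunctor (ModuleCat.{u} A) 0).map_isZero this
      exact ⟨fun x y => this.eq_of_src x y⟩
    have hlt : ∀ g : A, g ∉ J → J < J ⊔ Ideal.span {g} := fun g hg =>
      lt_of_le_of_ne le_sup_left (fun e => hg (by
        rw [e]
        exact Ideal.mem_sup_right (Ideal.mem_span_singleton_self g)))
    by_cases hcol : ∃ g : A, g ∉ J ∧ col J g ≠ J
    · obtain ⟨g, hg, hg'⟩ := hcol
      intro i hi
      have h1 : J < col J g := lt_of_le_of_ne (fun x hx => by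
        rw [mem_ker_mulMap]
        exact Ideal.mul_mem_left _ _ hx) (Ne.symm hg')
      exact subsingleton_middle (u J g) (v J g) (u_injective J g) (exact_u_v J g)
        (v_surjective J g) (ih _ h1 i hi) (ih _ (hlt g hg) i hi)
    · push Not at hcol
      obtain ⟨m, hm, hJm⟩ := Ideal.exists_le_maximal J htop
      have hne : J ≠ m := fun e => hmax (e ▸ hm)
      obtain ⟨f, hfm, hfJ⟩ := SetLike.exists_of_lt (lt_of_le_of_ne hJm hne)
      intro i hi
      have hsurj : ∀ g : A, g ∉ J → ∀ x : Dual.inD A (A ⧸ J) ⟶ K⟦i⟧,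
          ∃ y : Dual.inD A (A ⧸ J) ⟶ K⟦i⟧, g • y = x := fun g hg x =>
        smul_surjective K J g i (hcol g hg) (ih _ (hlt g hg) (i + 1) (by lia)) x
      have : IsNoetherian A (Dual.inD A (A ⧸ J) ⟶ K⟦i⟧) := isNoetherian_hom K a hK (A ⧸ J) i
      obtain ⟨r, hr, hr'⟩ := Submodule.exists_sub_one_mem_and_smul_eq_zero_of_fg_of_le_smul
        (Ideal.span {f}) (⊤ : Submodule A (Dual.inD A (A ⧸ J) ⟶ K⟦i⟧)) (IsNoetherian.noetherian _)
        (by
          intro x _
          obtain ⟨y, rfl⟩ := hsurj f hfJ x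
          exact Submodule.smul_mem_smul (Ideal.mem_span_singleton_self f) trivial)
      have hrJ : r ∉ J := by
        intro hrJ
        apply hm.ne_top
        rw [Ideal.eq_top_iff_one]
        have h1 : r - 1 ∈ m := (Ideal.span_singleton_le_iff_mem m).2 hfm hr
        simpa using m.sub_mem (hJm hrJ) h1
      refine ⟨fun x y => ?_⟩
      obtain ⟨x, rfl⟩ := hsurj r hrJ x
      obtain ⟨y, rfl⟩ := hsurj r hrJ y
      rw [hr' x trivial, hr' y trivial]

/-- The criterion with maximal ideals: representation by a bounded complex of injectives. -/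
theorem exists_injective_of_maximal [IsNoetherianRing A] (K : Dual.D A) (a b : ℤ)
    [DerivedCategory.IsGE K a] (hK : ∀ i, Module.Finite A (Dual.HD A K i))
    (h : ∀ (m : Ideal A) [m.IsMaximal] (i : ℤ), b < i →
      Subsingleton (Dual.inD A (A ⧸ m) ⟶ K⟦i⟧)) :
    ∃ (I : DRing.Cx A), I.IsStrictlyGE a ∧ I.IsStrictlyLE b ∧
      (∀ i, Injective (I.X i)) ∧ Nonempty (Q.obj I ≅ K) := by
  have H := subsingleton_of_maximal K a b hK h
  have : DerivedCategory.IsLE K b := by
    rw [DerivedCategory.isLE_iff]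
    intro i hi
    apply isZero_homology_of_subsingleton K i
    exact subsingleton_of_iso_left
      ((DerivedCategory.singleFunctor (ModuleCat.{u} A) 0).mapIso
        (Submodule.quotEquivOfEqBot (⊥ : Ideal A) rfl).symm.toModuleIso) (H ⊥ i hi)
  exact exists_injective_representative K a b (fun I => H I (b + 1) (by lia))

/-- A complex of injectives in degrees [a, b] has injective dimension in [a, b]. -/
theorem subsingleton_of_injective (I : DRing.Cx A) (a b : ℤ) [I.IsStrictlyGE a]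
    [I.IsStrictlyLE b] (hI : ∀ i, Injective (I.X i)) (K : Dual.D A) (e : Q.obj I ≅ K)
    (M : Type u) [AddCommGroup M] [Module A M] (i : ℤ) (hi : i < a ∨ b < i) :
    Subsingleton (Dual.inD A M ⟶ K⟦i⟧) := by
  have : I.IsKInjective := isKInjective_of_injective I a
  apply subsingleton_of_iso e.symm
  apply subsingleton_of_iso_left (isoInD M)
  have hz : IsZero (I.X i) := by
    rcases hi with hi | hi
    · exact I.isZero_of_isStrictlyGE a i hi
    · exact I.isZero_of_isStrictlyLE b i hi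
  suffices h : ∀ x : Q.obj ((CochainComplex.singleFunctor (ModuleCat.{u} A) 0).obj
      (ModuleCat.of A M)) ⟶ (Q.obj I)⟦i⟧, x = 0 from ⟨fun x y => by rw [h x, h y]⟩
  intro x
  obtain ⟨z, rfl⟩ := ofCocycle_surjective_of_isKInjective _ I i x
  obtain ⟨f, hf, rfl⟩ := Cocycle.fromSingleMk_surjective z i (zero_add i) (i + 1) rfl
  have : f = 0 := hz.eq_of_tgt _ _
  subst this
  rw [Cocycle.fromSingleMk_zero, ofCocycle_zero]

/-- The criterion with maximal ideals, final form. -/
theorem finite_injective_dimension_of_maximal [IsNoetherianRing A] (K : Dual.D A) (a b : ℤ)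
    [DerivedCategory.IsGE K a] (hK : ∀ i, Module.Finite A (Dual.HD A K i))
    (h : ∀ (m : Ideal A) [m.IsMaximal] (i : ℤ), b < i →
      Subsingleton (Dual.inD A (A ⧸ m) ⟶ K⟦i⟧))
    (M : Type u) [AddCommGroup M] [Module A M] (i : ℤ) (hi : i < a ∨ b < i) :
    Subsingleton (Dual.inD A M ⟶ K⟦i⟧) := by
  obtain ⟨I, _, _, hI, ⟨e⟩⟩ := exists_injective_of_maximal K a b hK h
  exact subsingleton_of_injective I a b hI K e M i hi

end Criterion

end Groth.Agent.LoccohB.FinInj
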