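import Groth.Agent.LoccohB.HomBC2
import Groth.Agent.LoccohB.FinInj
import Groth.Agent.LoccohB.LBC2

/-!
# The right adjoint of restriction of scalars: cohomology

`R` right adjoint of `restrictD φ`, `φ : A → B`.

* `hdRadjEquiv`: `H^i(R K) = Hom(B, K[i])`, semilinearly.
* `isGE_radj`: `R` preserves `D^{≥ a}`.
* `finite_HD_radj`: for `A → B` finite, `A` Noetherian, `R K` has finite cohomology for `K` bounded
  below with finite cohomology.
-/

set_option autoImplicit false
universe w v u w₁ v₁ u₁ uA uB v₂ u₂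

open CategoryTheory CategoryTheory.Limits Opposite Pretriangulated
open scoped TensorProduct ChangeOfRings

attribute [local instance] HasDerivedCategory.standard

namespace Groth.Agent.LoccohB.RAdjFin

open DerivedCategory Groth.Agent.LoccohB.DBase Groth.Agent.LoccohB.HomBC
  Groth.Agent.LoccohB.Devissage

variable {A B : Type u} [CommRing A] [CommRing B] (φ : A →+* B)

/-- `restrictD φ (M[-n]) = (M restricted)[-n]`. -/
noncomputable def restrictDSingle (n : ℤ) (M : ModuleCat.{u} B) :
    (DRing.restrictD φ).obj ((singleFunctor (ModuleCat.{u} B) n).obj M) ≅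
      (singleFunctor (ModuleCat.{u} A) n).obj ((ModuleCat.restrictScalars.{u} φ).obj M) :=
  ((ModuleCat.restrictScalars.{u} φ).mapDerivedCategorySingleFunctor n).app M

variable {φ} {R : Dual.D A ⥤ Dual.D B} (adj : DRing.restrictD φ ⊣ R)

/-- The adjunction bijection as an additive equivalence. -/
noncomputable def adjAddEquiv (X : Dual.D B) (K : Dual.D A) :
    (X ⟶ R.obj K) ≃+ ((DRing.restrictD φ).obj X ⟶ K) where
  toEquiv := (adj.homEquiv X K).symm
  map_add' x y := by
    change (adj.homEquiv X K).symm (x + y) = (adj.homEquiv X K).symm x + (adj.homEquiv X K).symm y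
    rw [Adjunction.homEquiv_counit, Adjunction.homEquiv_counit, Adjunction.homEquiv_counit,
      Functor.map_add, Preadditive.add_comp]

lemma adjAddEquiv_smul (X : Dual.D B) (K : Dual.D A) (a : A) (x : X ⟶ R.obj K) :
    adjAddEquiv adj X K ((φ a) • x) = a • adjAddEquiv adj X K x := by
  change (adj.homEquiv X K).symm ((φ a) • x) = a • (adj.homEquiv X K).symm x
  rw [Adjunction.homEquiv_counit, Adjunction.homEquiv_counit, LBC.restrictD_map_smul,
    Linear.smul_comp]

/-- `H^i(R K) = Hom(B, K[i])`, as additive groups. -/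
noncomputable def hdRadjEquiv (K : Dual.D A) (i : ℤ) :
    Dual.HD B (R.obj K) i ≃+
      ((singleFunctor (ModuleCat.{u} A) 0).obj
        ((ModuleCat.restrictScalars.{u} φ).obj (ModuleCat.of B B)) ⟶ K⟦i⟧) :=
  ((homEquivHD i (R.obj K)).symm.toAddEquiv.trans (adjAddEquiv adj _ K)).trans
    (Linear.homCongr A (restrictDSingle φ i (ModuleCat.of B B)) (Iso.refl K) ≪≫ₗ
        sgEquiv i _ K).toAddEquiv

lemma hdRadjEquiv_smul (K : Dual.D A) (i : ℤ) (a : A) (x : Dual.HD B (R.obj K) i) :
    hdRadjEquiv adj K i ((φ a) • x) = a • hdRadjEquiv adj K i x := by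
  have h1 : (homEquivHD i (R.obj K)).symm ((φ a) • x) =
      (φ a) • (homEquivHD i (R.obj K)).symm x := map_smul _ _ _
  change (Linear.homCongr A (restrictDSingle φ i (ModuleCat.of B B)) (Iso.refl K) ≪≫ₗ
      sgEquiv i _ K) (adjAddEquiv adj _ K ((homEquivHD i (R.obj K)).symm ((φ a) • x))) =
    a • (Linear.homCongr A (restrictDSingle φ i (ModuleCat.of B B)) (Iso.refl K) ≪≫ₗ
      sgEquiv i _ K) (adjAddEquiv adj _ K ((homEquivHD i (R.obj K)).symm x))
  rw [h1, adjAddEquiv_smul, map_smul]

include adj in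
/-- `R` preserves `D^{≥ a}`. -/
lemma isGE_radj (K : Dual.D A) (a : ℤ) [K.IsGE a] : (R.obj K).IsGE a := by
  rw [isGE_iff]
  intro i hi
  rw [isZero_homology_iff]
  refine (hdRadjEquiv adj K i).toEquiv.subsingleton_congr.2 ?_
  exact FinInj.subsingleton_of_isGE
    ((ModuleCat.restrictScalars.{u} φ).obj (ModuleCat.of B B)) K a i hi

include adj in
/-- The cohomology of `R K` is finite over `B`. -/
theorem finite_HD_radj [IsNoetherianRing A] (hφ : φ.Finite) (K : Dual.D A) (a : ℤ) [K.IsGE a]
    (hK : ∀ i : ℤ, Module.Finite A (Dual.HD A K i)) (i : ℤ) :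
    Module.Finite B (Dual.HD B (R.obj K) i) := by
  algebraize [φ]
  have hB : Module.Finite A ((ModuleCat.restrictScalars.{u} φ).obj (ModuleCat.of B B)) := hφ
  have h1 := FinInj.isNoetherian_hom K a hK
    ((ModuleCat.restrictScalars.{u} φ).obj (ModuleCat.of B B)) i
  let : Module A (Dual.HD B (R.obj K) i) := Module.compHom _ φ
  have : IsScalarTower A B (Dual.HD B (R.obj K) i) := ⟨fun a b x => by
    change (φ a * b) • x = φ a • (b • x)
    rw [mul_smul]⟩
  let e : Dual.HD B (R.obj K) i ≃ₗ[A] ((singleFunctor (ModuleCat.{u} A) 0).obj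
        ((ModuleCat.restrictScalars.{u} φ).obj (ModuleCat.of B B)) ⟶ K⟦i⟧) :=
    { hdRadjEquiv adj K i with
      map_smul' := hdRadjEquiv_smul adj K i }
  have : Module.Finite A (Dual.HD B (R.obj K) i) :=
    @Module.Finite.equiv _ _ _ _ _ _ _ _ (@Module.IsNoetherian.finite _ _ _ _ _ h1) e.symm
  exact Module.Finite.of_restrictScalars_finite A B _

end Groth.Agent.LoccohB.RAdjFin
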