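import Mathlib.Algebra.Homology.DerivedCategory.TStructure
import Mathlib.Algebra.Homology.DerivedCategory.FullyFaithful
import Mathlib.Algebra.Homology.DerivedCategory.HomologySequence

/-!
# Dévissage of bounded objects of a derived category
-/

set_option autoImplicit false
universe w v u

open CategoryTheory CategoryTheory.Limits Pretriangulated DerivedCategory

namespace Groth.Agent.LoccohB.Devissage

variable {C : Type u} [Category.{v} C] [Abelian C] [HasDerivedCategory.{w} C]

/-- Truncation triangle with its effect on cohomology. -/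
lemma exists_trunc (X : DerivedCategory C) (n₀ n₁ : ℤ) (h : n₀ + 1 = n₁) :
    ∃ (T : Triangle (DerivedCategory C)), T ∈ distTriang _ ∧ T.obj₂ = X ∧
      T.obj₁.IsLE n₀ ∧ T.obj₃.IsGE n₁ ∧
      (∀ i, i ≤ n₀ → IsIso ((homologyFunctor C i).map T.mor₁)) ∧
      (∀ i, n₁ ≤ i → IsIso ((homologyFunctor C i).map T.mor₂)) := by
  obtain ⟨X', Y, hX', hY, f, g, k, hT⟩ :=
    (TStructure.t : Triangulated.TStructure (DerivedCategory C)).exists_triangle X n₀ n₁ h
  have hX'' : X'.IsLE n₀ := ⟨hX'⟩
  have hY' : Y.IsGE n₁ := ⟨hY⟩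
  refine ⟨Triangle.mk f g k, hT, rfl, hX'', hY', ?_, ?_⟩
  · intro i hi
    have hz : IsZero ((homologyFunctor C i).obj Y) := Y.isZero_of_isGE n₁ i (by lia)
    have hz' : IsZero ((homologyFunctor C (i - 1)).obj Y) := Y.isZero_of_isGE n₁ (i - 1) (by lia)
    have he : Epi ((homologyFunctor C i).map (Triangle.mk f g k).mor₁) :=
      (HomologySequence.epi_homologyMap_mor₁_iff _ hT i).2 (hz.eq_of_tgt _ _)
    have hm : Mono ((homologyFunctor C i).map (Triangle.mk f g k).mor₁) :=
      (HomologySequence.mono_homologyMap_mor₁_iff _ hT (i - 1) i (by lia)).2 (hz'.eq_of_src _ _)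
    exact isIso_of_mono_of_epi _
  · intro i hi
    have hz : IsZero ((homologyFunctor C i).obj X') := X'.isZero_of_isLE n₀ i (by lia)
    have hz' : IsZero ((homologyFunctor C (i + 1)).obj X') := X'.isZero_of_isLE n₀ (i + 1) (by lia)
    have he : Epi ((homologyFunctor C i).map (Triangle.mk f g k).mor₂) :=
      (HomologySequence.epi_homologyMap_mor₂_iff _ hT i (i + 1) (by lia)).2 (hz'.eq_of_tgt _ _)
    have hm : Mono ((homologyFunctor C i).map (Triangle.mk f g k).mor₂) :=
      (HomologySequence.mono_homologyMap_mor₂_iff _ hT i).2 (hz.eq_of_src _ _)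
    exact isIso_of_mono_of_epi _

lemma isZero_of_isGE_of_isLE (X : DerivedCategory C) (a b : ℤ) (h : b < a) [X.IsGE a] [X.IsLE b] :
    IsZero X :=
  (TStructure.t : Triangulated.TStructure (DerivedCategory C)).isZero X b a h

/-- an object concentrated in degree `n` is the shift of its cohomology. -/
lemma nonempty_iso_single (X : DerivedCategory C) (n : ℤ) [X.IsGE n] [X.IsLE n] :
    Nonempty (X ≅ (singleFunctor C n).obj ((homologyFunctor C n).obj X)) := by
  obtain ⟨Y, ⟨e⟩⟩ := X.exists_iso_singleFunctor_obj_of_isGE_of_isLE n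
  exact ⟨e ≪≫ (singleFunctor C n).mapIso
    ((singleFunctorCompHomologyFunctorIso C n).symm.app Y ≪≫ (homologyFunctor C n).mapIso e.symm)⟩

/-- Dévissage: a property stable under extensions which holds for all `H^i(X)[-i]` holds for the
bounded object `X`. -/
theorem devissage (P : ObjectProperty (DerivedCategory C)) [P.IsClosedUnderIsomorphisms]
    (hP0 : ∀ Z : DerivedCategory C, IsZero Z → P Z)
    (hP : ∀ T ∈ distTriang (DerivedCategory C), P T.obj₁ → P T.obj₃ → P T.obj₂)
    (X : DerivedCategory C) (a b : ℤ) [X.IsGE a] [X.IsLE b]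
    (hX : ∀ i, P ((singleFunctor C i).obj ((homologyFunctor C i).obj X))) : P X := by
  obtain ⟨n, hn⟩ : ∃ n : ℕ, b + 1 - a ≤ n := ⟨(b + 1 - a).toNat, Int.self_le_toNat _⟩
  induction n generalizing X b with
  | zero =>
    exact hP0 X (isZero_of_isGE_of_isLE X a b (by simp at hn; lia))
  | succ n ih =>
    obtain ⟨T, hT, rfl, h1, h3, hi1, hi3⟩ := exists_trunc X (b - 1) b (by lia)
    refine hP T hT ?_ ?_
    · have hGE : T.obj₁.IsGE a := by
        rw [isGE_iff]
        intro i hi
        by_cases hi' : i ≤ b - 1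
        · have := hi1 i hi'
          exact (T.obj₂.isZero_of_isGE a i hi).of_iso (asIso ((homologyFunctor C i).map T.mor₁))
        · exact T.obj₁.isZero_of_isLE (b - 1) i (by lia)
      refine ih T.obj₁ (b - 1) ?_ (by push_cast at hn; lia)
      intro i
      by_cases hi' : i ≤ b - 1
      · have := hi1 i hi'
        exact P.prop_of_iso ((singleFunctor C i).mapIso
          (asIso ((homologyFunctor C i).map T.mor₁)).symm) (hX i)
      · exact hP0 _ ((singleFunctor C i).map_isZero (T.obj₁.isZero_of_isLE (b - 1) i (by lia)))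
    · have hLE : T.obj₃.IsLE b := by
        rw [isLE_iff]
        intro i hi
        have := hi3 i (by lia)
        exact (T.obj₂.isZero_of_isLE b i hi).of_iso
          (asIso ((homologyFunctor C i).map T.mor₂)).symm
      obtain ⟨e⟩ := nonempty_iso_single T.obj₃ b
      have := hi3 b le_rfl
      exact P.prop_of_iso ((singleFunctor C b).mapIso
          (asIso ((homologyFunctor C b).map T.mor₂)) ≪≫ e.symm) (hX b)

end Groth.Agent.LoccohB.Devissage
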