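import Groth.Agent.LoccohB.FlatLBC2
import Groth.Agent.LoccohB.Devissage
import Mathlib.RingTheory.Finiteness.Cardinality

/-!
# Flat base change for Hom in D(A)

`bc_bijective_of_bounded`: A Noetherian, B flat, X bounded with finite cohomology, K bounded below.
-/

set_option autoImplicit false
universe w v u w₁ v₁ u₁ uA uB v₂ u₂

open CategoryTheory CategoryTheory.Limits Opposite Pretriangulated
open scoped TensorProduct ChangeOfRings

attribute [local instance] HasDerivedCategory.standard

namespace Groth.Agent.LoccohB.HomBC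

open DerivedCategory Groth.Agent.LoccohB.DBase Groth.Agent.LoccohB.FlatLBC
  Groth.Agent.LoccohB.Devissage

section Retract

variable (A : Type uA) (B : Type uB) [CommRing A] [CommRing B] [Algebra A B]
  {𝒞 : Type u₁} [Category.{v₁} 𝒞] [Preadditive 𝒞] [Linear A 𝒞]
  {𝒟 : Type u₂} [Category.{v₂} 𝒟] [Preadditive 𝒟] [Linear B 𝒟]
  (G : 𝒞 ⥤ 𝒟) [G.Additive] [SemiLinear A B G]

/-- If `𝟙 X = ∑ π_i ≫ ι_i` then the comparison map for `X` is bijective if it is so for `X_i`. -/
lemma bc_bijective_of_sum {X : 𝒞} {J : Type*} [Fintype J] (Xi : J → 𝒞) (ι : ∀ j, Xi j ⟶ X)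
    (π : ∀ j, X ⟶ Xi j) (h : ∑ j, π j ≫ ι j = 𝟙 X) (K : 𝒞)
    (hb : ∀ j, Function.Bijective (bc A B G (Xi j) K)) : Function.Bijective (bc A B G X K) := by
  have hdec : ∀ t : B ⊗[A] (X ⟶ K), t = ∑ j, (Linear.leftComp A K (π j)).lTensor B
      ((Linear.leftComp A K (ι j)).lTensor B t) := by
    intro t
    simp only [lTensor_leftComp_comp]
    conv_lhs => rw [← lTensor_leftComp_id A B t, ← h]
    have : Linear.leftComp A K (∑ j, π j ≫ ι j) = ∑ j, Linear.leftComp A K (π j ≫ ι j) := by
      ext f
      simp [Preadditive.sum_comp, LinearMap.sum_apply]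
    have h2 : (∑ j, Linear.leftComp A K (π j ≫ ι j)).lTensor B =
        ∑ j, (Linear.leftComp A K (π j ≫ ι j)).lTensor B :=
      map_sum (LinearMap.lTensorHom (R := A) B) _ _
    rw [this, h2, LinearMap.sum_apply]
  constructor
  · rw [injective_iff_map_eq_zero]
    intro t ht
    rw [hdec t]
    apply Finset.sum_eq_zero
    intro j _
    have : (Linear.leftComp A K (ι j)).lTensor B t = 0 := by
      apply (hb j).1
      rw [bc_precomp, ht, comp_zero, map_zero]
    rw [this, map_zero]
  · intro g
    choose t ht using fun j => (hb j).2 (G.map (ι j) ≫ g)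
    refine ⟨∑ j, (Linear.leftComp A K (π j)).lTensor B (t j), ?_⟩
    rw [map_sum]
    simp only [bc_precomp, ht]
    simp only [← Category.assoc, ← G.map_comp]
    rw [← Preadditive.sum_comp, ← G.map_sum, h, G.map_id, Category.id_comp]

end Retract

section Noeth

variable (A B : Type u) [CommRing A] [CommRing B] [Algebra A B] (h : (algebraMap A B).Flat)

lemma sum_single_proj (A : Type u) [CommRing A] (r : ℕ) :
    ∑ j : Fin r, (ModuleCat.ofHom (LinearMap.proj j) : ModuleCat.of A (Fin r → A) ⟶
      ModuleCat.of A A) ≫ ModuleCat.ofHom (LinearMap.single A (fun _ : Fin r => A) j) =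
      𝟙 (ModuleCat.of A (Fin r → A)) := by
  ext x
  simp [ModuleCat.hom_sum]

/-- finite free modules -/
lemma bc_free_bijective (r : ℕ) (n : ℤ) (K : Dual.D A) :
    Function.Bijective (bc A B (flatBC (algebraMap A B) h) (sg A n (Fin r → A)) K) := by
  refine bc_bijective_of_sum A B _ (fun _ : Fin r => sg A n A)
    (fun j => (singleFunctor (ModuleCat.{u} A) n).map
      (ModuleCat.ofHom (LinearMap.single A (fun _ : Fin r => A) j)))
    (fun j => (singleFunctor (ModuleCat.{u} A) n).map (ModuleCat.ofHom (LinearMap.proj j)))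
    ?_ K (fun _ => bc_self_bijective A B h n K)
  simp only [← Functor.map_comp]
  rw [← Functor.map_sum, sum_single_proj, CategoryTheory.Functor.map_id]

variable {A}

lemma isGE_flatBC (K : Dual.D A) (n : ℤ) [K.IsGE n] :
    ((flatBC (algebraMap A B) h).obj K).IsGE n := by
  rw [isGE_iff]
  intro i hi
  exact (((ModuleCat.extendScalars.{u, u, u} (algebraMap A B)).map_isZero
    (K.isZero_of_isGE n i hi))).of_iso ((flatBCHomology (algebraMap A B) h i).app K)

lemma isLE_flatBC (K : Dual.D A) (n : ℤ) [K.IsLE n] :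
    ((flatBC (algebraMap A B) h).obj K).IsLE n := by
  rw [isLE_iff]
  intro i hi
  exact (((ModuleCat.extendScalars.{u, u, u} (algebraMap A B)).map_isZero
    (K.isZero_of_isLE n i hi))).of_iso ((flatBCHomology (algebraMap A B) h i).app K)

lemma bc_bijective_of_isLE_of_isGE (X K : Dual.D A) (a b : ℤ) (hab : a < b) [X.IsLE a]
    [K.IsGE b] : Function.Bijective (bc A B (flatBC (algebraMap A B) h) X K) := by
  have h1 : ∀ f : X ⟶ K, f = 0 := fun f =>
    (TStructure.t : Triangulated.TStructure (Dual.D A)).zero f a b hab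
  have := isGE_flatBC B h K b
  have := isLE_flatBC B h X a
  have h2 : ∀ f : (flatBC (algebraMap A B) h).obj X ⟶ (flatBC (algebraMap A B) h).obj K, f = 0 :=
    fun f => (TStructure.t : Triangulated.TStructure (Dual.D B)).zero f a b hab
  have h3 : ∀ t : B ⊗[A] (X ⟶ K), t = 0 := by
    intro t
    induction t using TensorProduct.induction_on with
    | zero => rfl
    | tmul b f => rw [h1 f, TensorProduct.tmul_zero]
    | add x y hx hy => rw [hx, hy, add_zero]
  constructor
  · intro s t _
    rw [h3 s, h3 t]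
  · intro f
    exact ⟨0, by rw [h2 f, map_zero]⟩

lemma bc_bijective_shift_left (X K : Dual.D A) (n m : ℤ) (hnm : n + m = 0)
    (hb : Function.Bijective (bc A B (flatBC (algebraMap A B) h) X (K⟦m⟧))) :
    Function.Bijective (bc A B (flatBC (algebraMap A B) h) (X⟦n⟧) K) := by
  have e : (K⟦m⟧)⟦n⟧ ≅ K := (shiftFunctorCompIsoId (Dual.D A) m n (by lia)).app K
  constructor
  · exact bc_injective_of_iso_right A B _ e ((bc_shift_injective_iff A B _ X (K⟦m⟧) n).2 hb.1)
  · exact bc_surjective_of_iso_right A B _ e ((bc_shift_surjective_iff A B _ X (K⟦m⟧) n).2 hb.2)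

variable [IsNoetherianRing A]

lemma bc_module_aux (m : ℕ) : ∀ (M : ModuleCat.{u} A) [Module.Finite A M] (K : Dual.D A)
    [K.IsGE (1 - m)],
    Function.Bijective (bc A B (flatBC (algebraMap A B) h)
      ((singleFunctor (ModuleCat.{u} A) 0).obj M) K) := by
  have hfl : Module.Flat A B := (RingHom.flat_algebraMap_iff).1 h
  induction m with
  | zero =>
    intro M _ K _
    exact bc_bijective_of_isLE_of_isGE B h _ K 0 (1 - ((0 : ℕ) : ℤ)) (by simp)
  | succ m ih =>
    -- the presentation
    have pres : ∀ (M : ModuleCat.{u} A) [Module.Finite A M], ∃ (S : ShortComplex (ModuleCat.{u} A))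
        (r : ℕ), S.ShortExact ∧ S.X₃ = M ∧ Module.Finite A S.X₁ ∧
          Nonempty (S.X₂ ≅ ModuleCat.of A (Fin r → A)) := by
      intro M _
      obtain ⟨r, f, hf⟩ := Module.Finite.exists_fin' A M
      exact ⟨_, r, LinearMap.shortExact_shortComplexKer hf, rfl,
        (by infer_instance : Module.Finite A (LinearMap.ker f)), ⟨Iso.refl _⟩⟩
    have hfree : ∀ (K : Dual.D A) (F : ModuleCat.{u} A) (r : ℕ)
        (_ : Nonempty (F ≅ ModuleCat.of A (Fin r → A))), Function.Bijective
          (bc A B (flatBC (algebraMap A B) h) ((singleFunctor (ModuleCat.{u} A) 0).obj F) K) := by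
      rintro K F r ⟨e⟩
      have hb := bc_free_bijective A B h r 0 K
      exact ⟨bc_injective_of_iso_left A B _ ((singleFunctor (ModuleCat.{u} A) 0).mapIso e.symm) hb.1,
        bc_surjective_of_iso_left A B _ ((singleFunctor (ModuleCat.{u} A) 0).mapIso e.symm) hb.2⟩
    have hge : ∀ (K : Dual.D A) [K.IsGE (1 - ((m + 1 : ℕ) : ℤ))],
        (K⟦(-1 : ℤ)⟧).IsGE (1 - (m : ℤ)) := by
      intro K _
      exact (TStructure.t : Triangulated.TStructure (Dual.D A)).isGE_shift K
        (1 - ((m + 1 : ℕ) : ℤ)) (-1) _ (by push_cast; lia)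
    have hinj : ∀ (M : ModuleCat.{u} A) [Module.Finite A M] (K : Dual.D A)
        [K.IsGE (1 - ((m + 1 : ℕ) : ℤ))], Function.Injective (bc A B (flatBC (algebraMap A B) h)
          ((singleFunctor (ModuleCat.{u} A) 0).obj M) K) := by
      intro M _ K _
      obtain ⟨S, r, hS, rfl, hS₁, hS₂⟩ := pres M
      have := hge K
      exact bc_injective₃ A B _ hS.singleTriangle_distinguished K
        (bc_bijective_shift_left B h _ K 1 (-1) (by simp) (hfree _ _ r hS₂)).2
        (bc_bijective_shift_left B h _ K 1 (-1) (by simp) (ih _ _)).1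
        (hfree _ _ r hS₂).1
    intro M _ K _
    refine ⟨hinj M K, ?_⟩
    obtain ⟨S, r, hS, rfl, hS₁, hS₂⟩ := pres M
    have := hge K
    exact bc_surjective₃ A B _ hS.singleTriangle_distinguished K
      (bc_bijective_shift_left B h _ K 1 (-1) (by simp) (ih _ _)).2
      (hfree _ _ r hS₂).2 (hinj _ K)

/-- The comparison map is bijective for `X` a finite module (in any degree) and `K` bounded
below. -/
theorem bc_module_bijective (M : ModuleCat.{u} A) [Module.Finite A M] (n : ℤ) (K : Dual.D A)
    (k : ℤ) [K.IsGE k] : Function.Bijective (bc A B (flatBC (algebraMap A B) h)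
      ((singleFunctor (ModuleCat.{u} A) n).obj M) K) := by
  have e : ((singleFunctor (ModuleCat.{u} A) 0).obj M)⟦(-n)⟧ ≅
      (singleFunctor (ModuleCat.{u} A) n).obj M :=
    ((singleFunctors (ModuleCat.{u} A)).shiftIso (-n) n 0 (by simp)).app M
  have hK : (K⟦n⟧).IsGE (1 - ((1 - (k - n)).toNat : ℤ)) := by
    have : (K⟦n⟧).IsGE (k - n) :=
      (TStructure.t : Triangulated.TStructure (Dual.D A)).isGE_shift K k n _ (by lia)
    exact (TStructure.t : Triangulated.TStructure (Dual.D A)).isGE_of_ge _ _ (k - n) (by lia)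
  have h1 := bc_bijective_shift_left B h _ K (-n) n (by simp)
    (bc_module_aux B h (1 - (k - n)).toNat M (K⟦n⟧))
  exact ⟨bc_injective_of_iso_left A B _ e h1.1, bc_surjective_of_iso_left A B _ e h1.2⟩

/-- The property "the comparison map is bijective for all bounded below `K`". -/
def GoodPlus : ObjectProperty (Dual.D A) := fun X =>
  ∀ (K : Dual.D A) (k : ℤ), K.IsGE k → Function.Bijective (bc A B (flatBC (algebraMap A B) h) X K)

omit [IsNoetherianRing A] in
lemma goodPlus_shift (X : Dual.D A) (n : ℤ) (hX : GoodPlus B h X) : GoodPlus B h (X⟦n⟧) := by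
  intro K k hK
  have : (K⟦(-n)⟧).IsGE (k + n) :=
    (TStructure.t : Triangulated.TStructure (Dual.D A)).isGE_shift K k (-n) _ (by lia)
  exact bc_bijective_shift_left B h X K n (-n) (by simp) (hX _ _ this)

instance : (GoodPlus (A := A) B h).IsClosedUnderIsomorphisms where
  of_iso e hX K k hK :=
    ⟨bc_injective_of_iso_left A B _ e (hX K k hK).1,
      bc_surjective_of_iso_left A B _ e (hX K k hK).2⟩

omit [IsNoetherianRing A] in
lemma goodPlus_of_isZero (Z : Dual.D A) (hZ : IsZero Z) : GoodPlus B h Z := by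
  intro K k hK
  have h1 : ∀ t : B ⊗[A] (Z ⟶ K), t = 0 := by
    intro t
    induction t using TensorProduct.induction_on with
    | zero => rfl
    | tmul b f => rw [hZ.eq_of_src f 0, TensorProduct.tmul_zero]
    | add x y hx hy => rw [hx, hy, add_zero]
  constructor
  · intro s t _
    rw [h1 s, h1 t]
  · intro f
    exact ⟨0, ((flatBC (algebraMap A B) h).map_isZero hZ).eq_of_src _ _⟩

omit [IsNoetherianRing A] in
lemma goodPlus_triangle₃ (T : Triangle (Dual.D A)) (hT : T ∈ distTriang _)
    (h₁ : GoodPlus B h T.obj₁) (h₂ : GoodPlus B h T.obj₂) : GoodPlus B h T.obj₃ := by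
  have hfl : Module.Flat A B := (RingHom.flat_algebraMap_iff).1 h
  intro K k hK
  exact ⟨bc_injective₃ A B _ hT K (goodPlus_shift B h _ 1 h₂ K k hK).2
      (goodPlus_shift B h _ 1 h₁ K k hK).1 (h₂ K k hK).1,
    bc_surjective₃ A B _ hT K (goodPlus_shift B h _ 1 h₁ K k hK).2 (h₂ K k hK).2 (h₁ K k hK).1⟩

omit [IsNoetherianRing A] in
lemma goodPlus_triangle₂ (T : Triangle (Dual.D A)) (hT : T ∈ distTriang _)
    (h₁ : GoodPlus B h T.obj₁) (h₃ : GoodPlus B h T.obj₃) : GoodPlus B h T.obj₂ :=
  goodPlus_triangle₃ B h T.invRotate (inv_rot_of_distTriang _ hT)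
    (goodPlus_shift B h _ (-1) h₃) h₁

/-- **Flat base change for Hom.**  `A` Noetherian, `B` flat, `X` bounded with finite cohomology,
`K` bounded below. -/
theorem bc_bijective_of_bounded (X : Dual.D A) (a b : ℤ) [X.IsGE a] [X.IsLE b]
    (hX : ∀ i, Module.Finite A (Dual.HD A X i)) (K : Dual.D A) (k : ℤ) [K.IsGE k] :
    Function.Bijective (bc A B (flatBC (algebraMap A B) h) X K) := by
  have : GoodPlus B h X := by
    refine devissage (GoodPlus B h) (goodPlus_of_isZero B h) (goodPlus_triangle₂ B h) X a b ?_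
    intro i K k hK
    have := hX i
    exact bc_module_bijective B h _ i K k
  exact this K k inferInstance

end Noeth

end Groth.Agent.LoccohB.HomBC
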