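import Groth.Agent.LoccohB.BeckChev
import Groth.Agent.LoccohB.HomBC
import Groth.Agent.LoccohB.RAdj

/-!
# Universal arrows `ψ_* X ⟶ L` and flat base change

For `ψ : C → B`, an arrow `e : ψ_* X ⟶ L` in `D(C)` is universal (`IsUniv ψ e`) if
`g ↦ ψ_* g ≫ e : Hom_{D(B)}(N, X) → Hom_{D(C)}(ψ_* N, L)` is bijective for all `N` in `D(B)`, that is if
`X` is the value at `L` of the right adjoint of restriction of scalars, with counit `e`.

* `isUniv_counit`, `isUniv_iff_isIso`, `IsUniv.isoObj` : comparison with adjunctions.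
* `IsUniv.of_sg` : it suffices to test on `N = B[-n]`.
* `IsUniv.comp`, `IsUniv.iso`, `IsUniv.shift`.
* `IsUniv.flat` : flat base change along a pushout square.
-/

set_option autoImplicit false

universe u

open CategoryTheory CategoryTheory.Limits CategoryTheory.Functor TensorProduct

attribute [local instance] HasDerivedCategory.standard

namespace Groth.Agent.LoccohB.Univ

open DerivedCategory Groth.Agent.LoccohB.DBase Groth.Agent.LoccohB.HomBC
  Groth.Agent.LoccohB.FlatLBC

section Test

variable {A : Type u} [CommRing A]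

/-- A morphism of `D(A)` inducing bijections on `Hom(A[-n], -)` is an isomorphism. -/
lemma isIso_of_sg {X Y : Dual.D A} (f : X ⟶ Y)
    (h : ∀ n : ℤ, Function.Bijective (fun g : sg A n A ⟶ X => g ≫ f)) : IsIso f := by
  rw [DerivedCategory.isIso_iff]
  intro n
  rw [ConcreteCategory.isIso_iff_bijective]
  have h1 : ⇑((homologyFunctor (ModuleCat.{u} A) n).map f).hom ∘ ⇑(homEquivHD n X) =
      ⇑(homEquivHD n Y) ∘ (fun g : sg A n A ⟶ X => g ≫ f) := by
    funext g
    exact (homEquivHD_comp n g f).symm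
  have h2 : Function.Bijective (⇑((homologyFunctor (ModuleCat.{u} A) n).map f).hom ∘
      ⇑(homEquivHD n X)) := by
    rw [h1]
    exact (homEquivHD n Y).bijective.comp (h n)
  exact (Function.Bijective.of_comp_iff _ (homEquivHD n X).bijective).1 h2

end Test

section Basic

variable {C B : Type u} [CommRing C] [CommRing B] (ψ : C →+* B) {X : Dual.D B} {L : Dual.D C}

/-- `e : ψ_* X ⟶ L` is universal: it exhibits `X` as the value at `L` of the right adjoint of `ψ_*`. -/
def IsUniv (e : (DRing.restrictD ψ).obj X ⟶ L) : Prop :=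
  ∀ N : Dual.D B, Function.Bijective (fun g : N ⟶ X => (DRing.restrictD ψ).map g ≫ e)

variable {ψ}

lemma map_comp_eq {R : Dual.D C ⥤ Dual.D B} (adj : DRing.restrictD ψ ⊣ R)
    (e : (DRing.restrictD ψ).obj X ⟶ L) {N : Dual.D B} (g : N ⟶ X) :
    (DRing.restrictD ψ).map g ≫ e = (adj.homEquiv N L).symm (g ≫ adj.homEquiv X L e) := by
  rw [Adjunction.homEquiv_naturality_left_symm, Equiv.symm_apply_apply]

lemma bijective_iff {R : Dual.D C ⥤ Dual.D B} (adj : DRing.restrictD ψ ⊣ R)
    (e : (DRing.restrictD ψ).obj X ⟶ L) (N : Dual.D B) :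
    Function.Bijective (fun g : N ⟶ X => (DRing.restrictD ψ).map g ≫ e) ↔
      Function.Bijective (fun g : N ⟶ X => g ≫ adj.homEquiv X L e) := by
  have h : (fun g : N ⟶ X => (DRing.restrictD ψ).map g ≫ e) =
      (adj.homEquiv N L).symm ∘ (fun g : N ⟶ X => g ≫ adj.homEquiv X L e) := by
    funext g
    exact map_comp_eq adj e g
  rw [h]
  exact Function.Bijective.of_comp_iff' (adj.homEquiv N L).symm.bijective _

/-- Universal arrows are those adjoint to isomorphisms. -/
lemma isUniv_iff_isIso {R : Dual.D C ⥤ Dual.D B} (adj : DRing.restrictD ψ ⊣ R)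
    (e : (DRing.restrictD ψ).obj X ⟶ L) : IsUniv ψ e ↔ IsIso (adj.homEquiv X L e) := by
  constructor
  · intro h
    exact isIso_of_sg _ (fun n => (bijective_iff adj e _).1 (h _))
  · intro h N
    rw [bijective_iff adj]
    exact ((asIso (adj.homEquiv X L e)).homToEquiv (Z := N)).bijective

/-- The counit of an adjunction is universal. -/
lemma isUniv_counit {R : Dual.D C ⥤ Dual.D B} (adj : DRing.restrictD ψ ⊣ R) (L : Dual.D C) :
    IsUniv ψ (adj.counit.app L) := by
  rw [isUniv_iff_isIso adj, Adjunction.homEquiv_unit, adj.right_triangle_components]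
  infer_instance

/-- It suffices to test universality on the shifts of `B`. -/
lemma IsUniv.of_sg {e : (DRing.restrictD ψ).obj X ⟶ L}
    (h : ∀ n : ℤ, Function.Bijective
      (fun g : sg B n B ⟶ X => (DRing.restrictD ψ).map g ≫ e)) : IsUniv ψ e := by
  rw [isUniv_iff_isIso (RAdj.coextAdj ψ)]
  exact isIso_of_sg _ (fun n => (bijective_iff (RAdj.coextAdj ψ) e _).1 (h n))

/-- The comparison isomorphism with the value of a right adjoint. -/
noncomputable def IsUniv.isoObj {e : (DRing.restrictD ψ).obj X ⟶ L} (h : IsUniv ψ e)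
    {R : Dual.D C ⥤ Dual.D B} (adj : DRing.restrictD ψ ⊣ R) : X ≅ R.obj L :=
  haveI := (isUniv_iff_isIso adj e).1 h
  asIso (adj.homEquiv X L e)

lemma IsUniv.isoObj_hom {e : (DRing.restrictD ψ).obj X ⟶ L} (h : IsUniv ψ e)
    {R : Dual.D C ⥤ Dual.D B} (adj : DRing.restrictD ψ ⊣ R) :
    (h.isoObj adj).hom = adj.homEquiv X L e := rfl

/-- Two objects with universal arrows to `L` are isomorphic. -/
noncomputable def IsUniv.uniq {e : (DRing.restrictD ψ).obj X ⟶ L} (h : IsUniv ψ e)
    {X' : Dual.D B} {e' : (DRing.restrictD ψ).obj X' ⟶ L} (h' : IsUniv ψ e') : X ≅ X' :=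
  h.isoObj (RAdj.coextAdj ψ) ≪≫ (h'.isoObj (RAdj.coextAdj ψ)).symm

lemma IsUniv.of_iso_left {e : (DRing.restrictD ψ).obj X ⟶ L} (h : IsUniv ψ e)
    {X' : Dual.D B} (i : X' ≅ X) : IsUniv ψ ((DRing.restrictD ψ).map i.hom ≫ e) := by
  intro N
  have h1 : (fun g : N ⟶ X' => (DRing.restrictD ψ).map g ≫ (DRing.restrictD ψ).map i.hom ≫ e) =
      (fun g : N ⟶ X => (DRing.restrictD ψ).map g ≫ e) ∘ (i.homToEquiv (Z := N)) := by
    funext g
    change _ = (DRing.restrictD ψ).map (g ≫ i.hom) ≫ e
    rw [Functor.map_comp, Category.assoc]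
  rw [h1]
  exact (h N).comp (Equiv.bijective _)

lemma IsUniv.of_iso_right {e : (DRing.restrictD ψ).obj X ⟶ L} (h : IsUniv ψ e)
    {L' : Dual.D C} (i : L ≅ L') : IsUniv ψ (e ≫ i.hom) := by
  intro N
  have h1 : (fun g : N ⟶ X => (DRing.restrictD ψ).map g ≫ e ≫ i.hom) =
      (i.homToEquiv (Z := (DRing.restrictD ψ).obj N)) ∘
      (fun g : N ⟶ X => (DRing.restrictD ψ).map g ≫ e) := by
    funext g
    change _ = ((DRing.restrictD ψ).map g ≫ e) ≫ i.hom
    rw [Category.assoc]
  rw [h1]
  exact (Equiv.bijective _).comp (h N)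

/-- Universal arrows are stable under shift. -/
lemma IsUniv.shift {e : (DRing.restrictD ψ).obj X ⟶ L} (h : IsUniv ψ e) (n : ℤ) :
    IsUniv ψ (((DRing.restrictD ψ).commShiftIso n).hom.app X ≫ e⟦n⟧') := by
  intro N
  let i : N ≅ (N⟦(-n)⟧)⟦n⟧ := (shiftNegShift N n).symm
  have h1 : (fun g : N ⟶ X⟦n⟧ => (DRing.restrictD ψ).map g ≫
      ((DRing.restrictD ψ).commShiftIso n).hom.app X ≫ e⟦n⟧') ∘
      (fun g : (N⟦(-n)⟧)⟦n⟧ ⟶ X⟦n⟧ => i.hom ≫ g) ∘
      (fun g : N⟦(-n)⟧ ⟶ X => g⟦n⟧') =
      (fun g : ((DRing.restrictD ψ).obj (N⟦(-n)⟧))⟦n⟧ ⟶ L⟦n⟧ =>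
        ((DRing.restrictD ψ).map i.hom ≫ ((DRing.restrictD ψ).commShiftIso n).hom.app _) ≫ g) ∘
      (fun g : (DRing.restrictD ψ).obj (N⟦(-n)⟧) ⟶ L => g⟦n⟧') ∘
      (fun g : N⟦(-n)⟧ ⟶ X => (DRing.restrictD ψ).map g ≫ e) := by
    funext g
    dsimp only [Function.comp_apply]
    rw [Functor.map_comp, Category.assoc, Category.assoc, Functor.map_comp,
      Functor.commShiftIso_hom_naturality_assoc]
  have hb1 : Function.Bijective ((fun g : (N⟦(-n)⟧)⟦n⟧ ⟶ X⟦n⟧ => i.hom ≫ g) ∘
      (fun g : N⟦(-n)⟧ ⟶ X => g⟦n⟧')) :=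
    Function.Bijective.comp (i.homFromEquiv (Z := X⟦n⟧)).symm.bijective
      ⟨(shiftFunctor _ n).map_injective, (shiftFunctor _ n).map_surjective⟩
  refine (Function.Bijective.of_comp_iff _ hb1).1 ?_
  rw [h1]
  have i2 : (DRing.restrictD ψ).obj N ≅ ((DRing.restrictD ψ).obj (N⟦(-n)⟧))⟦n⟧ :=
    (DRing.restrictD ψ).mapIso i ≪≫ ((DRing.restrictD ψ).commShiftIso n).app _
  refine Function.Bijective.comp ?_ (Function.Bijective.comp
      ⟨(shiftFunctor _ n).map_injective, (shiftFunctor _ n).map_surjective⟩ (h _))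
  exact (((DRing.restrictD ψ).mapIso i ≪≫ ((DRing.restrictD ψ).commShiftIso n).app
    (N⟦(-n)⟧)).homFromEquiv (Z := L⟦n⟧)).symm.bijective

end Basic

section Comp

variable {A B C : Type u} [CommRing A] [CommRing B] [CommRing C] (φ : A →+* B) (ψ : B →+* C)
  (χ : A →+* C) (hχ : χ = ψ.comp φ)

/-- Composites of universal arrows are universal. -/
lemma IsUniv.comp {X : Dual.D C} {L : Dual.D B} {M : Dual.D A}
    {e : (DRing.restrictD ψ).obj X ⟶ L} (h : IsUniv ψ e)
    {e' : (DRing.restrictD φ).obj L ⟶ M} (h' : IsUniv φ e') :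
    IsUniv χ ((LBC.restrictDComp φ ψ χ hχ).inv.app X ≫ (DRing.restrictD φ).map e ≫ e') := by
  intro N
  have h1 : (fun g : N ⟶ X => (DRing.restrictD χ).map g ≫
      (LBC.restrictDComp φ ψ χ hχ).inv.app X ≫ (DRing.restrictD φ).map e ≫ e') =
      (fun g => (LBC.restrictDComp φ ψ χ hχ).inv.app N ≫ g) ∘
      (fun g : (DRing.restrictD ψ).obj N ⟶ L => (DRing.restrictD φ).map g ≫ e') ∘
      (fun g : N ⟶ X => (DRing.restrictD ψ).map g ≫ e) := by
    funext g
    dsimp only [Function.comp_apply]
    rw [Functor.map_comp, Category.assoc]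
    exact (LBC.restrictDComp φ ψ χ hχ).inv.naturality_assoc g _
  rw [h1]
  exact Function.Bijective.comp (((LBC.restrictDComp φ ψ χ hχ).app N).homFromEquiv).bijective
    ((h' _).comp (h N))

end Comp

section Flat

variable (C C' B B' : Type u) [CommRing C] [CommRing C'] [CommRing B] [CommRing B']
  [Algebra C C'] [Algebra C B] [Algebra C' B'] [Algebra B B'] [Algebra C B']
  [IsScalarTower C C' B'] [IsScalarTower C B B'] [Algebra.IsPushout C C' B B']
  (h : (algebraMap C C').Flat) (h' : (algebraMap B B').Flat)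

/-- The flat base change of an arrow `ψ_* X ⟶ L`. -/
noncomputable def flatArrow {X : Dual.D B} {L : Dual.D C}
    (e : (DRing.restrictD (algebraMap C B)).obj X ⟶ L) :
    (DRing.restrictD (algebraMap C' B')).obj ((flatBC (algebraMap B B') h').obj X) ⟶
      (flatBC (algebraMap C C') h).obj L :=
  (BeckChev.bcDIso C C' B B' h h').inv.app X ≫ (flatBC (algebraMap C C') h).map e

/-- `B'[-n]` is the base change of `B[-n]`. -/
noncomputable def flatBCSelf (B B' : Type u) [CommRing B] [CommRing B'] [Algebra B B']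
    (h' : (algebraMap B B').Flat) (n : ℤ) :
    (flatBC (algebraMap B B') h').obj (sg B n B) ≅ sg B' n B' :=
  (flatBCSingle (algebraMap B B') h' n).app (ModuleCat.of B B) ≪≫
    (singleFunctor (ModuleCat.{u} B') n).mapIso (extRid B B').toModuleIso

/-- The linear map `f ↦ ψ_* f ≫ e`. -/
noncomputable def arrowLin (N : Dual.D B) {X : Dual.D B} {L : Dual.D C} [Module C (N ⟶ X)]
    [IsScalarTower C B (N ⟶ X)]
    (e : (DRing.restrictD (algebraMap C B)).obj X ⟶ L) :
    (N ⟶ X) →ₗ[C] ((DRing.restrictD (algebraMap C B)).obj N ⟶ L) where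
  toFun f := (DRing.restrictD (algebraMap C B)).map f ≫ e
  map_add' f g := by rw [Functor.map_add, Preadditive.add_comp]
  map_smul' c f := by
    rw [← algebraMap_smul B c f, LBC.restrictD_map_smul, Linear.smul_comp]
    rfl

/-- **Flat base change for universal arrows.** -/
theorem IsUniv.flat {X : Dual.D B} {L : Dual.D C}
    {e : (DRing.restrictD (algebraMap C B)).obj X ⟶ L} (he : IsUniv (algebraMap C B) e)
    (hbc : ∀ n : ℤ, Function.Bijective (bc C C' (flatBC (algebraMap C C') h)
      ((DRing.restrictD (algebraMap C B)).obj (sg B n B)) L)) :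
    IsUniv (algebraMap C' B') (flatArrow C C' B B' h h' e) := by
  refine IsUniv.of_sg fun n => ?_
  -- replace `B'[-n]` by the base change of `B[-n]`
  suffices hb : Function.Bijective (fun g : (flatBC (algebraMap B B') h').obj (sg B n B) ⟶
      (flatBC (algebraMap B B') h').obj X => (DRing.restrictD (algebraMap C' B')).map g ≫
        flatArrow C C' B B' h h' e) by
    let i := flatBCSelf B B' h' n
    have h1 : (fun g : sg B' n B' ⟶ (flatBC (algebraMap B B') h').obj X =>
        (DRing.restrictD (algebraMap C' B')).map g ≫ flatArrow C C' B B' h h' e) =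
        (((DRing.restrictD (algebraMap C' B')).mapIso i).homFromEquiv
          (Z := (flatBC (algebraMap C C') h).obj L)) ∘
        (fun g : (flatBC (algebraMap B B') h').obj (sg B n B) ⟶
          (flatBC (algebraMap B B') h').obj X => (DRing.restrictD (algebraMap C' B')).map g ≫
          flatArrow C C' B B' h h' e) ∘
        (i.homFromEquiv (Z := (flatBC (algebraMap B B') h').obj X)).symm := by
      funext g
      change _ = (DRing.restrictD (algebraMap C' B')).map i.inv ≫
        (DRing.restrictD (algebraMap C' B')).map (i.hom ≫ g) ≫ flatArrow C C' B B' h h' e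
      rw [← Functor.map_comp_assoc, Iso.inv_hom_id_assoc]
    rw [h1]
    exact (Equiv.bijective _).comp (hb.comp (Equiv.bijective _))
  let _ : Module C (sg B n B ⟶ X) := Module.compHom _ (algebraMap C B)
  have : IsScalarTower C B (sg B n B ⟶ X) := ⟨fun x y z => by
    rw [Algebra.smul_def, mul_smul]; rfl⟩
  let α := arrowLin C B (sg B n B) e
  let E : (sg B n B ⟶ X) ≃ₗ[C] ((DRing.restrictD (algebraMap C B)).obj (sg B n B) ⟶ L) :=
    LinearEquiv.ofBijective α (he _)
  let cb := Algebra.IsPushout.cancelBaseChange C C' B B' (sg B n B ⟶ X)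
  let Φ := fun g : (flatBC (algebraMap B B') h').obj (sg B n B) ⟶
      (flatBC (algebraMap B B') h').obj X => (DRing.restrictD (algebraMap C' B')).map g ≫
        flatArrow C C' B B' h h' e
  have key : ∀ t : C' ⊗[C] (sg B n B ⟶ X),
      Φ (bc B B' (flatBC (algebraMap B B') h') (sg B n B) X (cb.symm t)) =
      (BeckChev.bcDIso C C' B B' h h').inv.app (sg B n B) ≫
        bc C C' (flatBC (algebraMap C C') h)
          ((DRing.restrictD (algebraMap C B)).obj (sg B n B)) L (α.lTensor C' t) := by
    intro t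
    induction t using TensorProduct.induction_on with
    | zero =>
      simp only [_root_.map_zero, comp_zero, Φ, Functor.map_zero, zero_comp]
    | add x y hx hy =>
      rw [_root_.map_add, _root_.map_add, _root_.map_add, _root_.map_add, Preadditive.comp_add,
        ← hx, ← hy]
      dsimp only [Φ]
      rw [Functor.map_add, Preadditive.add_comp]
    | tmul c f =>
      have h2 : cb.symm (c ⊗ₜ[C] f) = algebraMap C' B' c ⊗ₜ[B] f :=
        Algebra.IsPushout.cancelBaseChange_symm_tmul ..
      rw [h2, LinearMap.lTensor_tmul, bc_tmul, bc_tmul]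
      dsimp only [Φ]
      rw [LBC.restrictD_map_smul, Linear.smul_comp, Linear.comp_smul]
      congr 1
      dsimp only [flatArrow]
      change _ = (BeckChev.bcDIso C C' B B' h h').inv.app (sg B n B) ≫
        (flatBC (algebraMap C C') h).map ((DRing.restrictD (algebraMap C B)).map f ≫ e)
      rw [Functor.map_comp]
      exact (BeckChev.bcDIso C C' B B' h h').inv.naturality_assoc f _
  have hE : Function.Bijective (α.lTensor C') :=
    (TensorProduct.congr (LinearEquiv.refl C C') E).bijective
  have h3 : Φ ∘ (bc B B' (flatBC (algebraMap B B') h') (sg B n B) X ∘ cb.symm) =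
      (((BeckChev.bcDIso C C' B B' h h').app (sg B n B)).homFromEquiv
        (Z := (flatBC (algebraMap C C') h).obj L)) ∘
      bc C C' (flatBC (algebraMap C C') h)
          ((DRing.restrictD (algebraMap C B)).obj (sg B n B)) L ∘ (α.lTensor C') := by
    funext t
    exact key t
  have h4 : Function.Bijective (bc B B' (flatBC (algebraMap B B') h') (sg B n B) X ∘ cb.symm) :=
    (bc_self_bijective B B' h' n X).comp cb.symm.bijective
  refine (Function.Bijective.of_comp_iff _ h4).1 ?_
  rw [h3]
  exact (Equiv.bijective _).comp ((hbc n).comp hE)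

/-- The comparison map for `B[-n]` and `L` bounded below, `C` Noetherian, `B` finite over `C`. -/
lemma bc_restrict_bijective [IsNoetherianRing C] [Module.Finite C B] (n : ℤ) (L : Dual.D C)
    (k : ℤ) [L.IsGE k] :
    Function.Bijective (bc C C' (flatBC (algebraMap C C') h)
      ((DRing.restrictD (algebraMap C B)).obj (sg B n B)) L) := by
  let M : ModuleCat.{u} C := (ModuleCat.restrictScalars.{u} (algebraMap C B)).obj (ModuleCat.of B B)
  have hM : Module.Finite C M := by
    let f : B →ₗ[C] M :=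
      { toFun := fun b => b, map_add' := fun _ _ => rfl
        map_smul' := fun c b => Algebra.smul_def c b }
    exact Module.Finite.of_surjective f Function.surjective_id
  have hb := bc_module_bijective C' h M n L k
  let e : (singleFunctor (ModuleCat.{u} C) n).obj M ≅
      (DRing.restrictD (algebraMap C B)).obj (sg B n B) :=
    (((ModuleCat.restrictScalars.{u} (algebraMap C B)).mapDerivedCategorySingleFunctor n).app
      (ModuleCat.of B B)).symm
  exact ⟨bc_injective_of_iso_left C C' _ e hb.1, bc_surjective_of_iso_left C C' _ e hb.2⟩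

omit [Algebra.IsPushout C C' B B'] in
/-- Flat base change for universal arrows: `C` Noetherian, `B` finite over `C`, `L` bounded below. -/
theorem IsUniv.flat_of_finite [Algebra.IsPushout C C' B B'] [IsNoetherianRing C] [Module.Finite C B]
    {X : Dual.D B} {L : Dual.D C}
    {e : (DRing.restrictD (algebraMap C B)).obj X ⟶ L} (he : IsUniv (algebraMap C B) e)
    (k : ℤ) [L.IsGE k] :
    IsUniv (algebraMap C' B') (flatArrow C C' B B' h h' e) :=
  he.flat C C' B B' h h' (fun n => bc_restrict_bijective C C' B h n L k)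

end Flat

end Groth.Agent.LoccohB.Univ
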