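import Groth.Agent.Ega1.ADualUniv
import Groth.Agent.PerfC.TildePush
import Groth.Agent.CohqB.FiniteType2
import Groth.Agent.Sga67.ClosedPush
import Groth.Agent.LoccohB.Univ
import Groth.Agent.LoccohB.RAdjFin
import Groth.Agent.Ega1.ExtendAff2
import Groth.Agent.PerfA.QCohD
import Groth.Agent.PerfA.ExactD
import Groth.Agent.S0997

/-!
# The right adjoint of `i_*` for a closed immersion `Spec A ⟶ Spec P`

* `isCohD_tilde_iff`: `M~ ∈ D_Coh(Spec P)` iff the cohomology modules of `M` are finite (`P` Noetherian);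
* `univ_closed`: universal pairs for `Spec φ`, `φ` surjective, are given by the right adjoint of
  restriction of scalars `D(A) ⥤ D(P)`;
* `isCohD_of_univ_closed`: it preserves `D^+_Coh`.
-/

set_option autoImplicit false

universe u

open CategoryTheory CategoryTheory.Limits AlgebraicGeometry Pretriangulated

attribute [local instance] HasDerivedCategory.standard

namespace Groth.Agent.LoccohB.AdAffine

open Groth.Agent.Dcoh.DerSch Groth.Agent.Ega1.ADualUniv DerivedCategory

section Coh

variable {P : CommRingCat.{u}}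

/-- The derived tilde functor. -/
noncomputable abbrev tD (P : CommRingCat.{u}) : DerivedCategory (ModuleCat.{u} P) ⥤ DCoh.D (Spec P) :=
  (tilde.functor P).mapDerivedCategory

lemma finite_of_isFT_tilde (N : ModuleCat.{u} P) (h : CohB1.IsFT ((tilde.functor P).obj N)) :
    Module.Finite P N := by
  have hq : Coh.IsQCoh ((tilde.functor P).obj N) :=
    (inferInstance : ((tilde.functor P).obj N).IsQuasicoherent)
  have h2 : Module.Finite P ((modulesSpecToSheaf.obj (tilde N)).presheaf.obj (.op ⊤)) :=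
    CohqB.FiniteType2.finite_of_isFT _ h
  exact Module.Finite.equiv (tilde.isoTop N).symm.toLinearEquiv

lemma isZero_of_faithful {C D : Type*} [Category* C] [Category* D] [HasZeroMorphisms C]
    [HasZeroMorphisms D] (F : C ⥤ D) [F.Faithful] [F.PreservesZeroMorphisms] {M : C}
    (h : IsZero (F.obj M)) : IsZero M := by
  rw [IsZero.iff_id_eq_zero]
  apply F.map_injective
  exact h.eq_of_src _ _

lemma isCoh_tilde_iff (N : ModuleCat.{u} P) [IsNoetherianRing P] :
    Coh.IsCoh (tilde N) ↔ Module.Finite P N :=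
  ⟨fun h => finite_of_isFT_tilde N h.2, fun _ => Ega1.ExtendAff2.isCoh_tilde N⟩

lemma isCohD_tilde_iff [IsNoetherianRing P] (M : DerivedCategory (ModuleCat.{u} P)) :
    DCoh.IsCohD ((tD P).obj M) ↔
      ∀ i : ℤ, Module.Finite P ((homologyFunctor (ModuleCat.{u} P) i).obj M) := by
  refine forall_congr' fun i => ?_
  rw [← isCoh_tilde_iff]
  let e := (PerfA.ExactD.mapHomology (tilde.functor P) i).app M
  exact ⟨PerfA.CohSerre.isCoh_of_iso e, PerfA.CohSerre.isCoh_of_iso e.symm⟩

lemma isGE_of_tilde (M : DerivedCategory (ModuleCat.{u} P)) (c : ℤ)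
    (h : ((tD P).obj M).IsGE c) : M.IsGE c := by
  rw [isGE_iff] at h ⊢
  intro i hi
  have h1 := (h i hi).of_iso ((PerfA.ExactD.mapHomology (tilde.functor P) i).app M).symm
  exact isZero_of_faithful (tilde.functor P) h1

end Coh

section Closed

variable {P A : CommRingCat.{u}} (φ : P ⟶ A) (hφ : Function.Surjective φ.hom)

instance preservesFiniteLimits_res : PreservesFiniteLimits (ModuleCat.restrictScalars.{u} φ.hom) :=
  inferInstance
instance preservesFiniteColimits_res :
    PreservesFiniteColimits (ModuleCat.restrictScalars.{u} φ.hom) := inferInstance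

/-- `N ↦ (N_P)~` for a ring map `P ⟶ A`. -/
noncomputable def resTilde : ModuleCat.{u} A ⥤ (Spec P).Modules :=
  ModuleCat.restrictScalars.{u} φ.hom ⋙ tilde.functor P

instance : (resTilde φ).Additive where
  map_add := by
    intro M N f g
    change tilde.map ((ModuleCat.restrictScalars.{u} φ.hom).map (f + g)) = _
    rw [Functor.map_add, tilde.map_add]
    rfl

instance : PreservesFiniteLimits (resTilde φ) :=
  comp_preservesFiniteLimits (ModuleCat.restrictScalars.{u} φ.hom) (tilde.functor P)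

instance : PreservesFiniteColimits (resTilde φ) :=
  comp_preservesFiniteColimits (ModuleCat.restrictScalars.{u} φ.hom) (tilde.functor P)

include hφ in
/-- `(N|_P)~ = i_*(N~)`, derived. -/
theorem exists_iso_Rpush [DCoh.HasRpush (Spec.map φ)] :
    Nonempty (tD A ⋙ DCoh.Rpush (Spec.map φ) ≅ DRing.restrictD φ.hom ⋙ tD P) := by
  have : IsClosedImmersion (Spec.map φ) := IsClosedImmersion.spec_of_surjective φ hφ
  have := Sga67.ClosedPush.preservesFiniteColimits_pushforward (Spec.map φ)
  have h1 := Dcoh.DerComp.isRightDerivedFunctor_mapDerivedCategory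
    (Scheme.Modules.pushforward (Spec.map φ))
  let e₁ : DCoh.Rpush (Spec.map φ) ≅ (Scheme.Modules.pushforward (Spec.map φ)).mapDerivedCategory :=
    Functor.rightDerivedUnique _ _ (rpushUnit (Spec.map φ))
      (Scheme.Modules.pushforward (Spec.map φ)).mapDerivedCategoryFactorsh.inv
      (HomotopyCategory.quasiIso _ (ComplexShape.up ℤ))
  exact ⟨Functor.isoWhiskerLeft _ e₁ ≪≫
    LBC.mapDerComp (tilde.functor A) (Scheme.Modules.pushforward (Spec.map φ))
      (resTilde φ) (PerfC.TildePush.tildePushIso φ) ≪≫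
    (LBC.mapDerComp (ModuleCat.restrictScalars.{u} φ.hom) (tilde.functor P) (resTilde φ)
      (Iso.refl _)).symm⟩

include hφ in
/-- Universal pairs for the closed immersion `Spec φ` come from the right adjoint of restriction
of scalars. -/
theorem nonempty_iso_radj [DCoh.HasRpush (Spec.map φ)] {K : DCoh.D (Spec P)} {L : DCoh.D (Spec A)}
    (h : Ega1.ADualUniv.Univ (Spec.map φ) K L) (K₀ : Dual.D P) (eK : (tD P).obj K₀ ≅ K)
    {R : Dual.D P ⥤ Dual.D A} (adj : DRing.restrictD φ.hom ⊣ R) :
    Nonempty ((tD A).obj (R.obj K₀) ≅ L) := by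
  obtain ⟨θ⟩ := exists_iso_Rpush φ hφ
  obtain ⟨τ, hτ⟩ := h
  obtain ⟨hfull, hfaithful, hess⟩ := S0997.result A
  obtain ⟨hfull', hfaithful', -⟩ := S0997.result P
  obtain ⟨L₀, ⟨eL⟩⟩ := (hess L).1 hτ.qcoh
  have : (tD A).Full := hfull
  have : (tD A).Faithful := hfaithful
  have : (tD P).Full := hfull'
  have : (tD P).Faithful := hfaithful'
  let eL' : (tD A).obj L₀ ≅ L := eL
  let e₀ : (DRing.restrictD φ.hom).obj L₀ ⟶ K₀ := (tD P).preimage
    (θ.inv.app L₀ ≫ (DCoh.Rpush (Spec.map φ)).map eL'.hom ≫ τ ≫ eK.inv)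
  have he₀ : LoccohB.Univ.IsUniv φ.hom e₀ := by
    intro N₀
    have h1 : Function.Bijective (fun g : N₀ ⟶ L₀ => (tD A).map g ≫ eL'.hom) :=
      (eL'.homToEquiv (Z := (tD A).obj N₀)).bijective.comp
        ⟨(tD A).map_injective, (tD A).map_surjective⟩
    have h2 := hτ.bij ((tD A).obj N₀) ((S0997.result A).2.2 _ |>.2 ⟨N₀, ⟨Iso.refl _⟩⟩)
    have h3 : Function.Bijective (fun g : (DCoh.Rpush (Spec.map φ)).obj ((tD A).obj N₀) ⟶ K =>
        θ.inv.app N₀ ≫ g ≫ eK.inv) :=
      Function.Bijective.comp ((θ.app N₀).homFromEquiv (Z := (tD P).obj K₀)).bijective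
        (eK.symm.homToEquiv (Z := (DCoh.Rpush (Spec.map φ)).obj ((tD A).obj N₀))).bijective
    have h4 : Function.Bijective (fun g : (DRing.restrictD φ.hom).obj N₀ ⟶ K₀ => (tD P).map g) :=
      ⟨(tD P).map_injective, (tD P).map_surjective⟩
    refine (Function.Bijective.of_comp_iff' h4 _).1 ?_
    convert h3.comp (h2.comp h1) using 1
    funext g
    simp only [Function.comp_apply]
    rw [Functor.map_comp, Functor.map_preimage, Functor.map_comp, Category.assoc, Category.assoc]
    exact θ.inv.naturality_assoc g _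
  exact ⟨(tD A).mapIso (he₀.isoObj adj).symm ≪≫ eL'⟩

include hφ in
/-- The right adjoint of `i_*` preserves `D^+_Coh` for a closed immersion `Spec A ⟶ Spec P`,
`P` Noetherian. -/
theorem isCohD_of_univ_closed [IsNoetherianRing P] [DCoh.HasRpush (Spec.map φ)]
    {K : DCoh.D (Spec P)} {L : DCoh.D (Spec A)} (h : Ega1.ADualUniv.Univ (Spec.map φ) K L)
    (hK : DCoh.IsCohD K) (c : ℤ) (hKc : K.IsGE c) : DCoh.IsCohD L := by
  have : IsNoetherianRing A := isNoetherianRing_of_surjective P A φ.hom hφ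
  obtain ⟨K₀, ⟨eK⟩⟩ := ((S0997.result P).2.2 K).1 (PerfA.QCohD.isQCohD_of_isCohD hK)
  let eK' : (tD P).obj K₀ ≅ K := eK
  have h1 : ∀ i : ℤ, Module.Finite P (Dual.HD P K₀ i) :=
    (isCohD_tilde_iff K₀).1 (PerfA.QCohD.isCohD_of_iso eK'.symm hK)
  have h2 : K₀.IsGE c := isGE_of_tilde K₀ c
    ((TStructure.t : Triangulated.TStructure (DCoh.D (Spec P))).isGE_of_iso eK'.symm c)
  obtain ⟨e⟩ := nonempty_iso_radj φ hφ h K₀ eK' (RAdj.coextAdj φ.hom)
  refine PerfA.QCohD.isCohD_of_iso e ((isCohD_tilde_iff _).2 ?_)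
  exact RAdjFin.finite_HD_radj (RAdj.coextAdj φ.hom) (RingHom.Finite.of_surjective φ.hom hφ) K₀ c h1

end Closed

end Groth.Agent.LoccohB.AdAffine
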