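import Groth.Agent.LoccohB.CoextDual
import Groth.Agent.LoccohB.RAdj
import Groth.Agent.LoccohB.RAdjFin

/-!
# The right adjoint of restriction of scalars along a finite map preserves dualizing complexes

`isDualizing_radj`, and the version for normalized dualizing complexes.
-/

set_option autoImplicit false

universe u

open CategoryTheory Limits CochainComplex CochainComplex.HomComplex

attribute [local instance] HasDerivedCategory.standard

namespace Groth.Agent.LoccohB.CoextDual

open HomCx RAdj RAdjFin

variable {A B : Type u} [CommRing A] [CommRing B] [Algebra A B]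
variable {R : Dual.D A ⥤ Dual.D B} (adj : DRing.restrictD (algebraMap A B) ⊣ R)

/-- `res R(Q I) ≅ Q (res Hom_A(B, I))`. -/
noncomputable def tau (I : DRing.Cx A) [I.IsKInjective] :
    (DRing.restrictD (algebraMap A B)).obj (R.obj (DerivedCategory.Q.obj I)) ≅
      DerivedCategory.Q.obj (resCoext B I) :=
  (DRing.restrictD (algebraMap A B)).mapIso (RAdj.objIso adj I) ≪≫
    (ModuleCat.restrictScalars.{u} (algebraMap A B)).mapDerivedCategoryFactors.app _

lemma resCx_map_evB (I : DRing.Cx A) (b : B) :
    ((ModuleCat.restrictScalars.{u} (algebraMap A B)).mapHomologicalComplex (ComplexShape.up ℤ)).map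
      (b • 𝟙 ((DivisorCx.coextCx (algebraMap A B)).obj I)) ≫ evB I 1 = evB I b := by
  refine HomologicalComplex.hom_ext _ _ fun i => ?_
  refine ModuleCat.hom_ext (LinearMap.ext fun (z : RC B (I.X i)) => ?_)
  exact congrArg (fun c : B => (ModuleCat.CoextendScalars.equiv (algebraMap A B) (I.X i)) z c)
    (one_mul b)

/-- The map `res R(Q I) ⟶ Q I`, evaluation at `1`. -/
noncomputable def eps1 (I : DRing.Cx A) [I.IsKInjective] :
    (DRing.restrictD (algebraMap A B)).obj (R.obj (DerivedCategory.Q.obj I)) ⟶
      DerivedCategory.Q.obj I :=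
  (tau adj I).hom ≫ DerivedCategory.Q.map (evB I 1)

lemma map_smul_eps1 (I : DRing.Cx A) [I.IsKInjective] (b : B) :
    (DRing.restrictD (algebraMap A B)).map (b • 𝟙 (R.obj (DerivedCategory.Q.obj I))) ≫ eps1 adj I =
      (tau adj I).hom ≫ DerivedCategory.Q.map (evB I b) := by
  have h1 : (b • 𝟙 (R.obj (DerivedCategory.Q.obj I))) ≫ (RAdj.objIso adj I).hom =
      (RAdj.objIso adj I).hom ≫ DerivedCategory.Q.map
        (b • 𝟙 ((DivisorCx.coextCx (algebraMap A B)).obj I)) := by
    rw [Functor.map_smul, CategoryTheory.Functor.map_id, Linear.smul_comp, Linear.comp_smul,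
      Category.id_comp, Category.comp_id]
  have h2 := (ModuleCat.restrictScalars.{u} (algebraMap A B)).mapDerivedCategoryFactors_hom_naturality
    (b • 𝟙 ((DivisorCx.coextCx (algebraMap A B)).obj I))
  have h3 := congrArg (DRing.restrictD (algebraMap A B)).map h1
  rw [Functor.map_comp, Functor.map_comp] at h3
  simp only [eps1, tau, Iso.trans_hom, Functor.mapIso_hom, Iso.app_hom, Category.assoc]
  rw [reassoc_of% h3, ← resCx_map_evB I b, Functor.map_comp]
  congr 1
  rw [← Category.assoc, ← Category.assoc]
  congr 1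

section

variable {I : DRing.Cx A} [I.IsKInjective]

lemma map_smul_comp_map_smul (X : Dual.D B) (b c : B) :
    (DRing.restrictD (algebraMap A B)).map (b • 𝟙 X) ≫
      (DRing.restrictD (algebraMap A B)).map (c • 𝟙 X) =
    (DRing.restrictD (algebraMap A B)).map ((b * c) • 𝟙 X) := by
  rw [← Functor.map_comp, Linear.smul_comp, Category.id_comp, smul_smul]

variable (h : QuasiIso (ev (SB A B) I))

include h

/-- `b ↦ (f ↦ f(b))` is bijective from `B` onto `Hom(res R(Q I), Q I)`. -/
theorem map_smul_eps1_bijective : Function.Bijective (fun b : B =>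
    (DRing.restrictD (algebraMap A B)).map (b • 𝟙 (R.obj (DerivedCategory.Q.obj I))) ≫
      eps1 adj I) := by
  constructor
  · intro b b' hb
    apply (evB_bijective h).1
    have hb' : (tau adj I).hom ≫ DerivedCategory.Q.map (evB I b) =
        (tau adj I).hom ≫ DerivedCategory.Q.map (evB I b') := by
      rw [← map_smul_eps1, ← map_smul_eps1]
      exact hb
    rwa [cancel_epi] at hb'
  · intro g
    obtain ⟨b, hb⟩ := (evB_bijective h).2 ((tau adj I).inv ≫ g)
    refine ⟨b, ?_⟩
    dsimp only at hb
    have := map_smul_eps1 adj I b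
    refine this.trans ?_
    rw [hb, Iso.hom_inv_id_assoc]

include adj

/-- `B → End(R(Q I))` is bijective. -/
theorem toEnd_bijective :
    Function.Bijective (fun b : B => b • 𝟙 (R.obj (DerivedCategory.Q.obj I))) := by
  have hβ := map_smul_eps1_bijective adj h
  obtain ⟨c, hc⟩ := hβ.2 (adj.counit.app (DerivedCategory.Q.obj I))
  obtain ⟨b₀, hb₀⟩ := hβ.2 ((DRing.restrictD (algebraMap A B)).map
    (adj.homEquiv _ _ (eps1 adj I)) ≫ eps1 adj I)
  have hg : (DRing.restrictD (algebraMap A B)).map (adj.homEquiv _ _ (eps1 adj I)) ≫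
      adj.counit.app (DerivedCategory.Q.obj I) = eps1 adj I := by
    have := (adj.homEquiv _ _).symm_apply_apply (eps1 adj I)
    rwa [Adjunction.homEquiv_counit] at this
  dsimp only at hc hb₀
  have hcb : c * b₀ = 1 := by
    apply hβ.1
    dsimp only
    rw [one_smul, CategoryTheory.Functor.map_id, Category.id_comp, ← map_smul_comp_map_smul,
      Category.assoc, hb₀, ← Functor.map_comp_assoc, Linear.smul_comp, Category.id_comp]
    conv_rhs => rw [← hg, ← hc]
    rw [← Functor.map_comp_assoc, Linear.comp_smul, Category.comp_id]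
  constructor
  · intro b b' hb
    apply hβ.1
    dsimp only at hb ⊢
    rw [hb]
  · intro f
    obtain ⟨b, hb⟩ := hβ.2 ((DRing.restrictD (algebraMap A B)).map f ≫
      adj.counit.app (DerivedCategory.Q.obj I))
    dsimp only at hb
    refine ⟨b * b₀, ?_⟩
    dsimp only
    apply (adj.homEquiv _ _).symm.injective
    rw [Adjunction.homEquiv_counit, Adjunction.homEquiv_counit, ← hb, ← hc,
      ← Category.assoc, map_smul_comp_map_smul, mul_assoc, mul_comm b₀, hcb, mul_one]

/-- `Hom(R(Q I), R(Q I)⟦i⟧) = 0` for `i ≠ 0`. -/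
theorem subsingleton_ext (i : ℤ) (hi : i ≠ 0) :
    Subsingleton (R.obj (DerivedCategory.Q.obj I) ⟶ (R.obj (DerivedCategory.Q.obj I))⟦i⟧) := by
  have h1 := subsingleton_hom h i hi
  have h2 : Subsingleton ((DRing.restrictD (algebraMap A B)).obj (R.obj (DerivedCategory.Q.obj I)) ⟶
      (DerivedCategory.Q.obj I)⟦i⟧) :=
    ((tau adj I).homFromEquiv).subsingleton_congr.2 h1
  have h3 : Subsingleton (R.obj (DerivedCategory.Q.obj I) ⟶
      R.obj ((DerivedCategory.Q.obj I)⟦i⟧)) :=
    (adj.homEquiv _ _).symm.subsingleton_congr.2 h2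
  exact ((RAdj.shiftIso adj (DerivedCategory.Q.obj I) i).homToEquiv).subsingleton_congr.1 h3

end

include adj in
/-- `Hom_B(M, (R K)⟦i⟧)` vanishes iff `Hom_A(M, K⟦i⟧)` does. -/
lemma subsingleton_iff (K : Dual.D A) (M : ModuleCat.{u} B) (i : ℤ) :
    Subsingleton ((DerivedCategory.singleFunctor (ModuleCat.{u} B) 0).obj M ⟶ (R.obj K)⟦i⟧) ↔
      Subsingleton ((DerivedCategory.singleFunctor (ModuleCat.{u} A) 0).obj
        ((ModuleCat.restrictScalars.{u} (algebraMap A B)).obj M) ⟶ K⟦i⟧) :=
  (((RAdj.shiftIso adj K i).homToEquiv).subsingleton_congr.symm.trans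
    ((adj.homEquiv _ _).symm.subsingleton_congr)).trans
    ((restrictDSingle (algebraMap A B) 0 M).homFromEquiv).subsingleton_congr

lemma finite_homology_SB [Module.Finite A B] (i : ℤ) : Module.Finite A ((SB A B).homology i) := by
  have hB : Module.Finite A (RB A B) := by
    have h1 : (algebraMap A B).Finite := RingHom.finite_algebraMap.2 inferInstance
    exact h1
  by_cases hi : i = 0
  · subst hi
    exact Module.Finite.equiv
      (HomologicalComplex.singleObjHomologySelfIso (ComplexShape.up ℤ) 0 (RB A B)).symm.toLinearEquiv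
  · have hex : (SB A B).ExactAt i := by
      rw [HomologicalComplex.exactAt_iff]
      exact ShortComplex.exact_of_isZero_X₂ _ (isZero_SB_X i hi)
    have := ModuleCat.subsingleton_of_isZero hex.isZero_homology
    infer_instance

include adj in
/-- The right adjoint of restriction along a finite ring map preserves dualizing complexes. -/
theorem isDualizing_radj [IsNoetherianRing B] [Module.Finite A B] (ω : Dual.D A)
    (hω : Dual.IsDualizing A ω) : Dual.IsDualizing B (R.obj ω) := by
  have := hω.isNoetherianRing
  obtain ⟨I, a₀, b₀, hI, ⟨e⟩⟩ := BidualD.exists_model ω hω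
  have := hI.isKInjective
  have hev : QuasiIso (ev (SB A B) I) := hI.quasiIso_ev (SB A B) finite_homology_SB
  have hω' : Dual.IsDualizing A (DerivedCategory.Q.obj I) := HomBC.isDualizing_of_iso e.symm hω
  refine HomBC.isDualizing_of_iso (R.mapIso e) ?_
  obtain ⟨a, b, _, _, hab⟩ := HomBC.exists_bounds_of_isDualizing hω'
  refine ⟨inferInstance, ⟨a, b, fun M _ _ i hi => ?_⟩, fun i => ?_, toEnd_bijective adj hev,
    subsingleton_ext adj hev⟩
  · refine (subsingleton_iff adj (DerivedCategory.Q.obj I) (ModuleCat.of B M) i).2 ?_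
    exact hab ((ModuleCat.restrictScalars.{u} (algebraMap A B)).obj (ModuleCat.of B M)) i hi
  · exact finite_HD_radj adj (RingHom.finite_algebraMap.2 inferInstance) _ a
      hω'.finite_cohomology i

/-- Vanishing of `Hom(M^n, K)` from that of `Hom(M, K)`. -/
lemma subsingleton_pi (n : ℕ) (M : ModuleCat.{u} A) (K : Dual.D A)
    (h : Subsingleton ((DerivedCategory.singleFunctor (ModuleCat.{u} A) 0).obj M ⟶ K)) :
    Subsingleton ((DerivedCategory.singleFunctor (ModuleCat.{u} A) 0).obj
      (ModuleCat.of A (Fin n → M)) ⟶ K) := by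
  have hid : 𝟙 (ModuleCat.of A (Fin n → M)) = ∑ j : Fin n,
      (ModuleCat.ofHom (LinearMap.proj (R := A) (φ := fun _ : Fin n => (M : Type u)) j) ≫
        ModuleCat.ofHom (LinearMap.single A (fun _ : Fin n => (M : Type u)) j) :
          ModuleCat.of A (Fin n → M) ⟶ ModuleCat.of A (Fin n → M)) := by
    refine ModuleCat.hom_ext (LinearMap.ext fun x => ?_)
    rw [ModuleCat.hom_sum, LinearMap.sum_apply]
    change x = ∑ j, Pi.single j (x j)
    exact (Finset.univ_sum_single x).symm
  have key : ∀ f : (DerivedCategory.singleFunctor (ModuleCat.{u} A) 0).obj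
      (ModuleCat.of A (Fin n → M)) ⟶ K, f = 0 := by
    intro f
    rw [← Category.id_comp f, ← CategoryTheory.Functor.map_id, hid, Functor.map_sum,
      Preadditive.sum_comp]
    refine Finset.sum_eq_zero fun j _ => ?_
    rw [Functor.map_comp, Category.assoc, Subsingleton.elim
      ((DerivedCategory.singleFunctor (ModuleCat.{u} A) 0).map (ModuleCat.ofHom
        (LinearMap.single A (fun _ : Fin n => (M : Type u)) j)) ≫ f) 0, comp_zero]
  exact ⟨fun x y => by rw [key x, key y]⟩

/-- The restriction to `A` of the residue field of `B`. -/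
noncomputable def resResidueFieldEquiv [IsLocalRing B] :
    ((ModuleCat.restrictScalars.{u} (algebraMap A B)).obj
      (ModuleCat.of B (IsLocalRing.ResidueField B))) ≃ₗ[A] (IsLocalRing.ResidueField B) where
  toFun x := x
  invFun x := x
  map_add' _ _ := rfl
  map_smul' a x := algebraMap_smul (M := IsLocalRing.ResidueField B) B a x
  left_inv _ := rfl
  right_inv _ := rfl

variable (A B) in
/-- The restriction to `A` of the residue field of `B`. -/
noncomputable def resResidueField [IsLocalRing B] :
    (ModuleCat.restrictScalars.{u} (algebraMap A B)).obj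
      (ModuleCat.of B (IsLocalRing.ResidueField B)) ≅
        ModuleCat.of A (IsLocalRing.ResidueField B) where
  hom := ModuleCat.ofHom (X := (ModuleCat.restrictScalars.{u} (algebraMap A B)).obj
      (ModuleCat.of B (IsLocalRing.ResidueField B))) resResidueFieldEquiv.toLinearMap
  inv := ModuleCat.ofHom (Y := (ModuleCat.restrictScalars.{u} (algebraMap A B)).obj
      (ModuleCat.of B (IsLocalRing.ResidueField B))) resResidueFieldEquiv.symm.toLinearMap
  hom_inv_id := rfl
  inv_hom_id := rfl

include adj in
/-- The right adjoint of restriction along a finite local map preserves normalized complexes. -/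
theorem isNormalized_radj [IsLocalRing A] [IsLocalRing B] [IsLocalHom (algebraMap A B)]
    [Module.Finite A B] (ω : Dual.D A) (hn : Dual.IsNormalized A ω) :
    Dual.IsNormalized B (R.obj ω) := by
  intro i hi
  refine (subsingleton_iff adj ω (ModuleCat.of B (IsLocalRing.ResidueField B)) i).2 ?_
  let b := Module.finBasis (IsLocalRing.ResidueField A) (IsLocalRing.ResidueField B)
  let e : ModuleCat.of A (IsLocalRing.ResidueField B) ≅
      ModuleCat.of A (Fin (Module.finrank (IsLocalRing.ResidueField A)
        (IsLocalRing.ResidueField B)) → (ModuleCat.of A (IsLocalRing.ResidueField A))) :=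
    (b.equivFun.restrictScalars A).toModuleIso
  exact InjRep.subsingleton_of_iso_left
    ((DerivedCategory.singleFunctor (ModuleCat.{u} A) 0).mapIso (resResidueField A B ≪≫ e))
    (subsingleton_pi _ _ _ (hn i hi))

end Groth.Agent.LoccohB.CoextDual
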