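import Groth.Agent.LoccohB.LocTri
import Groth.Prelude.Def_DDual2
import Mathlib.CategoryTheory.Triangulated.TriangleShift
import Mathlib.CategoryTheory.Limits.HasLimits

/-!
# Basic calculus of `Dual2.HDI`
-/

universe v u

open CategoryTheory Limits Pretriangulated

attribute [local instance] HasDerivedCategory.standard

namespace Groth.Agent.LoccohB.HDIBasic

open Groth.Agent.LoccohB.LocTri

section Tri

variable {D : Type u} [Category.{v} D] [HasZeroObject D] [HasShift D ℤ] [Preadditive D]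
  [∀ n : ℤ, (shiftFunctor D n).Additive] [Pretriangulated D]

/-- If `Hom(X, C[j]) = 0` for all `j` then `Hom(X, G[i]) → Hom(X, K[i])` is bijective. -/
lemma bijective_comp_shift {G K C : D} {α : G ⟶ K} {β : K ⟶ C} {γ : C ⟶ G⟦(1 : ℤ)⟧}
    (hT : Triangle.mk α β γ ∈ distTriang D) (X : D) (h : ∀ j : ℤ, Subsingleton (X ⟶ C⟦j⟧)) (i : ℤ) :
    Function.Bijective (fun φ : X ⟶ G⟦i⟧ => φ ≫ α⟦i⟧') := by
  constructor
  · intro φ φ' hφ
    rw [← sub_eq_zero]
    have h0 : (φ - φ') ≫ α⟦i⟧' = 0 := by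
      rw [Preadditive.sub_comp, sub_eq_zero]
      exact hφ
    have hT' := Triangle.shift_distinguished _ (inv_rot_of_distTriang _ hT) i
    obtain ⟨g, hg⟩ := Triangle.coyoneda_exact₂ _ hT' (φ - φ') (by
      change (φ - φ') ≫ (i.negOnePow • (α⟦i⟧')) = 0
      rw [Linear.comp_units_smul, h0, smul_zero])
    rw [hg]
    have hsub : Subsingleton (X ⟶ (C⟦(-1 : ℤ)⟧)⟦i⟧) := by
      have e : (C⟦(-1 : ℤ)⟧)⟦i⟧ ≅ C⟦(-1 + i : ℤ)⟧ := ((shiftFunctorAdd D (-1 : ℤ) i).app C).symm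
      have := h (-1 + i)
      exact ⟨fun a b => by rw [← cancel_mono e.hom]; exact Subsingleton.elim _ _⟩
    have h1 : g = 0 := @Subsingleton.elim _ hsub _ _
    rw [h1]
    exact zero_comp
  · intro ψ
    have hT' := Triangle.shift_distinguished _ hT i
    obtain ⟨g, hg⟩ := Triangle.coyoneda_exact₂ _ hT' ψ (@Subsingleton.elim _ (h i) _ _)
    have hg' : ∃ g : X ⟶ G⟦i⟧, ψ = g ≫ (i.negOnePow • (α⟦i⟧')) := ⟨g, hg⟩
    obtain ⟨g, rfl⟩ := hg'
    refine ⟨i.negOnePow • g, ?_⟩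
    dsimp only
    rw [Linear.comp_units_smul, Linear.units_smul_comp]

end Tri

variable {A : Type u} [CommRing A]

/-- the object `A/I^n` of `D(A)` -/
noncomputable abbrev quotD (I : Ideal A) (n : ℕ) : Dual.D A :=
  (localCohomology.ringModIdeals (localCohomology.idealPowersDiagram I) ⋙
      DerivedCategory.singleFunctor (ModuleCat.{u} A) 0).obj (Opposite.op n)

/-- the diagram whose colimit is `HDI` -/
noncomputable abbrev hdiDiag (I : Ideal A) (K : Dual.D A) (i : ℤ) : (ℕᵒᵖ)ᵒᵖ ⥤ ModuleCat.{u+1} A :=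
  (localCohomology.ringModIdeals (localCohomology.idealPowersDiagram I) ⋙
      DerivedCategory.singleFunctor (ModuleCat.{u} A) 0).op ⋙ (linearYoneda A (Dual.D A)).obj (K⟦i⟧)

/-- functoriality of the diagram -/
noncomputable def hdiDiagMap (I : Ideal A) {K L : Dual.D A} (α : K ⟶ L) (i : ℤ) : hdiDiag I K i ⟶ hdiDiag I L i :=
  Functor.whiskerLeft _ ((linearYoneda A (Dual.D A)).map (α⟦i⟧'))

/-- functoriality of `HDI` -/
noncomputable def hdiMap (I : Ideal A) {K L : Dual.D A} (α : K ⟶ L) (i : ℤ) : Dual2.HDI A I K i ⟶ Dual2.HDI A I L i :=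
  colimMap (hdiDiagMap I α i)

lemma isIso_hdiMap (I : Ideal A) {K L : Dual.D A} (α : K ⟶ L) (i : ℤ)
    (h : ∀ n : ℕ, Function.Bijective (fun φ : quotD I n ⟶ K⟦i⟧ => φ ≫ α⟦i⟧')) : IsIso (hdiMap I α i) := by
  have h1 : IsIso (hdiDiagMap I α i) := by
    rw [NatTrans.isIso_iff_isIso_app]
    intro n
    rw [ConcreteCategory.isIso_iff_bijective]
    exact h (Opposite.unop (Opposite.unop n))
  unfold hdiMap
  infer_instance

lemma isIso_hdiMap_of_tri (I : Ideal A) {G K C : Dual.D A} {α : G ⟶ K} {β : K ⟶ C} {γ : C ⟶ G⟦(1 : ℤ)⟧}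
    (hT : Triangle.mk α β γ ∈ distTriang (Dual.D A)) (h : ∀ (n : ℕ) (j : ℤ), Subsingleton (quotD I n ⟶ C⟦j⟧)) (i : ℤ) :
    IsIso (hdiMap I α i) :=
  isIso_hdiMap I α i fun n => bijective_comp_shift hT _ (h n) i

/-- Isomorphic objects have isomorphic `HDI`. -/
noncomputable def hdiIso (I : Ideal A) {K L : Dual.D A} (e : K ≅ L) (i : ℤ) : Dual2.HDI A I K i ≅ Dual2.HDI A I L i :=
  HasColimit.isoOfNatIso (Functor.isoWhiskerLeft _ ((linearYoneda A (Dual.D A)).mapIso ((shiftFunctor _ i).mapIso e)))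

/-- Morphisms from `A/I^n` to an object on which some `f ∈ I` acts invertibly are zero. -/
lemma subsingleton_of_isIso (I : Ideal A) (f : A) (hf : f ∈ I) (C : Dual.D A) (hC : IsIso (f • 𝟙 C)) (n : ℕ) (j : ℤ) :
    Subsingleton (quotD I n ⟶ C⟦j⟧) := by
  have h1 : IsIso (f • 𝟙 (C⟦j⟧)) := by
    have : f • 𝟙 (C⟦j⟧) = (f • 𝟙 C)⟦j⟧' := by
      rw [Functor.map_smul, CategoryTheory.Functor.map_id]
    rw [this]
    infer_instance
  have h2 : f ^ n • 𝟙 (quotD I n) = 0 := by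
    have : (f ^ n) • 𝟙 (ModuleCat.of A (A ⧸ I ^ n)) = 0 := by
      refine ModuleCat.hom_ext (LinearMap.ext fun (x : A ⧸ I ^ n) => ?_)
      obtain ⟨x, rfl⟩ := Submodule.Quotient.mk_surjective _ x
      change (f ^ n) • (Submodule.Quotient.mk x : A ⧸ I ^ n) = 0
      rw [← Submodule.Quotient.mk_smul, Submodule.Quotient.mk_eq_zero]
      exact Ideal.mul_mem_right _ _ (Ideal.pow_mem_pow hf n)
    have h3 : f ^ n • 𝟙 (quotD I n) = (DerivedCategory.singleFunctor (ModuleCat.{u} A) 0).map ((f ^ n) • 𝟙 (ModuleCat.of A (A ⧸ I ^ n))) := by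
      rw [Functor.map_smul, CategoryTheory.Functor.map_id]
      rfl
    rw [h3, this]
    exact Functor.map_zero _ _ _
  have h4 : ∀ (m : ℕ) (φ : quotD I n ⟶ C⟦j⟧), f ^ m • φ = 0 → φ = 0 := by
    intro m
    induction m with
    | zero => intro φ h; simpa using h
    | succ m ih =>
      intro φ h
      apply ih
      rw [← cancel_mono (f • 𝟙 (C⟦j⟧)), zero_comp, Linear.comp_smul, Category.comp_id, smul_smul, ← pow_succ']
      exact h
  have h5 : ∀ φ : quotD I n ⟶ C⟦j⟧, φ = 0 := by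
    intro φ
    apply h4 n
    have : f ^ n • φ = (f ^ n • 𝟙 _) ≫ φ := by rw [Linear.smul_comp, Category.id_comp]
    rw [this, h2, zero_comp]
  exact ⟨fun a b => by rw [h5 a, h5 b]⟩

/-- Iterating the localization triangle: any property of objects of `D(A)` that can be transported from `K` to `G`
along triangles `G ⟶ K ⟶ C ⟶ G[1]` with some `f ∈ l` acting invertibly on `C` holds for some `G` (depending
on `K` only) all of whose cohomology modules are `f`-power torsion for each `f ∈ l`. -/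
theorem exists_torsion (l : List A) (K : Dual.D A) :
    ∃ G : Dual.D A, (∀ f ∈ l, ∀ i, ElTor f (Dual.HD A G i)) ∧
      (∀ g : A, (∀ i, ElTor g (Dual.HD A K i)) → ∀ i, ElTor g (Dual.HD A G i)) ∧
      ∀ P : Dual.D A → Prop, P K →
        (∀ (f : A), f ∈ l → ∀ (G K C : Dual.D A) (α : G ⟶ K) (β : K ⟶ C) (γ : C ⟶ G⟦(1 : ℤ)⟧),
          Triangle.mk α β γ ∈ distTriang (Dual.D A) → IsIso (f • 𝟙 C) → P K → P G) → P G := by
  induction l with
  | nil => exact ⟨K, by simp, fun g h => h, fun P hP _ => hP⟩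
  | cons f l ih =>
    obtain ⟨G₁, h₁, h₂, h₃⟩ := ih
    obtain ⟨G, C, α, β, γ, hT, hC, hG₁, hG₂⟩ := exists_locTri f G₁
    refine ⟨G, ?_, fun g hg => hG₂ g (h₂ g hg), ?_⟩
    · intro g hg
      rcases List.mem_cons.1 hg with rfl | hg
      · exact hG₁
      · exact hG₂ g (h₁ g hg)
    · intro P hP hstep
      exact hstep f (List.mem_cons_self) _ _ _ α β γ hT hC
        (h₃ P hP fun g hg => hstep g (List.mem_cons_of_mem _ hg))

/-- Elementwise torsion with respect to generators gives power torsion. -/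
lemma isPowerTorsion_of_elTor (l : List A) (I : Ideal A) (hI : I = Ideal.span {x | x ∈ l}) (M : Type u) [AddCommGroup M] [Module A M]
    (h : ∀ f ∈ l, ElTor f M) : LocCoh.IsPowerTorsion I M := by
  intro m
  have hfg : I.FG := by
    classical
    rw [hI]
    exact ⟨l.toFinset, by simp⟩
  have h1 : I ≤ (Ideal.torsionOf A M m).radical := by
    rw [hI, Ideal.span_le]
    intro f hf
    obtain ⟨n, hn⟩ := h f hf m
    exact ⟨n, hn⟩
  obtain ⟨n, hn⟩ := Ideal.exists_pow_le_of_le_radical_of_fg h1 hfg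
  exact ⟨n, fun a ha => (Ideal.mem_torsionOf_iff m a).1 (hn ha)⟩

lemma elTor_of_isPowerTorsion (I : Ideal A) (f : A) (hf : f ∈ I) (M : Type u) [AddCommGroup M] [Module A M]
    (h : LocCoh.IsPowerTorsion I M) : ElTor f M := by
  intro m
  obtain ⟨n, hn⟩ := h m
  exact ⟨n, hn _ (Ideal.pow_mem_pow hf n)⟩

end Groth.Agent.LoccohB.HDIBasic
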