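import Groth.Agent.LoccohB.FaltB
import Groth.Agent.LoccohA.LCTIso
import Mathlib.Algebra.Homology.Factorizations.CM5a
import Mathlib.Algebra.Homology.HomotopyCategory.KInjective

/-!
For `K` bounded below over a Noetherian ring and `T ⊆ Spec A`, the object `L = RΓ_T K` with its map to `K`.
-/

universe u

open CategoryTheory CategoryTheory.Limits CategoryTheory.Pretriangulated CategoryTheory.Triangulated

attribute [local instance] HasDerivedCategory.standard

namespace Groth.Agent.LoccohB.FaltE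

open Groth.Agent.LoccohB.FaltA Groth.Agent.LoccohB.FaltB
open Groth.Agent.LoccohA.LCTColim Groth.Agent.LoccohA.LCTBase Groth.Agent.LoccohA.LCTHom
  Groth.Agent.LoccohA.LCTGam Groth.Agent.LoccohA.LCTIso

variable {A : Type u} [CommRing A]

/-- Bounded below objects are represented by bounded below complexes of injectives. -/
lemma exists_injective_rep (K : Dual.D A) (a : ℤ) (hK : K.IsGE a) :
    ∃ (I : CochainComplex (ModuleCat.{u} A) ℤ), I.IsStrictlyGE a ∧ (∀ n, Injective (I.X n)) ∧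
      Nonempty (K ≅ DerivedCategory.Q.obj I) := by
  obtain ⟨K0, h0, ⟨e⟩⟩ := K.exists_iso_Q_obj_of_isGE a
  obtain ⟨I, i, hi, hI, hI'⟩ := CochainComplex.Plus.modelCategoryQuillen.exists_quasiIso_injective K0 a
  exact ⟨I, hI', hI, ⟨e ≪≫ asIso (DerivedCategory.Q.map i)⟩⟩

section

variable (T : Set (PrimeSpectrum A)) (I : CochainComplex (ModuleCat.{u} A) ℤ)

instance isStrictlyGE_gamCx (a : ℤ) [I.IsStrictlyGE a] : (gamCx T I).IsStrictlyGE a := by
  rw [CochainComplex.isStrictlyGE_iff]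
  intro i hi
  exact (gamF T).map_isZero (I.isZero_of_isStrictlyGE a i hi)

lemma isKInjective_gamCx [IsNoetherianRing A] (a : ℤ) [I.IsStrictlyGE a] (hI : ∀ n, Injective (I.X n)) :
    (gamCx T I).IsKInjective := by
  have : ∀ n, Injective ((gamCx T I).X n) := fun n => by
    have := hI n
    exact gamF_obj_injective T (I.X n)
  exact CochainComplex.isKInjective_of_injective (gamCx T I) a

/-- A map from `A/J` to a module factors through `Γ_T` when `V(J) ⊆ T`. -/
noncomputable def factor {M : ModuleCat.{u} A} {J : Ideal A}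
    (hJ : PrimeSpectrum.zeroLocus (J : Set A) ⊆ T) (f : ModuleCat.of A (A ⧸ J) ⟶ M) :
    ModuleCat.of A (A ⧸ J) ⟶ (gamF T).obj M :=
  ModuleCat.ofHom (f.hom.codRestrict (gam T M) (fun x => by
    obtain ⟨a, rfl⟩ := Submodule.Quotient.mk_surjective _ x
    have : (Submodule.Quotient.mk a : A ⧸ J) = a • Submodule.Quotient.mk (1 : A) := by
      rw [← Submodule.Quotient.mk_smul, smul_eq_mul, mul_one]
    rw [this, map_smul]
    exact (gam T M).smul_mem a (apply_mk_one_mem_gam hJ f)))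

lemma factor_ι {M : ModuleCat.{u} A} {J : Ideal A}
    (hJ : PrimeSpectrum.zeroLocus (J : Set A) ⊆ T) (f : ModuleCat.of A (A ⧸ J) ⟶ M) :
    factor T hJ f ≫ (gamFι T).app M = f := rfl

lemma gamFι_cancel {X M : ModuleCat.{u} A} {f g : X ⟶ (gamF T).obj M}
    (h : f ≫ (gamFι T).app M = g ≫ (gamFι T).app M) : f = g := by
  ext x
  have h2 := congrArg (fun t => t.hom x) h
  exact Subtype.ext h2

lemma gamCxι_f (n : ℤ) : (gamCxι T I).f n = (gamFι T).app (I.X n) := by
  ext x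
  rfl

/-- Factorization through a term of `Γ_T I`. -/
noncomputable def factorX {J : Ideal A} (hJ : PrimeSpectrum.zeroLocus (J : Set A) ⊆ T) {n : ℤ}
    (f : ModuleCat.of A (A ⧸ J) ⟶ I.X n) : ModuleCat.of A (A ⧸ J) ⟶ (gamCx T I).X n :=
  factor T hJ f

lemma factorX_ι {J : Ideal A} (hJ : PrimeSpectrum.zeroLocus (J : Set A) ⊆ T) {n : ℤ}
    (f : ModuleCat.of A (A ⧸ J) ⟶ I.X n) : factorX T I hJ f ≫ (gamCxι T I).f n = f := by
  rw [gamCxι_f]
  exact factor_ι T hJ f

lemma gamCxι_cancel {X : ModuleCat.{u} A} {n : ℤ} {f g : X ⟶ (gamCx T I).X n}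
    (h : f ≫ (gamCxι T I).f n = g ≫ (gamCxι T I).f n) : f = g := by
  rw [gamCxι_f] at h
  exact gamFι_cancel T h

/-- `Hom(A/J, RΓ_T K[n]) = Hom(A/J, K[n])` when `V(J) ⊆ T`. -/
theorem bijective_gamCxι [IsNoetherianRing A] (a : ℤ) [I.IsStrictlyGE a] (hI : ∀ n, Injective (I.X n))
    {J : Ideal A} (hJ : PrimeSpectrum.zeroLocus (J : Set A) ⊆ T) (n : ℤ) :
    Function.Bijective (fun x : Dual.inD A (A ⧸ J) ⟶ (DerivedCategory.Q.obj (gamCx T I))⟦n⟧ =>
      x ≫ (DerivedCategory.Q.map (gamCxι T I))⟦n⟧') := by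
  have h1 := isKInjective_gamCx T I a hI
  have h2 : I.IsKInjective := CochainComplex.isKInjective_of_injective I a
  constructor
  · intro x y hxy
    rw [← sub_eq_zero]
    have hxy' : (x - y) ≫ (DerivedCategory.Q.map (gamCxι T I))⟦n⟧' = 0 := by
      rw [Preadditive.sub_comp, sub_eq_zero]; exact hxy
    obtain ⟨f, hf, hf'⟩ := homQ_surjective (x - y)
    rw [← hf', ← homQ_postcomp] at hxy'
    rw [← hf']
    obtain ⟨g, hg⟩ := (homQ_eq_zero_iff _ _ (n - 1) (by lia)).1 hxy'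
    refine (homQ_eq_zero_iff _ _ (n - 1) (by lia)).2 ⟨factorX T I hJ g, ?_⟩
    apply gamCxι_cancel T I
    rw [← hg, Category.assoc, ← (gamCxι T I).comm, ← Category.assoc, factorX_ι]
  · intro y
    obtain ⟨f, hf, rfl⟩ := homQ_surjective y
    refine ⟨homQ (factorX T I hJ f) ?_, ?_⟩
    · apply gamCxι_cancel T I
      rw [Category.assoc, ← (gamCxι T I).comm, ← Category.assoc, factorX_ι, hf, zero_comp]
    · dsimp only
      rw [← homQ_postcomp]
      rfl

end

/-- Existence of `RΓ_T K → K` for `K` bounded below. -/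
theorem exists_rgammaT [IsNoetherianRing A] (T : Set (PrimeSpectrum A)) (K : Dual.D A) (a : ℤ)
    (hK : K.IsGE a) : ∃ (L : Dual.D A) (π : L ⟶ K), L.IsGE a ∧
      (∀ i : ℤ, Nonempty (Dual2.HDT A T K i ≃ₗ[A] Dual.HD A L i)) ∧
      (∀ (i : ℤ) (J : Ideal A), PrimeSpectrum.zeroLocus (J : Set A) ⊆ T →
        Function.Bijective (fun x : Dual.inD A (A ⧸ J) ⟶ L⟦i⟧ => x ≫ π⟦i⟧')) ∧
      (∀ (i : ℤ) (z : Dual.HD A L i), ∃ J : Ideal A, PrimeSpectrum.zeroLocus (J : Set A) ⊆ T ∧
        ∀ a ∈ J, a • z = 0) := by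
  obtain ⟨I, h1, h2, ⟨e⟩⟩ := exists_injective_rep K a hK
  have h3 := isKInjective_gamCx T I a h2
  have h4 : I.IsKInjective := CochainComplex.isKInjective_of_injective I a
  have hgam : ∀ (i : ℤ), Nonempty (Dual.HD A (DerivedCategory.Q.obj (gamCx T I)) i ≃ₗ[A]
      (gamCx T I).homology i) := fun i =>
    ⟨((DerivedCategory.homologyFunctorFactors (ModuleCat.{u} A) i).app (gamCx T I)).toLinearEquiv⟩
  refine ⟨DerivedCategory.Q.obj (gamCx T I), DerivedCategory.Q.map (gamCxι T I) ≫ e.inv,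
    inferInstance, ?_, ?_, ?_⟩
  · intro i
    obtain ⟨φ⟩ := hgam i
    let e1 : Dual2.HDT A T K i ≅ Dual2.HDT A T (DerivedCategory.Q.obj I) i :=
      HasColimit.isoOfNatIso (Functor.isoWhiskerLeft _
        ((linearYoneda A (Dual.D A)).mapIso ((shiftFunctor _ i).mapIso e)))
    exact ⟨e1.toLinearEquiv ≪≫ₗ HDTequiv T I i ≪≫ₗ φ.symm⟩
  · intro i J hJ
    have hb := bijective_gamCxι T I a h2 hJ i
    have he : Function.Bijective (fun x : Dual.inD A (A ⧸ J) ⟶ (DerivedCategory.Q.obj I)⟦i⟧ =>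
        x ≫ e.inv⟦i⟧') := by
      constructor
      · intro x y hxy
        exact (cancel_mono _).1 hxy
      · intro y
        exact ⟨y ≫ e.hom⟦i⟧', by simp [← Functor.map_comp]⟩
    have := he.comp hb
    convert this using 2
    simp
  · intro i z
    obtain ⟨φ⟩ := hgam i
    obtain ⟨w, hw⟩ := zcls_surjective (gamCx T I) i (φ z)
    have hmem : (w.1 : gam T (I.X i)).1 ∈ gam T (I.X i) := (w.1 : gam T (I.X i)).2
    obtain ⟨J, hJ, hJ'⟩ := (mem_gam_iff_exists _).1 hmem
    refine ⟨J, hJ, fun a ha => ?_⟩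
    apply φ.injective
    rw [map_smul, map_zero, ← hw, ← map_smul]
    have : a • w = 0 := Subtype.ext (Subtype.ext (hJ' a ha))
    rw [this, map_zero]

end Groth.Agent.LoccohB.FaltE
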