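import Groth.Agent.LoccohB.FaltD
import Groth.Agent.LoccohA.DzDim
import Groth.Agent.LoccohA.DzTrunc
import Mathlib.Order.KrullDimension

/-!
Dimension functions and heights; vanishing and finiteness of `Hom(K, ω[j])`.
-/

universe u

open CategoryTheory CategoryTheory.Limits CategoryTheory.Pretriangulated CategoryTheory.Triangulated

attribute [local instance] HasDerivedCategory.standard

namespace Groth.Agent.LoccohB.FaltF

open Groth.Agent.LoccohB.FaltA Groth.Agent.LoccohB.FaltB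
open Groth.Agent.LoccohA.DzExact Groth.Agent.LoccohA.DzTrunc Groth.Agent.LoccohA.DzExt
  Groth.Agent.LoccohA.DzDual Groth.Agent.LoccohA.DzDim

section order

lemma wellFoundedGT_primeSpectrum (A : Type u) [CommRing A] [IsNoetherianRing A] :
    WellFoundedGT (PrimeSpectrum A) :=
  StrictMono.wellFoundedGT (f := fun p : PrimeSpectrum A => p.asIdeal) (fun _ _ h => h)

attribute [local instance] wellFoundedGT_primeSpectrum

variable {A : Type u} [CommRing A] [IsNoetherianRing A]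
  (δ : PrimeSpectrum A → ℤ) (hδ : ∀ p q : PrimeSpectrum A, p ⋖ q → δ p = δ q + 1)
  (c : ℤ) (hb : ∀ p, δ p ≤ c)

include hδ hb

/-- In a Noetherian ring with a bounded dimension function, heights in intervals are computed by `δ`. -/
theorem height_eq (n : ℕ) : ∀ (p q : PrimeSpectrum A) (hpq : p ≤ q), c - δ q ≤ n →
    δ q ≤ δ p ∧ Order.height (⟨q, hpq⟩ : Set.Ici p) = (δ p - δ q).toNat := by
  induction n with
  | zero =>
    intro p q hpq hq
    have h1 : p = q := by
      by_contra hne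
      have hlt : p < q := lt_of_le_of_ne hpq hne
      obtain ⟨q', hq'1, hq'2⟩ : ∃ q', q' ⋖ q ∧ p ≤ q' := by
        obtain ⟨q', ⟨h1, h2⟩, h3⟩ := WellFounded.has_min
          (wellFounded_gt (α := PrimeSpectrum A)) {x | p ≤ x ∧ x < q} ⟨p, le_rfl, hlt⟩
        exact ⟨q', ⟨h2, fun x hx1 hx2 => h3 x ⟨h1.trans hx1.le, hx2⟩ hx1⟩, h1⟩
      have := hδ _ _ hq'1
      have := hb q'
      simp only [Nat.cast_zero] at hq
      omega
    subst h1
    refine ⟨le_rfl, ?_⟩
    rw [sub_self, Int.toNat_zero, Nat.cast_zero, Order.height_eq_zero]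
    exact fun x _ => x.2
  | succ n ih =>
    intro p q hpq hq
    by_cases h1 : p = q
    · subst h1
      refine ⟨le_rfl, ?_⟩
      rw [sub_self, Int.toNat_zero, Nat.cast_zero, Order.height_eq_zero]
      exact fun x _ => x.2
    · have hlt : p < q := lt_of_le_of_ne hpq h1
      obtain ⟨q', hq'1, hq'2⟩ : ∃ q', q' ⋖ q ∧ p ≤ q' := by
        obtain ⟨q', ⟨h1, h2⟩, h3⟩ := WellFounded.has_min
          (wellFounded_gt (α := PrimeSpectrum A)) {x | p ≤ x ∧ x < q} ⟨p, le_rfl, hlt⟩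
        exact ⟨q', ⟨h2, fun x hx1 hx2 => h3 x ⟨h1.trans hx1.le, hx2⟩ hx1⟩, h1⟩
      have hq' := hδ _ _ hq'1
      obtain ⟨h2, h3⟩ := ih p q' hq'2 (by push_cast at hq; omega)
      refine ⟨by omega, le_antisymm ?_ ?_⟩
      · -- upper bound: every smaller element has smaller height
        rw [Order.height_le_coe_iff]
        intro x hx
        have hxq : x.1 < q := hx
        -- choose a cover below q above x
        obtain ⟨x', hx'1, hx'2⟩ : ∃ q', q' ⋖ q ∧ x.1 ≤ q' := by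
          obtain ⟨q', ⟨h1, h2⟩, h3⟩ := WellFounded.has_min
            (wellFounded_gt (α := PrimeSpectrum A)) {y | x.1 ≤ y ∧ y < q} ⟨x.1, le_rfl, hxq⟩
          exact ⟨q', ⟨h2, fun x hx1 hx2 => h3 x ⟨h1.trans hx1.le, hx2⟩ hx1⟩, h1⟩
        have hx' := hδ _ _ hx'1
        have hpx' : p ≤ x' := le_trans x.2 hx'2
        obtain ⟨h4, h5⟩ := ih p x' hpx' (by push_cast at hq; omega)
        have h6 : Order.height x ≤ Order.height (⟨x', hpx'⟩ : Set.Ici p) :=
          Order.height_mono (show x ≤ (⟨x', hpx'⟩ : Set.Ici p) from hx'2)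
        rw [h5] at h6
        refine lt_of_le_of_lt h6 ?_
        rw [Nat.cast_lt]
        omega
      · -- lower bound
        have h4 : (⟨q', hq'2⟩ : Set.Ici p) < ⟨q, hpq⟩ := hq'1.1
        have h5 := Order.height_add_one_le (show (⟨q', hq'2⟩ : Set.Ici p) < ⟨q, hpq⟩ from h4)
        rw [h3] at h5
        refine le_trans ?_ h5
        have h6 : (δ p - δ q).toNat = (δ p - δ q').toNat + 1 := by omega
        rw [h6]
        push_cast
        exact le_rfl

theorem delta_lt (p q : PrimeSpectrum A) (hpq : p < q) : δ q < δ p := by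
  obtain ⟨q', hq'1, hq'2⟩ : ∃ q', q' ⋖ q ∧ p ≤ q' := by
    obtain ⟨q', ⟨h1, h2⟩, h3⟩ := WellFounded.has_min
      (wellFounded_gt (α := PrimeSpectrum A)) {x | p ≤ x ∧ x < q} ⟨p, le_rfl, hpq⟩
    exact ⟨q', ⟨h2, fun x hx1 hx2 => h3 x ⟨h1.trans hx1.le, hx2⟩ hx1⟩, h1⟩
  have h1 := hδ _ _ hq'1
  have h2 := (height_eq δ hδ c hb (c - δ q').toNat p q' hq'2 (Int.self_le_toNat _)).1
  omega

theorem height_iff (p q : PrimeSpectrum A) (hpq : p ≤ q) (h : ℕ) :
    Order.height (⟨q, hpq⟩ : Set.Ici p) = h ↔ (h : ℤ) = δ p - δ q := by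
  obtain ⟨h1, h2⟩ := height_eq δ hδ c hb (c - δ q).toNat p q hpq (Int.self_le_toNat _)
  rw [h2, Nat.cast_inj]
  omega

end order

section dual

variable {A : Type u} [CommRing A]

/-- Bounds for the dimension function. -/
lemma delta_bounds {ω : Dual.D A} (a b : ℤ)
    (hab : ∀ (M : Type u) [AddCommGroup M] [Module A M] (i : ℤ), (i < a ∨ b < i) →
      Subsingleton (Dual.inD A M ⟶ ω⟦i⟧)) (δ : PrimeSpectrum A → ℤ)
    (hδ : ∀ (p : PrimeSpectrum A) (i : ℤ), (¬ VanAt A p.asIdeal (E ω i (Aq p))) ↔ i = -δ p)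
    (p : PrimeSpectrum A) : -b ≤ δ p ∧ δ p ≤ -a := by
  have h1 : ¬ VanAt A p.asIdeal (E ω (-δ p) (Aq p)) := (hδ p _).2 rfl
  have h2 : ¬ ((-δ p) < a ∨ b < (-δ p)) := by
    intro h
    apply h1
    have := hab (A ⧸ p.asIdeal) (-δ p) h
    exact (closed_vanAt A p.asIdeal).zero _ this
  omega

/-- `Hom(K, ω[j]) = 0` for `j` large. -/
lemma subsingleton_hom {ω : Dual.D A} (a b : ℤ)
    (hab : ∀ (M : Type u) [AddCommGroup M] [Module A M] (i : ℤ), (i < a ∨ b < i) →
      Subsingleton (Dual.inD A M ⟶ ω⟦i⟧)) (K : Dual.D A) (c d : ℤ) (hc : K.IsGE c) (hd : K.IsLE d)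
    (j : ℤ) (hj : b - c < j) : Subsingleton (K ⟶ ω⟦j⟧) := by
  have hd' : K.IsLE (c + (d + 1 - c).toNat - 1) :=
    (DerivedCategory.TStructure.t (C := ModuleCat.{u} A)).isLE_of_le K d _ (by lia)
  refine hom_of_truncation (closed_subsingleton A) ω j c (d + 1 - c).toNat K ?_
  intro i hi _
  exact hab _ _ (Or.inr (by lia))

/-- `Hom(K, ω[j])` is finite for `K` bounded with finite cohomology. -/
lemma finite_hom [IsNoetherianRing A] {ω : Dual.D A} (hω : Dual.IsDualizing A ω) (K : Dual.D A)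
    (c d : ℤ) (hc : K.IsGE c) (hd : K.IsLE d) (hK : ∀ i : ℤ, Module.Finite A (Dual.HD A K i))
    (j : ℤ) : Module.Finite A (K ⟶ ω⟦j⟧) := by
  obtain ⟨a, b, hab⟩ := hω.finite_injective_dimension
  have hd' : K.IsLE (c + (d + 1 - c).toNat - 1) :=
    (DerivedCategory.TStructure.t (C := ModuleCat.{u} A)).isLE_of_le K d _ (by lia)
  refine hom_of_truncation (closed_finite A) ω j c (d + 1 - c).toNat K ?_
  intro i _ _
  have := hK i
  exact finite_E (a := a) (b := b) hab hω.finite_cohomology _ _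

end dual

end Groth.Agent.LoccohB.FaltF
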