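import Groth.Agent.LoccohB.FaltA

/-!
Annihilation of the localized groups `colim_n Hom(A/q^n, K)_q` by an ideal, expressed elementwise, and its
behaviour in triangles and for truncations.
-/

universe u

open CategoryTheory CategoryTheory.Limits CategoryTheory.Pretriangulated CategoryTheory.Triangulated

attribute [local instance] HasDerivedCategory.standard

namespace Groth.Agent.LoccohB.FaltB

open Groth.Agent.LoccohB.FaltA

variable {A : Type u} [CommRing A]

/-- The element `a` kills the localization at `q` of the class of `x` in `colim_n Hom(A/q^n, K)`. -/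
def KillsAt (q : Ideal A) {K : Dual.D A} {n : ℕ} (x : Dual.inD A (A ⧸ q ^ n) ⟶ K) (a : A) : Prop :=
  ∃ (m : ℕ) (h : n ≤ m) (s : A), s ∉ q ∧ s • a • (tr (Ideal.pow_le_pow_right h) ≫ x) = 0

/-- The ideal `J` kills `colim_n Hom(A/q^n, K)_q`. -/
def Kills (q J : Ideal A) (K : Dual.D A) : Prop :=
  ∀ (n : ℕ) (x : Dual.inD A (A ⧸ q ^ n) ⟶ K), ∀ a ∈ J, KillsAt q x a

section

variable {q : Ideal A} {K : Dual.D A} {n : ℕ} {x : Dual.inD A (A ⧸ q ^ n) ⟶ K}

lemma KillsAt.add [hq : q.IsPrime] {a b : A} (ha : KillsAt q x a) (hb : KillsAt q x b) :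
    KillsAt q x (a + b) := by
  obtain ⟨m, hm, s, hs, h⟩ := ha
  obtain ⟨m', hm', s', hs', h'⟩ := hb
  refine ⟨max m m', hm.trans (le_max_left _ _), s * s', fun hh => (hq.mem_or_mem hh).elim hs hs', ?_⟩
  have e1 : s • a • (tr (Ideal.pow_le_pow_right (I := q) (hm.trans (le_max_left m m'))) ≫ x) = 0 := by
    rw [← tr_comp_assoc (Ideal.pow_le_pow_right hm) (Ideal.pow_le_pow_right (le_max_left m m')),
      ← Linear.comp_smul, ← Linear.comp_smul, h, comp_zero]
  have e2 : s' • b • (tr (Ideal.pow_le_pow_right (I := q) (hm'.trans (le_max_right m m'))) ≫ x) = 0 := by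
    rw [← tr_comp_assoc (Ideal.pow_le_pow_right hm') (Ideal.pow_le_pow_right (le_max_right m m')),
      ← Linear.comp_smul, ← Linear.comp_smul, h', comp_zero]
  rw [add_smul, smul_add, mul_comm s s', mul_smul, e1, mul_comm s' s, mul_smul, e2, smul_zero,
    smul_zero, add_zero]

lemma KillsAt.mul_left {a : A} (ha : KillsAt q x a) (b : A) : KillsAt q x (b * a) := by
  obtain ⟨m, hm, s, hs, h⟩ := ha
  refine ⟨m, hm, s, hs, ?_⟩
  rw [mul_smul, smul_comm s b, h, smul_zero]

lemma KillsAt.comp {a : A} (ha : KillsAt q x a) {L : Dual.D A} (f : K ⟶ L) :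
    KillsAt q (x ≫ f) a := by
  obtain ⟨m, hm, s, hs, h⟩ := ha
  refine ⟨m, hm, s, hs, ?_⟩
  rw [← Category.assoc, ← Linear.smul_comp, ← Linear.smul_comp, h, zero_comp]

lemma KillsAt.of_comp_mono {a : A} {L : Dual.D A} (f : K ⟶ L) (ha : KillsAt q (x ≫ f) a)
    (hf : ∀ (m : ℕ) (y : Dual.inD A (A ⧸ q ^ m) ⟶ K), y ≫ f = 0 → y = 0) :
    KillsAt q x a := by
  obtain ⟨m, hm, s, hs, h⟩ := ha
  refine ⟨m, hm, s, hs, hf m _ ?_⟩
  rw [Linear.smul_comp, Linear.smul_comp, Category.assoc]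
  exact h

end

lemma Kills.mono {q J J' : Ideal A} {K : Dual.D A} (h : Kills q J K) (hJ : J' ≤ J) :
    Kills q J' K :=
  fun n x a ha => h n x a (hJ ha)

lemma Kills.of_bij {q J : Ideal A} {K L : Dual.D A} (f : K ⟶ L)
    (hf : ∀ m : ℕ, Function.Bijective (fun y : Dual.inD A (A ⧸ q ^ m) ⟶ K => y ≫ f)) :
    Kills q J K ↔ Kills q J L := by
  constructor
  · intro h n x a ha
    obtain ⟨y, rfl⟩ := (hf n).2 x
    exact (h n y a ha).comp f
  · intro h n x a ha
    refine (h n (x ≫ f) a ha).of_comp_mono f fun m y hy => (hf m).1 ?_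
    simpa using hy

lemma Kills.of_iso {q J : Ideal A} {K L : Dual.D A} (e : K ≅ L) :
    Kills q J K ↔ Kills q J L := by
  refine Kills.of_bij e.hom fun m => ⟨fun x y h => ?_, fun y => ⟨y ≫ e.inv, by simp⟩⟩
  simpa using h

/-- Two-out-of-three: the middle term of a distinguished triangle. -/
lemma Kills.middle {q J J' : Ideal A} [hq : q.IsPrime] {X Y Z : Dual.D A} {f : X ⟶ Y} {g : Y ⟶ Z}
    {h : Z ⟶ X⟦(1 : ℤ)⟧} (hT : Triangle.mk f g h ∈ distTriang (Dual.D A))
    (hX : Kills q J X) (hZ : Kills q J' Z) : Kills q (J * J') Y := by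
  intro n x a ha
  refine Submodule.mul_induction_on ha ?_ (fun a b ha hb => ha.add hb)
  intro a ha b hb
  obtain ⟨m, hm, s, hs, e⟩ := hZ n (x ≫ g) b hb
  have e' : (s • b • (tr (Ideal.pow_le_pow_right hm) ≫ x)) ≫ g = 0 := by
    rw [Linear.smul_comp, Linear.smul_comp, Category.assoc]; exact e
  obtain ⟨y, hy⟩ := lift₂ hT _ e'
  obtain ⟨m', hm', s', hs', e''⟩ := hX m y a ha
  refine ⟨m', hm.trans hm', s' * s, fun hh => (hq.mem_or_mem hh).elim hs' hs, ?_⟩
  rw [← tr_comp_assoc (Ideal.pow_le_pow_right hm) (Ideal.pow_le_pow_right hm')]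
  have e3 : (s' • a • (tr (Ideal.pow_le_pow_right hm') ≫ y)) ≫ f = 0 := by
    rw [e'', zero_comp]
  rw [Linear.smul_comp, Linear.smul_comp, Category.assoc, ← hy, Linear.comp_smul,
    Linear.comp_smul] at e3
  rw [← e3, mul_smul, mul_smul]
  congr 1
  rw [smul_comm s a]

/-- Target a shift of a module killed by `J`. -/
lemma Kills.of_module {q J : Ideal A} [hq : q.IsPrime] {M : Type u} [AddCommGroup M] [Module A M]
    (h : ∀ a ∈ J, ∀ m : M, a • m = 0) (k : ℤ) : Kills q J ((Dual.inD A M)⟦k⟧) := by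
  intro n x a ha
  exact ⟨n, le_rfl, 1, fun h1 => hq.ne_top ((Ideal.eq_top_iff_one _).2 h1), by
    rw [smul_eq_zero_of_target (h a ha) k, smul_zero]⟩

lemma Kills.of_isGE {q J : Ideal A} [hq : q.IsPrime] {K : Dual.D A} (hK : K.IsGE 1) :
    Kills q J K := by
  intro n x a ha
  have : x = 0 := hom_eq_zero_of_isLE_of_isGE x 0 1 inferInstance hK (by lia)
  exact ⟨n, le_rfl, 1, fun h1 => hq.ne_top ((Ideal.eq_top_iff_one _).2 h1), by
    rw [this, comp_zero, smul_zero, smul_zero]⟩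

/-- The single functor in degree `n` is a shift of the one in degree `0`. -/
lemma nonempty_single_iso_shift (M : ModuleCat.{u} A) (n k : ℤ) (h : k + n = 0) :
    Nonempty ((DerivedCategory.singleFunctor (ModuleCat.{u} A) n).obj M ≅
      ((DerivedCategory.singleFunctor (ModuleCat.{u} A) 0).obj M)⟦k⟧) :=
  ⟨(((DerivedCategory.singleFunctors (ModuleCat.{u} A)).shiftIso k n 0 h).app M).symm⟩

/-- Cohomology of a shift. -/
lemma nonempty_HD_shift (K : Dual.D A) (k i j : ℤ) (h : k + i = j) :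
    Nonempty (Dual.HD A (K⟦k⟧) i ≃ₗ[A] Dual.HD A K j) :=
  ⟨(((DerivedCategory.homologyFunctor (ModuleCat.{u} A) 0).shiftIso k i j h).app K).toLinearEquiv⟩

/-- If `J` kills the cohomology of `L` in degrees `< a₀ + N` (with `0 < a₀ + N`) and `L` lives in degrees
`≥ a₀` then `J ^ N` kills the degree zero local cohomology. -/
theorem kills_of_annihilates {q J : Ideal A} [hq : q.IsPrime] (N : ℕ) :
    ∀ (L : Dual.D A) (a₀ : ℤ), L.IsGE a₀ →
      (∀ i, i < a₀ + N → ∀ a ∈ J, ∀ z : Dual.HD A L i, a • z = 0) → 0 < a₀ + N →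
      Kills q (J ^ N) L := by
  induction N with
  | zero =>
    intro L a₀ hL _ h0
    simp only [Nat.cast_zero, add_zero] at h0
    exact Kills.of_isGE ((DerivedCategory.TStructure.t (C := ModuleCat.{u} A)).isGE_of_ge L 1 a₀ h0)
  | succ N ih =>
    intro L a₀ hL hJ h0
    obtain ⟨X, Y, f, g, h, hT, hX, hY, h1, h2⟩ := exists_trunc L a₀
    have hXge : X.IsGE a₀ := by
      rw [isGE_iff_subsingleton] at hL ⊢
      intro i hi
      have := h1 i (by lia)
      have := hL i hi
      exact (asIso ((hF A i).map f)).toLinearEquiv.toEquiv.subsingleton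
    obtain ⟨M, ⟨e⟩⟩ := X.exists_iso_singleFunctor_obj_of_isGE_of_isLE a₀
    -- `M` is killed by `J`
    have hM : ∀ a ∈ J, ∀ m : M, a • m = 0 := by
      intro a ha m
      have := h1 a₀ le_rfl
      let φ : M ≃ₗ[A] Dual.HD A L a₀ :=
        (((DerivedCategory.singleFunctorCompHomologyFunctorIso (ModuleCat.{u} A) a₀).app M).symm ≪≫
          (hF A a₀).mapIso e.symm ≪≫ asIso ((hF A a₀).map f)).toLinearEquiv
      apply φ.injective
      rw [map_smul, map_zero]
      exact hJ a₀ (by push_cast; lia) a ha _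
    obtain ⟨e'⟩ := nonempty_single_iso_shift M a₀ (-a₀) (by lia)
    have hKX : Kills q J X := by
      rw [Kills.of_iso (e ≪≫ e')]
      exact Kills.of_module (M := M) hM (-a₀)
    have hKY : Kills q (J ^ N) Y := by
      refine ih Y (a₀ + 1) hY ?_ (by push_cast at h0; lia)
      intro i hi a ha z
      by_cases hia : a₀ < i
      · have := h2 i hia
        let φ := (asIso ((hF A i).map g)).toLinearEquiv
        obtain ⟨w, rfl⟩ := φ.surjective z
        rw [← map_smul, hJ i (by push_cast; lia) a ha w, map_zero]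
      · have := (isGE_iff_subsingleton Y (a₀ + 1)).1 hY i (by lia)
        exact Subsingleton.elim _ _
    rw [pow_succ']
    exact Kills.middle hT hKX hKY

/-- Forward direction, for shifts. -/
theorem kills_shift_of_annihilates {q J : Ideal A} [hq : q.IsPrime] (L : Dual.D A) (a₀ s : ℤ)
    (hL : L.IsGE a₀) (hJ : ∀ i, i ≤ s → ∀ a ∈ J, ∀ z : Dual.HD A L i, a • z = 0) (i : ℤ)
    (hi : i ≤ s) : Kills q (J ^ (s + 1 - a₀).toNat) (L⟦i⟧) := by
  by_cases h : a₀ ≤ s + 1
  · refine kills_of_annihilates _ _ (a₀ - i) (isGE_shift L a₀ i _ (by lia) hL) ?_ ?_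
    · intro j hj a ha z
      obtain ⟨φ⟩ := nonempty_HD_shift L i j (i + j) rfl
      apply φ.injective
      rw [map_smul, map_zero]
      exact hJ _ (by rw [Int.toNat_of_nonneg (by lia)] at hj; lia) a ha _
    · rw [Int.toNat_of_nonneg (by lia)]; lia
  · exact Kills.of_isGE (isGE_shift L _ i 1 rfl
      ((DerivedCategory.TStructure.t (C := ModuleCat.{u} A)).isGE_of_ge L (i + 1) a₀ (by lia)))

/-- Step of the backward direction: control of the `q`-power torsion elements of `H^0`. -/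
theorem exists_smul_eq_zero_of_kills {q J J' : Ideal A} [hq : q.IsPrime] (K : Dual.D A) (a₀ : ℤ)
    (N : ℕ) (hN : 1 < a₀ + N) (hK : K.IsGE a₀)
    (hJ' : ∀ i, i < 0 → ∀ a ∈ J', ∀ z : Dual.HD A K i, a • z = 0) (hJ : Kills q J K)
    (z : Dual.HD A K 0) (n : ℕ) (hz : ∀ a ∈ q ^ n, a • z = 0) :
    ∀ c ∈ J * J' ^ N, ∃ t : A, t ∉ q ∧ t • c • z = 0 := by
  obtain ⟨X, Y, f, g, h, hT, hX, hY, h1, h2⟩ := exists_trunc K (-1)
  have hXge : X.IsGE a₀ := by
    rw [isGE_iff_subsingleton] at hK ⊢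
    intro i hi
    by_cases h0 : i ≤ -1
    · have := h1 i h0
      have := hK i hi
      exact (asIso ((hF A i).map f)).toLinearEquiv.toEquiv.subsingleton
    · exact (isLE_iff_subsingleton X (-1)).1 hX i (by lia)
  have hX1 : Kills q (J' ^ N) (X⟦(1 : ℤ)⟧) := by
    refine kills_of_annihilates N _ (a₀ - 1) (isGE_shift X a₀ 1 _ (by lia) hXge) ?_ (by lia)
    intro i hi a ha w
    obtain ⟨φ⟩ := nonempty_HD_shift X 1 i (1 + i) rfl
    apply φ.injective
    rw [map_smul, map_zero]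
    by_cases h0 : 1 + i ≤ -1
    · have := h1 (1 + i) h0
      apply (asIso ((hF A (1 + i)).map f)).toLinearEquiv.injective
      rw [map_smul, map_zero]
      exact hJ' _ (by lia) a ha _
    · have := (isLE_iff_subsingleton X (-1)).1 hX (1 + i) (by lia)
      exact Subsingleton.elim _ _
  have h20 := h2 0 (by lia)
  have hg : Function.Injective ((hF A 0).map g).hom :=
    (asIso ((hF A 0).map g)).toLinearEquiv.injective
  obtain ⟨x, hx⟩ := ev_surjective (I := q ^ n) (K := Y) (by simpa using hY) (((hF A 0).map g).hom z)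
    (by intro a ha; rw [← map_smul, hz a ha, map_zero])
  intro c hc
  refine Submodule.mul_induction_on hc ?_ ?_
  · intro a ha b hb
    obtain ⟨m, hm, s, hs, e⟩ := hX1 n (x ≫ h) b hb
    have e' : (s • b • (tr (Ideal.pow_le_pow_right hm) ≫ x)) ≫ h = 0 := by
      rw [Linear.smul_comp, Linear.smul_comp, Category.assoc]; exact e
    obtain ⟨y, hy⟩ := lift₃ hT _ e'
    obtain ⟨m', hm', s', hs', e''⟩ := hJ m y a ha
    have e3 : s' • a • (tr (Ideal.pow_le_pow_right hm') ≫ (s • b • (tr (Ideal.pow_le_pow_right hm) ≫ x)))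
        = 0 := by
      rw [hy, ← Category.assoc, ← Linear.smul_comp, ← Linear.smul_comp, e'', zero_comp]
    have e4 := congrArg ev e3
    rw [ev_smul, ev_smul, ev_tr, ev_smul, ev_smul, ev_tr, hx] at e4
    refine ⟨s' * s, fun hh => (hq.mem_or_mem hh).elim hs' hs, ?_⟩
    apply hg
    rw [map_smul, map_smul, map_zero, mul_smul, mul_smul]
    have e5 : ev (0 : Dual.inD A (A ⧸ q ^ m') ⟶ Y) = 0 := by simp [ev]
    rw [e5] at e4
    rw [smul_comm s a]
    exact e4
  · rintro c c' ⟨t1, ht1, e1⟩ ⟨t2, ht2, e2⟩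
    refine ⟨t1 * t2, fun hh => (hq.mem_or_mem hh).elim ht1 ht2, ?_⟩
    rw [add_smul, smul_add, mul_smul t1 t2 (c' • z), e2, mul_comm, mul_smul, e1]
    simp

end Groth.Agent.LoccohB.FaltB
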