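import Groth.Agent.LoccohB.FaltA
import Groth.Agent.LoccohB.FaltB
import Groth.Agent.LoccohA.LCTBase
import Mathlib.Algebra.Category.ModuleCat.ChangeOfRings
import Mathlib.RingTheory.Localization.AtPrime.Basic
import Mathlib.Algebra.Module.LocalizedModule.Basic
import Mathlib.RingTheory.Localization.BaseChange

/-!
Vanishing of localizations and the elementwise description of `Dual2.HDI`.
-/

universe v u

open CategoryTheory CategoryTheory.Limits CategoryTheory.Pretriangulated CategoryTheory.Triangulated
open scoped TensorProduct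

attribute [local instance] HasDerivedCategory.standard

namespace Groth.Agent.LoccohB.FaltG

open Groth.Agent.LoccohB.FaltA Groth.Agent.LoccohB.FaltB
open Groth.Agent.LoccohA.LCTColim Groth.Agent.LoccohA.LCTBase

section ext

variable (A B : Type u) [CommRing A] [CommRing B] [Algebra A B]

open scoped ChangeOfRings

set_option backward.isDefEq.respectTransparency false in
/-- `B ⊗_A M` is the extension of scalars of `M` (any universe for `M`). -/
noncomputable def extEquiv (M : ModuleCat.{max v u} A) :
    B ⊗[A] M ≃ₗ[B] (ModuleCat.extendScalars.{u, u, max v u} (algebraMap A B)).obj M :=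
  let e₁ : B ≃ₗ[A] ((ModuleCat.restrictScalars (algebraMap A B)).obj (ModuleCat.of B B)) :=
    { toFun := fun b => b
      invFun := fun b => b
      left_inv := fun _ => rfl
      right_inv := fun _ => rfl
      map_add' := fun _ _ => rfl
      map_smul' := fun a b => by rw [Algebra.smul_def]; rfl }
  let e₂ := TensorProduct.congr e₁ (LinearEquiv.refl A M)
  { toFun := fun t => e₂ t
    invFun := fun t => e₂.symm t
    left_inv := e₂.left_inv
    right_inv := e₂.right_inv
    map_add' := e₂.map_add
    map_smul' := fun b t => by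
      induction t using TensorProduct.induction_on with
      | zero => rw [smul_zero, map_zero, smul_zero]
      | tmul b' m => rfl
      | add x y hx hy =>
        rw [smul_add, map_add, hx, hy, map_add, smul_add] }

end ext

/-- `A_p ⊗ M = 0` elementwise. -/
lemma subsingleton_extendScalars_iff {A : Type u} [CommRing A] (p : Ideal A) [p.IsPrime]
    (M : ModuleCat.{max v u} A) :
    Subsingleton ((ModuleCat.extendScalars.{u, u, max v u}
      (algebraMap A (Localization.AtPrime p))).obj M) ↔
      ∀ m : M, ∃ s : A, s ∉ p ∧ s • m = 0 := by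
  rw [← (extEquiv.{v, u} A (Localization.AtPrime p) M).toEquiv.subsingleton_congr]
  rw [IsLocalizedModule.subsingleton_iff p.primeCompl
    (TensorProduct.mk A (Localization.AtPrime p) M 1)]
  constructor
  · intro h m
    obtain ⟨s, hs, h⟩ := h m
    exact ⟨s, hs, h⟩
  · intro h m
    obtain ⟨s, hs, h⟩ := h m
    exact ⟨s, hs, h⟩

variable {A : Type u} [CommRing A]

/-- Elementwise description of the vanishing of the localization of `HDI`. -/
lemma forall_HDI_iff (p : Ideal A) [hp : p.IsPrime] (K : Dual.D A) (i : ℤ) :
    (∀ m : Dual2.HDI A p K i, ∃ s : A, s ∉ p ∧ s • m = 0) ↔ Kills p ⊤ (K⟦i⟧) := by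
  have hc := HDI_isColim p i K
  constructor
  · intro h n x a _
    obtain ⟨s, hs, e⟩ := h (HDIι p i K (Opposite.op (Opposite.op n)) x)
    rw [← map_smul] at e
    obtain ⟨m, f, hf⟩ := hc.inj _ _ e
    refine ⟨m.unop.unop, leOfHom f.unop.unop, s, hs, ?_⟩
    rw [HDIdiag_map] at hf
    have hf' : tr (Ideal.pow_le_pow_right (leOfHom f.unop.unop)) ≫ (s • x) = 0 := hf
    rw [smul_comm, ← Linear.comp_smul, hf', smul_zero]
  · intro h m
    obtain ⟨n, x, rfl⟩ := hc.surj m
    obtain ⟨m', hm', s, hs, e⟩ := h n.unop.unop x 1 trivial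
    refine ⟨s, hs, ?_⟩
    rw [← map_smul]
    rw [← hc.compat (d' := Opposite.op (Opposite.op m')) (homOfLE hm').op.op (s • x)]
    rw [one_smul, ← Linear.comp_smul] at e
    have e' : ((HDIdiag p i K).map (homOfLE hm').op.op).hom (s • x) = 0 := e
    rw [e', map_zero]

end Groth.Agent.LoccohB.FaltG
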