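import Groth.Agent.LoccohB.FaltD
import Groth.Agent.LoccohB.FaltE
import Groth.Agent.LoccohB.FaltF
import Groth.Agent.LoccohB.FaltG

/-!
Faltings' annihilator theorem for bounded below complexes, deduced from the local duality equivalence.
-/

universe u

open CategoryTheory CategoryTheory.Limits CategoryTheory.Pretriangulated CategoryTheory.Triangulated

attribute [local instance] HasDerivedCategory.standard

namespace Groth.Agent.LoccohB.FaltH

open Groth.Agent.LoccohB.FaltA Groth.Agent.LoccohB.FaltB Groth.Agent.LoccohB.FaltC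
  Groth.Agent.LoccohB.FaltD Groth.Agent.LoccohB.FaltE Groth.Agent.LoccohB.FaltF
  Groth.Agent.LoccohB.FaltG
open Groth.Agent.LoccohA.DzExact Groth.Agent.LoccohA.DzExt Groth.Agent.LoccohA.DzDim

variable {A : Type u} [CommRing A]

/-- The local duality equivalence, elementwise: `a` kills `H^i_p(K)_p` iff it kills
`Hom(K, ω[-δ(p) - i])_p`. -/
def LocalDualityAt (ω : Dual.D A) (δ : PrimeSpectrum A → ℤ) : Prop :=
  ∀ (p : PrimeSpectrum A) (K : Dual.D A) (c d : ℤ), K.IsGE c → K.IsLE d →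
    (∀ i : ℤ, Module.Finite A (Dual.HD A K i)) → ∀ (i : ℤ) (a : A),
    (∀ (n : ℕ) (x : Dual.inD A (A ⧸ p.asIdeal ^ n) ⟶ K⟦i⟧), KillsAt p.asIdeal x a) ↔
      (∀ y : K ⟶ ω⟦(-δ p - i : ℤ)⟧, ∃ t : A, t ∉ p.asIdeal ∧ t • a • y = 0)

/-- Truncation does not change `Hom(N, -[i])` in low degrees. -/
lemma bijective_of_trunc {X K Y : Dual.D A} {f : X ⟶ K} {g : K ⟶ Y} {h : Y ⟶ X⟦(1 : ℤ)⟧}
    (hT : Triangle.mk f g h ∈ distTriang (Dual.D A)) (s : ℤ) (hY : Y.IsGE (s + 1)) (i : ℤ)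
    (hi : i ≤ s) (N : Dual.D A) (hN : N.IsLE 0) :
    Function.Bijective (fun x : N ⟶ X⟦i⟧ => x ≫ f⟦i⟧') := by
  constructor
  · intro x y hxy
    rw [← sub_eq_zero]
    have h0 : (x - y) ≫ f⟦i⟧' = 0 := by
      rw [Preadditive.sub_comp, sub_eq_zero]
      exact hxy
    have hT' := Triangle.shift_distinguished _ (inv_rot_of_distTriang _ hT) i
    obtain ⟨w, hw⟩ := Triangle.coyoneda_exact₂ _ hT' (x - y) (by
      change (x - y) ≫ (i.negOnePow • (f⟦i⟧')) = 0
      rw [Linear.comp_units_smul, h0, smul_zero])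
    rw [hw]
    have hG : ((Y⟦(-1 : ℤ)⟧)⟦i⟧).IsGE (s + 2 - i) :=
      isGE_shift _ (s + 2) i _ (by lia) (isGE_shift Y (s + 1) (-1) (s + 2) (by lia) hY)
    have h1 : w = 0 := hom_eq_zero_of_isLE_of_isGE w 0 (s + 2 - i) hN hG (by lia)
    rw [h1]
    exact zero_comp
  · intro y
    have hT' := Triangle.shift_distinguished _ hT i
    have hG : (Y⟦i⟧).IsGE (s + 1 - i) := isGE_shift _ (s + 1) i _ (by lia) hY
    obtain ⟨w, hw⟩ := Triangle.coyoneda_exact₂ _ hT' y
      (hom_eq_zero_of_isLE_of_isGE _ 0 (s + 1 - i) hN hG (by lia))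
    have hw' : ∃ w : N ⟶ X⟦i⟧, y = w ≫ (i.negOnePow • (f⟦i⟧')) := ⟨w, hw⟩
    obtain ⟨w, rfl⟩ := hw'
    refine ⟨i.negOnePow • w, ?_⟩
    dsimp only
    rw [Linear.comp_units_smul, Linear.units_smul_comp]

lemma kills_top_iff {q : Ideal A} {K : Dual.D A} :
    Kills q ⊤ K ↔ ∀ (n : ℕ) (x : Dual.inD A (A ⧸ q ^ n) ⟶ K), KillsAt q x 1 := by
  constructor
  · intro h n x
    exact h n x 1 trivial
  · intro h n x a _
    have := (h n x).mul_left a
    rwa [mul_one] at this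

/-- **Faltings' annihilator theorem** in terms of the elementwise predicate `Kills`. -/
theorem main [IsNoetherianRing A] (ω : Dual.D A) (hω : Dual.IsDualizing A ω)
    (δ : PrimeSpectrum A → ℤ)
    (hδ1 : ∀ (p : PrimeSpectrum A) (i : ℤ), (¬ VanAt A p.asIdeal (E ω i (Aq p))) ↔ i = -δ p)
    (hδ2 : ∀ p q : PrimeSpectrum A, p ⋖ q → δ p = δ q + 1)
    (hLD : LocalDualityAt ω δ)
    (T T' : Set (PrimeSpectrum A)) (hT : StableUnderSpecialization T)
    (hT' : StableUnderSpecialization T') (s : ℤ) (K : Dual.D A) (a₀ : ℤ)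
    (hKa : ∀ i : ℤ, i < a₀ → Subsingleton (Dual.HD A K i))
    (hK : ∀ i : ℤ, Module.Finite A (Dual.HD A K i)) :
    (∃ J : Ideal A, PrimeSpectrum.zeroLocus (J : Set A) ⊆ T' ∧
      ∀ i : ℤ, i ≤ s → ∀ a ∈ J, ∀ x : Dual2.HDT A T K i, a • x = 0) ↔
    (∀ (p q : PrimeSpectrum A) (hpq : p ≤ q), p ∉ T' → q ∈ T → ∀ h : ℕ,
      Order.height (⟨q, hpq⟩ : Set.Ici p) = h → ∀ i : ℤ, i ≤ s - h → Kills p.asIdeal ⊤ (K⟦i⟧)) := by
  obtain ⟨a, b, hab⟩ := hω.finite_injective_dimension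
  have hbd := delta_bounds a b hab δ hδ1
  have hlt := fun p q h => delta_lt δ hδ2 (-a) (fun p => (hbd p).2) p q h
  have hht := height_iff δ hδ2 (-a) (fun p => (hbd p).2)
  have hKge : K.IsGE a₀ := (isGE_iff_subsingleton K a₀).2 hKa
  -- the truncation
  obtain ⟨K', Y, f, g, h, hTri, hK'le, hYge, h1, h2⟩ := exists_trunc K s
  have hK'ge : K'.IsGE a₀ := by
    rw [isGE_iff_subsingleton]
    intro i hi
    by_cases his : i ≤ s
    · have := h1 i his
      have := hKa i hi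
      exact (asIso ((hF A i).map f)).toLinearEquiv.toEquiv.subsingleton
    · exact (isLE_iff_subsingleton K' s).1 hK'le i (by lia)
  have hK'fin : ∀ i : ℤ, Module.Finite A (Dual.HD A K' i) := by
    intro i
    by_cases his : i ≤ s
    · have := h1 i his
      have := hK i
      exact Module.Finite.equiv (asIso ((hF A i).map f)).toLinearEquiv.symm
    · have := (isLE_iff_subsingleton K' s).1 hK'le i (by lia)
      infer_instance
  have hkill : ∀ (q : PrimeSpectrum A) (J : Ideal A) (i : ℤ), i ≤ s →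
      (Kills q.asIdeal J (K'⟦i⟧) ↔ Kills q.asIdeal J (K⟦i⟧)) := fun q J i hi =>
    Kills.of_bij (f⟦i⟧') fun m => bijective_of_trunc hTri s hYge i hi _ inferInstance
  -- the modules `Hom(K', ω[j])`
  have hEfin : ∀ j : ℤ, Module.Finite A (K' ⟶ ω⟦j⟧) := fun j =>
    finite_hom hω K' a₀ s hK'ge hK'le hK'fin j
  have hEzero : ∀ j : ℤ, b - a₀ < j → Subsingleton (K' ⟶ ω⟦j⟧) := fun j hj =>
    subsingleton_hom a b hab K' a₀ s hK'ge hK'le j hj
  have hLD' := fun p => hLD p K' a₀ s hK'ge hK'le hK'fin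
  -- `L = RΓ_T K`
  obtain ⟨L, π, hL1, hL2, hL3, hL4⟩ := exists_rgammaT T K a₀ hKge
  have step1 : (∃ J : Ideal A, PrimeSpectrum.zeroLocus (J : Set A) ⊆ T' ∧
      ∀ i : ℤ, i ≤ s → ∀ a ∈ J, ∀ x : Dual2.HDT A T K i, a • x = 0) ↔
      (∃ J : Ideal A, PrimeSpectrum.zeroLocus (J : Set A) ⊆ T' ∧
      ∀ i : ℤ, i ≤ s → ∀ a ∈ J, ∀ x : Dual.HD A L i, a • x = 0) := by
    refine exists_congr fun J => and_congr_right fun _ => forall₂_congr fun i _ =>
      forall₂_congr fun a _ => ?_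
    obtain ⟨e⟩ := hL2 i
    constructor
    · intro h x
      apply e.symm.injective
      rw [map_smul, map_zero]
      exact h _
    · intro h x
      apply e.injective
      rw [map_smul, map_zero]
      exact h _
  have step2 := exists_annihilator_iff_kills T T' L a₀ s hL1 (by
      intro i z q hq
      obtain ⟨J, hJ, hJ'⟩ := hL4 i z
      exact hJ (fun a ha => hq a (hJ' a ha)))
    δ hlt (-b) (b - a).toNat (fun p => by
      have := hbd p
      have h3 : (b - a) ≤ (b - a).toNat := Int.self_le_toNat _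
      constructor <;> lia)
  have step3 : ∀ (q : PrimeSpectrum A) (J : Ideal A) (i : ℤ), q ∈ T →
      (Kills q.asIdeal J (L⟦i⟧) ↔ Kills q.asIdeal J (K⟦i⟧)) := by
    intro q J i hq
    refine Kills.of_bij (π⟦i⟧') fun m => hL3 i _ ?_
    intro p hp
    have hp' : q.asIdeal ^ m ≤ p.asIdeal := hp
    exact hT ((PrimeSpectrum.le_iff_specializes q p).1 (p.2.le_of_pow_le hp')) hq
  have step4 := vanish_iff_exists_ideal (fun j : ℤ => (K' ⟶ ω⟦j⟧)) T T' hT' δ (-a)
    (fun p => (hbd p).2) s (b - a₀) hEzero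
  rw [step1, step2]
  have step5 : (∃ J : Ideal A, PrimeSpectrum.zeroLocus (J : Set A) ⊆ T' ∧
      ∀ q ∈ T, ∀ i, i ≤ s → Kills q.asIdeal J (L⟦i⟧)) ↔
      (∃ J : Ideal A, PrimeSpectrum.zeroLocus (J : Set A) ⊆ T' ∧
      ∀ q ∈ T, ∀ j, -s - δ q ≤ j → ∀ a ∈ J, ∀ y : K' ⟶ ω⟦j⟧,
        ∃ t : A, t ∉ q.asIdeal ∧ t • a • y = 0) := by
    refine exists_congr fun J => and_congr_right fun _ => forall₂_congr fun q hq => ?_
    constructor
    · intro h j hj a ha
      have h4 := h (-δ q - j) (by lia)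
      rw [step3 q J _ hq, ← hkill q J _ (by lia)] at h4
      have h5 := (hLD' q (-δ q - j) a).1 (fun n x => h4 n x a ha)
      have e : -δ q - (-δ q - j) = j := by lia
      rw [e] at h5
      exact h5
    · intro h i hi
      rw [step3 q J _ hq, ← hkill q J _ hi]
      intro n x a ha
      exact (hLD' q i a).2 (h (-δ q - i) (by lia) a ha) n x
  rw [step5, ← step4]
  constructor
  · intro h p q hpq hp hq n hn i hi
    rw [hht p q hpq n] at hn
    rw [← hkill p ⊤ i (by lia), kills_top_iff]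
    intro m x
    refine (hLD' p i 1).2 ?_ m x
    intro y
    obtain ⟨t, ht, e⟩ := h p q hpq hp hq (-δ p - i) (by lia) y
    exact ⟨t, ht, by rw [one_smul]; exact e⟩
  · intro h p q hpq hp hq j hj y
    have h0 : (0 : ℤ) ≤ δ p - δ q := by
      rcases eq_or_lt_of_le hpq with rfl | hlt'
      · simp
      · have := hlt p q hlt'
        lia
    have hn := (hht p q hpq (δ p - δ q).toNat).2 (Int.toNat_of_nonneg h0)
    have h4 := h p q hpq hp hq _ hn (-δ p - j) (by rw [Int.toNat_of_nonneg h0]; lia)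
    rw [← hkill p ⊤ _ (by lia), kills_top_iff] at h4
    have h5 := (hLD' p (-δ p - j) 1).1 h4
    have e : -δ p - (-δ p - j) = j := by lia
    rw [e] at h5
    obtain ⟨t, ht, e'⟩ := h5 y
    exact ⟨t, ht, by rwa [one_smul] at e'⟩

end Groth.Agent.LoccohB.FaltH
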