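import Groth.Agent.LoccohB.LocDualCx
import Groth.Agent.LoccohB.FaltH
import Groth.Agent.LoccohA.DzKappa

/-!
# Local duality, elementwise form
-/

set_option autoImplicit false
universe v w u
open CategoryTheory Limits Opposite Pretriangulated
attribute [local instance] HasDerivedCategory.standard

namespace Groth.Agent.LoccohB.LocDualFinal

open Groth.Agent.LoccohB.LocDualBasic Groth.Agent.LoccohB.LocDualDev Groth.Agent.LoccohB.LocDualVan
  Groth.Agent.LoccohB.LocDualTors Groth.Agent.LoccohB.LocDualElt Groth.Agent.LoccohB.LocDualLoc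
  Groth.Agent.LoccohB.LocDualInj Groth.Agent.LoccohB.LocDualBaer Groth.Agent.LoccohB.LocDualMod
  Groth.Agent.LoccohB.LocDualCx

section

variable {A : Type u} [CommRing A] (p : Ideal A) [hp : p.IsPrime]

/-- the socle element. -/
theorem exists_socle [IsNoetherianRing A] (W : Dual.D A)
    (h1 : LZ p (Dual.inD A (A ⧸ p) ⟶ W⟦(-1 : ℤ)⟧))
    (e : Dual.inD A (A ⧸ p) ⟶ W) (he1 : ∀ s : A, s ∉ p → s • e ≠ 0) :
    ∃ z : HL p W, z ≠ 0 ∧ ∀ a ∈ p, a • z = 0 := by
  have hpow : ∀ a ∈ p, ∀ x : A ⧸ p, a • x = 0 := by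
    intro a ha x
    obtain ⟨x, rfl⟩ := Ideal.Quotient.mk_surjective x
    exact Ideal.Quotient.eq_zero_iff_mem.2 (Ideal.mul_mem_right _ _ ha)
  let one : A ⧸ p := Submodule.Quotient.mk 1
  have hone : ∀ a ∈ p ^ 1, a • one = 0 := fun a ha => hpow a (by rwa [pow_one] at ha) one
  have hmk : ∀ a : A, (Submodule.Quotient.mk a : A ⧸ p) = a • one := by
    intro a
    change _ = a • (Submodule.Quotient.mk 1 : A ⧸ p)
    rw [← Submodule.Quotient.mk_smul, smul_eq_mul, mul_one]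
  refine ⟨loc p W (inclN p 1 (elt p 1 one hone ≫ e)), ?_, ?_⟩
  · intro hf
    rw [loc_inclN_eq_zero_iff] at hf
    obtain ⟨s, hs, m, hm, h⟩ := hf
    rw [← Category.assoc, tr_elt, ← Linear.comp_smul] at h
    have hkill : ∀ a ∈ p ^ m, ∀ x : A ⧸ p ^ m, a • x = 0 := by
      intro a ha x
      obtain ⟨x, rfl⟩ := Ideal.Quotient.mk_surjective x
      exact Ideal.Quotient.eq_zero_iff_mem.2 (Ideal.mul_mem_right _ _ ha)
    obtain ⟨t, ht, h'⟩ := epi_cancel p W h1 m hkill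
      (eltLin p m one (fun a ha => hone a (Ideal.pow_le_pow_right hm ha))) (by
        intro y
        obtain ⟨y, rfl⟩ := Submodule.Quotient.mk_surjective _ y
        refine ⟨Submodule.Quotient.mk y, ?_⟩
        rw [eltLin_mk, hmk]) (s • e) h
    rw [smul_smul] at h'
    exact he1 (t * s) (fun h => (hp.mem_or_mem h).elim ht hs) h'
  · intro a ha
    have h0 : a • e = 0 := smul_hom_eq_zero (fun x => hpow a ha x) W e
    rw [← map_smul, ← map_smul, ← Linear.comp_smul, h0, comp_zero, map_zero, map_zero]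

/-- `a` kills `H(K)` iff it kills `Hom(K, W)` locally at `p`. -/
theorem kills_iff (W K : Dual.D A) (hW : Module.Baer A (HL p W)) (hK : B p W K)
    (hz : ∃ z : HL p W, z ≠ 0 ∧ ∀ a ∈ p, a • z = 0) (a : A) :
    (∀ x : HL p K, a • x = 0) ↔ (∀ y : K ⟶ W, ∃ t : A, t ∉ p ∧ t • a • y = 0) := by
  constructor
  · intro h y
    by_contra hcon
    push Not at hcon
    obtain ⟨z, hz0, hz⟩ := hz
    let u : ULift.{u + 1} A →ₗ[A] A := (ULift.moduleEquiv (R := A) (M := A)).toLinearMap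
    obtain ⟨φ, hφ⟩ := baer_extend_of_ker_le hW (LinearMap.toSpanSingleton A (K ⟶ W) (a • y) ∘ₗ u)
      (LinearMap.toSpanSingleton A (HL p W) z ∘ₗ u) (by
        intro t ht
        rw [LinearMap.mem_ker, LinearMap.comp_apply, LinearMap.toSpanSingleton_apply] at ht
        rw [LinearMap.mem_ker, LinearMap.comp_apply, LinearMap.toSpanSingleton_apply]
        refine hz (u t) ?_
        by_contra htp
        exact hcon (u t) htp ht)
    obtain ⟨x, rfl⟩ := hK.2 φ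
    have h1 := hφ ⟨1⟩
    rw [LinearMap.comp_apply, LinearMap.comp_apply, LinearMap.toSpanSingleton_apply,
      LinearMap.toSpanSingleton_apply] at h1
    have h2 : u ⟨1⟩ = 1 := rfl
    rw [h2, one_smul, one_smul, map_smul, ← LinearMap.smul_apply, ← map_smul, h x,
      map_zero, LinearMap.zero_apply] at h1
    exact hz0 h1.symm
  · intro h x
    apply hK.1
    rw [map_zero]
    ext y
    obtain ⟨t, ht, hty⟩ := h y
    refine smul_inj p ht _ ?_
    rw [map_smul, LinearMap.smul_apply, ← map_smul, ← map_smul, hty, map_zero]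

/-- translation to `KillsAt`. -/
theorem forall_smul_iff (K : Dual.D A) (a : A) :
    (∀ x : HL p K, a • x = 0) ↔
      (∀ (n : ℕ) (x : Dual.inD A (A ⧸ p ^ n) ⟶ K), FaltB.KillsAt p x a) := by
  constructor
  · intro h n x
    have h1 := h (loc p K (inclN p n x))
    rw [← map_smul, ← map_smul, loc_inclN_eq_zero_iff] at h1
    obtain ⟨s, hs, m, hm, h2⟩ := h1
    refine ⟨m, hm, s, hs, ?_⟩
    rw [Linear.comp_smul] at h2
    exact h2
  · intro h x
    obtain ⟨s, hs, n, f, hf⟩ := exists_repL p x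
    obtain ⟨m, hm, t, ht, h1⟩ := h n f
    refine smul_inj p hs _ ?_
    rw [smul_comm, hf, ← map_smul, ← map_smul, loc_inclN_eq_zero_iff]
    refine ⟨t, ht, m, hm, ?_⟩
    rw [Linear.comp_smul]
    exact h1

end

open Groth.Agent.LoccohA.DzExact Groth.Agent.LoccohA.DzExt Groth.Agent.LoccohA.DzDim
  Groth.Agent.LoccohA.DzDual Groth.Agent.LoccohA.DzKappa Groth.Agent.LoccohA.DzOne

variable {A : Type u} [CommRing A] [IsNoetherianRing A]

/-- The numerical data of a dualizing complex at a prime. -/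
theorem data (ω : Dual.D A) (hω : Dual.IsDualizing A ω) (p : PrimeSpectrum A) (d : ℤ)
    (hδ1 : ∀ i : ℤ, (¬ VanAt A p.asIdeal (E ω i (Aq p))) ↔ i = d) :
    (∀ i : ℤ, i ≠ 0 → LZ p.asIdeal (Dual.inD A (A ⧸ p.asIdeal) ⟶ (ω⟦d⟧)⟦i⟧)) ∧
    (∃ e : Dual.inD A (A ⧸ p.asIdeal) ⟶ ω⟦d⟧, (∀ s : A, s ∉ p.asIdeal → s • e ≠ 0) ∧
      (∀ g : Dual.inD A (A ⧸ p.asIdeal) ⟶ ω⟦d⟧, ∃ s : A, s ∉ p.asIdeal ∧ ∃ a : A, s • g = a • e)) ∧
    (∀ (M : Type u) [AddCommGroup M] [Module A M] [Module.Finite A M] (i : ℤ),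
      Module.Finite A (Dual.inD A M ⟶ (ω⟦d⟧)⟦i⟧)) := by
  refine ⟨?_, ?_, ?_⟩
  · intro i hi
    refine LZ.hom_of_iso_right ((shiftFunctorAdd' (Dual.D A) d i (d + i) rfl).app ω) ?_
    have h1 : VanAt A p.asIdeal (E ω (d + i) (Aq p)) := by
      by_contra hcon
      have := (hδ1 _).1 hcon
      omega
    exact h1
  · have h1 := (hδ1 d).2 rfl
    unfold VanAt at h1
    push Not at h1
    obtain ⟨e, he⟩ := h1
    refine ⟨e, he, ?_⟩
    intro g
    obtain ⟨s, t, hst, h⟩ := rankLE1 hω p d g e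
    by_cases hs : s ∈ p.asIdeal
    · exfalso
      have ht : t ∉ p.asIdeal := hst.resolve_left (not_not_intro hs)
      refine he t ht ?_
      rw [← h]
      exact smul_eq_zero_of_annihilator d (Aq p) s (Aq_killed p s hs) g
    · exact ⟨s, hs, t, h⟩
  · intro M _ _ _ i
    obtain ⟨a, b, hab⟩ := hω.finite_injective_dimension
    have h1 : Module.Finite A (E ω (d + i) (ModuleCat.of A M)) :=
      finite_E (a := a) (b := b) hab hω.finite_cohomology (d + i) (ModuleCat.of A M)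
    exact Module.Finite.equiv (Linear.homCongr A (Iso.refl (Dual.inD A M))
      ((shiftFunctorAdd' (Dual.D A) d i (d + i) rfl).app ω))

/-- **Local duality**: all the ingredients. -/
theorem B_dualizing (ω : Dual.D A) (hω : Dual.IsDualizing A ω) (p : PrimeSpectrum A) (d : ℤ)
    (hδ1 : ∀ i : ℤ, (¬ VanAt A p.asIdeal (E ω i (Aq p))) ↔ i = d)
    (K : Dual.D A) (c c' : ℤ) (hc : K.IsGE c) (hd : K.IsLE c')
    (hK : ∀ i : ℤ, Module.Finite A (Dual.HD A K i)) (i : ℤ) : B p.asIdeal (ω⟦d⟧) (K⟦i⟧) := by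
  obtain ⟨h3, ⟨e, he1, he2⟩, hfin⟩ := data ω hω p d hδ1
  exact B_complex p.asIdeal (ω⟦d⟧) h3 e he1 he2 hfin K c c' hc hd hK i

/-- **Local duality**, elementwise form. -/
theorem localDualityAt (ω : Dual.D A) (hω : Dual.IsDualizing A ω) (δ : PrimeSpectrum A → ℤ)
    (hδ1 : ∀ (p : PrimeSpectrum A) (i : ℤ), (¬ VanAt A p.asIdeal (E ω i (Aq p))) ↔ i = -δ p) :
    FaltH.LocalDualityAt ω δ := by
  intro p K c c' hc hd hK i a
  obtain ⟨h3, ⟨e, he1, he2⟩, hfin⟩ := data ω hω p (-δ p) (hδ1 p)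
  have hB := B_complex p.asIdeal (ω⟦(-δ p : ℤ)⟧) h3 e he1 he2 hfin K c c' hc hd hK i
  have hW : Module.Baer A (HL p.asIdeal (ω⟦(-δ p : ℤ)⟧)) :=
    baer_HL p.asIdeal _ (h3 (-1) (by norm_num)) (h3 1 (by norm_num))
  have hz := exists_socle p.asIdeal (ω⟦(-δ p : ℤ)⟧) (h3 (-1) (by norm_num)) e he1
  rw [← forall_smul_iff p.asIdeal (K⟦i⟧) a, kills_iff p.asIdeal _ _ hW hB hz a]
  -- `Hom(K, ω[-δ-i]) ≃ Hom(K[i], ω[-δ])`
  let ε : (K ⟶ ω⟦(-δ p - i : ℤ)⟧) ≃ₗ[A] (K⟦i⟧ ⟶ ω⟦(-δ p : ℤ)⟧) :=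
    (Linear.homCongr A (Iso.refl K)
      ((shiftFunctorAdd' (Dual.D A) (-δ p) (-i) (-δ p - i) (by omega)).app ω)).trans
      (shiftEquiv K (ω⟦(-δ p : ℤ)⟧) i (-i) (by omega))
  constructor
  · intro h y
    obtain ⟨t, ht, h1⟩ := h (ε y)
    refine ⟨t, ht, ?_⟩
    rw [← map_smul, ← map_smul] at h1
    exact (LinearEquiv.map_eq_zero_iff ε).1 h1
  · intro h y
    obtain ⟨t, ht, h1⟩ := h (ε.symm y)
    refine ⟨t, ht, ?_⟩
    rw [← map_smul, ← map_smul] at h1
    exact (LinearEquiv.map_eq_zero_iff ε.symm).1 h1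

end Groth.Agent.LoccohB.LocDualFinal
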