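import Mathlib.Algebra.Homology.GrothendieckAbelian
import Mathlib.CategoryTheory.Abelian.GrothendieckCategory.EnoughInjectives
import Mathlib.Algebra.Category.ModuleCat.AB
import Mathlib.Algebra.Homology.HomotopyCategory.KProjective
import Mathlib.Algebra.Homology.ShortComplex.ModuleCat
import Mathlib.Algebra.Homology.Double
import Mathlib.Algebra.Homology.HomologySequenceLemmas
import Mathlib.Algebra.Category.ModuleCat.Projective

/-!
# K-projective resolutions of unbounded complexes of modules

`exists_kprojective`: every cochain complex `K` of modules over a ring receives a degreewise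
surjective quasi-isomorphism from a K-projective complex with projective terms.
(Small object argument applied to the inclusions sphere → disc.)
-/

set_option autoImplicit false

universe u

open CategoryTheory Limits HomologicalComplex ZeroObject

namespace Groth.Agent.LoccohB.KProj

section

variable (A : Type u) [Ring A]

/-- sphere: `A` in degree `n`. -/
noncomputable abbrev sphere (n : ℤ) : CochainComplex (ModuleCat.{u} A) ℤ :=
  (HomologicalComplex.single _ (ComplexShape.up ℤ) n).obj (ModuleCat.of A A)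

lemma rel_sub_one (n : ℤ) : (ComplexShape.up ℤ).Rel (n - 1) n := by simp

lemma sub_one_ne (n : ℤ) : n - 1 ≠ n := by omega

/-- disc: `A → A` in degrees `n-1`, `n`. -/
noncomputable abbrev disc (n : ℤ) : CochainComplex (ModuleCat.{u} A) ℤ :=
  HomologicalComplex.double (𝟙 (ModuleCat.of A A)) (rel_sub_one n)

/-- The inclusion sphere → disc. -/
noncomputable def incl (n : ℤ) : sphere A n ⟶ disc A n :=
  HomologicalComplex.mkHomFromSingle
    (HomologicalComplex.doubleXIso₁ (𝟙 (ModuleCat.of A A)) (rel_sub_one n) (sub_one_ne n)).inv (by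
      intro k _
      rw [HomologicalComplex.double_d_eq_zero₀ _ _ _ _ (sub_one_ne n).symm, comp_zero])

lemma incl_f (n : ℤ) : (incl A n).f n = (HomologicalComplex.singleObjXSelf _ n _).hom ≫
    (HomologicalComplex.doubleXIso₁ (𝟙 (ModuleCat.of A A)) (rel_sub_one n) (sub_one_ne n)).inv := by
  simp [incl]

instance (n : ℤ) : Mono (incl A n) := by
  apply (config := { allowSynthFailures := true }) HomologicalComplex.mono_of_mono_f
  intro i
  by_cases hi : i = n
  · subst hi
    rw [incl_f]
    exact mono_comp _ _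
  · exact ⟨fun _ _ _ => (HomologicalComplex.isZero_single_obj_X _ _ _ _ hi).eq_of_tgt _ _⟩

/-- The generating cofibrations. -/
def gens : MorphismProperty (CochainComplex (ModuleCat.{u} A) ℤ) :=
  MorphismProperty.ofHoms (fun n : ℤ => incl A n)

lemma gens_le_mono : gens A ≤ MorphismProperty.monomorphisms _ := by
  rintro _ _ _ ⟨n⟩
  exact inferInstanceAs (Mono (incl A n))

instance : MorphismProperty.IsSmall.{u} (gens A) := by
  have : Small.{u} ℤ := inferInstance
  exact MorphismProperty.isSmall_ofHoms _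

open MorphismProperty in
instance : HasSmallObjectArgument.{u} (gens A) := by
  obtain ⟨κ, hκ', hκ⟩ := HasCardinalLT.exists_regular_cardinal_forall.{u}
    (fun n : ℤ => Subobject (sphere A n))
  have : Fact κ.IsRegular := ⟨hκ'⟩
  have : Nonempty κ.ord.ToType := by simpa using hκ'.ne_zero
  have := WellFoundedLT.toOrderBot κ.ord.ToType
  have : IsStableUnderCoproducts.{u} (monomorphisms (CochainComplex (ModuleCat.{u} A) ℤ)) := by
    infer_instance
  exact ⟨κ, inferInstance, inferInstance,
    { preservesColimit {A' B X Y} i hi f hf := by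
        let hf' : (monomorphisms (CochainComplex (ModuleCat.{u} A) ℤ)).TransfiniteCompositionOfShape
            κ.ord.ToType f :=
          { toTransfiniteCompositionOfShape := hf.toTransfiniteCompositionOfShape
            map_mem j hj := by
              have := (hf.attachCells j hj).pushouts_coproducts
              simp only [ofHoms_homFamily] at this
              refine (?_ : _ ≤ monomorphisms _) _ this
              simp only [pushouts_le_iff, coproducts_le_iff]
              exact gens_le_mono A }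
        have (j j' : κ.ord.ToType) (φ : j ⟶ j') : Mono (hf'.F.map φ) := hf'.mem_map φ
        apply IsGrothendieckAbelian.preservesColimit_coyoneda_obj_of_mono (Y := hf'.F) (κ := κ)
        obtain ⟨n⟩ := hi
        exact hκ n }⟩

/-- If a chain map has the right lifting property with respect to the generating
cofibrations, we can lift elements. -/
lemma exists_lift_of_rlp {K L : CochainComplex (ModuleCat.{u} A) ℤ} {p : K ⟶ L}
    (hp : (gens A).rlp p) (n : ℤ) (z : K.X n) (y : L.X (n - 1))
    (hz : ∀ m, K.d n m z = 0) (hy : L.d (n - 1) n y = p.f n z) :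
    ∃ x : K.X (n - 1), K.d (n - 1) n x = z ∧ p.f (n - 1) x = y := by
  let t : sphere A n ⟶ K := HomologicalComplex.mkHomFromSingle
    (ModuleCat.ofHom (LinearMap.toSpanSingleton A _ z)) (by
      intro k _
      ext
      simpa using hz k)
  let b : disc A n ⟶ L := HomologicalComplex.mkHomFromDouble (rel_sub_one n) (sub_one_ne n)
    (ModuleCat.ofHom (LinearMap.toSpanSingleton A _ y))
    (ModuleCat.ofHom (LinearMap.toSpanSingleton A _ (p.f n z))) (by
      ext
      simpa using hy) (by
      intro k _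
      ext
      have h1 : p.f n ≫ L.d n k = K.d n k ≫ p.f k := by simp
      have h2 := congr($(h1) z)
      simp only [ModuleCat.hom_comp, LinearMap.comp_apply] at h2
      simp [hz k, h2])
  have sq : CommSq t (incl A n) p b := ⟨by
    apply HomologicalComplex.from_single_hom_ext
    simp only [HomologicalComplex.comp_f, incl_f, t, b, mkHomFromSingle_f, mkHomFromDouble_f₁,
      Category.assoc, Iso.inv_hom_id_assoc]
    congr 1
    ext
    simp⟩
  have := hp (incl A n) ⟨n⟩
  have hl := congr_arg (fun f => f.f n) sq.fac_left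
  have hr := congr_arg (fun f => f.f (n - 1)) sq.fac_right
  simp only [HomologicalComplex.comp_f, incl_f, t, b, mkHomFromSingle_f, mkHomFromDouble_f₀,
      Category.assoc] at hl hr
  rw [cancel_epi] at hl
  have hc : (doubleXIso₀ (𝟙 (ModuleCat.of A A)) (rel_sub_one n)).inv ≫ sq.lift.f (n - 1) ≫
      K.d (n - 1) n = ModuleCat.ofHom (LinearMap.toSpanSingleton A _ z) := by
    rw [sq.lift.comm (n - 1) n, HomologicalComplex.double_d _ _ (sub_one_ne n), Category.assoc,
      Category.assoc, Category.id_comp, ← hl, Iso.inv_hom_id_assoc]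
  rw [← Iso.inv_comp_eq] at hr
  refine ⟨sq.lift.f (n - 1)
    ((doubleXIso₀ (𝟙 (ModuleCat.of A A)) (rel_sub_one n)).inv (1 : A)), ?_, ?_⟩
  · simpa [-HomologicalComplex.Hom.comm] using congr($(hc) (1 : A))
  · simpa using congr($(hr) (1 : A))

lemma rlp_of_exists_lift {K L : CochainComplex (ModuleCat.{u} A) ℤ} {p : K ⟶ L}
    (H : ∀ (n : ℤ) (z : K.X n) (y : L.X (n - 1)), (∀ m, K.d n m z = 0) →
      L.d (n - 1) n y = p.f n z → ∃ x : K.X (n - 1), K.d (n - 1) n x = z ∧ p.f (n - 1) x = y) :
    (gens A).rlp p := by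
  rintro _ _ _ ⟨n⟩
  refine ⟨fun {t b} sq => ?_⟩
  let z : K.X n := t.f n ((HomologicalComplex.singleObjXSelf
    (ComplexShape.up ℤ) n (ModuleCat.of A A)).inv (1 : A))
  let y : L.X (n - 1) := b.f (n - 1)
    ((doubleXIso₀ (𝟙 (ModuleCat.of A A)) (rel_sub_one n)).inv (1 : A))
  have hz : (HomologicalComplex.singleObjXSelf
    (ComplexShape.up ℤ) n (ModuleCat.of A A)).inv ≫ t.f n =
      ModuleCat.ofHom (LinearMap.toSpanSingleton A _ z) := by
    ext
    simp [z]
  have hy : (doubleXIso₀ (𝟙 (ModuleCat.of A A)) (rel_sub_one n)).inv ≫ b.f (n - 1) =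
      ModuleCat.ofHom (LinearMap.toSpanSingleton A _ y) := by
    ext
    simp [y]
  obtain ⟨x, hx₁, hx₂⟩ := H n z y (fun m => by
    have h1 := t.comm n m
    have h2 := congr($(h1) ((HomologicalComplex.singleObjXSelf
      (ComplexShape.up ℤ) n (ModuleCat.of A A)).inv (1 : A)))
    rw [HomologicalComplex.single_obj_d, zero_comp] at h2
    simpa [-HomologicalComplex.Hom.comm] using h2) (by
    have h3 := b.comm (n - 1) n
    rw [HomologicalComplex.double_d _ _ (sub_one_ne n), Category.assoc,
      Category.assoc, Category.id_comp, ← Iso.inv_comp_eq] at h3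
    have h4 := congr_arg (fun f => f.f n) sq.w
    simp only [HomologicalComplex.comp_f, incl_f, Category.assoc] at h4
    rw [← Iso.inv_comp_eq] at h4
    rw [← h4] at h3
    have h5 := congr($(h3) (1 : A))
    simpa [-HomologicalComplex.Hom.comm] using h5)
  have comm₀ : ModuleCat.ofHom (LinearMap.toSpanSingleton A _ x) ≫ K.d (n - 1) n =
      𝟙 _ ≫ ModuleCat.ofHom (LinearMap.toSpanSingleton A _ z) := by
    ext
    simpa using hx₁
  have comm₁ : ∀ k, (ComplexShape.up ℤ).Rel n k →
      ModuleCat.ofHom (LinearMap.toSpanSingleton A _ z) ≫ K.d n k = 0 := by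
    intro k _
    rw [← cancel_epi (𝟙 (ModuleCat.of A A)), ← Category.assoc, ← comm₀, Category.assoc,
      HomologicalComplex.d_comp_d, comp_zero, comp_zero]
  refine ⟨⟨⟨mkHomFromDouble (rel_sub_one n) (sub_one_ne n) _ _ comm₀ comm₁, ?_, ?_⟩⟩⟩
  · apply HomologicalComplex.from_single_hom_ext
    rw [HomologicalComplex.comp_f, incl_f, Category.assoc, mkHomFromDouble_f₁,
      Iso.inv_hom_id_assoc, ← hz, Iso.hom_inv_id_assoc]
  · have e1 : (mkHomFromDouble (rel_sub_one n) (sub_one_ne n) _ _ comm₀ comm₁ ≫ p).f (n - 1) =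
        b.f (n - 1) := by
      rw [HomologicalComplex.comp_f, mkHomFromDouble_f₀, Category.assoc, ← Iso.eq_inv_comp, hy]
      ext
      simpa using hx₂
    apply HomologicalComplex.from_double_hom_ext
    · exact e1
    · have h4 := congr_arg (fun f => f.f n) sq.w
      simp only [HomologicalComplex.comp_f, incl_f, Category.assoc] at h4
      rw [← Iso.inv_comp_eq] at h4
      rw [HomologicalComplex.comp_f, mkHomFromDouble_f₁, Category.assoc, ← Iso.eq_inv_comp, ← h4,
        ← hz, Category.assoc]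

omit A in
lemma comm_apply {A : Type u} [Ring A] {K L : CochainComplex (ModuleCat.{u} A) ℤ} (f : K ⟶ L)
    (i j : ℤ) (x : K.X i) : L.d i j (f.f i x) = f.f j (K.d i j x) :=
  congr($(f.comm i j) x)

omit A in
lemma d_d_apply {A : Type u} [Ring A] (K : CochainComplex (ModuleCat.{u} A) ℤ)
    (i j k : ℤ) (x : K.X i) : K.d j k (K.d i j x) = 0 :=
  congr($(K.d_comp_d i j k) x)

omit A in
lemma d_eq_zero_of {A : Type u} [Ring A] (K : CochainComplex (ModuleCat.{u} A) ℤ)
    (n : ℤ) (x : K.X n) (hx : K.d n (n + 1) x = 0) (m : ℤ) : K.d n m x = 0 := by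
  by_cases hm : m = n + 1
  · subst hm
    exact hx
  · rw [K.shape _ _ (by simpa using Ne.symm hm)]
    rfl

omit A in
lemma exactAt_iff_elem {A : Type u} [Ring A] {K : CochainComplex (ModuleCat.{u} A) ℤ} {n : ℤ} :
    K.ExactAt n ↔ ∀ z : K.X n, K.d n (n + 1) z = 0 → ∃ x : K.X (n - 1), K.d (n - 1) n x = z := by
  rw [HomologicalComplex.exactAt_iff' K (n - 1) n (n + 1) (by simp) (by simp),
    ShortComplex.moduleCat_exact_iff]
  rfl

lemma exactAt_elem {K : CochainComplex (ModuleCat.{u} A) ℤ} {n : ℤ} (hK : K.ExactAt n)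
    (z : K.X n) (hz : ∀ m, K.d n m z = 0) : ∃ x : K.X (n - 1), K.d (n - 1) n x = z := by
  exact exactAt_iff_elem.1 hK z (hz _)

lemma rlp_of_surjective_of_acyclic {K L : CochainComplex (ModuleCat.{u} A) ℤ} {p : K ⟶ L}
    (hK : K.Acyclic) (hL : L.Acyclic) (hp : ∀ n, Function.Surjective (p.f n)) :
    (gens A).rlp p := by
  apply rlp_of_exists_lift
  intro n z y hz hy
  obtain ⟨x₁, hx₁⟩ := exactAt_elem A (hK n) z hz
  have h1 : ∀ m, L.d (n - 1) m (p.f (n - 1) x₁ - y) = 0 := by
    intro m
    by_cases hm : m = n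
    · subst hm
      rw [map_sub, comm_apply, hx₁, hy, sub_self]
    · rw [L.shape _ _ (by simpa using Ne.symm hm)]
      rfl
  obtain ⟨l, hl⟩ := exactAt_elem A (hL (n - 1)) _ h1
  obtain ⟨c, rfl⟩ := hp _ l
  refine ⟨x₁ - K.d _ _ c, ?_, ?_⟩
  · rw [map_sub, hx₁, d_d_apply, sub_zero]
  · rw [map_sub, ← comm_apply, hl, sub_sub_cancel]

omit A in
lemma acyclic_of_homotopy {C : Type*} [Category* C] [Abelian C] {K : CochainComplex C ℤ}
    (h : Homotopy (𝟙 K) 0) : K.Acyclic := by
  intro i
  rw [HomologicalComplex.exactAt_iff_isZero_homology, IsZero.iff_id_eq_zero,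
    ← HomologicalComplex.homologyMap_id, h.homologyMap_eq i, HomologicalComplex.homologyMap_zero]

open CochainComplex

lemma mor₃_surjective {K L : CochainComplex (ModuleCat.{u} A) ℤ} (φ : K ⟶ L) (n : ℤ) :
    Function.Surjective ((mappingCone.triangle φ).mor₃.f n) := by
  intro y
  have h := mappingCone.inl_v_triangle_mor₃_f φ (n + 1) n (by omega)
  refine ⟨((mappingCone.inl φ).v (n + 1) n (by omega))
    (-((K.shiftFunctorObjXIso 1 n (n + 1) (by omega)).hom y)), ?_⟩
  have h2 := congr($h (-((K.shiftFunctorObjXIso 1 n (n + 1) (by omega)).hom y)))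
  refine Eq.trans ?_ (h2.trans ?_)
  · rfl
  · simp only [shiftFunctorObjXIso, HomologicalComplex.XIsoOfEq_rfl, Iso.refl_hom, Iso.refl_inv]
    exact neg_neg (G := K.X (n + 1)) y

section ToDouble

variable {C : Type*} [Category* C] [HasZeroMorphisms C] [HasZeroObject C]
  {X₀ X₁ : C} (f : X₀ ⟶ X₁) {ι : Type*} {c : ComplexShape ι}
  {i₀ i₁ : ι} (hi₀₁ : c.Rel i₀ i₁) (h : i₀ ≠ i₁) {K : HomologicalComplex C c}
  (φ₀ : K.X i₀ ⟶ X₀) (φ₁ : K.X i₁ ⟶ X₁) (comm : φ₀ ≫ f = K.d i₀ i₁ ≫ φ₁)
  (hφ : ∀ (k : ι), c.Rel k i₀ → K.d k i₀ ≫ φ₀ = 0)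

open scoped Classical in
/-- Constructor for morphisms to a homological complex `double f hi₀₁`. -/
noncomputable def mkHomToDouble : K ⟶ double f hi₀₁ where
  f k :=
    if hk₀ : k = i₀ then
      eqToHom (by rw [hk₀]) ≫ φ₀ ≫ (doubleXIso₀ f hi₀₁).inv ≫ eqToHom (by rw [hk₀])
    else if hk₁ : k = i₁ then
      eqToHom (by rw [hk₁]) ≫ φ₁ ≫ (doubleXIso₁ f hi₀₁ h).inv ≫ eqToHom (by rw [hk₁])
    else 0
  comm' k₀ k₁ hk := by
    by_cases h₁ : k₁ = i₁
    · subst h₁
      obtain rfl := c.prev_eq hk hi₀₁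
      rw [dif_pos rfl, dif_neg h.symm, dif_pos rfl]
      simp [double_d f hi₀₁ h, reassoc_of% comm]
    · by_cases h₀ : k₁ = i₀
      · subst h₀
        rw [double_d_eq_zero₁ _ _ _ _ h, comp_zero, dif_pos rfl]
        simp [reassoc_of% (hφ k₀ hk)]
      · apply (isZero_double_X f hi₀₁ k₁ h₀ h₁).eq_of_tgt

@[simp, reassoc]
lemma mkHomToDouble_f₀ :
    (mkHomToDouble f hi₀₁ h φ₀ φ₁ comm hφ).f i₀ = φ₀ ≫ (doubleXIso₀ f hi₀₁).inv := by
  dsimp [mkHomToDouble]
  rw [if_pos rfl, Category.id_comp, Category.comp_id]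

@[simp, reassoc]
lemma mkHomToDouble_f₁ :
    (mkHomToDouble f hi₀₁ h φ₀ φ₁ comm hφ).f i₁ = φ₁ ≫ (doubleXIso₁ f hi₀₁ h).inv := by
  dsimp [mkHomToDouble]
  rw [dif_neg h.symm, if_pos rfl, Category.id_comp, Category.comp_id]

end ToDouble

lemma acyclic_double (M : ModuleCat.{u} A) (n : ℤ) :
    (double (𝟙 M) (rel_sub_one n)).Acyclic := by
  intro i
  by_cases h : i = n - 1 ∨ i = n
  · obtain rfl | rfl := h
    · rw [HomologicalComplex.exactAt_iff' _ (n - 1 - 1) (n - 1) n (by simp) (by simp),
        ShortComplex.exact_iff_mono]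
      · change Mono ((double (𝟙 M) (rel_sub_one n)).d (n - 1) n)
        rw [double_d _ _ (sub_one_ne n)]
        infer_instance
      · exact double_d_eq_zero₁ (𝟙 M) (rel_sub_one n) (n - 1 - 1) (n - 1) (sub_one_ne n)
    · rw [HomologicalComplex.exactAt_iff' _ (i - 1) i (i + 1) (by simp) (by simp),
        ShortComplex.exact_iff_epi]
      · change Epi ((double (𝟙 M) (rel_sub_one i)).d (i - 1) i)
        rw [double_d _ _ (sub_one_ne i)]
        infer_instance
      · exact double_d_eq_zero₀ (𝟙 M) (rel_sub_one i) i (i + 1) (sub_one_ne i).symm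
  · simp only [not_or] at h
    rw [exactAt_iff]
    apply ShortComplex.exact_of_isZero_X₂
    exact isZero_double_X (𝟙 M) (rel_sub_one n) i h.1 h.2

/-- Objects with the left lifting property are K-projective. -/
lemma isKProjective_of_llp {P : CochainComplex (ModuleCat.{u} A) ℤ}
    (hP : (gens A).rlp.llp (0 : (0 : CochainComplex (ModuleCat.{u} A) ℤ) ⟶ P)) :
    P.IsKProjective where
  nonempty_homotopy_zero {L} f hL := by
    let L' := L⟦(-1 : ℤ)⟧
    let e : L'⟦(1 : ℤ)⟧ ≅ L := (shiftFunctorCompIsoId _ (-1 : ℤ) 1 (by simp)).app L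
    let q : mappingCone (𝟙 L') ⟶ L := (mappingCone.triangle (𝟙 L')).mor₃ ≫ e.hom
    have hq : (gens A).rlp q := by
      apply rlp_of_surjective_of_acyclic
      · exact acyclic_of_homotopy (mappingCone.homotopyToZeroOfId _)
      · exact hL
      · intro n
        exact ((ModuleCat.epi_iff_surjective (e.hom.f n)).1 inferInstance).comp
          (mor₃_surjective A (𝟙 L') n)
    have sq : CommSq (0 : (0 : CochainComplex (ModuleCat.{u} A) ℤ) ⟶ mappingCone (𝟙 L'))
      (0 : (0 : CochainComplex (ModuleCat.{u} A) ℤ) ⟶ P) q f := ⟨by simp⟩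
    have := hP q hq
    have hf : f = sq.lift ≫ q := sq.fac_right.symm
    rw [hf]
    refine ⟨(Homotopy.ofEq (by simp)).trans
      ((((mappingCone.homotopyToZeroOfId L').compLeft sq.lift).compRight q).trans
        (Homotopy.ofEq (by simp)))⟩

/-- Objects with the left lifting property have projective terms. -/
lemma projective_of_llp {P : CochainComplex (ModuleCat.{u} A) ℤ}
    (hP : (gens A).rlp.llp (0 : (0 : CochainComplex (ModuleCat.{u} A) ℤ) ⟶ P)) (n : ℤ) :
    Projective (P.X n) where
  factors {N M} g e _ := by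
    let q : double (𝟙 N) (rel_sub_one n) ⟶ double (𝟙 M) (rel_sub_one n) :=
      mkHomFromDouble (rel_sub_one n) (sub_one_ne n)
        (e ≫ (doubleXIso₀ _ _).inv) (e ≫ (doubleXIso₁ _ _ (sub_one_ne n)).inv)
        (by rw [double_d _ _ (sub_one_ne n)]; simp)
        (fun k _ => by rw [double_d_eq_zero₀ _ _ _ _ (sub_one_ne n).symm, comp_zero])
    have hq : (gens A).rlp q := by
      apply rlp_of_surjective_of_acyclic
      · exact acyclic_double A _ _
      · exact acyclic_double A _ _
      · intro i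
        apply (ModuleCat.epi_iff_surjective _).1
        by_cases h : i = n - 1 ∨ i = n
        · obtain rfl | rfl := h
          · rw [mkHomFromDouble_f₀]
            infer_instance
          · rw [mkHomFromDouble_f₁]
            infer_instance
        · simp only [not_or] at h
          exact ⟨fun _ _ _ => (isZero_double_X _ _ _ h.1 h.2).eq_of_src _ _⟩
    let f : P ⟶ double (𝟙 M) (rel_sub_one n) :=
      mkHomToDouble _ (rel_sub_one n) (sub_one_ne n) (P.d (n - 1) n ≫ g) g (by simp)
        (fun k _ => by simp)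
    have sq : CommSq (0 : (0 : CochainComplex (ModuleCat.{u} A) ℤ) ⟶ double (𝟙 N) (rel_sub_one n))
      (0 : (0 : CochainComplex (ModuleCat.{u} A) ℤ) ⟶ P) q f := ⟨by simp⟩
    have := hP q hq
    refine ⟨sq.lift.f n ≫ (doubleXIso₁ _ _ (sub_one_ne n)).hom, ?_⟩
    have h1 := congr_arg (fun f => f.f n) sq.fac_right
    dsimp only [HomologicalComplex.comp_f, q, f] at h1
    rw [mkHomFromDouble_f₁, mkHomToDouble_f₁] at h1
    rw [← cancel_mono (doubleXIso₁ (𝟙 M) (rel_sub_one n) (sub_one_ne n)).inv, ← h1]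
    simp

/-- A map with the right lifting property is degreewise surjective. -/
lemma surjective_of_rlp {K L : CochainComplex (ModuleCat.{u} A) ℤ} {p : K ⟶ L}
    (hp : (gens A).rlp p) (n : ℤ) : Function.Surjective (p.f n) := by
  have key : ∀ (m : ℤ) (y : L.X (m - 1)), ∃ x : K.X (m - 1), p.f (m - 1) x = y := by
    intro m y
    have hdd : ∀ k, L.d m k (L.d (m - 1) m y) = 0 := fun k =>
      congr($(L.d_comp_d (m - 1) m k) y)
    have hm : (m + 1 - 1 : ℤ) = m := by omega
    obtain ⟨z, hz₁, hz₂⟩ : ∃ z : K.X m, (∀ k, K.d m k z = 0) ∧ p.f m z = L.d (m - 1) m y := by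
      have H : ∀ (m' : ℤ) (h : m' = m) (y' : L.X m') (hy' : ∀ k, L.d m' k y' = 0),
          ∃ z : K.X m', (∀ k, K.d m' k z = 0) ∧ p.f m' z = y' := by
        rintro m' rfl y' hy'
        have H2 : ∀ (j : ℤ) (h : j - 1 = m') (y'' : L.X (j - 1)) (hy'' : ∀ k, L.d (j - 1) k y'' = 0),
            ∃ z : K.X (j - 1), (∀ k, K.d (j - 1) k z = 0) ∧ p.f (j - 1) z = y'' := by
          intro j _ y'' hy''
          obtain ⟨x, hx₁, hx₂⟩ := exists_lift_of_rlp A hp j 0 y'' (by simp) (by
            rw [map_zero]; exact hy'' j)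
          refine ⟨x, fun k => ?_, hx₂⟩
          by_cases hk : k = j
          · subst hk
            exact hx₁
          · rw [K.shape _ _ (by simpa using Ne.symm hk)]
            rfl
        obtain ⟨j, hj⟩ : ∃ j : ℤ, j - 1 = m' := ⟨m' + 1, by omega⟩
        subst hj
        exact H2 j rfl y' hy'
      exact H m rfl _ hdd
    obtain ⟨x, hx₁, hx₂⟩ := exists_lift_of_rlp A hp m z y hz₁ hz₂.symm
    exact ⟨x, hx₂⟩
  obtain ⟨m, rfl⟩ : ∃ m : ℤ, m - 1 = n := ⟨n + 1, by omega⟩
  exact key m

/-- A map with the right lifting property is a quasi-isomorphism. -/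
lemma quasiIso_of_rlp {K L : CochainComplex (ModuleCat.{u} A) ℤ} {p : K ⟶ L}
    (hp : (gens A).rlp p) : QuasiIso p := by
  have hepi : Epi p := by
    apply (config := { allowSynthFailures := true }) HomologicalComplex.epi_of_epi_f
    intro i
    exact (ModuleCat.epi_iff_surjective _).2 (surjective_of_rlp A hp i)
  have hS : (ShortComplex.mk (kernel.ι p) p (kernel.condition p)).ShortExact :=
    { exact := ShortComplex.exact_kernel p }
  have hS' := fun n => hS.map_of_exact (HomologicalComplex.eval _ (ComplexShape.up ℤ) n)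
  have hinj : ∀ n, Function.Injective ((kernel.ι p).f n) := fun n =>
    (ModuleCat.mono_iff_injective _).1 (hS' n).mono_f
  have hker : ∀ n (x : K.X n), p.f n x = 0 → ∃ x', (kernel.ι p).f n x' = x := fun n x hx =>
    (ShortComplex.moduleCat_exact_iff _).1 (hS' n).exact x hx
  have hac : (kernel p).Acyclic := by
    intro n
    rw [exactAt_iff_elem]
    intro z hz
    obtain ⟨x, hx₁, hx₂⟩ := exists_lift_of_rlp A hp n ((kernel.ι p).f n z) 0 (by
      intro m
      rw [comm_apply, d_eq_zero_of _ _ _ hz, map_zero]) (by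
      have h1 := congr(($(kernel.condition p)).f n z)
      rw [map_zero]
      exact h1.symm)
    obtain ⟨x', rfl⟩ := hker _ x hx₂
    refine ⟨x', hinj n ?_⟩
    rw [← comm_apply]
    exact hx₁
  rw [quasiIso_iff]
  intro n
  rw [quasiIsoAt_iff_isIso_homologyMap]
  have hz : ∀ i, IsZero ((kernel p).homology i) := fun i =>
    (HomologicalComplex.exactAt_iff_isZero_homology _ _).1 (hac i)
  have h1 : Mono (HomologicalComplex.homologyMap p n) :=
    (hS.homology_exact₂ n).mono_g ((hz n).eq_of_src _ _)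
  have h2 : Epi (HomologicalComplex.homologyMap p n) :=
    (hS.homology_exact₃ n (n + 1) (by simp)).epi_f ((hz (n + 1)).eq_of_tgt _ _)
  exact isIso_of_mono_of_epi _

/-- K-projective resolutions: every complex of modules receives a degreewise surjective
quasi-isomorphism from a K-projective complex with projective terms. -/
theorem exists_kprojective {A : Type u} [Ring A] (K : CochainComplex (ModuleCat.{u} A) ℤ) :
    ∃ (P : CochainComplex (ModuleCat.{u} A) ℤ) (p : P ⟶ K),
      P.IsKProjective ∧ QuasiIso p ∧ (∀ n, Projective (P.X n)) ∧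
        ∀ n, Function.Surjective (p.f n) := by
  let D := (MorphismProperty.functorialFactorizationData (gens A).rlp.llp
    (gens A).rlp).factorizationData (0 : (0 : CochainComplex (ModuleCat.{u} A) ℤ) ⟶ K)
  have hi : (gens A).rlp.llp (0 : (0 : CochainComplex (ModuleCat.{u} A) ℤ) ⟶ D.Z) := by
    have h1 := D.hi
    rwa [(isZero_zero (CochainComplex (ModuleCat.{u} A) ℤ)).eq_of_src D.i 0] at h1
  exact ⟨D.Z, D.p, isKProjective_of_llp A hi, quasiIso_of_rlp A D.hp, projective_of_llp A hi,
    surjective_of_rlp A D.hp⟩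

end

end Groth.Agent.LoccohB.KProj
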