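import Groth.Prelude.Def_DualLC
import Mathlib.Algebra.Category.ModuleCat.FilteredColimits

/-!
# Elements of `Dual2.HDI A I K i`
-/

set_option autoImplicit false

universe u v

open CategoryTheory Limits Opposite

attribute [local instance] HasDerivedCategory.standard

namespace Groth.Agent.LoccohB.HdiColim

/-- `forget (ModuleCat.{w} A)` preserves filtered colimits indexed by small categories in universe 0. -/
theorem preservesFiltered (A : Type u) [CommRing A] (J : Type) [SmallCategory J] [IsFiltered J] :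
    PreservesColimitsOfShape J (forget (ModuleCat.{u+1} A)) := by
  have h1 : PreservesColimitsOfSize.{0, 0} (forget₂ (ModuleCat.{u+1} A) AddCommGrpCat.{u+1}) :=
    ModuleCat.forget₂PreservesColimitsOfSize.{u+1, u, 0, 0} A
  have h0 : PreservesFilteredColimitsOfSize.{u+1, u+1} (forget AddCommGrpCat.{u+1}) :=
    AddCommGrpCat.FilteredColimits.forget_preservesFilteredColimits.{u+1}
  have h2 : PreservesFilteredColimitsOfSize.{0, 0} (forget AddCommGrpCat.{u+1}) :=
    preservesSmallestFilteredColimits_of_preservesFilteredColimits.{u+1, u+1} (forget AddCommGrpCat.{u+1})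
  have h3 : PreservesColimitsOfShape J (forget AddCommGrpCat.{u+1}) :=
    h2.preserves_filtered_colimits J
  have h4 : PreservesColimitsOfShape J (forget₂ (ModuleCat.{u+1} A) AddCommGrpCat.{u+1}) :=
    h1.preservesColimitsOfShape
  exact inferInstanceAs (PreservesColimitsOfShape J
    (forget₂ (ModuleCat.{u+1} A) AddCommGrpCat.{u+1} ⋙ forget AddCommGrpCat.{u+1}))

variable (A : Type u) [CommRing A] (I : Ideal A) (K : Dual.D A) (i : ℤ)

/-- the diagram defining `Dual2.HDI` -/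
noncomputable abbrev hdiDiag : (ℕᵒᵖ)ᵒᵖ ⥤ ModuleCat.{u+1} A :=
  (localCohomology.ringModIdeals (localCohomology.idealPowersDiagram I) ⋙
      DerivedCategory.singleFunctor (ModuleCat.{u} A) 0).op ⋙ (linearYoneda A (Dual.D A)).obj (K⟦i⟧)

/-- the canonical map `Hom(A/I^n, K[i]) → HDI A I K i` -/
noncomputable def hdiι (n : ℕ) :
    (Dual.inD A (A ⧸ I ^ n) ⟶ K⟦i⟧) →ₗ[A] Dual2.HDI A I K i :=
  (colimit.ι (hdiDiag A I K i) (op (op n))).hom

variable {A I K i}

/-- the projection `A/I^m → A/I^n` -/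
noncomputable def proj (I : Ideal A) {n m : ℕ} (h : n ≤ m) :
    ModuleCat.of A (A ⧸ I ^ m) ⟶ ModuleCat.of A (A ⧸ I ^ n) :=
  ModuleCat.ofHom (Submodule.mapQ _ _ LinearMap.id (Ideal.pow_le_pow_right h))

lemma hdiι_proj {n m : ℕ} (h : n ≤ m) (φ : Dual.inD A (A ⧸ I ^ n) ⟶ K⟦i⟧) :
    hdiι A I K i m ((DerivedCategory.singleFunctor (ModuleCat.{u} A) 0).map (proj I h) ≫ φ) =
      hdiι A I K i n φ := by
  have := colimit.w (hdiDiag A I K i) ((homOfLE h).op.op)
  have h2 := congrArg (fun (f : (hdiDiag A I K i).obj (op (op n)) ⟶ _) => f.hom φ) this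
  exact h2

lemma exists_rep (x : Dual2.HDI A I K i) : ∃ (n : ℕ) (φ : Dual.inD A (A ⧸ I ^ n) ⟶ K⟦i⟧),
    hdiι A I K i n φ = x := by
  have := preservesFiltered A (ℕᵒᵖ)ᵒᵖ
  obtain ⟨j, y, hy⟩ := Concrete.colimit_exists_rep (hdiDiag A I K i) x
  exact ⟨j.unop.unop, y, hy⟩

lemma hdiι_eq_zero_iff {n : ℕ} (φ : Dual.inD A (A ⧸ I ^ n) ⟶ K⟦i⟧) :
    hdiι A I K i n φ = 0 ↔ ∃ (m : ℕ) (h : n ≤ m),
      (DerivedCategory.singleFunctor (ModuleCat.{u} A) 0).map (proj I h) ≫ φ = 0 := by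
  constructor
  · intro h
    have := preservesFiltered A (ℕᵒᵖ)ᵒᵖ
    have h2 : (colimit.ι (hdiDiag A I K i) (op (op n))) φ =
        (colimit.ι (hdiDiag A I K i) (op (op n))) (0 : Dual.inD A (A ⧸ I ^ n) ⟶ K⟦i⟧) :=
      h.trans (map_zero (hdiι A I K i n)).symm
    obtain ⟨k, f, g, hfg⟩ := Concrete.colimit_exists_of_rep_eq (hdiDiag A I K i) _ _ h2
    refine ⟨k.unop.unop, leOfHom f.unop.unop, ?_⟩
    have h3 : (hdiDiag A I K i).map g (0 : Dual.inD A (A ⧸ I ^ n) ⟶ K⟦i⟧) = 0 := map_zero _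
    rw [h3] at hfg
    exact hfg
  · rintro ⟨m, h, h2⟩
    rw [← hdiι_proj h, h2, map_zero]

/-- `HDI` is functorial for isomorphisms in the complex. -/
noncomputable def hdiCongr {K L : Dual.D A} (e : K ≅ L) (i : ℤ) :
    Dual2.HDI A I K i ≅ Dual2.HDI A I L i :=
  HasColimit.isoOfNatIso (Functor.isoWhiskerLeft _
    ((linearYoneda A (Dual.D A)).mapIso ((shiftFunctor (Dual.D A) i).mapIso e)))

end Groth.Agent.LoccohB.HdiColim
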