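import Groth.Agent.LoccohB.RGammaBasic
import Groth.Agent.LoccohB.HdiColim

/-!
# `H^q(Γ_I(J)) = colim Hom(A/I^n, J[q])` for a K-injective complex `J`
-/

set_option autoImplicit false

universe u

open CategoryTheory Limits

attribute [local instance] HasDerivedCategory.standard

namespace Groth.Agent.LoccohB.RGammaHDI

open HomCls HClass HdiColim RGammaBasic

variable {A : Type u} [CommRing A] (I : Ideal A)

/-- the map `A/I^n → M` attached to `z` killed by `I^n` -/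
noncomputable def lft {M : ModuleCat.{u} A} (n : ℕ) (z : M) (hz : ∀ a ∈ I ^ n, a • z = 0) :
    ModuleCat.of A (A ⧸ I ^ n) ⟶ M :=
  ModuleCat.ofHom (Submodule.liftQ (I ^ n) (LinearMap.toSpanSingleton A M z) (by
    intro a ha
    exact hz a ha))

lemma lft_one {M : ModuleCat.{u} A} (n : ℕ) (z : M) (hz : ∀ a ∈ I ^ n, a • z = 0) :
    (lft I n z hz) (Submodule.Quotient.mk (1 : A) : A ⧸ I ^ n) = z := by
  change (Submodule.liftQ (I ^ n) (LinearMap.toSpanSingleton A M z) _)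
    (Submodule.Quotient.mk (1 : A)) = z
  rw [Submodule.liftQ_apply, LinearMap.toSpanSingleton_apply, one_smul]

lemma hom_ext_one {M : ModuleCat.{u} A} {n : ℕ} {f g : ModuleCat.of A (A ⧸ I ^ n) ⟶ M}
    (h : f (Submodule.Quotient.mk (1 : A) : A ⧸ I ^ n) =
      g (Submodule.Quotient.mk (1 : A) : A ⧸ I ^ n)) : f = g := by
  apply ModuleCat.hom_ext
  apply Submodule.linearMap_qext
  apply LinearMap.ext_ring
  exact h

lemma smul_eq_zero_of_hom {M : ModuleCat.{u} A} {n : ℕ} (f : ModuleCat.of A (A ⧸ I ^ n) ⟶ M)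
    (a : A) (ha : a ∈ I ^ n) : a • f (Submodule.Quotient.mk (1 : A) : A ⧸ I ^ n) = 0 := by
  have : a • f (Submodule.Quotient.mk (1 : A) : A ⧸ I ^ n) =
      f (a • (Submodule.Quotient.mk (1 : A) : A ⧸ I ^ n)) := (f.hom.map_smul _ _).symm
  rw [this]
  have h2 : a • (Submodule.Quotient.mk (1 : A) : A ⧸ I ^ n) = 0 := by
    rw [← Submodule.Quotient.mk_smul, smul_eq_mul, mul_one]
    exact (Submodule.Quotient.mk_eq_zero _).2 ha
  erw [h2]
  exact map_zero f.hom

lemma proj_one {n m : ℕ} (h : n ≤ m) :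
    (proj I h) (Submodule.Quotient.mk (1 : A) : A ⧸ I ^ m) =
      (Submodule.Quotient.mk (1 : A) : A ⧸ I ^ n) := rfl

lemma lft_comp_d {J : CochainComplex (ModuleCat.{u} A) ℤ} {q : ℤ} (n : ℕ) (z : J.X q)
    (hz : ∀ a ∈ I ^ n, a • z = 0) (hz' : J.d q (q + 1) z = 0) :
    lft I n z hz ≫ J.d q (q + 1) = 0 := by
  apply hom_ext_one
  rw [ModuleCat.comp_apply, lft_one, hz']
  rfl

variable {I}

/-- The class in `HDI` of a torsion cocycle killed by `I^n`. -/
noncomputable def tcls {J : CochainComplex (ModuleCat.{u} A) ℤ} {q : ℤ} (n : ℕ) (z : J.X q)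
    (hz : ∀ a ∈ I ^ n, a • z = 0) (hz' : J.d q (q + 1) z = 0) :
    Dual2.HDI A I (DerivedCategory.Q.obj J) q :=
  hdiι A I (DerivedCategory.Q.obj J) q n (scls (lft I n z hz) (lft_comp_d I n z hz hz'))

variable {J : CochainComplex (ModuleCat.{u} A) ℤ} {q : ℤ}

lemma tcls_eq_of_le {n m : ℕ} (h : n ≤ m) (z : J.X q) (hz : ∀ a ∈ I ^ n, a • z = 0)
    (hz' : J.d q (q + 1) z = 0) :
    tcls m z (fun a ha => hz a (Ideal.pow_le_pow_right h ha)) hz' = tcls n z hz hz' := by
  rw [tcls, tcls, ← hdiι_proj h]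
  have : lft I m z (fun a ha => hz a (Ideal.pow_le_pow_right h ha)) = proj I h ≫ lft I n z hz := by
    apply hom_ext_one
    rw [lft_one, ModuleCat.comp_apply, proj_one, lft_one]
  erw [← scls_precomp]
  simp only [this]

lemma tcls_indep {n m : ℕ} (z : J.X q) (hz : ∀ a ∈ I ^ n, a • z = 0)
    (hm : ∀ a ∈ I ^ m, a • z = 0) (hz' : J.d q (q + 1) z = 0) :
    tcls m z hm hz' = tcls n z hz hz' := by
  rw [← tcls_eq_of_le (le_max_left m n) z hm hz', ← tcls_eq_of_le (le_max_right m n) z hz hz']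

lemma tcls_add {n : ℕ} (z w : J.X q) (hz : ∀ a ∈ I ^ n, a • z = 0) (hz' : J.d q (q + 1) z = 0)
    (hw : ∀ a ∈ I ^ n, a • w = 0) (hw' : J.d q (q + 1) w = 0) :
    tcls n (z + w) (fun a ha => by rw [smul_add, hz a ha, hw a ha, add_zero])
      (by rw [map_add, hz', hw', add_zero]) = tcls n z hz hz' + tcls n w hw hw' := by
  refine Eq.trans ?_ (map_add (hdiι A I (DerivedCategory.Q.obj J) q n) _ _)
  rw [tcls]
  congr 1
  rw [← scls_add]
  congr 1
  apply hom_ext_one
  rw [lft_one]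
  change _ = (lft I n z hz) (Submodule.Quotient.mk (1 : A) : A ⧸ I ^ n) +
    (lft I n w hw) (Submodule.Quotient.mk (1 : A) : A ⧸ I ^ n)
  rw [lft_one, lft_one]

lemma tcls_smul {n : ℕ} (c : A) (z : J.X q) (hz : ∀ a ∈ I ^ n, a • z = 0)
    (hz' : J.d q (q + 1) z = 0) :
    tcls n (c • z) (fun a ha => by rw [smul_comm, hz a ha, smul_zero])
      (by rw [map_smul, hz', smul_zero]) = c • tcls n z hz hz' := by
  refine Eq.trans ?_ (map_smul (hdiι A I (DerivedCategory.Q.obj J) q n) c _)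
  rw [tcls]
  congr 1
  rw [← scls_smul]
  congr 1
  apply hom_ext_one
  rw [lft_one]
  change _ = c • (lft I n z hz) (Submodule.Quotient.mk (1 : A) : A ⧸ I ^ n)
  rw [lft_one]

lemma tcls_eq_zero_iff [J.IsKInjective] {n : ℕ} (z : J.X q) (hz : ∀ a ∈ I ^ n, a • z = 0)
    (hz' : J.d q (q + 1) z = 0) :
    tcls n z hz hz' = 0 ↔ ∃ w : J.X (q - 1), w ∈ DRing.torsionSub I (J.X (q - 1)) ∧
      J.d (q - 1) q w = z := by
  constructor
  · intro h
    rw [tcls, hdiι_eq_zero_iff] at h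
    obtain ⟨m, hm, h⟩ := h
    erw [← scls_precomp] at h
    rw [scls_eq_zero_iff] at h
    obtain ⟨g, hg⟩ := h
    refine ⟨g (Submodule.Quotient.mk (1 : A) : A ⧸ I ^ m), ⟨m, fun a ha => ?_⟩, ?_⟩
    · exact smul_eq_zero_of_hom I g a ha
    · have := congrArg (fun f => f.hom (Submodule.Quotient.mk (1 : A) : A ⧸ I ^ m)) hg
      refine Eq.trans ?_ (this.trans ?_)
      · rfl
      · exact lft_one I n z hz
  · rintro ⟨w, ⟨m, hm⟩, rfl⟩
    rw [← tcls_eq_of_le (le_max_left n m), tcls]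
    have : scls (lft I (max n m) (J.d (q - 1) q w)
        (fun a ha => hz a (Ideal.pow_le_pow_right (le_max_left n m) ha)))
        (lft_comp_d I (max n m) _ _ hz') = 0 := by
      apply scls_eq_zero_of_exists
      refine ⟨lft I (max n m) w (fun a ha => hm a (Ideal.pow_le_pow_right (le_max_right n m) ha)),
        ?_⟩
      apply hom_ext_one
      rw [ModuleCat.comp_apply, lft_one, lft_one]
    rw [this, map_zero]

lemma exists_tcls [J.IsKInjective] (x : Dual2.HDI A I (DerivedCategory.Q.obj J) q) :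
    ∃ (n : ℕ) (z : J.X q) (hz : ∀ a ∈ I ^ n, a • z = 0) (hz' : J.d q (q + 1) z = 0),
      tcls n z hz hz' = x := by
  obtain ⟨n, φ, rfl⟩ := exists_rep x
  obtain ⟨f, hf, rfl⟩ := scls_surjective φ
  refine ⟨n, f (Submodule.Quotient.mk (1 : A) : A ⧸ I ^ n), smul_eq_zero_of_hom I f, ?_, ?_⟩
  · have := congrArg (fun f => f.hom (Submodule.Quotient.mk (1 : A) : A ⧸ I ^ n)) hf
    exact this
  · rw [tcls]
    congr 2
    apply hom_ext_one
    rw [lft_one]

variable (I J q)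

/-- The linear map from torsion cocycles to `HDI`. -/
noncomputable def tmap : LinearMap.ker (((gCx I).obj J).d q (q + 1)).hom →ₗ[A]
    Dual2.HDI A I (DerivedCategory.Q.obj J) q where
  toFun z := tcls (I := I) (J := J) (q := q) z.1.2.choose z.1.1 z.1.2.choose_spec
    (congrArg Subtype.val z.2)
  map_add' z w := by
    have h1 : ∀ a ∈ I ^ (max z.1.2.choose w.1.2.choose), a • z.1.1 = 0 := fun a ha =>
      z.1.2.choose_spec a (Ideal.pow_le_pow_right (le_max_left _ _) ha)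
    have h2 : ∀ a ∈ I ^ (max z.1.2.choose w.1.2.choose), a • w.1.1 = 0 := fun a ha =>
      w.1.2.choose_spec a (Ideal.pow_le_pow_right (le_max_right _ _) ha)
    rw [tcls_indep (I := I) z.1.1 h1, tcls_indep (I := I) w.1.1 h2, ← tcls_add,
      tcls_indep (I := I)]
    rfl
  map_smul' c z := by
    rw [RingHom.id_apply, ← tcls_smul, tcls_indep (I := I)]
    rfl

/-- `H^q(Γ_I(J)) = HDI A I J q` for `J` K-injective. -/
noncomputable def hEquiv [J.IsKInjective] : ((gCx I).obj J).homology q ≃ₗ[A]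
    Dual2.HDI A I (DerivedCategory.Q.obj J) q :=
  homologyEquiv (tmap I J q) (by
    intro x
    obtain ⟨n, z, hz, hz', rfl⟩ := exists_tcls x
    refine ⟨⟨⟨z, n, hz⟩, Subtype.ext hz'⟩, ?_⟩
    exact tcls_indep _ _ _ _) (by
    intro z
    refine (tcls_eq_zero_iff (I := I) (J := J) (q := q) z.1.1 z.1.2.choose_spec
      (congrArg Subtype.val z.2)).trans ⟨?_, ?_⟩
    · rintro ⟨w, hw, h⟩
      exact ⟨⟨w, hw⟩, Subtype.ext h⟩
    · rintro ⟨w, h⟩
      exact ⟨w.1, w.2, congrArg Subtype.val h⟩)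

theorem hd_rgamma_equiv [DRing.HasRgammaI I] (K : Dual.D A) (q : ℤ) :
    Nonempty (Dual.HD A ((DRing.RgammaI I).obj K) q ≃ₗ[A] Dual2.HDI A I K q) := by
  obtain ⟨J, hJ, -, ⟨e⟩⟩ := KInjD.exists_res' A K
  have := isIso_rg_app I J
  let e1 : Dual.HD A ((DRing.RgammaI I).obj K) q ≃ₗ[A]
      Dual.HD A (DerivedCategory.Q.obj ((gCx I).obj J)) q :=
    ((DerivedCategory.homologyFunctor (ModuleCat.{u} A) q).mapIso
      ((DRing.RgammaI I).mapIso e.symm ≪≫ (asIso ((rg I).app J)).symm)).toLinearEquiv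
  let e2 : Dual.HD A (DerivedCategory.Q.obj ((gCx I).obj J)) q ≃ₗ[A]
      ((gCx I).obj J).homology q :=
    ((DerivedCategory.homologyFunctorFactors (ModuleCat.{u} A) q).app
      ((gCx I).obj J)).toLinearEquiv
  exact ⟨e1.trans (e2.trans ((hEquiv I J q).trans (hdiCongr e q).toLinearEquiv))⟩

end Groth.Agent.LoccohB.RGammaHDI
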