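import Groth.Agent.LoccohB.GammaQis

/-!
# `RΓ_I` over a Noetherian ring: torsion objects

* `isIso_ε_of_torsion`: `RΓ_I(K) → K` is an isomorphism if `K` has `I`-power torsion cohomology.
* `torsion_rgamma`: `RΓ_I(K)` has `I`-power torsion cohomology.
* `isIso_rgamma_map_ε`: `RΓ_I(RΓ_I(K) → K)` is an isomorphism.
* `nonempty_rgamma_rgamma`: `RΓ_J (RΓ_I K) ≅ RΓ_{I + J} K`.
-/

set_option autoImplicit false

universe u

open CategoryTheory Limits

attribute [local instance] HasDerivedCategory.standard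

namespace Groth.Agent.LoccohB.RGammaTors

open RGammaBasic GammaQis

section Abstract

variable {C : Type*} [Category* C]

/-- a coreflection onto a full subcategory, from a morphism `ε : G ⟶ 𝟭` such that composition with
`ε` is bijective on morphisms from objects of the subcategory. -/
noncomputable def adjOfBijective (P : ObjectProperty C) (G : C ⥤ C) (ε : G ⟶ 𝟭 C)
    (h : ∀ K, P (G.obj K))
    (hb : ∀ (T : C) (_ : P T) (K : C),
      Function.Bijective (fun φ : T ⟶ G.obj K => φ ≫ ε.app K)) :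
    P.ι ⊣ P.lift G h :=
  Adjunction.mkOfHomEquiv
    { homEquiv := fun T K => (Equiv.ofBijective
        (fun φ : T ⟶ (P.lift G h).obj K => φ.hom ≫ ε.app K) (by
          refine ⟨fun φ ψ hφ => ?_, fun f => ?_⟩
          · exact P.hom_ext ((hb T.obj T.property K).1 hφ)
          · obtain ⟨φ, hφ⟩ := (hb T.obj T.property K).2 f
            exact ⟨P.homMk φ, hφ⟩)).symm
      homEquiv_naturality_left_symm := by
        intro T' T K f g
        exact Category.assoc _ _ _
      homEquiv_naturality_right := by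
        intro T K K' f g
        rw [Equiv.symm_apply_eq]
        obtain ⟨φ, rfl⟩ := (Equiv.ofBijective
          (fun φ : T ⟶ (P.lift G h).obj K => φ.hom ≫ ε.app K) (by
          refine ⟨fun φ ψ hφ => ?_, fun f => ?_⟩
          · exact P.hom_ext ((hb T.obj T.property K).1 hφ)
          · obtain ⟨φ, hφ⟩ := (hb T.obj T.property K).2 f
            exact ⟨P.homMk φ, hφ⟩)).surjective f
        rw [Equiv.symm_apply_apply]
        have h1 := ε.naturality g
        change (φ.hom ≫ ε.app K) ≫ g = (φ.hom ≫ G.map g) ≫ ε.app K'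
        rw [Category.assoc, Category.assoc, h1]
        rfl }

end Abstract

variable {A : Type u} [CommRing A] (I : Ideal A)

lemma isPowerTorsion_of_iso {M N : ModuleCat.{u} A} (e : M ≅ N)
    (hM : LocCoh.IsPowerTorsion I M) : LocCoh.IsPowerTorsion I N := fun y => by
  obtain ⟨n, hn⟩ := hM (e.inv.hom y)
  refine ⟨n, fun a ha => ?_⟩
  have h1 : Function.Injective e.inv.hom :=
    ((ConcreteCategory.isIso_iff_bijective e.inv).1 inferInstance).1
  apply h1
  rw [map_smul, hn a ha, map_zero]

/-- `K` has `I`-power torsion cohomology -/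
abbrev IsTors (K : Dual.D A) : Prop := ∀ i : ℤ, LocCoh.IsPowerTorsion I (Dual.HD A K i)

lemma isTors_of_iso {K L : Dual.D A} (e : K ≅ L) (h : IsTors I K) : IsTors I L := fun i =>
  isPowerTorsion_of_iso I ((DerivedCategory.homologyFunctor (ModuleCat.{u} A) i).mapIso e) (h i)

/-- cohomology of `Q J` -/
noncomputable def hdQ (J : CochainComplex (ModuleCat.{u} A) ℤ) (i : ℤ) :
    (DerivedCategory.homologyFunctor (ModuleCat.{u} A) i).obj (DerivedCategory.Q.obj J) ≅
      J.homology i :=
  (DerivedCategory.homologyFunctorFactors (ModuleCat.{u} A) i).app J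

lemma isTors_Q_iff (J : CochainComplex (ModuleCat.{u} A) ℤ) :
    IsTors I (DerivedCategory.Q.obj J) ↔ ∀ i, LocCoh.IsPowerTorsion I (J.homology i) :=
  ⟨fun h i => isPowerTorsion_of_iso I (hdQ J i) (h i),
    fun h i => isPowerTorsion_of_iso I (hdQ J i).symm (h i)⟩

lemma isPowerTorsion_homology (J : CochainComplex (ModuleCat.{u} A) ℤ) (i : ℤ)
    (h : LocCoh.IsPowerTorsion I (J.X i)) : LocCoh.IsPowerTorsion I (J.homology i) := by
  intro x
  obtain ⟨z, rfl⟩ := HClass.hcl_surjective x
  obtain ⟨n, hn⟩ := h z.1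
  refine ⟨n, fun a ha => ?_⟩
  rw [← map_smul]
  have : a • z = 0 := Subtype.ext (hn a ha)
  rw [this, map_zero]

lemma isTors_Q_gCx (J : CochainComplex (ModuleCat.{u} A) ℤ) :
    IsTors I (DerivedCategory.Q.obj ((gCx I).obj J)) := by
  rw [isTors_Q_iff]
  intro i
  refine isPowerTorsion_homology I _ i ?_
  intro m
  obtain ⟨n, hn⟩ := m.2
  exact ⟨n, fun a ha => Subtype.ext (hn a ha)⟩

section

variable [DRing.HasRgammaI I]

/-- `RΓ_I(K)` has `I`-power torsion cohomology (any ring). -/
theorem torsion_rgamma (K : Dual.D A) : IsTors I ((DRing.RgammaI I).obj K) := by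
  obtain ⟨J, h1, h2, ⟨e⟩⟩ := KInjD.exists_res' A K
  have := isIso_rg_app I J
  exact isTors_of_iso I (asIso ((rg I).app J) ≪≫ (DRing.RgammaI I).mapIso e) (isTors_Q_gCx I J)

variable [IsNoetherianRing A]

/-- `RΓ_I(K) → K` is an isomorphism if `K` has `I`-power torsion cohomology. -/
theorem isIso_ε_of_torsion (K : Dual.D A) (hK : IsTors I K) : IsIso ((DRing.RgammaIε I).app K) := by
  obtain ⟨J, h1, h2, ⟨e⟩⟩ := KInjD.exists_res' A K
  have h3 := isIso_rg_app I J
  have h4 : QuasiIso (gι I J) := quasiIso_gι I h2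
    ((isTors_Q_iff I J).1 (isTors_of_iso I e.symm hK))
  have h5 : IsIso ((rg I).app J ≫ (DRing.RgammaIε I).app (DerivedCategory.Q.obj J)) := by
    rw [rg_ε]
    infer_instance
  have h6 : IsIso ((DRing.RgammaIε I).app (DerivedCategory.Q.obj J)) :=
    IsIso.of_isIso_comp_left ((rg I).app J) _
  have h7 := (DRing.RgammaIε I).naturality e.hom
  have h8 : IsIso ((DRing.RgammaI I).map e.hom ≫ (DRing.RgammaIε I).app K) := by
    rw [h7]
    dsimp
    infer_instance
  exact IsIso.of_isIso_comp_left ((DRing.RgammaI I).map e.hom) _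

instance isIso_gCx_map_gι (J : CochainComplex (ModuleCat.{u} A) ℤ) :
    IsIso ((gCx I).map (gι I J)) := by
  have : ∀ i, IsIso (((gCx I).map (gι I J)).f i) := by
    intro i
    rw [ConcreteCategory.isIso_iff_bijective]
    refine ⟨fun x y hxy => Subtype.ext (Subtype.ext
      (congrArg (fun z : DRing.torsionSub I (J.X i) => z.1) hxy)), fun y => ?_⟩
    obtain ⟨n, hn⟩ := y.2
    exact ⟨⟨⟨y.1, y.2⟩, n, fun a ha => Subtype.ext (hn a ha)⟩, rfl⟩
  exact HomologicalComplex.Hom.isIso_of_components _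

/-- `RΓ_I(RΓ_I(K) → K)` is an isomorphism. -/
theorem isIso_rgamma_map_ε (K : Dual.D A) :
    IsIso ((DRing.RgammaI I).map ((DRing.RgammaIε I).app K)) := by
  obtain ⟨J, h1, h2, ⟨e⟩⟩ := KInjD.exists_res' A K
  have h3 := isIso_rg_app I J
  have h4 := isIso_rg_of_injective I (injective_gCx I h2)
  have h5 := (rg I).naturality (gι I J)
  have h6 : IsIso ((DRing.RgammaI I).map (DerivedCategory.Q.map (gι I J))) := by
    have : IsIso ((rg I).app ((gCx I).obj J) ≫
        (DRing.RgammaI I).map (DerivedCategory.Q.map (gι I J))) := by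
      have h7 : (rg I).app ((gCx I).obj J) ≫
          (DRing.RgammaI I).map (DerivedCategory.Q.map (gι I J)) =
          DerivedCategory.Q.map ((gCx I).map (gι I J)) ≫ (rg I).app J := h5.symm
      rw [h7]
      infer_instance
    exact IsIso.of_isIso_comp_left ((rg I).app ((gCx I).obj J)) _
  have h7 : IsIso ((DRing.RgammaI I).map ((DRing.RgammaIε I).app (DerivedCategory.Q.obj J))) := by
    rw [← rg_ε, Functor.map_comp] at h6
    exact IsIso.of_isIso_comp_left ((DRing.RgammaI I).map ((rg I).app J)) _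
  have h8 := congrArg (DRing.RgammaI I).map ((DRing.RgammaIε I).naturality e.hom)
  rw [Functor.map_comp, Functor.map_comp] at h8
  have h9 : IsIso ((DRing.RgammaI I).map ((DRing.RgammaI I).map e.hom) ≫
      (DRing.RgammaI I).map ((DRing.RgammaIε I).app K)) := by
    rw [h8]
    dsimp
    infer_instance
  exact IsIso.of_isIso_comp_left ((DRing.RgammaI I).map ((DRing.RgammaI I).map e.hom)) _

/-- Morphisms from a torsion object to `RΓ_I(K)` are determined by the composition with the
canonical morphism `RΓ_I(K) → K`. -/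
theorem hom_ext {T K : Dual.D A} (hT : IsTors I T) {φ ψ : T ⟶ (DRing.RgammaI I).obj K}
    (h : φ ≫ (DRing.RgammaIε I).app K = ψ ≫ (DRing.RgammaIε I).app K) : φ = ψ := by
  have h1 := isIso_ε_of_torsion I T hT
  have h2 := isIso_rgamma_map_ε I K
  have h3 : (DRing.RgammaI I).map φ = (DRing.RgammaI I).map ψ := by
    rw [← cancel_mono ((DRing.RgammaI I).map ((DRing.RgammaIε I).app K))]
    rw [← Functor.map_comp, ← Functor.map_comp, h]
  rw [← cancel_epi ((DRing.RgammaIε I).app T)]
  have h4 := (DRing.RgammaIε I).naturality φ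
  have h5 := (DRing.RgammaIε I).naturality ψ
  dsimp at h4 h5
  rw [← h4, ← h5, h3]

/-- composition with `RΓ_I(K) → K` is bijective on morphisms from a torsion object. -/
theorem comp_ε_bijective {T : Dual.D A} (hT : IsTors I T) (K : Dual.D A) :
    Function.Bijective (fun φ : T ⟶ (DRing.RgammaI I).obj K => φ ≫ (DRing.RgammaIε I).app K) := by
  refine ⟨fun φ ψ h => hom_ext I hT h, fun f => ?_⟩
  have h1 := isIso_ε_of_torsion I T hT
  refine ⟨inv ((DRing.RgammaIε I).app T) ≫ (DRing.RgammaI I).map f, ?_⟩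
  have h2 := (DRing.RgammaIε I).naturality f
  dsimp at h2 ⊢
  rw [Category.assoc, h2, IsIso.inv_hom_id_assoc]

end

variable [IsNoetherianRing A]

theorem nonempty_rgamma_rgamma (J : Ideal A) [DRing.HasRgammaI I] [DRing.HasRgammaI J]
    [DRing.HasRgammaI (I ⊔ J)] (K : Dual.D A) :
    Nonempty ((DRing.RgammaI J).obj ((DRing.RgammaI I).obj K) ≅
      (DRing.RgammaI (I ⊔ J)).obj K) := by
  obtain ⟨L, h1, h2, ⟨e⟩⟩ := KInjD.exists_res' A K
  have h3 := isIso_rg_app I L
  have h4 := isIso_rg_app (I ⊔ J) L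
  have h5 := isIso_rg_of_injective J (injective_gCx I h2)
  exact ⟨(DRing.RgammaI J).mapIso ((DRing.RgammaI I).mapIso e.symm ≪≫
    (asIso ((rg I).app L)).symm) ≪≫ (asIso ((rg J).app ((gCx I).obj L))).symm ≪≫
    DerivedCategory.Q.mapIso (asIso (gSupCx I J L)) ≪≫ asIso ((rg (I ⊔ J)).app L) ≪≫
    (DRing.RgammaI (I ⊔ J)).mapIso e⟩

end Groth.Agent.LoccohB.RGammaTors
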