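import Groth.Agent.LoccohB.DBase
import Mathlib.Algebra.Homology.HomotopyCategory.HomComplexSingle
import Mathlib.Algebra.Homology.ShortComplex.Linear

/-!
# Hom_{D(C)}(P[-n], K) = Hom_C(P, H^n K) for P projective
-/

set_option autoImplicit false
universe w v u

open CategoryTheory CategoryTheory.Limits Opposite Pretriangulated

namespace Groth.Agent.LoccohB.DBase

open DerivedCategory

section

variable {C : Type u} [Category.{v} C] [Abelian C] [HasDerivedCategory.{w} C]

/-- the map `Hom_{D}(P[-n], K) → Hom(P, H^n K)`. -/
noncomputable def homToH (n : ℤ) {P : C} {K : DerivedCategory C}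
    (f : (singleFunctor C n).obj P ⟶ K) : P ⟶ (homologyFunctor C n).obj K :=
  (singleFunctorCompHomologyFunctorIso C n).inv.app P ≫ (homologyFunctor C n).map f

lemma homToH_comp (n : ℤ) {P : C} {K L : DerivedCategory C}
    (f : (singleFunctor C n).obj P ⟶ K) (g : K ⟶ L) :
    homToH n (f ≫ g) = homToH n f ≫ (homologyFunctor C n).map g := by
  simp [homToH]

lemma homToH_precomp (n : ℤ) {P P' : C} {K : DerivedCategory C} (p : P' ⟶ P)
    (f : (singleFunctor C n).obj P ⟶ K) :
    homToH n ((singleFunctor C n).map p ≫ f) = p ≫ homToH n f := by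
  have := (singleFunctorCompHomologyFunctorIso C n).inv.naturality p
  simp only [Functor.id_obj, Functor.comp_obj, Functor.id_map, Functor.comp_map] at this
  simp only [homToH, Functor.map_comp]
  rw [reassoc_of% this]

lemma homToH_add (n : ℤ) {P : C} {K : DerivedCategory C}
    (f g : (singleFunctor C n).obj P ⟶ K) :
    homToH n (f + g) = homToH n f + homToH n g := by
  simp [homToH]

lemma homToH_sub (n : ℤ) {P : C} {K : DerivedCategory C}
    (f g : (singleFunctor C n).obj P ⟶ K) :
    homToH n (f - g) = homToH n f - homToH n g := by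
  simp only [homToH]
  rw [Functor.map_sub, Preadditive.comp_sub]

set_option backward.isDefEq.respectTransparency false in
lemma homToH_Q_map (n : ℤ) {P : C} {L : CochainComplex C ℤ}
    (f : (HomologicalComplex.single C (ComplexShape.up ℤ) n).obj P ⟶ L) :
    homToH n (Q.map f : (singleFunctor C n).obj P ⟶ Q.obj L) ≫
      (homologyFunctorFactors C n).hom.app L =
    (HomologicalComplex.singleObjHomologySelfIso (ComplexShape.up ℤ) n P).inv ≫
      HomologicalComplex.homologyMap f n := by
  have h := homologyFunctorFactors_hom_naturality f n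
  have h2 : (singleFunctorCompHomologyFunctorIso C n).inv.app P ≫
      (homologyFunctorFactors C n).hom.app
        ((HomologicalComplex.single C (ComplexShape.up ℤ) n).obj P) =
      (HomologicalComplex.singleObjHomologySelfIso (ComplexShape.up ℤ) n P).inv := by
    simp [singleFunctorCompHomologyFunctorIso, singleFunctorsPostcompQIso_inv_hom]
    erw [CategoryTheory.Functor.map_id, Category.id_comp, Iso.inv_hom_id_app, Category.comp_id]
  rw [homToH, Category.assoc, h, ← Category.assoc, h2]

/-- A chain map out of `P[-n]` whose `H^n` vanishes is zero in the derived category. -/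
lemma Q_map_eq_zero (n : ℤ) {P : C} [Projective P] {L : CochainComplex C ℤ}
    (f : (HomologicalComplex.single C (ComplexShape.up ℤ) n).obj P ⟶ L)
    (hf : (HomologicalComplex.singleObjHomologySelfIso (ComplexShape.up ℤ) n P).inv ≫
      HomologicalComplex.homologyMap f n = 0) : Q.map f = 0 := by
  have h0 : ((HomologicalComplex.singleObjCyclesSelfIso (ComplexShape.up ℤ) n P).inv ≫
      HomologicalComplex.cyclesMap f n) ≫ L.homologyπ n = 0 := by
    rw [← hf, ← HomologicalComplex.singleObjCyclesSelfIso_inv_homologyπ, Category.assoc,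
      Category.assoc, HomologicalComplex.homologyπ_naturality]
  obtain ⟨y, hy⟩ : ∃ y : P ⟶ L.X (n - 1), y ≫ L.toCycles (n - 1) n =
      (HomologicalComplex.singleObjCyclesSelfIso (ComplexShape.up ℤ) n P).inv ≫
      HomologicalComplex.cyclesMap f n := by
    have hex : (ShortComplex.mk (L.toCycles (n - 1) n) (L.homologyπ n) (by simp)).Exact :=
      ShortComplex.exact_of_g_is_cokernel _ (L.homologyIsCokernel (n - 1) n (by simp))
    exact ⟨hex.liftFromProjective _ h0, hex.liftFromProjective_comp _ h0⟩
  have hy' : (HomologicalComplex.singleObjXSelf (ComplexShape.up ℤ) n P).hom ≫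
      y ≫ L.d (n - 1) n = f.f n := by
    rw [← L.toCycles_i (n - 1) n, reassoc_of% hy, HomologicalComplex.cyclesMap_i,
      HomologicalComplex.singleObjCyclesSelfIso_inv_iCycles_assoc, Iso.hom_inv_id_assoc]
  rw [Q_map_eq_of_homotopy (f := f) (g := 0), Functor.map_zero]
  refine (CochainComplex.HomComplex.Cochain.equivHomotopy f 0).symm
    ⟨CochainComplex.HomComplex.Cochain.single
      ((HomologicalComplex.singleObjXSelf (ComplexShape.up ℤ) n P).hom ≫ y) (-1), ?_⟩
  rw [CochainComplex.HomComplex.Cochain.δ_single _ (-1) 0 (by simp) (n - 1) n (by simp) (by simp)]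
  ext p
  by_cases hp : p = n
  · subst hp
    simp [← hy']
  · exact (HomologicalComplex.isZero_single_obj_X _ _ _ _ hp).eq_of_src _ _

omit [HasDerivedCategory.{w} C] in
lemma isKProjective_single (n : ℤ) (P : C) [Projective P] : CochainComplex.IsKProjective
      ((HomologicalComplex.single C (ComplexShape.up ℤ) n).obj P) := by
  have : ∀ m : ℤ, Projective (((HomologicalComplex.single C (ComplexShape.up ℤ) n).obj P).X m) := by
    intro m
    by_cases hn : m = n
    · subst hn
      exact Projective.of_iso (HomologicalComplex.singleObjXSelf (ComplexShape.up ℤ) m P).symm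
        inferInstance
    · have := (HomologicalComplex.isZero_single_obj_X (ComplexShape.up ℤ) n P m hn)
      exact ⟨fun f g _ => ⟨0, this.eq_of_src _ _⟩⟩
  have : CochainComplex.IsStrictlyLE ((HomologicalComplex.single C (ComplexShape.up ℤ) n).obj P) n := 
    inferInstanceAs (CochainComplex.IsStrictlyLE ((CochainComplex.singleFunctor C n).obj P) n)
  exact CochainComplex.isKProjective_of_projective _ n

lemma exists_Q_map_eq (n : ℤ) {P : C} [Projective P] {L : CochainComplex C ℤ}
    (f : Q.obj ((HomologicalComplex.single C (ComplexShape.up ℤ) n).obj P) ⟶ Q.obj L) :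
    ∃ g : (HomologicalComplex.single C (ComplexShape.up ℤ) n).obj P ⟶ L, Q.map g = f := by
  have hP := isKProjective_single n P
  obtain ⟨g, hg⟩ := (CochainComplex.IsKProjective.Qh_map_bijective
    ((HomologicalComplex.single C (ComplexShape.up ℤ) n).obj P)
    ((HomotopyCategory.quotient _ _).obj L)).surjective
    ((quotientCompQhIso C).hom.app _ ≫ f ≫ (quotientCompQhIso C).inv.app L)
  obtain ⟨g, rfl⟩ := (HomotopyCategory.quotient _ _).map_surjective g
  refine ⟨g, ?_⟩
  rw [← cancel_epi ((quotientCompQhIso C).hom.app _), ← quotientCompQhIso_hom_naturality, hg,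
    Category.assoc, Category.assoc]
  congr 1
  rw [Iso.inv_hom_id_app]
  exact Category.comp_id _

set_option backward.isDefEq.respectTransparency false in
lemma homToH_bijective_Q (n : ℤ) (P : C) [Projective P] (L : CochainComplex C ℤ) :
    Function.Bijective (homToH n : ((singleFunctor C n).obj P ⟶ Q.obj L) → _) := by
  constructor
  · intro f g hfg
    rw [← sub_eq_zero]
    obtain ⟨h, hh⟩ := exists_Q_map_eq n (f - g)
    have : homToH n (f - g) = 0 := by
      rw [homToH_sub, hfg, sub_self]
    rw [← hh]
    apply Q_map_eq_zero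
    rw [← homToH_Q_map, hh, this, zero_comp]
  · intro g
    have hpi : Epi (L.homologyπ n) := inferInstance
    let g' : P ⟶ L.cycles n := Projective.factorThru (g ≫ (homologyFunctorFactors C n).hom.app L)
      (L.homologyπ n)
    have hg' : g' ≫ L.homologyπ n = g ≫ (homologyFunctorFactors C n).hom.app L :=
      Projective.factorThru_comp _ _
    let F : (HomologicalComplex.single C (ComplexShape.up ℤ) n).obj P ⟶ L :=
      HomologicalComplex.mkHomFromSingle (g' ≫ L.iCycles n) (by simp)
    refine ⟨Q.map F, ?_⟩
    rw [← cancel_mono ((homologyFunctorFactors C n).hom.app L), homToH_Q_map, ← hg']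
    rw [← HomologicalComplex.singleObjCyclesSelfIso_inv_homologyπ, Category.assoc,
      HomologicalComplex.homologyπ_naturality, ← Category.assoc]
    congr 1
    rw [← cancel_mono (L.iCycles n), Category.assoc, HomologicalComplex.cyclesMap_i,
      HomologicalComplex.singleObjCyclesSelfIso_inv_iCycles_assoc,
      HomologicalComplex.mkHomFromSingle_f, Iso.inv_hom_id_assoc]

/-- `Hom_{D(C)}(P[-n], K) ≅ Hom(P, H^n K)` for `P` projective. -/
lemma homToH_bijective (n : ℤ) (P : C) [Projective P] (K : DerivedCategory C) :
    Function.Bijective (homToH n : ((singleFunctor C n).obj P ⟶ K) → _) := by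
  let e := Q.objObjPreimageIso K
  have h := homToH_bijective_Q n P (Q.objPreimage K)
  constructor
  · intro f g hfg
    rw [← cancel_mono e.inv]
    apply h.1
    rw [homToH_comp, homToH_comp, hfg]
  · intro g
    obtain ⟨f, hf⟩ := h.2 (g ≫ (homologyFunctor C n).map e.inv)
    refine ⟨f ≫ e.hom, ?_⟩
    rw [homToH_comp, hf, Category.assoc, ← Functor.map_comp, Iso.inv_hom_id,
      CategoryTheory.Functor.map_id, Category.comp_id]

end

section Linear

variable (R : Type*) [Ring R] {C : Type u} [Category.{v} C] [Abelian C] [Linear R C]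
  [HasDerivedCategory.{w} C]

instance linear_complex_homologyFunctor (n : ℤ) :
    (HomologicalComplex.homologyFunctor C (ComplexShape.up ℤ) n).Linear R where
  map_smul {X Y} f r := by
    exact ShortComplex.homologyMap_smul
      ((HomologicalComplex.shortComplexFunctor C (ComplexShape.up ℤ) n).map f) r

instance linear_homologyFunctor (n : ℤ) : (homologyFunctor C n).Linear R := by
  rw [Functor.linear_iff]
  intro X r
  obtain ⟨L, ⟨e⟩⟩ : ∃ L : CochainComplex C ℤ, Nonempty (Q.obj L ≅ X) :=
    ⟨_, ⟨Q.objObjPreimageIso X⟩⟩
  have h1 : r • 𝟙 X = e.inv ≫ Q.map (r • 𝟙 L) ≫ e.hom := by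
    rw [Functor.map_smul]
    simp
  rw [h1, Functor.map_comp, Functor.map_comp]
  have h2 : (homologyFunctor C n).map (Q.map (r • 𝟙 L)) = r • 𝟙 _ := by
    rw [← cancel_mono ((homologyFunctorFactors C n).hom.app L),
      homologyFunctorFactors_hom_naturality]
    have : HomologicalComplex.homologyMap (r • 𝟙 L) n = r • 𝟙 _ := by
      have := (HomologicalComplex.homologyFunctor C (ComplexShape.up ℤ) n).map_smul r (𝟙 L)
      rw [CategoryTheory.Functor.map_id] at this
      exact this
    rw [this]
    erw [Linear.comp_smul, Linear.smul_comp, Category.comp_id, Category.id_comp]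
    rfl
  rw [h2, Linear.smul_comp, Linear.comp_smul, Category.id_comp, ← Functor.map_comp,
    Iso.inv_hom_id, CategoryTheory.Functor.map_id]

end Linear

end Groth.Agent.LoccohB.DBase
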