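import Groth.Agent.LoccohB.DBase2

/-!
# D(A): Hom(A[-n], K) = H^n(K), linearly; change of shifts; exactness of Hom
-/

set_option autoImplicit false
universe w v u

open CategoryTheory CategoryTheory.Limits Opposite Pretriangulated

attribute [local instance] HasDerivedCategory.standard

namespace Groth.Agent.LoccohB.DBase

open DerivedCategory

variable {A : Type u} [CommRing A]

/-- `M[-n]` in `D(A)`. -/
noncomputable abbrev sg (A : Type u) [CommRing A] (n : ℤ) (M : Type u) [AddCommGroup M]
    [Module A M] : Dual.D A :=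
  (singleFunctor (ModuleCat.{u} A) n).obj (ModuleCat.of A M)

instance projective_of_self : Projective (ModuleCat.of A A) := by
  infer_instance

/-- evaluation at `1`: the linear map `Hom_{D(A)}(A[-n], K) → H^n(K)`. -/
noncomputable def homToHD (n : ℤ) (K : Dual.D A) :
    (sg A n A ⟶ K) →ₗ[A] Dual.HD A K n where
  toFun f := (homToH n (P := ModuleCat.of A A) (K := K) f).hom (1 : A)
  map_add' f g := by rw [homToH_add]; rfl
  map_smul' a f := by
    have : homToH n (P := ModuleCat.of A A) (K := K) (a • f) =
        a • homToH n (P := ModuleCat.of A A) (K := K) f := by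
      simp only [homToH]
      rw [Functor.map_smul, Linear.comp_smul]
    rw [this]; rfl

lemma homToHD_bijective (n : ℤ) (K : Dual.D A) : Function.Bijective (homToHD n K) := by
  have h := homToH_bijective n (ModuleCat.of A A) K
  constructor
  · intro f g hfg
    apply h.1
    ext
    exact hfg
  · intro y
    obtain ⟨f, hf⟩ := h.2 (ModuleCat.ofHom (LinearMap.toSpanSingleton A _ y))
    refine ⟨f, ?_⟩
    change (homToH n (P := ModuleCat.of A A) (K := K) f).hom (1 : A) = y
    rw [hf]
    simp

/-- evaluation at `1`: `Hom_{D(A)}(A[-n], K) ≃ H^n(K)`. -/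
noncomputable def homEquivHD (n : ℤ) (K : Dual.D A) :
    (sg A n A ⟶ K) ≃ₗ[A] Dual.HD A K n :=
  LinearEquiv.ofBijective (homToHD n K) (homToHD_bijective n K)

lemma homEquivHD_comp (n : ℤ) {K L : Dual.D A} (f : sg A n A ⟶ K) (g : K ⟶ L) :
    homEquivHD n L (f ≫ g) =
      ((homologyFunctor (ModuleCat.{u} A) n).map g).hom (homEquivHD n K f) := by
  change (homToH n (P := ModuleCat.of A A) (K := L) (f ≫ g)).hom (1 : A) = _
  rw [homToH_comp]
  rfl

end Groth.Agent.LoccohB.DBase
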