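import Groth.Agent.LoccohB.AdAffine
import Groth.Agent.LoccohB.DQCohTri
import Groth.Agent.LoccohB.RightAdj
import Groth.Agent.PerfA.QCohD

/-!
# Coproduct preserving triangulated functors out of `D_QCoh(Spec R)` and upper bounds
-/

set_option autoImplicit false

universe u

open CategoryTheory CategoryTheory.Limits AlgebraicGeometry Pretriangulated

attribute [local instance] HasDerivedCategory.standard

namespace Groth.Agent.LoccohB.AdBound

open DerivedCategory AdAffine DBase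

variable (R : CommRingCat.{u})

/-- `D(R) ⥤ D_QCoh(Spec R)`. -/
noncomputable def G : DerivedCategory (ModuleCat.{u} R) ⥤ DCoh.DQCoh (Spec R) :=
  (DCoh.IsQCohD (X := Spec R)).lift (tD R) (fun M => (S0997.result R).2.2 _ |>.2 ⟨M, ⟨Iso.refl _⟩⟩)

noncomputable instance : (G R).CommShift ℤ := by unfold G; infer_instance
instance : (G R).IsTriangulated := by unfold G; infer_instance

instance : (G R).Full where
  map_surjective {M N} g := by
    have : (tD R).Full := (S0997.result R).1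
    obtain ⟨h, hh⟩ := (tD R).map_surjective g.hom
    exact ⟨h, by ext; exact hh⟩

instance : (G R).Faithful where
  map_injective {M N} g h e := by
    have : (tD R).Faithful := (S0997.result R).2.1
    have e' : ((G R).map g).hom = ((G R).map h).hom := by rw [e]
    exact (tD R).map_injective e'

instance : (G R).EssSurj where
  mem_essImage K := by
    obtain ⟨M, ⟨e⟩⟩ := ((S0997.result R).2.2 K.obj).1 K.property
    exact ⟨M, ⟨(DCoh.IsQCohD (X := Spec R)).isoMk e⟩⟩

variable {R} {X : Scheme.{u}} (a : DCoh.DQCoh (Spec R) ⥤ DCoh.DQCoh X) [a.CommShift ℤ]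
  [a.IsTriangulated] 

/-- The composite `D(R) ⥤ D_QCoh(Spec R) ⥤ D_QCoh(X) ⥤ D(X)`. -/
noncomputable def Φ : DerivedCategory (ModuleCat.{u} R) ⥤ DCoh.D X :=
  G R ⋙ a ⋙ (DCoh.IsQCohD (X := X)).ι

noncomputable instance : (Φ a).CommShift ℤ := by unfold Φ; infer_instance
instance : (Φ a).IsTriangulated := by unfold Φ; infer_instance

omit [a.CommShift ℤ] [a.IsTriangulated] in
lemma isQCohD_Φ (M : DerivedCategory (ModuleCat.{u} R)) : DCoh.IsQCohD ((Φ a).obj M) :=
  (a.obj ((G R).obj M)).property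

lemma isLE_Φ_sg (m : ℤ) (hm : ((Φ a).obj (sg R 0 R)).IsLE m) (j : ℤ) :
    ((Φ a).obj (sg R j R)).IsLE (m + j) := by
  let e : (sg R 0 R)⟦(-j)⟧ ≅ sg R j R :=
    ((singleFunctors (ModuleCat.{u} R)).shiftIso (-j) j 0 (by simp)).app (ModuleCat.of R R)
  have h1 : (((Φ a).obj (sg R 0 R))⟦(-j)⟧).IsLE (m + j) :=
    (TStructure.t : Triangulated.TStructure (DCoh.D X)).isLE_shift _ m (-j) (m + j) (by ring)
  exact (TStructure.t : Triangulated.TStructure (DCoh.D X)).isLE_of_iso
    (X := ((Φ a).obj (sg R 0 R))⟦(-j)⟧)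
    (((Φ a).commShiftIso (-j)).symm.app _ ≪≫ (Φ a).mapIso e) (m + j)

variable [∀ J : Type u, PreservesColimitsOfShape (Discrete J) a]

/-- `a` has a right adjoint (Brown representability). -/
theorem isLeftAdjoint : a.IsLeftAdjoint := by
  obtain ⟨P, -, hP, hP'⟩ := LoccohB.RightAdj.exists_compact_generator (Spec R)
  exact CohtopA.BrownW.isLeftAdjoint (fun _ : PUnit.{u + 1} => P) (fun _ => hP) hP' a

/-- Morphisms from `a(M~)`, `M ∈ D^{≤ c}`, to objects of `D_QCoh^{≥ c + m + 1}` vanish. -/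
theorem hom_eq_zero (m : ℤ) (hm : ((Φ a).obj (sg R 0 R)).IsLE m)
    (M : DerivedCategory (ModuleCat.{u} R)) (c : ℤ) [M.IsLE c] (T : DCoh.DQCoh X)
    (hT : T.obj.IsGE (c + m + 1)) (g : a.obj ((G R).obj M) ⟶ T) : g = 0 := by
  have := isLeftAdjoint a
  let adj := Adjunction.ofIsLeftAdjoint a
  obtain ⟨B₀, ⟨e⟩⟩ : ∃ B₀, Nonempty ((G R).obj B₀ ≅ a.rightAdjoint.obj T) :=
    ⟨_, ⟨(G R).objObjPreimageIso _⟩⟩
  have hB₀ : B₀.IsGE (c + 1) := by
    rw [isGE_iff]
    intro j hj
    rw [HomBC.isZero_homology_iff]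
    refine (homEquivHD j B₀).toEquiv.subsingleton_congr.1 ⟨fun h h' => ?_⟩
    suffices h0 : ∀ h : sg R j R ⟶ B₀, h = 0 by rw [h0 h, h0 h']
    intro h
    apply (G R).map_injective
    rw [← cancel_mono e.hom]
    apply (adj.homEquiv _ _).symm.injective
    have hle := isLE_Φ_sg a m hm j
    have h1 : ∀ s : a.obj ((G R).obj (sg R j R)) ⟶ T, s = 0 := by
      intro s
      ext
      have hle' : (a.obj ((G R).obj (sg R j R))).obj.IsLE (m + j) := hle
      exact (TStructure.t : Triangulated.TStructure (DCoh.D X)).zero s.hom (m + j) (c + m + 1)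
        (by lia)
    rw [h1 (((adj.homEquiv _ _).symm) _), h1 (((adj.homEquiv _ _).symm) _)]
  obtain ⟨g', rfl⟩ := (adj.homEquiv _ _).symm.surjective g
  have h2 : g' = 0 := by
    rw [← cancel_mono e.inv, zero_comp]
    obtain ⟨h, hh⟩ := (G R).map_surjective (g' ≫ e.inv)
    rw [← hh, (TStructure.t : Triangulated.TStructure (Dual.D R)).zero h c (c + 1) (by lia),
      Functor.map_zero]
  rw [h2, Adjunction.homEquiv_counit, Functor.map_zero, zero_comp]

/-- `a` maps `D^{≤ c}` to `D^{≤ c + m}` if `a(O) ∈ D^{≤ m}`. -/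
theorem isLE_Φ (m : ℤ) (hm : ((Φ a).obj (sg R 0 R)).IsLE m)
    (M : DerivedCategory (ModuleCat.{u} R)) (c : ℤ) [M.IsLE c] : ((Φ a).obj M).IsLE (c + m) := by
  let t : Triangulated.TStructure (DCoh.D X) := TStructure.t
  let T : DCoh.DQCoh X := ⟨(t.truncGE (c + m + 1)).obj ((Φ a).obj M),
    PerfA.QCohD.isQCohD_truncGE (isQCohD_Φ a M) _⟩
  have hT : T.obj.IsGE (c + m + 1) := inferInstanceAs (t.IsGE ((t.truncGE (c + m + 1)).obj _) _)
  let g : a.obj ((G R).obj M) ⟶ T := ObjectProperty.homMk ((t.truncGEπ (c + m + 1)).app ((Φ a).obj M))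
  have hg : (t.truncGEπ (c + m + 1)).app ((Φ a).obj M) = 0 := by
    have h0 := hom_eq_zero a m hm M c T hT g
    have h1 : g.hom = 0 := by rw [h0]; rfl
    exact h1
  obtain ⟨s, hs⟩ := Triangle.coyoneda_exact₂ _ (t.triangleLTGE_distinguished (c + m + 1) ((Φ a).obj M))
    (𝟙 _) (by
      change 𝟙 _ ≫ (t.truncGEπ (c + m + 1)).app ((Φ a).obj M) = 0
      rw [hg, comp_zero])
  have hLE : ((t.truncLT (c + m + 1)).obj ((Φ a).obj M)).IsLE (c + m) :=
    t.isLE_truncLT_obj _ _ _ (by lia)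
  rw [isLE_iff]
  intro i hi
  rw [IsZero.iff_id_eq_zero]
  have h2 := congrArg (homologyFunctor X.Modules i).map hs
  rw [CategoryTheory.Functor.map_id, Functor.map_comp] at h2
  refine h2.trans ?_
  have h3 : IsZero ((homologyFunctor X.Modules i).obj ((t.triangleLTGE (c + m + 1)).obj
      ((Φ a).obj M)).obj₁) :=
    isZero_of_isLE ((t.truncLT (c + m + 1)).obj ((Φ a).obj M)) (c + m) i hi
  rw [h3.eq_of_src ((homologyFunctor X.Modules i).map ((t.triangleLTGE (c + m + 1)).obj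
    ((Φ a).obj M)).mor₁) 0, comp_zero]
  rfl

end Groth.Agent.LoccohB.AdBound
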