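import Groth.Agent.LoccohB.ModHom
import Groth.Prelude.Def_DRing2
import Mathlib.Algebra.Homology.HomotopyCategory.DegreewiseSplit
import Mathlib.Algebra.Homology.HomotopyCategory.SingleFunctors
import Mathlib.RingTheory.Noetherian.Basic
import Mathlib.RingTheory.Finiteness.Cardinality

/-!
# Killing the top cohomology by a finite free module

For a complex `K` of modules over a Noetherian ring with finite cohomology, `H^q(K) = 0` for `q > n`, there is
`φ : A^k[-n] ⟶ K` whose cone has finite cohomology and no cohomology in degrees `≥ n`.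
-/

universe v u

open CategoryTheory CategoryTheory.Limits CochainComplex CochainComplex.HomComplex
  HomologicalComplex ZeroObject

namespace Groth.Agent.LoccohB.ConeRes

variable {A : Type u} [CommRing A]

/-- A short exact sequence of complexes whose third term is exact in degrees `i` and `i + 1` induces an
isomorphism on `H^{i+1}` of the first two. -/
lemma isIso_homologyMap_f {S : ShortComplex (DRing.Cx A)} (hS : S.ShortExact) (i j : ℤ)
    (hij : i + 1 = j) (hi : S.X₃.ExactAt i) (hj : S.X₃.ExactAt j) :
    IsIso (homologyMap S.f j) := by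
  rw [exactAt_iff_isZero_homology] at hi hj
  have h1 : Mono (homologyMap S.f j) :=
    (hS.homology_exact₁ i j hij).mono_g (hi.eq_of_src _ _)
  have h2 : Epi (homologyMap S.f j) :=
    (hS.homology_exact₂ j).epi_f (hj.eq_of_tgt _ _)
  exact isIso_of_mono_of_epi _

/-- In an exact sequence of modules over a Noetherian ring with finite outer terms, the middle term is finite. -/
lemma finite_of_exact [IsNoetherianRing A] {S : ShortComplex (ModuleCat.{u} A)} (hS : S.Exact)
    (h₁ : Module.Finite A S.X₁) (h₃ : Module.Finite A S.X₃) : Module.Finite A S.X₂ := by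
  have h : LinearMap.range S.f.hom = LinearMap.ker S.g.hom := hS.moduleCat_range_eq_ker
  have := isNoetherian_of_range_eq_ker S.f.hom S.g.hom h
  infer_instance

lemma finite_of_iso {M N : ModuleCat.{u} A} (e : M ≅ N) (h : Module.Finite A M) :
    Module.Finite A N :=
  Module.Finite.equiv e.toLinearEquiv

lemma finite_of_isZero {M : ModuleCat.{u} A} (h : IsZero M) : Module.Finite A M := by
  have := ModuleCat.subsingleton_of_isZero h
  infer_instance

/-- The homology in degree `i` of a complex of modules over a Noetherian ring is finite if the term in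
degree `i` is. -/
lemma finite_homology_of_finite_X [IsNoetherianRing A] (K : DRing.Cx A) (i : ℤ)
    (h : Module.Finite A (K.X i)) : Module.Finite A (K.homology i) :=
  Module.Finite.of_surjective (ModHom.hcls K i) (ModHom.hcls_surjective K i)

lemma finite_single_X (M : ModuleCat.{u} A) (h : Module.Finite A M) (n i : ℤ) :
    Module.Finite A (((CochainComplex.singleFunctor (ModuleCat.{u} A) n).obj M).X i) := by
  by_cases hi : i = n
  · subst hi
    exact finite_of_iso (HomologicalComplex.singleObjXSelf (ComplexShape.up ℤ) i M).symm h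
  · exact finite_of_isZero (HomologicalComplex.isZero_single_obj_X _ _ _ _ hi)

/-- The complex `A^k[-n]`. -/
noncomputable abbrev freeAt (A : Type u) [CommRing A] (n : ℤ) (k : ℕ) : DRing.Cx A :=
  (CochainComplex.singleFunctor (ModuleCat.{u} A) n).obj (ModuleCat.of A (Fin k → A))

lemma cone_shortExact {K L : DRing.Cx A} (φ : K ⟶ L) :
    (mappingCone.triangleRotateShortComplex φ).ShortExact :=
  HomologicalComplex.shortExact_of_degreewise_shortExact _ fun i =>
    (mappingCone.triangleRotateShortComplexSplitting φ i).shortExact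

lemma exists_cone [IsNoetherianRing A] (K : DRing.Cx A) (n : ℤ) [K.IsLE n]
    (hK : ∀ i, Module.Finite A (K.homology i)) :
    ∃ (k : ℕ) (φ : freeAt A n k ⟶ K), (mappingCone φ).IsLE (n - 1) ∧
      ∀ i, Module.Finite A ((mappingCone φ).homology i) := by
  have := hK n
  obtain ⟨k, π, hπ⟩ := Module.Finite.exists_fin' A (K.homology n)
  obtain ⟨h, hh⟩ := Module.projective_lifting_property (ModHom.hcls K n) π
    (ModHom.hcls_surjective K n)
  let φ : freeAt A n k ⟶ K := HomologicalComplex.mkHomFromSingle
    (ModuleCat.ofHom ((LinearMap.ker (K.d n (n + 1)).hom).subtype ∘ₗ h)) (by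
      intro j hj
      obtain rfl : n + 1 = j := hj
      exact ModuleCat.hom_ext (LinearMap.ext fun x => (h x).2))
  have hφ (v : Fin k → A) : φ.f n ((HomologicalComplex.singleObjXSelf (ComplexShape.up ℤ) n
      (ModuleCat.of A (Fin k → A))).inv v) = (h v).1 := by
    have : (HomologicalComplex.singleObjXSelf (ComplexShape.up ℤ) n
      (ModuleCat.of A (Fin k → A))).inv ≫ φ.f n =
      ModuleCat.ofHom ((LinearMap.ker (K.d n (n + 1)).hom).subtype ∘ₗ h) := by
      rw [HomologicalComplex.mkHomFromSingle_f, Iso.inv_hom_id_assoc]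
    exact ConcreteCategory.congr_hom this v
  have hepi : Epi (homologyMap φ n) := by
    rw [ModHom.epi_homologyMap_iff]
    intro y hy
    obtain ⟨v, hv⟩ := hπ (ModHom.hmk K n y hy)
    refine ⟨(HomologicalComplex.singleObjXSelf (ComplexShape.up ℤ) n
      (ModuleCat.of A (Fin k → A))).inv v, ?_⟩
    have h1 : ModHom.hmk K n ((h v).1 - y) (by
        rw [map_sub, hy, sub_zero]; exact (h v).2) = 0 := by
      rw [ModHom.hmk_sub K n _ _ (h v).2 hy, sub_eq_zero, ← hv, ← hh]
      rfl
    rw [ModHom.hmk_eq_zero_iff] at h1
    obtain ⟨z, hz⟩ := h1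
    refine ⟨z, rfl, ?_⟩
    rw [hz, hφ]
  have hS := cone_shortExact φ
  have hsh (i : ℤ) : (mappingCone.triangleRotateShortComplex φ).X₃.X i =
    (freeAt A n k).X (i + 1) := rfl
  have hX3 (i : ℤ) (hi : n ≤ i) : (mappingCone.triangleRotateShortComplex φ).X₃.ExactAt i := by
    rw [exactAt_iff]
    apply ShortComplex.exact_of_isZero_X₂
    exact HomologicalComplex.isZero_single_obj_X (ComplexShape.up ℤ) n _ (i + 1) (by lia)
  refine ⟨k, φ, ?_, fun i => ?_⟩
  · rw [CochainComplex.isLE_iff]
    intro i hi
    by_cases hi' : i = n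
    · subst hi'
      rw [exactAt_iff_isZero_homology]
      have h3 := hX3 i le_rfl
      rw [exactAt_iff_isZero_homology] at h3
      refine (hS.homology_exact₂ i).isZero_X₂ ?_ (h3.eq_of_tgt _ _)
      change homologyMap (mappingCone.inr φ) i = 0
      have hh : Homotopy (φ ≫ mappingCone.inr φ) 0 :=
        homotopyCofiber.inrCompHomotopy φ (fun j => ⟨j - 1, by simp⟩)
      rw [← cancel_epi (homologyMap φ i), comp_zero, ← homologyMap_comp,
        hh.homologyMap_eq, homologyMap_zero]
    · exact hS.exactAt_X₂ i (K.exactAt_of_isLE n i (by lia)) (hX3 i (by lia))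
  · refine finite_of_exact (hS.homology_exact₂ i) (hK i) ?_
    apply finite_homology_of_finite_X
    exact finite_single_X (ModuleCat.of A (Fin k → A)) inferInstance n (i + 1)

end Groth.Agent.LoccohB.ConeRes
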