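import Groth.Agent.CalgB.PsCoh
import Groth.Agent.LoccohB.ConeRes
import Groth.Prelude.Def_DRing2
import Mathlib.Algebra.Homology.DerivedCategory.HomologySequence

/-!
# Pseudo-coherence over Noetherian rings

`isPseudoCoherent'_of_noetherian`: bounded above with finite cohomology implies pseudo-coherent.
-/

set_option autoImplicit false

universe u

open CategoryTheory CategoryTheory.Limits Pretriangulated DerivedCategory

attribute [local instance] HasDerivedCategory.standard

namespace Groth.Agent.LoccohB.PCNoeth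

open CalgB.PsCoh CalgB.PsCohGen CalgB.DerRes

variable {A : Type u} [CommRing A]

/-- Objects with finite cohomology. -/
def FinCoh (K : Dual.D A) : Prop := ∀ i : ℤ, Module.Finite A (Dual.HD A K i)

lemma finCoh_obj₃ [IsNoetherianRing A] {T : Triangle (Dual.D A)} (hT : T ∈ distTriang (Dual.D A))
    (h1 : FinCoh T.obj₁) (h2 : FinCoh T.obj₂) : FinCoh T.obj₃ := fun i =>
  ConeRes.finite_of_exact (HomologySequence.exact₃ T hT i (i + 1) rfl) (h2 i) (h1 (i + 1))

lemma resolutionData [IsNoetherianRing A] : ResolutionData (ffree A) (fun K : Dual.D A => FinCoh K) where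
  P_iso := (isProjClass_ffree A).iso
  P_zero := (isProjClass_ffree A).zero
  P_sum := (isProjClass_ffree A).sum
  P_proj := (isProjClass_ffree A).proj
  T_iso e h i := ConeRes.finite_of_iso ((homologyFunctor _ i).mapIso e) (h i)
  T_top n h _ := exists_epi_of_finite _ (h n)
  T_cone {Δ} n F hΔ hF e h2 h := finCoh_obj₃ hΔ (fun i => by
    refine ConeRes.finite_of_iso ((homologyFunctor _ i).mapIso e.symm) ?_
    by_cases hi : i = n
    · subst hi
      exact ConeRes.finite_of_iso ((singleFunctorCompHomologyFunctorIso _ i).symm.app F) hF.1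
    · apply ConeRes.finite_of_isZero
      rcases lt_or_gt_of_ne hi with h | h
      · exact isZero_of_isGE _ n i h
      · exact isZero_of_isLE _ n i h) h

theorem isPseudoCoherent'_of_noetherian [IsNoetherianRing A] (K : Dual.D A) (b : ℤ) [hb : K.IsLE b]
    (hK : ∀ i : ℤ, Module.Finite A (Dual.HD A K i)) : DRing.IsPseudoCoherent' A K := by
  obtain ⟨L, ⟨e⟩⟩ : ∃ L, Nonempty (Q.obj L ≅ K) := ⟨_, ⟨Q.objObjPreimageIso K⟩⟩
  have hL : (Q.obj L).IsLE b :=
    (TStructure.t : Triangulated.TStructure (Dual.D A)).isLE_of_iso e.symm b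
  obtain ⟨E, f, hf, hE, hEb⟩ := exists_resolution (resolutionData (A := A)) L b
    (fun i => ConeRes.finite_of_iso ((homologyFunctor _ i).mapIso e.symm) (hK i)) hL
  exact ⟨E, b, hEb, hE, ⟨asIso (Q.map f) ≪≫ e⟩⟩

theorem isPseudoCoherent'_of_noetherian' [IsNoetherianRing A] (K : Dual.D A) (b : ℤ)
    (hb : ∀ i : ℤ, b < i → Subsingleton (Dual.HD A K i))
    (hK : ∀ i : ℤ, Module.Finite A (Dual.HD A K i)) : DRing.IsPseudoCoherent' A K := by
  have : K.IsLE b := by
    rw [isLE_iff]
    intro i hi
    have := hb i hi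
    exact ModuleCat.isZero_of_subsingleton _
  exact isPseudoCoherent'_of_noetherian K b hK

end Groth.Agent.LoccohB.PCNoeth
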