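import Groth.Agent.LoccohB.KDer
import Groth.Prelude.Def_DRing2
import Mathlib.Algebra.Homology.HomotopyCategory.MappingCone
import Mathlib.Algebra.Category.ModuleCat.Biproducts
import Mathlib.Algebra.Category.ModuleCat.Projective
import Mathlib.RingTheory.Finiteness.Prod
import Mathlib.LinearAlgebra.FreeModule.Basic

/-!
# Perfect objects of `D(A)` (in the sense of `DRing.IsPerfect`) are closed under cones and shifts

`isPerfect_of_iso`, `isPerfect_shift`, `isPerfect_obj₁/₂/₃`, `isPerfect_inD_of_projective`,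
`isPerfect_inD_of_exact`; the same for `DRing.IsPseudoCoherent'`.
-/

set_option autoImplicit false

universe u

open CategoryTheory CategoryTheory.Limits Pretriangulated DerivedCategory

attribute [local instance] HasDerivedCategory.standard

namespace Groth.Agent.LoccohB.PerfTri

variable {A : Type u} [CommRing A]

/-- A class of bounded above complexes of projectives which is stable under shifts and cones. -/
structure GoodClass (A : Type u) [CommRing A] (C : DRing.Cx A → Prop) : Prop where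
  kproj : ∀ E, C E → E.IsKProjective
  shift : ∀ E (n : ℤ), C E → C (E⟦n⟧)
  cone : ∀ E F (f : E ⟶ F), C E → C F → C (CochainComplex.mappingCone f)

/-- The corresponding class of objects of the derived category. -/
def InClass (C : DRing.Cx A → Prop) (K : Dual.D A) : Prop := ∃ E, C E ∧ Nonempty (DRing.toD E ≅ K)

lemma inClass_of_iso {C : DRing.Cx A → Prop} {K L : Dual.D A} (e : K ≅ L) (h : InClass C K) :
    InClass C L := by
  obtain ⟨E, hE, ⟨i⟩⟩ := h
  exact ⟨E, hE, ⟨i ≪≫ e⟩⟩

lemma inClass_shift {C : DRing.Cx A → Prop} (hC : GoodClass A C) {K : Dual.D A} (n : ℤ)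
    (h : InClass C K) : InClass C (K⟦n⟧) := by
  obtain ⟨E, hE, ⟨i⟩⟩ := h
  exact ⟨E⟦n⟧, hC.shift E n hE, ⟨(DerivedCategory.Q.commShiftIso n).app E ≪≫
    (shiftFunctor (Dual.D A) n).mapIso i⟩⟩

lemma inClass_of_shift {C : DRing.Cx A → Prop} (hC : GoodClass A C) {K : Dual.D A} (n : ℤ)
    (h : InClass C (K⟦n⟧)) : InClass C K :=
  inClass_of_iso ((shiftEquiv (Dual.D A) n).unitIso.symm.app K) (inClass_shift hC (-n) h)

lemma inClass_obj₃ {C : DRing.Cx A → Prop} (hC : GoodClass A C) {T : Triangle (Dual.D A)}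
    (hT : T ∈ distTriang (Dual.D A)) (h1 : InClass C T.obj₁) (h2 : InClass C T.obj₂) :
    InClass C T.obj₃ := by
  obtain ⟨E, hE, ⟨i⟩⟩ := h1
  obtain ⟨F, hF, ⟨j⟩⟩ := h2
  have := hC.kproj E hE
  obtain ⟨f, hf⟩ := KDer.liftsFrom_Q E (i.hom ≫ T.mor₁ ≫ j.inv)
  have h := DerivedCategory.mappingCone_triangle_distinguished f
  have e := isoTriangleOfIso₁₂ _ _ h hT i j (by
    change DerivedCategory.Q.map f ≫ j.hom = i.hom ≫ T.mor₁
    erw [hf]; simp)
  exact ⟨CochainComplex.mappingCone f, hC.cone E F f hE hF, ⟨Triangle.π₃.mapIso e⟩⟩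

lemma inClass_obj₂ {C : DRing.Cx A → Prop} (hC : GoodClass A C) {T : Triangle (Dual.D A)}
    (hT : T ∈ distTriang (Dual.D A)) (h1 : InClass C T.obj₁) (h3 : InClass C T.obj₃) :
    InClass C T.obj₂ :=
  inClass_obj₃ hC (inv_rot_of_distTriang _ hT) (inClass_shift hC (-1) h3) h1

lemma inClass_obj₁ {C : DRing.Cx A → Prop} (hC : GoodClass A C) {T : Triangle (Dual.D A)}
    (hT : T ∈ distTriang (Dual.D A)) (h2 : InClass C T.obj₂) (h3 : InClass C T.obj₃) :
    InClass C T.obj₁ :=
  inClass_of_shift hC 1 (inClass_obj₃ hC (rot_of_distTriang _ hT) h2 h3)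

/-! ### Perfect complexes -/

/-- bounded complexes of finite projective modules -/
def PerfCx (E : DRing.Cx A) : Prop :=
  ∃ a b : ℤ, DRing.VanishesOutside E a b ∧ DRing.TermwiseFiniteProjective E

/-- bounded above complexes of finite free modules -/
def PCCx (E : DRing.Cx A) : Prop :=
  ∃ b : ℤ, DRing.VanishesAbove E b ∧ DRing.TermwiseFiniteFree E

lemma isKProjective_of_vanishesAbove {E : DRing.Cx A} {b : ℤ} (h : DRing.VanishesAbove E b)
    (hE : ∀ i, Module.Projective A (E.X i)) : E.IsKProjective := by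
  have : E.IsStrictlyLE b := by
    rw [CochainComplex.isStrictlyLE_iff]
    exact fun i hi => h i hi
  have (n : ℤ) : Projective (E.X n) := by
    have := hE n
    exact (IsProjective.iff_projective (E.X n)).1 this
  exact CochainComplex.isKProjective_of_projective E b

noncomputable def coneEquiv {E F : DRing.Cx A} (f : E ⟶ F) (n : ℤ) :
    ((CochainComplex.mappingCone f).X n) ≃ₗ[A] (E.X (n + 1) × F.X n) :=
  (HomologicalComplex.homotopyCofiber.XIsoBiprod f n (n + 1) rfl ≪≫
    ModuleCat.biprodIsoProd _ _).toLinearEquiv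

lemma finite_cone {E F : DRing.Cx A} (f : E ⟶ F) (n : ℤ)
    [Module.Finite A (E.X (n + 1))] [Module.Finite A (F.X n)] :
    Module.Finite A ((CochainComplex.mappingCone f).X n) :=
  Module.Finite.equiv (coneEquiv f n).symm

lemma projective_cone {E F : DRing.Cx A} (f : E ⟶ F) (n : ℤ)
    [Module.Projective A (E.X (n + 1))] [Module.Projective A (F.X n)] :
    Module.Projective A ((CochainComplex.mappingCone f).X n) :=
  Module.Projective.of_equiv (coneEquiv f n).symm

lemma free_cone {E F : DRing.Cx A} (f : E ⟶ F) (n : ℤ)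
    [Module.Free A (E.X (n + 1))] [Module.Free A (F.X n)] :
    Module.Free A ((CochainComplex.mappingCone f).X n) :=
  Module.Free.of_equiv (coneEquiv f n).symm

theorem isZero_mappingCone_X {E F : DRing.Cx A} (φ : E ⟶ F) (n : ℤ) (hE : IsZero (E.X (n + 1)))
    (hF : IsZero (F.X n)) : IsZero ((CochainComplex.mappingCone φ).X n) := by
  refine IsZero.of_iso ?_ (HomologicalComplex.homotopyCofiber.XIsoBiprod φ n (n + 1) rfl)
  exact biprod_isZero_iff _ _ |>.2 ⟨hE, hF⟩

lemma goodClass_perfCx : GoodClass A PerfCx where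
  kproj E := by
    rintro ⟨a, b, h, h'⟩
    exact isKProjective_of_vanishesAbove (fun i hi => h i (Or.inr hi)) (fun i => (h' i).2)
  shift E n := by
    rintro ⟨a, b, h, h'⟩
    exact ⟨a - n, b - n, fun i hi => h (i + n) (by omega), fun i => h' (i + n)⟩
  cone E F f := by
    rintro ⟨a, b, h, hE⟩ ⟨a', b', h', hF⟩
    refine ⟨min a a' - 1, max b b', fun i hi => ?_, fun i => ?_⟩
    · exact isZero_mappingCone_X f i (h _ (by omega)) (h' _ (by omega))
    · have := (hE (i + 1)).1
      have := (hE (i + 1)).2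
      have := (hF i).1
      have := (hF i).2
      exact ⟨finite_cone f i, projective_cone f i⟩

lemma goodClass_pcCx : GoodClass A PCCx where
  kproj E := by
    rintro ⟨b, h, h'⟩
    exact isKProjective_of_vanishesAbove h (fun i => by
      have := (h' i).2
      infer_instance)
  shift E n := by
    rintro ⟨b, h, h'⟩
    exact ⟨b - n, fun i hi => h (i + n) (by omega), fun i => h' (i + n)⟩
  cone E F f := by
    rintro ⟨b, h, hE⟩ ⟨b', h', hF⟩
    refine ⟨max b b', fun i hi => ?_, fun i => ?_⟩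
    · exact isZero_mappingCone_X f i (h _ (by omega)) (h' _ (by omega))
    · have := (hE (i + 1)).1
      have := (hE (i + 1)).2
      have := (hF i).1
      have := (hF i).2
      exact ⟨finite_cone f i, free_cone f i⟩

lemma isPerfect_iff_inClass (K : Dual.D A) : DRing.IsPerfect A K ↔ InClass PerfCx K := by
  constructor
  · rintro ⟨E, a, b, h, h', e⟩
    exact ⟨E, ⟨a, b, h, h'⟩, e⟩
  · rintro ⟨E, ⟨a, b, h, h'⟩, e⟩
    exact ⟨E, a, b, h, h', e⟩

lemma isPseudoCoherent'_iff_inClass (K : Dual.D A) :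
    DRing.IsPseudoCoherent' A K ↔ InClass PCCx K := by
  constructor
  · rintro ⟨E, b, h, h', e⟩
    exact ⟨E, ⟨b, h, h'⟩, e⟩
  · rintro ⟨E, ⟨b, h, h'⟩, e⟩
    exact ⟨E, b, h, h', e⟩

variable {K L : Dual.D A} {T : Triangle (Dual.D A)}

theorem isPerfect_of_iso (e : K ≅ L) (h : DRing.IsPerfect A K) : DRing.IsPerfect A L := by
  rw [isPerfect_iff_inClass] at h ⊢
  exact inClass_of_iso e h

theorem isPerfect_shift (n : ℤ) (h : DRing.IsPerfect A K) : DRing.IsPerfect A (K⟦n⟧) := by
  rw [isPerfect_iff_inClass] at h ⊢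
  exact inClass_shift goodClass_perfCx n h

theorem isPerfect_of_shift (n : ℤ) (h : DRing.IsPerfect A (K⟦n⟧)) : DRing.IsPerfect A K := by
  rw [isPerfect_iff_inClass] at h ⊢
  exact inClass_of_shift goodClass_perfCx n h

theorem isPerfect_obj₃ (hT : T ∈ distTriang (Dual.D A)) (h1 : DRing.IsPerfect A T.obj₁)
    (h2 : DRing.IsPerfect A T.obj₂) : DRing.IsPerfect A T.obj₃ := by
  rw [isPerfect_iff_inClass] at h1 h2 ⊢
  exact inClass_obj₃ goodClass_perfCx hT h1 h2

theorem isPerfect_obj₂ (hT : T ∈ distTriang (Dual.D A)) (h1 : DRing.IsPerfect A T.obj₁)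
    (h3 : DRing.IsPerfect A T.obj₃) : DRing.IsPerfect A T.obj₂ := by
  rw [isPerfect_iff_inClass] at h1 h3 ⊢
  exact inClass_obj₂ goodClass_perfCx hT h1 h3

theorem isPerfect_obj₁ (hT : T ∈ distTriang (Dual.D A)) (h2 : DRing.IsPerfect A T.obj₂)
    (h3 : DRing.IsPerfect A T.obj₃) : DRing.IsPerfect A T.obj₁ := by
  rw [isPerfect_iff_inClass] at h2 h3 ⊢
  exact inClass_obj₁ goodClass_perfCx hT h2 h3

theorem isPseudoCoherent'_of_iso (e : K ≅ L) (h : DRing.IsPseudoCoherent' A K) :
    DRing.IsPseudoCoherent' A L := by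
  rw [isPseudoCoherent'_iff_inClass] at h ⊢
  exact inClass_of_iso e h

theorem isPseudoCoherent'_shift (n : ℤ) (h : DRing.IsPseudoCoherent' A K) :
    DRing.IsPseudoCoherent' A (K⟦n⟧) := by
  rw [isPseudoCoherent'_iff_inClass] at h ⊢
  exact inClass_shift goodClass_pcCx n h

theorem isPseudoCoherent'_of_shift (n : ℤ) (h : DRing.IsPseudoCoherent' A (K⟦n⟧)) :
    DRing.IsPseudoCoherent' A K := by
  rw [isPseudoCoherent'_iff_inClass] at h ⊢
  exact inClass_of_shift goodClass_pcCx n h

theorem isPseudoCoherent'_obj₃ (hT : T ∈ distTriang (Dual.D A))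
    (h1 : DRing.IsPseudoCoherent' A T.obj₁)
    (h2 : DRing.IsPseudoCoherent' A T.obj₂) : DRing.IsPseudoCoherent' A T.obj₃ := by
  rw [isPseudoCoherent'_iff_inClass] at h1 h2 ⊢
  exact inClass_obj₃ goodClass_pcCx hT h1 h2

theorem isPseudoCoherent'_obj₂ (hT : T ∈ distTriang (Dual.D A))
    (h1 : DRing.IsPseudoCoherent' A T.obj₁)
    (h3 : DRing.IsPseudoCoherent' A T.obj₃) : DRing.IsPseudoCoherent' A T.obj₂ := by
  rw [isPseudoCoherent'_iff_inClass] at h1 h3 ⊢
  exact inClass_obj₂ goodClass_pcCx hT h1 h3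

theorem isPseudoCoherent'_obj₁ (hT : T ∈ distTriang (Dual.D A))
    (h2 : DRing.IsPseudoCoherent' A T.obj₂)
    (h3 : DRing.IsPseudoCoherent' A T.obj₃) : DRing.IsPseudoCoherent' A T.obj₁ := by
  rw [isPseudoCoherent'_iff_inClass] at h2 h3 ⊢
  exact inClass_obj₁ goodClass_pcCx hT h2 h3

/-! ### Modules -/

lemma vanishesOutside_single (M : Type u) [AddCommGroup M] [Module A M] (n : ℤ) :
    DRing.VanishesOutside
      ((HomologicalComplex.single (ModuleCat.{u} A) (ComplexShape.up ℤ) n).obj (ModuleCat.of A M))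
      n n := fun i hi =>
  HomologicalComplex.isZero_single_obj_X _ _ _ _ (by omega)

lemma single_X (M : Type u) [AddCommGroup M] [Module A M] (n i : ℤ) :
    (i = n ∧ Nonempty (((HomologicalComplex.single (ModuleCat.{u} A) (ComplexShape.up ℤ) n).obj
      (ModuleCat.of A M)).X i ≃ₗ[A] M)) ∨
    Subsingleton (((HomologicalComplex.single (ModuleCat.{u} A) (ComplexShape.up ℤ) n).obj
      (ModuleCat.of A M)).X i) := by
  by_cases h : i = n
  · subst h
    exact Or.inl ⟨rfl, ⟨(HomologicalComplex.singleObjXSelf _ i _).toLinearEquiv⟩⟩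
  · exact Or.inr (ModuleCat.subsingleton_of_isZero
      (HomologicalComplex.isZero_single_obj_X _ _ _ _ h))

lemma termwiseFiniteProjective_single (M : Type u) [AddCommGroup M] [Module A M] (n : ℤ)
    [Module.Finite A M] [Module.Projective A M] :
    DRing.TermwiseFiniteProjective
      ((HomologicalComplex.single (ModuleCat.{u} A) (ComplexShape.up ℤ) n).obj
        (ModuleCat.of A M)) := by
  intro i
  obtain ⟨-, ⟨e⟩⟩ | h := single_X (A := A) M n i
  · exact ⟨Module.Finite.equiv e.symm, Module.Projective.of_equiv e.symm⟩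
  · exact ⟨inferInstance, inferInstance⟩

lemma termwiseFiniteFree_single (M : Type u) [AddCommGroup M] [Module A M] (n : ℤ)
    [Module.Finite A M] [Module.Free A M] :
    DRing.TermwiseFiniteFree
      ((HomologicalComplex.single (ModuleCat.{u} A) (ComplexShape.up ℤ) n).obj
        (ModuleCat.of A M)) := by
  intro i
  obtain ⟨-, ⟨e⟩⟩ | h := single_X (A := A) M n i
  · exact ⟨Module.Finite.equiv e.symm, Module.Free.of_equiv e.symm⟩
  · exact ⟨inferInstance, inferInstance⟩

theorem isPerfect_inD_of_projective (M : Type u) [AddCommGroup M] [Module A M]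
    [Module.Finite A M] [Module.Projective A M] : DRing.IsPerfect A (Dual.inD A M) :=
  ⟨_, 0, 0, vanishesOutside_single M 0, termwiseFiniteProjective_single M 0, ⟨Iso.refl _⟩⟩

theorem isPseudoCoherent'_inD_of_free (M : Type u) [AddCommGroup M] [Module A M]
    [Module.Finite A M] [Module.Free A M] : DRing.IsPseudoCoherent' A (Dual.inD A M) :=
  ⟨_, 0, fun i hi => vanishesOutside_single M 0 i (Or.inr hi), termwiseFiniteFree_single M 0,
    ⟨Iso.refl _⟩⟩

section Exact

variable {M' M M'' : Type u} [AddCommGroup M'] [Module A M'] [AddCommGroup M] [Module A M]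
  [AddCommGroup M''] [Module A M''] (f : M' →ₗ[A] M) (g : M →ₗ[A] M'')
  (hf : Function.Injective f) (hfg : Function.Exact f g) (hg : Function.Surjective g)

include hf hfg hg

/-- A short exact sequence of modules yields a distinguished triangle. -/
lemma exists_triangle : ∃ T ∈ distTriang (Dual.D A), T.obj₁ = Dual.inD A M' ∧
    T.obj₂ = Dual.inD A M ∧ T.obj₃ = Dual.inD A M'' := by
  let S : ShortComplex (ModuleCat.{u} A) :=
    ShortComplex.mk (ModuleCat.ofHom f) (ModuleCat.ofHom g) (by
      ext x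
      exact hfg.apply_apply_eq_zero x)
  have hS : S.ShortExact :=
    { exact := (ShortComplex.ShortExact.moduleCat_exact_iff_function_exact S).2 hfg
      mono_f := (ModuleCat.mono_iff_injective _).2 hf
      epi_g := (ModuleCat.epi_iff_surjective _).2 hg }
  exact ⟨_, hS.singleTriangle_distinguished, rfl, rfl, rfl⟩

theorem isPerfect_right (h' : DRing.IsPerfect A (Dual.inD A M'))
    (h : DRing.IsPerfect A (Dual.inD A M)) : DRing.IsPerfect A (Dual.inD A M'') := by
  obtain ⟨T, hT, h1, h2, h3⟩ := exists_triangle f g hf hfg hg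
  rw [← h3]
  exact isPerfect_obj₃ hT (by rwa [h1]) (by rwa [h2])

theorem isPerfect_mid (h' : DRing.IsPerfect A (Dual.inD A M'))
    (h'' : DRing.IsPerfect A (Dual.inD A M'')) : DRing.IsPerfect A (Dual.inD A M) := by
  obtain ⟨T, hT, h1, h2, h3⟩ := exists_triangle f g hf hfg hg
  rw [← h2]
  exact isPerfect_obj₂ hT (by rwa [h1]) (by rwa [h3])

theorem isPerfect_left (h : DRing.IsPerfect A (Dual.inD A M))
    (h'' : DRing.IsPerfect A (Dual.inD A M'')) : DRing.IsPerfect A (Dual.inD A M') := by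
  obtain ⟨T, hT, h1, h2, h3⟩ := exists_triangle f g hf hfg hg
  rw [← h1]
  exact isPerfect_obj₁ hT (by rwa [h2]) (by rwa [h3])

end Exact

/-- `inD` is functorial for linear equivalences. -/
noncomputable def inDIso {M N : Type u} [AddCommGroup M] [Module A M] [AddCommGroup N] [Module A N]
    (e : M ≃ₗ[A] N) : Dual.inD A M ≅ Dual.inD A N :=
  (DerivedCategory.singleFunctor (ModuleCat.{u} A) 0).mapIso e.toModuleIso

end Groth.Agent.LoccohB.PerfTri
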