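import Groth.Agent.LoccohB.AdBound
import Groth.Agent.LoccohB.PerfTri
import Groth.Agent.LoccohB.PCNoeth
import Groth.Agent.PerfB.BoundedInd
import Groth.Agent.CalgB.DerTri

/-!
# Coherence of the values of coproduct preserving triangulated functors `D_QCoh(Spec R) ⥤ D_QCoh(X)`

`isCohD_Φ`: if `a` preserves coproducts, is bounded on the left, `a(O)` is coherent and bounded above,
then `a(M~)` is coherent for `M ∈ D^+(R)` with finite cohomology, `R` Noetherian.
-/

set_option autoImplicit false

universe u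

open CategoryTheory CategoryTheory.Limits AlgebraicGeometry Pretriangulated

attribute [local instance] HasDerivedCategory.standard

namespace Groth.Agent.LoccohB.AdCoh

open DerivedCategory AdAffine AdBound DBase

section Free

variable {R : Type u} [CommRing R] (S : ObjectProperty (Dual.D R)) [S.IsTriangulated]
  [S.IsClosedUnderIsomorphisms]

lemma prop_finite_free (h : S (sg R 0 R)) (n : ℕ) : S (sg R 0 (Fin n → R)) := by
  induction n with
  | zero =>
    obtain ⟨Z, hZ, hZ'⟩ := S.exists_prop_of_containsZero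
    refine S.prop_of_iso (hZ.iso ?_) hZ'
    exact (singleFunctor (ModuleCat.{u} R) 0).map_isZero (ModuleCat.isZero_of_subsingleton _)
  | succ n ih =>
    let e : (R × (Fin n → R)) ≃ₗ[R] (Fin (n + 1) → R) := Fin.consLinearEquiv R (fun _ => R)
    refine S.prop_of_iso (PerfTri.inDIso e) ?_
    obtain ⟨T, hT, h1, h2, h3⟩ := PerfTri.exists_triangle (LinearMap.inl R R (Fin n → R))
      (LinearMap.snd R R (Fin n → R)) LinearMap.inl_injective
      (fun x => by
        constructor
        · intro hx
          exact ⟨x.1, Prod.ext rfl hx.symm⟩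
        · rintro ⟨y, rfl⟩
          rfl) LinearMap.snd_surjective
    have h4 := S.ext_of_isTriangulatedClosed₂ T hT (by rw [h1]; exact h) (by rw [h3]; exact ih)
    rwa [h2] at h4

end Free

lemma isIso_homology_of_isZero {C : Type*} [Category* C] [Abelian C] [HasDerivedCategory C]
    (T : Triangle (DerivedCategory C)) (hT : T ∈ distTriang _)
    (i : ℤ) (h : IsZero ((homologyFunctor C (i - 1)).obj T.obj₃))
    (h' : IsZero ((homologyFunctor C i).obj T.obj₃)) :
    IsIso ((homologyFunctor C i).map T.mor₁) := by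
  have h1 : Epi ((homologyFunctor C i).map T.mor₁) :=
    (HomologySequence.epi_homologyMap_mor₁_iff T hT i).2 (h'.eq_of_tgt _ _)
  have h2 : Mono ((homologyFunctor C i).map T.mor₁) :=
    (HomologySequence.mono_homologyMap_mor₁_iff T hT (i - 1) i (by omega)).2 (h.eq_of_src _ _)
  exact isIso_of_mono_of_epi _

variable {R : CommRingCat.{u}} {X : Scheme.{u}} (a : DCoh.DQCoh (Spec R) ⥤ DCoh.DQCoh X)
  [a.CommShift ℤ] [a.IsTriangulated] [IsLocallyNoetherian X]

/-- The objects with coherent image. -/
def CP : ObjectProperty (Dual.D R) := (DCoh.IsCohD (X := X)).inverseImage (Φ a)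

instance : (CP a).IsTriangulated := by unfold CP; infer_instance
instance : (CP a).IsClosedUnderIsomorphisms := by unfold CP; infer_instance

lemma cp_projective (h : CP a (sg R 0 R)) (P : ModuleCat.{u} R) (hf : Module.Finite R P)
    (hp : Module.Projective R P) : CP a ((singleFunctor (ModuleCat.{u} R) 0).obj P) := by
  obtain ⟨r, f, hf'⟩ := Module.Finite.exists_fin' R P
  obtain ⟨s, hs⟩ := Module.projective_lifting_property f LinearMap.id hf'
  refine PerfA.QCohD.isCohD_of_retract
    ((Φ a).map ((singleFunctor (ModuleCat.{u} R) 0).map (ModuleCat.ofHom s)))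
    ((Φ a).map ((singleFunctor (ModuleCat.{u} R) 0).map (ModuleCat.ofHom f))) ?_
    (prop_finite_free (CP a) h r)
  rw [← Functor.map_comp, ← Functor.map_comp, ← ModuleCat.ofHom_comp, hs]
  exact (congrArg _ (CategoryTheory.Functor.map_id _ _)).trans (CategoryTheory.Functor.map_id _ _)

lemma cp_bounded (h : CP a (sg R 0 R)) (E : DRing.Cx R) (p q : ℤ) (hE : DRing.VanishesOutside E p q)
    (hE' : DRing.TermwiseFiniteProjective E) : CP a (DRing.toD E) :=
  PerfB.BoundedInd.bounded_induction (CP a) E p q hE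
    (fun i => cp_projective a h (E.X i) (hE' i).1 (hE' i).2)

variable [∀ J : Type u, PreservesColimitsOfShape (Discrete J) a]

lemma cp_pseudoCoherent (h : CP a (sg R 0 R)) (m : ℤ) (hm : ((Φ a).obj (sg R 0 R)).IsLE m)
    (M : Dual.D R) (hM : DRing.IsPseudoCoherent' R M) : CP a M := by
  obtain ⟨E, b, h1, h2, ⟨e⟩⟩ := hM
  refine (CP a).prop_of_iso e ?_
  intro i
  let k : ℤ := i - m - 1
  let F := CalgB.DerTri.sge E k
  let f := CalgB.DerTri.sgeHom E k
  have hF : CP a (DRing.toD F) := by
    refine cp_bounded a h F k b ?_ ?_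
    · rintro j (hj | hj)
      · exact CalgB.DerTri.sge_isZero E k j hj
      · by_cases hjk : k ≤ j
        · exact (h1 j hj).of_iso (CalgB.DerTri.sgeXIso E k j hjk)
        · exact CalgB.DerTri.sge_isZero E k j (by omega)
    · intro j
      by_cases hjk : k ≤ j
      · have := (h2 j).1
        have := (h2 j).2
        exact ⟨Module.Finite.equiv (CalgB.DerTri.sgeXIso E k j hjk).toLinearEquiv.symm,
          Module.Projective.of_equiv (CalgB.DerTri.sgeXIso E k j hjk).toLinearEquiv.symm⟩
      · have hz := CalgB.DerTri.sge_isZero E k j (by omega)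
        have : Subsingleton (F.X j) := ModuleCat.subsingleton_of_isZero hz
        exact ⟨inferInstance, inferInstance⟩
  obtain ⟨Z, g, w, hT⟩ := distinguished_cocone_triangle (Q.map f)
  have hZ : Z.IsLE (k - 1) := by
    refine (CalgB.DerTri.isLE_obj₃_iff hT k (k - 1) (by ring)).2 ⟨?_, ?_⟩
    · intro i hi
      exact (CalgB.DerTri.isIso_homologyFunctor_map_Q_iff f i).2
        (CalgB.DerTri.quasiIsoAt_sgeHom E k i hi)
    · exact (CalgB.DerTri.epi_homologyFunctor_map_Q_iff f k).2
        (CalgB.DerTri.epi_homologyMap_sgeHom E k)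
  have hΦZ : ((Φ a).obj Z).IsLE (k - 1 + m) := isLE_Φ a m hm Z (k - 1)
  have hT' := (Φ a).map_distinguished _ hT
  have h3 : IsIso ((homologyFunctor X.Modules i).map ((Φ a).map (Q.map f))) :=
    isIso_homology_of_isZero _ hT' i (isZero_of_isLE ((Φ a).obj Z) (k - 1 + m) _ (by simp only [k]; lia))
      (isZero_of_isLE ((Φ a).obj Z) (k - 1 + m) _ (by simp only [k]; lia))
  exact PerfA.CohSerre.isCoh_of_iso (asIso ((homologyFunctor X.Modules i).map ((Φ a).map (Q.map f))))
    (hF i)

/-- Coherence of `a(M~)` for `M ∈ D^+_Coh(R)`. -/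
theorem isCohD_Φ [IsNoetherianRing R] (h : DCoh.IsCohD ((Φ a).obj (sg R 0 R))) (m : ℤ)
    (hm : ((Φ a).obj (sg R 0 R)).IsLE m) (N : ℤ)
    (hN : ∀ (M : Dual.D R) (c : ℤ), M.IsGE c → ((Φ a).obj M).IsGE (c - N))
    (M : Dual.D R) (hM : ∀ i : ℤ, Module.Finite R (Dual.HD R M i)) :
    DCoh.IsCohD ((Φ a).obj M) := by
  intro i
  let t : Triangulated.TStructure (Dual.D R) := TStructure.t
  let k : ℤ := i + N + 2
  let T := (t.triangleLTGE k).obj M
  have hT : T ∈ distTriang _ := t.triangleLTGE_distinguished k M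
  have hGE : ((t.truncGE k).obj M).IsGE k := inferInstanceAs (t.IsGE ((t.truncGE k).obj M) k)
  have hLT : ((t.truncLT k).obj M).IsLE (k - 1) :=
    inferInstanceAs (t.IsLE ((t.truncLT k).obj M) (k - 1))
  have hfin : ∀ j : ℤ, Module.Finite R (Dual.HD R ((t.truncLT k).obj M) j) := by
    intro j
    by_cases hj : j < k
    · have h4 : IsIso ((homologyFunctor (ModuleCat.{u} R) j).map T.mor₁) :=
        isIso_homology_of_isZero T hT j
          (isZero_of_isGE ((t.truncGE k).obj M) k _ (by lia))
          (isZero_of_isGE ((t.truncGE k).obj M) k _ hj)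
      exact ConeRes.finite_of_iso
        (@asIso _ _ _ _ ((homologyFunctor (ModuleCat.{u} R) j).map T.mor₁) h4).symm (hM j)
    · have : Subsingleton (Dual.HD R ((t.truncLT k).obj M) j) :=
        ModuleCat.subsingleton_of_isZero
          (isZero_of_isLE ((t.truncLT k).obj M) (k - 1) j (by lia))
      infer_instance
  have h1 : CP a ((t.truncLT k).obj M) := cp_pseudoCoherent a h m hm _
    (PCNoeth.isPseudoCoherent'_of_noetherian _ (k - 1) hfin)
  have hT' := (Φ a).map_distinguished _ hT
  have h2 : ((Φ a).obj ((t.truncGE k).obj M)).IsGE (k - N) := hN _ k hGE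
  have h3 : IsIso ((homologyFunctor X.Modules i).map ((Φ a).map T.mor₁)) :=
    isIso_homology_of_isZero _ hT' i
      (isZero_of_isGE ((Φ a).obj ((t.truncGE k).obj M)) (k - N) _ (by simp only [k]; lia))
      (isZero_of_isGE ((Φ a).obj ((t.truncGE k).obj M)) (k - N) _ (by simp only [k]; lia))
  exact PerfA.CohSerre.isCoh_of_iso
    (@asIso _ _ _ _ ((homologyFunctor X.Modules i).map ((Φ a).map T.mor₁)) h3) (h1 i)

end Groth.Agent.LoccohB.AdCoh
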