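import Groth.Agent.S1824
import Groth.Agent.PerfA.QCohD
import Groth.Agent.Ega3B.TwistCoh

/-!
# The relative dualizing complex of projective space is coherent

* `aO_coh`: for `R` Noetherian, `π : P^n_R ⟶ Spec R` and `a` the right adjoint of `Rπ_*` on `D_QCoh`, `a(O)` has
  coherent cohomology, is `≤ -n` and `≥ -n` (from S1824).
-/

set_option autoImplicit false
set_option backward.isDefEq.respectTransparency false

universe u

open CategoryTheory CategoryTheory.Limits AlgebraicGeometry Pretriangulated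

attribute [local instance] HasDerivedCategory.standard

namespace Groth.Agent.LoccohB.AdPn704

theorem isCoh_twistProjSpace (n : ℕ) (R : Type u) [CommRing R] [IsNoetherianRing R] (d : ℤ) :
    Coh.IsCoh (Twist.twistProjSpace n R d) :=
  Ega3B.TwistCoh.isCoh_twist (CohB1.polyGrading n R) d

/-- The shifted twisting sheaf. -/
theorem isCohD_twist (n : ℕ) (R : Type u) [CommRing R] [IsNoetherianRing R] (d m : ℤ) :
    DCoh.IsCohD ((DCoh.inD (CohB1.ProjSpace n R) (Twist.twistProjSpace n R d))⟦m⟧) :=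
  PerfA.QCohD.isCohD_shift (PerfA.QCohD.isCohD_inD _ (isCoh_twistProjSpace n R d)) m

section

variable (n : ℕ) (R : Type u) [CommRing R] [DCoh.HasRpush (CohB1.ProjSpace.toSpec n R)]
  (h : ∀ K : DCoh.D (CohB1.ProjSpace n R), DCoh.IsQCohD K →
    DCoh.IsQCohD ((DCoh.Rpush (CohB1.ProjSpace.toSpec n R)).obj K))
  (a : DCoh.DQCoh (Spec (CommRingCat.of R)) ⥤ DCoh.DQCoh (CohB1.ProjSpace n R))
  (adj : (ObjectProperty.lift DCoh.IsQCohD (ObjectProperty.ι DCoh.IsQCohD ⋙
    DCoh.Rpush (CohB1.ProjSpace.toSpec n R)) (fun K => h K.obj K.property)) ⊣ a)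
  (O : DCoh.DQCoh (Spec (CommRingCat.of R)))
  (hO : Nonempty (O.obj ≅ DCoh.inD (Spec (CommRingCat.of R)) (Coh.structureModule (Spec (CommRingCat.of R)))))

include adj hO

theorem aO_isLE : (a.obj O).obj.IsLE (-(n : ℤ)) := by
  obtain ⟨e⟩ := S1824.result n R h a adj O hO
  have h1 : ((DCoh.inD (CohB1.ProjSpace n R) (Twist.twistProjSpace n R (-((n : ℤ) + 1))))⟦(n : ℤ)⟧).IsLE (-(n : ℤ)) :=
    DerivedCategory.TStructure.t.isLE_shift _ 0 (n : ℤ) (-(n : ℤ)) (by lia)
  exact DerivedCategory.TStructure.t.isLE_of_iso e.symm (-(n : ℤ))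

theorem aO_isGE : (a.obj O).obj.IsGE (-(n : ℤ)) := by
  obtain ⟨e⟩ := S1824.result n R h a adj O hO
  have h1 : ((DCoh.inD (CohB1.ProjSpace n R) (Twist.twistProjSpace n R (-((n : ℤ) + 1))))⟦(n : ℤ)⟧).IsGE (-(n : ℤ)) :=
    DerivedCategory.TStructure.t.isGE_shift _ 0 (n : ℤ) (-(n : ℤ)) (by lia)
  exact DerivedCategory.TStructure.t.isGE_of_iso e.symm (-(n : ℤ))

theorem aO_isCohD [IsNoetherianRing R] : DCoh.IsCohD (a.obj O).obj := by
  obtain ⟨e⟩ := S1824.result n R h a adj O hO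
  exact PerfA.QCohD.isCohD_of_iso e.symm (isCohD_twist n R _ _)

/-- `a(O)` is coherent and concentrated in degree `-n`. -/
theorem aO_coh [IsNoetherianRing R] : DCoh.IsCohD (a.obj O).obj ∧ (a.obj O).obj.IsLE (-(n : ℤ)) :=
  ⟨aO_isCohD n R h a adj O hO, aO_isLE n R h a adj O hO⟩

end

end Groth.Agent.LoccohB.AdPn704
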