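import Groth.Agent.LoccohB.ProjDual
import Groth.Agent.LoccohB.RightAdj2
import Groth.Agent.Sga2.PnCoprod
import Groth.Agent.Ega3B.ProjProper

/-!
# The right adjoint of `Rπ_*` commutes with coproducts for `π : P^n_R ⟶ Spec R`

`R` is an arbitrary ring; no finiteness theorem and no base change theorem is used: `D_QCoh(P^n_R)` is
generated by the compact objects `O(-d)`, `0 ≤ d ≤ n`, and `Rπ_* O(-d)` is `O` for `d = 0` and `0` otherwise.

* `isPerfect_tw`: `O(d)` is perfect.
* `isPerfect_Rpush_tw`: `Rπ_* O(-d)` is perfect for `0 ≤ d ≤ n`.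
* `preservesCoproducts_projSpace`: the case `f = π` of S1770, over any ring.
-/

set_option autoImplicit false

universe u

open CategoryTheory CategoryTheory.Limits AlgebraicGeometry Pretriangulated

attribute [local instance] HasDerivedCategory.standard

namespace Groth.Agent.LoccohB.AdPnCoprod294

open Groth.Agent.PerfB.TwistDer Groth.Agent.PerfA.PerfLocal

variable (n : ℕ) (R : Type u) [CommRing R]

/-- `O(d)` is perfect. -/
theorem isPerfect_tw (d : ℤ) : DCoh.IsPerfect (DCoh.inD (CohB1.ProjSpace n R) (tw n R d)) :=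
  isPerfect_inD_of_isFinLocFree (Sga2.PnCoprod.isFinLocFree_tw n R d)

/-- The structure sheaf is perfect. -/
theorem isPerfect_structureModule (X : Scheme.{u}) :
    DCoh.IsPerfect (DCoh.inD X (Coh.structureModule X)) :=
  isPerfect_inD_of_isFinLocFree
    (isFinLocFree_of_iso (coproductUniqueIso (fun _ : Fin 1 => Coh.structureModule X))
      (isFinLocFree_freeMod X 1))

theorem isPerfect_of_isZero {X : Scheme.{u}} {K : DCoh.D X} (hK : IsZero K) : DCoh.IsPerfect K := by
  refine isPerfect_of_iso (((DerivedCategory.singleFunctor X.Modules 0).map_isZero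
    (isZero_zero X.Modules)).iso hK) (isPerfect_inD_of_isFinLocFree
      (Dcoh.FinLocFree.isFinLocFree_of_isZero (isZero_zero _)))

section

variable [DCoh.HasRpush (CohB1.ProjSpace.toSpec n R)]
  (h : ∀ K : DCoh.D (CohB1.ProjSpace n R), DCoh.IsQCohD K →
    DCoh.IsQCohD ((DCoh.Rpush (CohB1.ProjSpace.toSpec n R)).obj K))

include h in
/-- `Rπ_* O(-d)` is perfect for `0 ≤ d ≤ n`. -/
theorem isPerfect_Rpush_tw (d : ℕ) (hd : d ≤ n) :
    DCoh.IsPerfect ((DCoh.Rpush (CohB1.ProjSpace.toSpec n R)).obj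
      (DCoh.inD (CohB1.ProjSpace n R) (tw n R (-(d : ℤ))))) := by
  rcases Nat.eq_zero_or_pos d with rfl | hd0
  · have hu := ProjDual.isIso_unit n R (h _ (PerfA.QCohD.isQCohD_inD _
      (PerfA.QCohSerre.isQCoh_unit _)))
    let U := ProjDual.unitAdj n R
    let e : DCoh.inD (Spec (CommRingCat.of R)) (Coh.structureModule (Spec (CommRingCat.of R))) ≅
        (DCoh.Rpush (CohB1.ProjSpace.toSpec n R)).obj
          (DCoh.inD (CohB1.ProjSpace n R) (tw n R (-((0 : ℕ) : ℤ)))) :=
      @asIso _ _ _ _ (U.adj.unit.app (DCoh.inD (Spec (CommRingCat.of R))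
        (Coh.structureModule (Spec (CommRingCat.of R))))) hu ≪≫
      (DCoh.Rpush (CohB1.ProjSpace.toSpec n R)).mapIso (U.e ≪≫ ProjDual.eZero n R ≪≫
        (DerivedCategory.singleFunctor _ 0).mapIso (eqToIso (by congr 1)))
    exact isPerfect_of_iso e (isPerfect_structureModule _)
  · exact isPerfect_of_isZero (ProjDual.isZero_Rpush_tw n R d hd0 hd
      (h _ (PerfA.QCohD.isQCohD_inD _ (isQCoh_tw n R _))))

end

lemma compactSpace : CompactSpace (CohB1.ProjSpace n R) := by
  have : IsProper (CohB1.ProjSpace.toSpec n R) := Ega3B.ProjProper.isProper_toSpec n R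
  exact QuasiCompact.compactSpace_of_compactSpace (CohB1.ProjSpace.toSpec n R)

lemma quasiSeparatedSpace : QuasiSeparatedSpace (CohB1.ProjSpace n R) := by
  have : IsProper (CohB1.ProjSpace.toSpec n R) := Ega3B.ProjProper.isProper_toSpec n R
  exact quasiSeparatedSpace_of_quasiSeparated (CohB1.ProjSpace.toSpec n R)

/-- The right adjoint of `Rπ_*` commutes with coproducts, `π : P^n_R ⟶ Spec R`, `R` any ring. -/
theorem preservesCoproducts_projSpace [DCoh.HasRpush (CohB1.ProjSpace.toSpec n R)]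
    (h : ∀ K : DCoh.D (CohB1.ProjSpace n R), DCoh.IsQCohD K →
      DCoh.IsQCohD ((DCoh.Rpush (CohB1.ProjSpace.toSpec n R)).obj K))
    (a : DCoh.DQCoh (Spec (CommRingCat.of R)) ⥤ DCoh.DQCoh (CohB1.ProjSpace n R))
    (adj : (ObjectProperty.lift DCoh.IsQCohD (ObjectProperty.ι DCoh.IsQCohD ⋙
      DCoh.Rpush (CohB1.ProjSpace.toSpec n R)) (fun K => h K.obj K.property)) ⊣ a) (J : Type u) :
    PreservesColimitsOfShape (Discrete J) a := by
  have := compactSpace n R
  have := quasiSeparatedSpace n R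
  have : a.Additive := by
    have := RightAdj2.additive_lift_Rpush (CohB1.ProjSpace.toSpec n R) h
    exact adj.right_adjoint_additive
  let E : Fin (n + 1) → DCoh.DQCoh (CohB1.ProjSpace n R) := fun d =>
    ⟨DCoh.inD (CohB1.ProjSpace n R) (tw n R (-((d : ℕ) : ℤ))),
      PerfA.QCohD.isQCohD_inD _ (isQCoh_tw n R _)⟩
  refine AdjCoprod.preservesCoproducts_of_adj E
    (fun d => RightAdj.isCompactW_of_isPerfect _ (isPerfect_tw n R _)) ?_ adj (fun d m => ?_) J
  · refine FullSubTri.generates_fullSubcategory DCoh.IsQCohD _ (fun L hL h0 => ?_)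
    exact S1067.result n R L hL (fun d hd m φ => h0 ⟨d, by omega⟩ m φ)
  · refine RightAdj.isCompactW_of_isPerfect _ ?_
    let _ := Dcoh.DerSch.rpushCommShift (CohB1.ProjSpace.toSpec n R)
    let e : (DCoh.Rpush (CohB1.ProjSpace.toSpec n R)).obj ((E d)⟦m⟧).obj ≅
        ((DCoh.Rpush (CohB1.ProjSpace.toSpec n R)).obj (E d).obj)⟦m⟧ :=
      (DCoh.Rpush (CohB1.ProjSpace.toSpec n R)).mapIso
        (((ObjectProperty.ι (DCoh.IsQCohD (X := CohB1.ProjSpace n R))).commShiftIso m).app (E d)) ≪≫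
      ((DCoh.Rpush (CohB1.ProjSpace.toSpec n R)).commShiftIso m).app (E d).obj
    exact isPerfect_of_iso e.symm (isPerfect_shift (isPerfect_Rpush_tw n R h d (by omega)) m)

end Groth.Agent.LoccohB.AdPnCoprod294
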