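import Mathlib.AlgebraicGeometry.Morphisms.Immersion
import Mathlib.AlgebraicGeometry.Morphisms.Proper
import Mathlib.AlgebraicGeometry.Morphisms.FiniteType
import Groth.Agent.Sga5.ProjSmooth
import Groth.Agent.Ega3B.ProjProper

/-!
# Closure of an affine open in `X × P`

* `isPullback_of_isDominant`: a dominant open immersion `j : U ⟶ X'`, `h : X' ⟶ Y` separated, an open immersion
  `o : O ⟶ Y` and a closed immersion `c : U ⟶ O` with `j ≫ h = c ≫ o`: the square is cartesian.
* `exists_closure`: `f : X ⟶ S`, `π : P ⟶ S` separated, open immersions `ι : U ⟶ X` and `v : V ⟶ P`, a closed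
  immersion `c : U ⟶ V` over `S`: the closure `X'` of `U` in `X ×[S] P` is an isomorphism over `U` and `V`.
* `exists_closure_projSpace`: the case of an affine open of a separated scheme of finite type over `Spec R`
  and `P = P^n_R`, `V = A^n_R`.
-/

set_option autoImplicit false
open CategoryTheory CategoryTheory.Limits AlgebraicGeometry
universe u

namespace Groth.Agent.LoccohB.ClosGeom704

/-- A dominant open immersion which becomes a closed immersion after pulling back. -/
theorem isPullback_of_isDominant {U X' Y O : Scheme.{u}} (j : U ⟶ X') [IsOpenImmersion j] [IsDominant j]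
    (h : X' ⟶ Y) [IsSeparated h] (o : O ⟶ Y) [IsOpenImmersion o] (c : U ⟶ O) [IsClosedImmersion c]
    (w : j ≫ h = c ≫ o) : IsPullback j c h o := by
  let t : U ⟶ pullback h o := pullback.lift j c w
  have ht1 : t ≫ pullback.fst h o = j := pullback.lift_fst _ _ _
  have ht2 : t ≫ pullback.snd h o = c := pullback.lift_snd _ _ _
  have hopen : IsOpenImmersion t := by
    have : IsOpenImmersion (t ≫ pullback.fst h o) := by rw [ht1]; infer_instance
    exact IsOpenImmersion.of_comp t (pullback.fst h o)
  have hclosed : IsClosedImmersion t := by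
    have : IsClosedImmersion (t ≫ pullback.snd h o) := by rw [ht2]; infer_instance
    exact IsClosedImmersion.of_comp t (pullback.snd h o)
  have hsurj : Function.Surjective t := by
    rw [← Set.range_eq_univ, ← hclosed.isClosedEmbedding.isClosed_range.closure_eq]
    apply Dense.closure_eq
    rw [dense_iff_inter_open]
    intro W hW hne
    have hj : DenseRange j := (inferInstance : IsDominant j).1
    have hW' : IsOpen ((pullback.fst h o) '' W) := (pullback.fst h o).isOpenEmbedding.isOpenMap W hW
    obtain ⟨y, hy1, x, rfl⟩ := hj.inter_open_nonempty _ hW' (hne.image _)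
    obtain ⟨z, hz, hzx⟩ := hy1
    refine ⟨t x, ?_, ⟨x, rfl⟩⟩
    have : z = t x := by
      apply (pullback.fst h o).isOpenEmbedding.injective
      rw [hzx, ← ht1]; rfl
    rwa [← this]
  have : IsIso t := isIso_of_isOpenImmersion_of_opensRange_eq_top t
    (by ext x; simpa using hsurj x)
  exact IsPullback.of_iso (IsPullback.of_hasPullback h o) (asIso t).symm (Iso.refl _) (Iso.refl _) (Iso.refl _)
    (by simp [← ht1]) (by simp [← ht2]) (by simp) (by simp)

/-- The closure of `U` in `X ×[S] P`: an isomorphism over `U` and over `V`. -/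
theorem exists_closure {S X P U V : Scheme.{u}} (f : X ⟶ S) (π : P ⟶ S) [IsSeparated f] [IsSeparated π]
    (ι : U ⟶ X) [IsOpenImmersion ι] [QuasiCompact ι] (v : V ⟶ P) [IsOpenImmersion v]
    (c : U ⟶ V) [IsClosedImmersion c] (w : ι ≫ f = c ≫ v ≫ π) :
    ∃ (X' : Scheme.{u}) (g : X' ⟶ pullback f π) (j : U ⟶ X'), IsClosedImmersion g ∧ IsOpenImmersion j ∧
      IsDominant j ∧ IsPullback j (𝟙 U) (g ≫ pullback.fst f π) ι ∧
      IsPullback j c (g ≫ pullback.snd f π) v := by
  let k : U ⟶ pullback f π := pullback.lift ι (c ≫ v) (by simpa using w)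
  have hk1 : k ≫ pullback.fst f π = ι := pullback.lift_fst _ _ _
  have hk2 : k ≫ pullback.snd f π = c ≫ v := pullback.lift_snd _ _ _
  have himm : IsImmersion k := by
    have : IsImmersion (k ≫ pullback.fst f π) := by rw [hk1]; infer_instance
    exact IsImmersion.of_comp k (pullback.fst f π)
  have hqc : QuasiCompact k := by
    have : QuasiCompact (k ≫ pullback.fst f π) := by rw [hk1]; infer_instance
    exact QuasiCompact.of_comp k (pullback.fst f π)
  refine ⟨k.image, k.imageι, k.toImage, inferInstance, inferInstance, inferInstance, ?_, ?_⟩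
  · exact isPullback_of_isDominant k.toImage (k.imageι ≫ pullback.fst f π) ι (𝟙 U) (by
      rw [← Category.assoc, k.toImage_imageι, hk1, Category.id_comp])
  · exact isPullback_of_isDominant k.toImage (k.imageι ≫ pullback.snd f π) v c (by
      rw [← Category.assoc, k.toImage_imageι, hk2])

/-- An affine scheme of finite type over `Spec R` is closed in an affine space. -/
theorem exists_closed_affineSpace (R : Type u) [CommRing R] {U : Scheme.{u}} [IsAffine U]
    (g : U ⟶ Spec (CommRingCat.of R)) [LocallyOfFiniteType g] :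
    ∃ (n : ℕ) (c : U ⟶ Spec (CommRingCat.of (MvPolynomial (Fin n) R))), IsClosedImmersion c ∧
      g = c ≫ Spec.map (CommRingCat.ofHom (MvPolynomial.C : R →+* MvPolynomial (Fin n) R)) := by
  let φ : CommRingCat.of R ⟶ Γ(U, ⊤) := (Scheme.ΓSpecIso (CommRingCat.of R)).inv ≫ g.appTop
  have hg : g = U.toSpecΓ ≫ Spec.map φ := by
    rw [Spec.map_comp, ← Scheme.toSpecΓ_naturality_assoc, toSpecΓ_SpecMap_ΓSpecIso_inv, Category.comp_id]
  have hφ : φ.hom.FiniteType := by
    rw [← HasRingHomProperty.Spec_iff (P := @LocallyOfFiniteType)]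
    have h1 : Spec.map φ = inv U.toSpecΓ ≫ g := by rw [hg]; simp
    rw [h1]
    infer_instance
  letI : Algebra R Γ(U, ⊤) := φ.hom.toAlgebra
  have hft : Algebra.FiniteType R Γ(U, ⊤) := hφ
  obtain ⟨n, ψ, hψ⟩ := Algebra.FiniteType.iff_quotient_mvPolynomial''.mp hft
  refine ⟨n, U.toSpecΓ ≫ Spec.map (CommRingCat.ofHom ψ.toRingHom), ?_, ?_⟩
  · have h1 : IsClosedImmersion (Spec.map (CommRingCat.ofHom ψ.toRingHom)) :=
      IsClosedImmersion.spec_of_surjective _ hψ
    infer_instance
  · rw [Category.assoc, ← Spec.map_comp, hg]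
    congr 2
    ext x
    exact (ψ.commutes x).symm

/-- An affine open of a separated scheme of finite type over `Spec R`: there is `X'` proper over `X` with a
morphism to `P^n_R` such that the preimage of `U` and the preimage of `A^n_R` both are `U`. -/
theorem exists_closure_projSpace (R : Type u) [CommRing R] {X : Scheme.{u}}
    (f : X ⟶ Spec (CommRingCat.of R)) [IsSeparated f] [LocallyOfFiniteType f]
    (U : X.Opens) (hU : IsAffineOpen U) (i : ∀ n : ℕ, Fin (n + 1)) :
    ∃ (n : ℕ) (c : U.toScheme ⟶ Spec (CommRingCat.of (MvPolynomial (Fin n) R)))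
      (X' : Scheme.{u}) (p : X' ⟶ X) (q : X' ⟶ CohB1.ProjSpace n R) (j : U.toScheme ⟶ X'),
      IsClosedImmersion c ∧
      U.ι ≫ f = c ≫ Spec.map (CommRingCat.ofHom (MvPolynomial.C : R →+* MvPolynomial (Fin n) R)) ∧
      IsProper p ∧ (IsProper f → IsProper q) ∧ p ≫ f = q ≫ CohB1.ProjSpace.toSpec n R ∧
      IsOpenImmersion j ∧ IsDominant j ∧
      IsPullback j (𝟙 U.toScheme) p U.ι ∧ IsPullback j c q (Sga5.ProjSmooth.chart n R (i n)) := by
  have hUa : IsAffine U.toScheme := hU
  obtain ⟨n, c, hc, hw⟩ := exists_closed_affineSpace R (U.ι ≫ f)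
  have hproper : IsProper (CohB1.ProjSpace.toSpec n R) := Ega3B.ProjProper.isProper_toSpec n R
  have hUι : QuasiCompact U.ι := by
    have h1 : QuasiCompact (U.ι ≫ f) := inferInstance
    exact QuasiCompact.of_comp U.ι f
  obtain ⟨X', g, j, hg, hj, hjd, h1, h2⟩ := exists_closure f (CohB1.ProjSpace.toSpec n R) U.ι
    (Sga5.ProjSmooth.chart n R (i n)) c (by rw [Sga5.ProjSmooth.chart_toSpec]; exact hw)
  refine ⟨n, c, X', g ≫ pullback.fst _ _, g ≫ pullback.snd _ _, j, hc, hw, ?_, ?_, ?_, hj, hjd, h1, h2⟩
  · have : IsProper g := inferInstance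
    have : IsProper (pullback.fst f (CohB1.ProjSpace.toSpec n R)) :=
      MorphismProperty.pullback_fst _ _ hproper
    exact MorphismProperty.comp_mem @IsProper _ _ ‹_› ‹_›
  · intro hf
    have : IsProper g := inferInstance
    have : IsProper (pullback.snd f (CohB1.ProjSpace.toSpec n R)) :=
      MorphismProperty.pullback_snd _ _ hf
    exact MorphismProperty.comp_mem @IsProper _ _ ‹_› ‹_›
  · rw [Category.assoc, Category.assoc, pullback.condition]

end Groth.Agent.LoccohB.ClosGeom704
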