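import Groth.Agent.LoccohB.DCalc
import Mathlib.CategoryTheory.ObjectProperty.FullSubcategory
import Mathlib.CategoryTheory.Adjunction.Basic

/-!
Abstract calculus for a functor `T : D(C) ⥤ D(E)` sending a full subcategory `PC` into a full
subcategory `PE` and a right adjoint `a` of the restricted functor.
* `adjHom`: `(T K ⟶ W) ≃ (K ⟶ a W)` on underlying objects.
* `isGE_rightAdjoint`: if `T` shifts `≤ n-1` into `≤ m-1`, then `a` sends `≥ m` to `≥ n`.
* `lowest_cohomology_represents`: the lowest cohomology of `a W` represents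
  `F ↦ Hom(H^m(T F[-n]), H^m W)`.
-/

universe w v u w' v' u'
open CategoryTheory CategoryTheory.Limits CategoryTheory.Triangulated

namespace Groth.Agent.LoccohB.AdjD

open DerivedCategory ObjectProperty

variable {C : Type u} [Category.{v} C] [Abelian C] [HasDerivedCategory.{w} C]
  {E : Type u'} [Category.{v'} E] [Abelian E] [HasDerivedCategory.{w'} E]
  {PC : ObjectProperty (DerivedCategory C)} {PE : ObjectProperty (DerivedCategory E)}
  {T : DerivedCategory C ⥤ DerivedCategory E} {hT : ∀ K : PC.FullSubcategory, PE (T.obj K.obj)}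
  {a : PE.FullSubcategory ⥤ PC.FullSubcategory}
  (adj : PE.lift (PC.ι ⋙ T) hT ⊣ a)

/-- The adjunction on the underlying objects. -/
noncomputable def adjHom (K : PC.FullSubcategory) (W : PE.FullSubcategory) :
    (T.obj K.obj ⟶ W.obj) ≃ (K.obj ⟶ (a.obj W).obj) where
  toFun f := (adj.homEquiv K W (homMk f)).hom
  invFun g := ((adj.homEquiv K W).symm (homMk g)).hom
  left_inv f := by
    change ((adj.homEquiv K W).symm (homMk (adj.homEquiv K W (homMk f)).hom)).hom = f
    have : (homMk (adj.homEquiv K W (homMk f)).hom : K ⟶ a.obj W) = adj.homEquiv K W (homMk f) := rfl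
    rw [this, Equiv.symm_apply_apply]
    rfl
  right_inv g := by
    change (adj.homEquiv K W (homMk ((adj.homEquiv K W).symm (homMk g)).hom)).hom = g
    have : (homMk ((adj.homEquiv K W).symm (homMk g)).hom : (PE.lift (PC.ι ⋙ T) hT).obj K ⟶ W) =
      (adj.homEquiv K W).symm (homMk g) := rfl
    rw [this, Equiv.apply_symm_apply]
    rfl

lemma adjHom_symm_naturality_left {K' K : PC.FullSubcategory} (W : PE.FullSubcategory)
    (u : K'.obj ⟶ K.obj) (g : K.obj ⟶ (a.obj W).obj) :
    (adjHom adj K' W).symm (u ≫ g) = T.map u ≫ (adjHom adj K W).symm g := by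
  have h := adj.homEquiv_naturality_left_symm (X' := K') (X := K) (Y := W) (homMk u) (homMk g)
  exact congrArg InducedCategory.Hom.hom h

lemma adjHom_naturality_left {K' K : PC.FullSubcategory} (W : PE.FullSubcategory)
    (u : K'.obj ⟶ K.obj) (g : T.obj K.obj ⟶ W.obj) :
    adjHom adj K' W (T.map u ≫ g) = u ≫ adjHom adj K W g := by
  rw [← Equiv.eq_symm_apply, adjHom_symm_naturality_left, Equiv.symm_apply_apply]

lemma adjHom_naturality_right {K : PC.FullSubcategory} {W W' : PE.FullSubcategory}
    (f : T.obj K.obj ⟶ W.obj) (v : W ⟶ W') :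
    adjHom adj K W' (f ≫ v.hom) = adjHom adj K W f ≫ (a.map v).hom := by
  have h := adj.homEquiv_naturality_right (X := K) (Y := W) (Y' := W') (homMk f) v
  exact congrArg InducedCategory.Hom.hom h

include adj in
/-- If `T` sends objects of `PC` which are `≤ n - 1` to objects `≤ m - 1` then the right adjoint
sends objects `≥ m` to objects `≥ n`. -/
theorem isGE_rightAdjoint (n m : ℤ)
    (htr : ∀ K : DerivedCategory C, PC K → PC ((TStructure.t.truncLE (n - 1)).obj K))
    (hb : ∀ K : DerivedCategory C, PC K → K.IsLE (n - 1) → (T.obj K).IsLE (m - 1))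
    (W : PE.FullSubcategory) [W.obj.IsGE m] : (a.obj W).obj.IsGE n := by
  let L : PC.FullSubcategory :=
    ⟨(TStructure.t.truncLE (n - 1)).obj (a.obj W).obj, htr _ (a.obj W).property⟩
  have hL : L.obj.IsLE (n - 1) := by dsimp [L]; infer_instance
  have hTL : (T.obj L.obj).IsLE (m - 1) := hb _ L.property hL
  have hz : ∀ f g : T.obj L.obj ⟶ W.obj, f = g := fun f g =>
    (TStructure.t.zero f (m - 1) m (by lia)).trans (TStructure.t.zero g (m - 1) m (by lia)).symm
  have hz' : ∀ f g : L.obj ⟶ (a.obj W).obj, f = g := fun f g =>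
    (adjHom adj L W).symm.injective (hz _ _)
  refine (TStructure.t.isGE_iff_isZero_truncLE_obj (n - 1) n (by lia) _).2 ?_
  rw [IsZero.iff_id_eq_zero]
  exact TStructure.t.to_truncLE_obj_ext (hz' _ _)

section Represent

variable (n m : ℤ)

/-- The canonical morphism `H^n(K)[-n] ⟶ K` for `K ≥ n`. -/
noncomputable def lowι (K : DerivedCategory C) [K.IsGE n] :
    (singleFunctor C n).obj ((homologyFunctor C n).obj K) ⟶ K :=
  (DCalc.homEquiv n _ K).symm
    ((singleFunctorCompHomologyFunctorIso C n).hom.app ((homologyFunctor C n).obj K))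

lemma homology_lowι (K : DerivedCategory C) [K.IsGE n] :
    (homologyFunctor C n).map (lowι n K) =
      (singleFunctorCompHomologyFunctorIso C n).hom.app ((homologyFunctor C n).obj K) := by
  have := (DCalc.homEquiv n _ K).apply_symm_apply
    ((singleFunctorCompHomologyFunctorIso C n).hom.app ((homologyFunctor C n).obj K))
  exact this

/-- Morphisms `F[-n] ⟶ K` with `K ≥ n` are morphisms `F ⟶ H^n K`. -/
lemma single_hom_bijective (K : DerivedCategory C) [K.IsGE n] (F : C) :
    Function.Bijective (fun φ : F ⟶ (homologyFunctor C n).obj K =>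
      (singleFunctor C n).map φ ≫ lowι n K) := by
  have key : ∀ φ : F ⟶ (homologyFunctor C n).obj K,
      (homologyFunctor C n).map ((singleFunctor C n).map φ ≫ lowι n K) =
        (singleFunctorCompHomologyFunctorIso C n).hom.app F ≫ φ := by
    intro φ
    rw [Functor.map_comp, homology_lowι]
    exact (singleFunctorCompHomologyFunctorIso C n).hom.naturality φ
  constructor
  · intro φ ψ h
    have h2 := congrArg (homologyFunctor C n).map h
    dsimp only at h2
    rw [key, key] at h2
    exact (cancel_epi _).1 h2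
  · intro g
    refine ⟨(singleFunctorCompHomologyFunctorIso C n).inv.app F ≫ (homologyFunctor C n).map g, ?_⟩
    apply Cohder.TruncFactor.hom_ext n
    rw [key]
    simp

/-- The universal element. -/
noncomputable def univElt (W : PE.FullSubcategory) [(a.obj W).obj.IsGE n]
    (hM : PC ((singleFunctor C n).obj ((homologyFunctor C n).obj (a.obj W).obj))) :
    (homologyFunctor E m).obj (T.obj ((singleFunctor C n).obj ((homologyFunctor C n).obj (a.obj W).obj))) ⟶
      (homologyFunctor E m).obj W.obj :=
  (homologyFunctor E m).map ((adjHom adj ⟨_, hM⟩ W).symm (lowι n (a.obj W).obj))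

/-- The lowest cohomology of `a W` represents `F ↦ Hom(H^m(T F[-n]), H^m W)`. -/
theorem lowest_cohomology_represents (W : PE.FullSubcategory) [W.obj.IsGE m] [(a.obj W).obj.IsGE n]
    (hM : PC ((singleFunctor C n).obj ((homologyFunctor C n).obj (a.obj W).obj)))
    (F : C) (hF : PC ((singleFunctor C n).obj F)) (hle : (T.obj ((singleFunctor C n).obj F)).IsLE m) :
    Function.Bijective (fun φ : F ⟶ (homologyFunctor C n).obj (a.obj W).obj =>
      (homologyFunctor E m).map (T.map ((singleFunctor C n).map φ)) ≫ univElt adj n m W hM) := by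
  have h1 := single_hom_bijective n (a.obj W).obj F
  have h2 := (adjHom adj ⟨_, hF⟩ W).symm.bijective
  have h3 : Function.Bijective (fun g : T.obj ((singleFunctor C n).obj F) ⟶ W.obj =>
    (homologyFunctor E m).map g) := (DCalc.homEquiv m _ _).bijective
  convert h3.comp (h2.comp h1) using 1
  funext φ
  dsimp
  have := adjHom_symm_naturality_left adj (K' := ⟨_, hF⟩) (K := ⟨_, hM⟩) W
    ((singleFunctor C n).map φ) (lowι n (a.obj W).obj)
  erw [this]
  rw [Functor.map_comp]
  rfl

end Represent

end Groth.Agent.LoccohB.AdjD
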