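import Groth.Agent.LoccohB.AdjD
import Mathlib.CategoryTheory.Triangulated.Yoneda

/-!
Detecting isomorphisms in `D(C)` with a generating family, and identifying the value `a W` of a right
adjoint of `T : D(C) ⥤ D(E)` (restricted to full subcategories) by means of a "trace" isomorphism.
-/

universe w v u w' v' u'
open CategoryTheory CategoryTheory.Limits CategoryTheory.Triangulated CategoryTheory.Pretriangulated

namespace Groth.Agent.LoccohB.AdjIso

open DerivedCategory ObjectProperty AdjD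

section Pretri

variable {D : Type u} [Category.{v} D] [Preadditive D] [HasZeroObject D] [HasShift D ℤ]
  [∀ n : ℤ, (shiftFunctor D n).Additive] [Pretriangulated D]

/-- A morphism `φ : N ⟶ M` is an isomorphism if composing with it is bijective on the groups
`Hom(G_j[m], -)` for a family `G` generating the cone. -/
theorem isIso_of_generators {ι : Type*} (G : ι → D) {N M : D} (φ : N ⟶ M)
    (hgen : ∀ (Z : D) (g : M ⟶ Z) (h : Z ⟶ N⟦(1 : ℤ)⟧), Triangle.mk φ g h ∈ distTriang D →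
      (∀ (j : ι) (m : ℤ) (u : (G j)⟦m⟧ ⟶ Z), u = 0) → IsZero Z)
    (hbij : ∀ (j : ι) (m : ℤ), Function.Bijective (fun u : (G j)⟦m⟧ ⟶ N => u ≫ φ)) : IsIso φ := by
  obtain ⟨Z, g, h, hT⟩ := distinguished_cocone_triangle φ
  refine (Triangle.isZero₃_iff_isIso₁ _ hT).1 (hgen Z g h hT fun j m u => ?_)
  have key : u ≫ h = 0 := by
    have h0 : (u ≫ h) ≫ φ⟦(1 : ℤ)⟧' = 0 := by
      have : h ≫ φ⟦(1 : ℤ)⟧' = 0 := comp_distTriang_mor_zero₃₁ _ hT
      rw [Category.assoc, this, comp_zero]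
    -- shift by -1
    let s := shiftFunctor D (-1 : ℤ)
    let e1 : (N⟦(1 : ℤ)⟧)⟦(-1 : ℤ)⟧ ≅ N := (shiftFunctorCompIsoId D (1 : ℤ) (-1) (by lia)).app N
    let e2 : (M⟦(1 : ℤ)⟧)⟦(-1 : ℤ)⟧ ≅ M := (shiftFunctorCompIsoId D (1 : ℤ) (-1) (by lia)).app M
    let e3 : ((G j)⟦m⟧)⟦(-1 : ℤ)⟧ ≅ (G j)⟦m - 1⟧ := ((shiftFunctorAdd' D m (-1) (m - 1) (by lia)).app (G j)).symm
    have hnat : (φ⟦(1 : ℤ)⟧')⟦(-1 : ℤ)⟧' ≫ e2.hom = e1.hom ≫ φ :=
      (shiftFunctorCompIsoId D (1 : ℤ) (-1) (by lia)).hom.naturality φ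
    have h1 : (e3.inv ≫ (u ≫ h)⟦(-1 : ℤ)⟧' ≫ e1.hom) ≫ φ = (0 : _ ⟶ N) ≫ φ := by
      rw [Category.assoc, Category.assoc, ← hnat, ← Functor.map_comp_assoc, h0]
      simp
    have h2 := (hbij j (m - 1)).1 h1
    have h3 : (u ≫ h)⟦(-1 : ℤ)⟧' = 0 := by
      rw [← cancel_epi e3.inv, ← cancel_mono e1.hom, Category.assoc, h2]
      simp
    exact (shiftFunctor D (-1 : ℤ)).map_injective (by rw [h3, Functor.map_zero])
  obtain ⟨v, hv⟩ : ∃ v : (G j)⟦m⟧ ⟶ M, u = v ≫ g := Triangle.coyoneda_exact₃ _ hT u key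
  obtain ⟨x, hx⟩ := (hbij j m).2 v
  have hx' : x ≫ φ = v := hx
  have h12 : φ ≫ g = 0 := comp_distTriang_mor_zero₁₂ _ hT
  rw [hv, ← hx', Category.assoc, h12, comp_zero]

end Pretri

section

variable {C : Type u} [Category.{v} C] [Abelian C] [HasDerivedCategory.{w} C]
  {E : Type u'} [Category.{v'} E] [Abelian E] [HasDerivedCategory.{w'} E]
  {PC : ObjectProperty (DerivedCategory C)} {PE : ObjectProperty (DerivedCategory E)}
  {T : DerivedCategory C ⥤ DerivedCategory E} {hT : ∀ K : PC.FullSubcategory, PE (T.obj K.obj)}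
  {a : PE.FullSubcategory ⥤ PC.FullSubcategory}
  (adj : PE.lift (PC.ι ⋙ T) hT ⊣ a)

include adj in
/-- If `tr : T N ⟶ W` is an isomorphism and `T` is bijective on `Hom(G_j[m], N)` for a generating
family `G`, then `N ≅ a W`. -/
theorem nonempty_iso_of_trace {ι : Type*} (G : ι → DerivedCategory C)
    (hG : ∀ (j : ι) (m : ℤ), PC ((G j)⟦m⟧))
    (N : PC.FullSubcategory) (W : PE.FullSubcategory) (tr : T.obj N.obj ≅ W.obj)
    (hcone : ∀ (Z : DerivedCategory C) (φ : N.obj ⟶ (a.obj W).obj) (g : (a.obj W).obj ⟶ Z)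
      (h : Z ⟶ N.obj⟦(1 : ℤ)⟧), Triangle.mk φ g h ∈ distTriang _ → PC Z)
    (hgen : ∀ Z : DerivedCategory C, PC Z → (∀ (j : ι) (m : ℤ) (u : (G j)⟦m⟧ ⟶ Z), u = 0) → IsZero Z)
    (hbij : ∀ (j : ι) (m : ℤ), Function.Bijective (fun u : (G j)⟦m⟧ ⟶ N.obj => T.map u)) :
    Nonempty (N.obj ≅ (a.obj W).obj) := by
  let φ : N.obj ⟶ (a.obj W).obj := adjHom adj N W tr.hom
  have : IsIso φ := by
    refine isIso_of_generators G φ (fun Z g h hT' => hgen Z (hcone Z φ g h hT')) fun j m => ?_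
    have h1 : Function.Bijective (fun u : (G j)⟦m⟧ ⟶ N.obj => T.map u ≫ tr.hom) := by
      refine Function.Bijective.comp (g := fun v => v ≫ tr.hom) ?_ (hbij j m)
      exact ⟨fun x y hxy => (cancel_mono tr.hom).1 hxy, fun y => ⟨y ≫ tr.inv, by simp⟩⟩
    have h2 := (adjHom adj ⟨_, hG j m⟩ W).bijective.comp h1
    convert h2 using 1
    funext u
    exact (adjHom_naturality_left adj (K' := ⟨_, hG j m⟩) (K := N) W u tr.hom).symm
  exact ⟨asIso φ⟩

/-- If `L ⊣ T` and the unit `G' ⟶ T (L G')` is an isomorphism, then `T` is bijective on `Hom(L G', K)`. -/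
theorem bijective_map_of_unit {D₁ D₂ : Type*} [Category D₁] [Category D₂] {L : D₂ ⥤ D₁} {T : D₁ ⥤ D₂}
    (ad : L ⊣ T) (G' : D₂) [IsIso (ad.unit.app G')] (K : D₁) :
    Function.Bijective (fun u : L.obj G' ⟶ K => T.map u) := by
  have h1 : Function.Bijective (fun u : L.obj G' ⟶ K => ad.unit.app G' ≫ T.map u) := by
    have h0 := (ad.homEquiv G' K).bijective
    have h1 : (fun u : L.obj G' ⟶ K => ad.unit.app G' ≫ T.map u) = ad.homEquiv G' K := by
      funext u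
      rw [Adjunction.homEquiv_unit]
    rw [h1]
    exact h0
  constructor
  · intro x y hxy
    exact h1.1 (by dsimp at hxy ⊢; rw [hxy])
  · intro y
    obtain ⟨x, hx⟩ := h1.2 (ad.unit.app G' ≫ y)
    exact ⟨x, (cancel_epi (ad.unit.app G')).1 hx⟩

/-- The property "T is bijective on Hom(G, K)" is invariant under isomorphisms `G ≅ G'`. -/
theorem bijective_map_of_iso {D₁ D₂ : Type*} [Category D₁] [Category D₂] {T : D₁ ⥤ D₂}
    {G G' K : D₁} (e : G ≅ G') (h : Function.Bijective (fun u : G ⟶ K => T.map u)) :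
    Function.Bijective (fun u : G' ⟶ K => T.map u) := by
  constructor
  · intro x y hxy
    have : e.hom ≫ x = e.hom ≫ y := h.1 (by dsimp at hxy ⊢; rw [T.map_comp, T.map_comp, hxy])
    exact (cancel_epi _).1 this
  · intro y
    obtain ⟨x, hx⟩ := h.2 (T.map e.hom ≫ y)
    refine ⟨e.inv ≫ x, ?_⟩
    dsimp at hx ⊢
    rw [T.map_comp, hx, ← T.map_comp_assoc, e.inv_hom_id, T.map_id, Category.id_comp]

end

end Groth.Agent.LoccohB.AdjIso
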