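import Groth.Agent.LoccohB.BCMap

/-!
# Derived base change of an arrow `ψ_* X ⟶ V`

For a commutative square `C → C'`, `C → B`, `C' → B'`, `B → B'` with invertible derived Beck–Chevalley map, the
base change of `e : ψ_* X ⟶ V` is `lbcArrow e : ψ'_* (X ⊗^L_B B') ≅ (ψ_* X) ⊗^L_C C' ⟶ V ⊗^L_C C'`.
-/

set_option autoImplicit false

universe u

open CategoryTheory CategoryTheory.Limits CategoryTheory.Functor TensorProduct

attribute [local instance] HasDerivedCategory.standard

namespace Groth.Agent.LoccohB.BCArrow

open DerivedCategory LBC BCUnit BCFlat BCMap DBase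

variable (C C' B B' : Type u) [CommRing C] [CommRing C'] [CommRing B] [CommRing B']
  [Algebra C C'] [Algebra C B] [Algebra C' B'] [Algebra B B'] [Algebra C B']
  [IsScalarTower C C' B'] [IsScalarTower C B B']
  [DRing.HasLBaseChange (algebraMap C C')] [DRing.HasLBaseChange (algebraMap B B')]

/-- The derived base change of an arrow `ψ_* X ⟶ V`. -/
noncomputable def lbcArrow [IsIso (bcm C C' B B')] {X : Dual.D B} {V : Dual.D C}
    (e : (DRing.restrictD (algebraMap C B)).obj X ⟶ V) :
    (DRing.restrictD (algebraMap C' B')).obj ((DRing.LBaseChange (algebraMap B B')).obj X) ⟶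
      (DRing.LBaseChange (algebraMap C C')).obj V :=
  inv ((bcm C C' B B').app X) ≫ (DRing.LBaseChange (algebraMap C C')).map e

variable [IsIso (bcm C C' B B')]

lemma lbcArrow_precomp {X Y : Dual.D B} {V : Dual.D C} (f : Y ⟶ X)
    (e : (DRing.restrictD (algebraMap C B)).obj X ⟶ V) :
    lbcArrow C C' B B' ((DRing.restrictD (algebraMap C B)).map f ≫ e) =
      (DRing.restrictD (algebraMap C' B')).map ((DRing.LBaseChange (algebraMap B B')).map f) ≫
        lbcArrow C C' B B' e := by
  dsimp only [lbcArrow]
  have h1 := (bcm C C' B B').naturality f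
  dsimp only [Functor.comp_map, Functor.comp_obj] at h1
  rw [IsIso.inv_comp_eq, ← Category.assoc, ← Category.assoc, ← h1, Category.assoc, Category.assoc,
    IsIso.hom_inv_id_assoc, Functor.map_comp]

lemma lbcArrow_postcomp {X : Dual.D B} {V W : Dual.D C}
    (e : (DRing.restrictD (algebraMap C B)).obj X ⟶ V) (g : V ⟶ W) :
    lbcArrow C C' B B' (e ≫ g) =
      lbcArrow C C' B B' e ≫ (DRing.LBaseChange (algebraMap C C')).map g := by
  dsimp only [lbcArrow]
  rw [Functor.map_comp, Category.assoc]

/-- The adjoint of the base change of an arrow. -/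
lemma homEquiv_lbcArrow {X : Dual.D B} {V : Dual.D C}
    (e : (DRing.restrictD (algebraMap C B)).obj X ⟶ V) :
    (lbcAdj (algebraMap C C')).homEquiv _ _ ((bcm C C' B B').app X ≫ lbcArrow C C' B B' e) =
      e ≫ (lbcAdj (algebraMap C C')).unit.app V := by
  have h1 : (bcm C C' B B').app X ≫ lbcArrow C C' B B' e =
      (DRing.LBaseChange (algebraMap C C')).map e := by
    dsimp only [lbcArrow]
    rw [IsIso.hom_inv_id_assoc]
  rw [h1, Adjunction.homEquiv_unit]
  exact ((lbcAdj (algebraMap C C')).unit.naturality e).symm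

end Groth.Agent.LoccohB.BCArrow
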