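import Mathlib.CategoryTheory.Triangulated.Yoneda
import Mathlib.CategoryTheory.Triangulated.HomologicalFunctor
import Mathlib.Algebra.Category.ModuleCat.Abelian
import Mathlib.RingTheory.Flat.Basic
import Mathlib.LinearAlgebra.DirectSum.Finsupp
import Mathlib.Algebra.Homology.ShortComplex.ModuleCat
import Mathlib.Algebra.Category.ModuleCat.Projective
import Mathlib.LinearAlgebra.TensorProduct.RightExactness

/-!
# Dévissage over the modules over a ring

`G : Mod R ⥤ D` additive, sending short exact sequences to distinguished triangles, `Y : D`, with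
`Hom(Y, G(R)) = M` and `Hom(Y, G(R)⟦n⟧) = 0` for `n ≠ 0`, `M` flat over `R`.  Under a finiteness condition on
`Y`, `Hom(Y, G(T)) = M ⊗_R T` and `Hom(Y, G(T)⟦n⟧) = 0` for `n ≠ 0`, for every `R`-module `T`.
-/

set_option autoImplicit false

universe u v w

open CategoryTheory CategoryTheory.Limits Pretriangulated TensorProduct

namespace Groth.Agent.LoccohB.BCDev

section Exact

variable {D : Type w} [Category.{v} D] [Preadditive D] [HasShift D ℤ] [HasZeroObject D]
  [∀ n : ℤ, (shiftFunctor D n).Additive] [Pretriangulated D]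

variable {X₁ X₂ X₃ : D} (a : X₁ ⟶ X₂) (b : X₂ ⟶ X₃) (δ : X₃ ⟶ X₁⟦(1 : ℤ)⟧)
  (hT : Triangle.mk a b δ ∈ distTriang D) (Y : D)

include hT

lemma exact₂ (n : ℤ) (f : Y ⟶ X₂⟦n⟧) (hf : f ≫ b⟦n⟧' = 0) : ∃ g : Y ⟶ X₁⟦n⟧, f = g ≫ a⟦n⟧' := by
  have h := (preadditiveCoyoneda.obj (Opposite.op Y)).homologySequence_exact₂ _ hT n
  rw [ShortComplex.ab_exact_iff] at h
  obtain ⟨g, hg⟩ := h f hf
  exact ⟨g, hg.symm⟩

lemma exact₁ (n m : ℤ) (hm : n + 1 = m)
    (hY : ∀ z : Y ⟶ X₁⟦m⟧, z ≫ a⟦m⟧' = 0 → z = 0) (f : Y ⟶ X₃⟦n⟧) :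
    ∃ g : Y ⟶ X₂⟦n⟧, f = g ≫ b⟦n⟧' := by
  have h := (preadditiveCoyoneda.obj (Opposite.op Y)).homologySequence_exact₃ _ hT n m hm
  rw [ShortComplex.ab_exact_iff] at h
  have h1 := (preadditiveCoyoneda.obj (Opposite.op Y)).homologySequenceδ_comp _ hT n m hm
  obtain ⟨g, hg⟩ := h f (hY _ (ConcreteCategory.congr_hom h1 f))
  exact ⟨g, hg.symm⟩

lemma exact₃ (n m : ℤ) (hm : n + 1 = m) (hY : Subsingleton (Y ⟶ X₁⟦m⟧)) (f : Y ⟶ X₃⟦n⟧) :
    ∃ g : Y ⟶ X₂⟦n⟧, f = g ≫ b⟦n⟧' :=
  exact₁ a b δ hT Y n m hm (fun z _ => hY.elim z 0) f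

end Exact

section Cover

variable {R : Type u} [CommRing R]

/-- The free module on the elements of `T`. -/
noncomputable abbrev freeMod (T : ModuleCat.{u} R) : ModuleCat.{u} R := ModuleCat.of R (T →₀ R)

/-- The relations. -/
noncomputable abbrev relMod (T : ModuleCat.{u} R) : ModuleCat.{u} R :=
  ModuleCat.of R (LinearMap.ker (Finsupp.linearCombination R (id : T → T)))

/-- The inclusion of the relations. -/
noncomputable def cι (T : ModuleCat.{u} R) : relMod T ⟶ freeMod T :=
  ModuleCat.ofHom (LinearMap.ker (Finsupp.linearCombination R (id : T → T))).subtype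

/-- The projection. -/
noncomputable def cπ (T : ModuleCat.{u} R) : freeMod T ⟶ T :=
  ModuleCat.ofHom (Finsupp.linearCombination R (id : T → T))

lemma cι_cπ (T : ModuleCat.{u} R) : cι T ≫ cπ T = 0 := by
  apply ModuleCat.hom_ext
  apply LinearMap.ext
  intro x
  exact x.2

lemma cover_shortExact (T : ModuleCat.{u} R) : (ShortComplex.mk (cι T) (cπ T) (cι_cπ T)).ShortExact where
  exact := by
    rw [ShortComplex.moduleCat_exact_iff]
    intro x hx
    exact ⟨⟨x, hx⟩, rfl⟩
  mono_f := by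
    rw [ModuleCat.mono_iff_injective]
    exact Subtype.val_injective
  epi_g := by
    rw [ModuleCat.epi_iff_surjective]
    exact Finsupp.linearCombination_id_surjective R T

/-- The morphism `R ⟶ T` of an element of `T`. -/
def elt {T : ModuleCat.{u} R} (t : T) : ModuleCat.of R R ⟶ T :=
  ModuleCat.ofHom (LinearMap.toSpanSingleton R T t)

lemma elt_add {T : ModuleCat.{u} R} (s t : T) : elt (s + t) = elt s + elt t := by
  ext
  simp [elt]

lemma elt_zero {T : ModuleCat.{u} R} : elt (0 : T) = 0 := by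
  ext
  simp [elt]

lemma elt_smul {T : ModuleCat.{u} R} (r : R) (t : T) : elt (r • t) =
    ModuleCat.ofHom (r • LinearMap.id) ≫ elt t := by
  ext
  simp [elt]

lemma elt_comp {T T' : ModuleCat.{u} R} (t : T) (f : T ⟶ T') : elt t ≫ f = elt (f t) := by
  ext
  simp [elt]

lemma elt_self (r : R) : (elt (T := ModuleCat.of R R) r) = ModuleCat.ofHom (r • LinearMap.id) := by
  ext
  simp [elt]

end Cover

section Main

variable {R : Type u} [CommRing R] {D : Type w} [Category.{v} D] [Preadditive D] [HasShift D ℤ]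
  [HasZeroObject D] [∀ n : ℤ, (shiftFunctor D n).Additive] [Pretriangulated D]
  (G : ModuleCat.{u} R ⥤ D) [G.Additive] (Y : D) {M : Type u} [AddCommGroup M] [Module R M]
  (lam : M →+ (Y ⟶ G.obj (ModuleCat.of R R)))

/-- The hypotheses of the dévissage. -/
structure Hyp : Prop where
  balanced : ∀ (r : R) (b : M), lam (r • b) = lam b ≫ G.map (ModuleCat.ofHom (r • LinearMap.id))
  bij : Function.Bijective lam
  van : ∀ n : ℤ, n ≠ 0 → Subsingleton (Y ⟶ (G.obj (ModuleCat.of R R))⟦n⟧)
  tri : ∀ (S : ShortComplex (ModuleCat.{u} R)), S.ShortExact →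
    ∃ δ, Triangle.mk (G.map S.f) (G.map S.g) δ ∈ distTriang D
  free : ∀ (ι : Type u) (n : ℤ) (f : Y ⟶ (G.obj (ModuleCat.of R (ι →₀ R)))⟦n⟧),
    ∃ (s : Finset ι) (g : ι → (Y ⟶ (G.obj (ModuleCat.of R R))⟦n⟧)),
      f = ∑ i ∈ s, g i ≫ (G.map (ModuleCat.ofHom (Finsupp.lsingle i)))⟦n⟧'
  high : ∃ N : ℤ, ∀ (T : ModuleCat.{u} R) (n : ℤ), N < n → Subsingleton (Y ⟶ (G.obj T)⟦n⟧)

variable {G Y lam} (h : Hyp G Y lam)

include h

/-- `M ⊗_R T → Hom(Y, G(T))`. -/
noncomputable def kappa (T : ModuleCat.{u} R) : M ⊗[R] T →+ (Y ⟶ G.obj T) :=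
  TensorProduct.liftAddHom
    { toFun := fun b =>
        { toFun := fun t => lam b ≫ G.map (elt t)
          map_zero' := by rw [elt_zero, G.map_zero, comp_zero]
          map_add' := fun s t => by rw [elt_add, G.map_add, Preadditive.comp_add] }
      map_zero' := by
        ext t
        change lam 0 ≫ G.map (elt t) = 0
        rw [map_zero, zero_comp]
      map_add' := fun a b => by
        ext t
        change lam (a + b) ≫ G.map (elt t) = lam a ≫ G.map (elt t) + lam b ≫ G.map (elt t)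
        rw [map_add, Preadditive.add_comp] }
    (fun r b t => by
      change lam (r • b) ≫ G.map (elt t) = lam b ≫ G.map (elt (r • t))
      rw [elt_smul, G.map_comp, h.balanced, Category.assoc])

lemma kappa_tmul (T : ModuleCat.{u} R) (b : M) (t : T) :
    kappa h T (b ⊗ₜ t) = lam b ≫ G.map (elt t) := rfl

lemma kappa_naturality {T T' : ModuleCat.{u} R} (f : T ⟶ T') (x : M ⊗[R] T) :
    kappa h T x ≫ G.map f = kappa h T' (f.hom.lTensor M x) := by
  induction x using TensorProduct.induction_on with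
  | zero => simp only [map_zero, zero_comp]
  | add x y hx hy => rw [map_add, map_add, map_add, Preadditive.add_comp, hx, hy]
  | tmul b t =>
    rw [LinearMap.lTensor_tmul, kappa_tmul, kappa_tmul, Category.assoc, ← G.map_comp, elt_comp]

lemma kappa_self_injective : Function.Injective (kappa h (ModuleCat.of R R)) := by
  have h1 : ∀ x : M ⊗[R] R, kappa h (ModuleCat.of R R) x = lam (TensorProduct.rid R M x) := by
    intro x
    induction x using TensorProduct.induction_on with
    | zero => simp only [map_zero]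
    | add x y hx hy => rw [map_add, map_add, map_add, hx, hy]
    | tmul b t =>
      rw [TensorProduct.rid_tmul, h.balanced]
      refine (kappa_tmul h (ModuleCat.of R R) b t).trans ?_
      rw [elt_self]
  intro x y hxy
  have h2 : kappa h (ModuleCat.of R R) x = kappa h (ModuleCat.of R R) y := hxy
  rw [h1, h1] at h2
  exact (TensorProduct.rid R M).injective (h.bij.1 h2)

lemma kappa_free_injective (ι : Type u) :
    Function.Injective (kappa h (ModuleCat.of R (ι →₀ R))) := by
  classical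
  rw [injective_iff_map_eq_zero]
  intro x hx
  let e := TensorProduct.finsuppScalarRight R R M ι
  refine e.injective ?_
  rw [map_zero]
  ext i
  have h1 := kappa_naturality h (ModuleCat.ofHom (Finsupp.lapply (R := R) (M := R) i) :
    ModuleCat.of R (ι →₀ R) ⟶ ModuleCat.of R R) x
  rw [hx, zero_comp] at h1
  have h2 := kappa_self_injective h (h1.symm.trans (map_zero (kappa h (ModuleCat.of R R))).symm)
  have h3 : ∀ x : M ⊗[R] (ι →₀ R), e x i =
      TensorProduct.rid R M ((Finsupp.lapply (R := R) (M := R) i).lTensor M x) := by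
    intro x
    induction x using TensorProduct.induction_on with
    | zero => simp only [map_zero, Finsupp.coe_zero, Pi.zero_apply]
    | add x y hx hy => rw [map_add, map_add, map_add, Finsupp.add_apply, hx, hy]
    | tmul b t =>
      rw [LinearMap.lTensor_tmul, TensorProduct.rid_tmul]
      exact TensorProduct.finsuppScalarRight_apply_tmul_apply b t i
  rw [h3]
  have h4 : (Finsupp.lapply (R := R) (M := R) i).lTensor M x = 0 := h2
  rw [h4, map_zero]
  rfl

lemma kappa_free_surjective (ι : Type u) :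
    Function.Surjective (kappa h (ModuleCat.of R (ι →₀ R))) := by
  intro f
  let z : ∀ X : D, X⟦(0 : ℤ)⟧ ≅ X := fun X => (shiftFunctorZero D ℤ).app X
  obtain ⟨s, g, hg⟩ := h.free ι 0 (f ≫ (z _).inv)
  choose b hb using fun i => h.bij.2 (g i ≫ (z _).hom)
  refine ⟨∑ i ∈ s, b i ⊗ₜ Finsupp.single i 1, ?_⟩
  rw [map_sum]
  have h1 : f = (f ≫ (z _).inv) ≫ (z _).hom := by
    rw [Category.assoc, Iso.inv_hom_id, Category.comp_id]
  rw [h1, hg, Preadditive.sum_comp]
  refine Finset.sum_congr rfl fun i _ => ?_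
  rw [kappa_tmul, hb, Category.assoc, Category.assoc]
  congr 1
  have h2 : (G.map (elt (T := ModuleCat.of R (ι →₀ R))
    (Finsupp.single i (1 : R))))⟦(0 : ℤ)⟧' ≫ (z _).hom = (z _).hom ≫
      G.map (elt (T := ModuleCat.of R (ι →₀ R)) (Finsupp.single i (1 : R))) :=
    (shiftFunctorZero D ℤ).hom.naturality _
  have h3 : (ModuleCat.ofHom (Finsupp.lsingle i) : ModuleCat.of R R ⟶ ModuleCat.of R (ι →₀ R)) =
      elt (T := ModuleCat.of R (ι →₀ R)) (Finsupp.single i (1 : R)) := by
    ext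
    simp [elt]
  rw [h3]
  exact h2.symm

omit [G.Additive] in
/-- The distinguished triangle of the presentation. -/
lemma exists_tri (T : ModuleCat.{u} R) : ∃ δ, Triangle.mk (G.map (cι T)) (G.map (cπ T)) δ ∈
    distTriang D :=
  h.tri _ (cover_shortExact T)

omit [G.Additive] in
lemma van_free (ι : Type u) (n : ℤ) (hn : n ≠ 0) :
    Subsingleton (Y ⟶ (G.obj (ModuleCat.of R (ι →₀ R)))⟦n⟧) := by
  refine ⟨fun f g => ?_⟩
  suffices h1 : ∀ f : Y ⟶ (G.obj (ModuleCat.of R (ι →₀ R)))⟦n⟧, f = 0 by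
    rw [h1 f, h1 g]
  intro f
  obtain ⟨s, g, hg⟩ := h.free ι n f
  rw [hg]
  refine Finset.sum_eq_zero fun i _ => ?_
  rw [(h.van n hn).elim (g i) 0, zero_comp]

omit [G.Additive] in
/-- Vanishing in positive degrees. -/
lemma van_pos (T : ModuleCat.{u} R) (n : ℤ) (hn : 0 < n) : Subsingleton (Y ⟶ (G.obj T)⟦n⟧) := by
  obtain ⟨N, hN⟩ := h.high
  have key : ∀ (k : ℕ) (T : ModuleCat.{u} R) (n : ℤ), 0 < n → N < n + k →
      Subsingleton (Y ⟶ (G.obj T)⟦n⟧) := by
    intro k
    induction k with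
    | zero =>
      intro T n _ hn
      exact hN T n (by simpa using hn)
    | succ k ih =>
      intro T n hn hk
      obtain ⟨δ, hδ⟩ := exists_tri h T
      refine ⟨fun f g => ?_⟩
      suffices h1 : ∀ f : Y ⟶ (G.obj T)⟦n⟧, f = 0 by rw [h1 f, h1 g]
      intro f
      obtain ⟨g, hg⟩ := exact₃ _ _ _ hδ Y n (n + 1) rfl
        (ih (relMod T) (n + 1) (by omega) (by push_cast at hk; omega)) f
      rw [hg, (van_free h T n (by omega)).elim g 0, zero_comp]
  exact key (N - n + 1).toNat T n hn (by have := Int.self_le_toNat (N - n + 1); omega)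

theorem kappa_surjective (T : ModuleCat.{u} R) : Function.Surjective (kappa h T) := by
  intro f
  obtain ⟨δ, hδ⟩ := exists_tri h T
  let z : ∀ X : D, X⟦(0 : ℤ)⟧ ≅ X := fun X => (shiftFunctorZero D ℤ).app X
  have hz : ∀ {X X' : D} (f : X ⟶ X'), f⟦(0 : ℤ)⟧' ≫ (z _).hom = (z _).hom ≫ f := fun f =>
    (shiftFunctorZero D ℤ).hom.naturality f
  obtain ⟨g, hg⟩ := exact₃ _ _ _ hδ Y 0 1 rfl (van_pos h (relMod T) 1 (by omega)) (f ≫ (z _).inv)
  obtain ⟨x, hx⟩ := kappa_free_surjective h T (g ≫ (z _).hom)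
  refine ⟨(cπ T).hom.lTensor M x, ?_⟩
  rw [← kappa_naturality h (cπ T) x, hx, Category.assoc, ← hz, ← Category.assoc, ← hg,
    Category.assoc, Iso.inv_hom_id, Category.comp_id]

/-- **`M ⊗_R T → Hom(Y, G(T))` is bijective.** -/
theorem kappa_bijective (T : ModuleCat.{u} R) : Function.Bijective (kappa h T) := by
  refine ⟨?_, kappa_surjective h T⟩
  rw [injective_iff_map_eq_zero]
  intro x hx
  obtain ⟨δ, hδ⟩ := exists_tri h T
  let z : ∀ X : D, X⟦(0 : ℤ)⟧ ≅ X := fun X => (shiftFunctorZero D ℤ).app X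
  have hz : ∀ {X X' : D} (f : X ⟶ X'), f⟦(0 : ℤ)⟧' ≫ (z _).hom = (z _).hom ≫ f := fun f =>
    (shiftFunctorZero D ℤ).hom.naturality f
  have hsurj : Function.Surjective ((cπ T).hom.lTensor M) :=
    LinearMap.lTensor_surjective M (Finsupp.linearCombination_id_surjective R T)
  obtain ⟨y, hy⟩ := hsurj x
  have h2 : kappa h (freeMod T) y ≫ G.map (cπ T) = 0 := by
    rw [kappa_naturality h (cπ T) y, hy]
    exact hx
  obtain ⟨g, hg⟩ := exact₂ _ _ _ hδ Y 0 (kappa h (freeMod T) y ≫ (z _).inv) (by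
    rw [← cancel_mono (z _).hom, zero_comp, Category.assoc, Category.assoc, hz,
      Iso.inv_hom_id_assoc, h2])
  obtain ⟨w, hw⟩ := kappa_surjective h (relMod T) (g ≫ (z _).hom)
  have h4 : kappa h (freeMod T) y = kappa h (freeMod T) ((cι T).hom.lTensor M w) := by
    rw [← kappa_naturality h (cι T) w, hw, Category.assoc, ← hz, ← Category.assoc, ← hg,
      Category.assoc, Iso.inv_hom_id, Category.comp_id]
  have h6 : y = (cι T).hom.lTensor M w := kappa_free_injective h T h4
  rw [← hy, h6]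
  have h7 : (cπ T).hom.comp (cι T).hom = 0 := congrArg ModuleCat.Hom.hom (cι_cπ T)
  rw [← LinearMap.comp_apply, ← LinearMap.lTensor_comp, h7, LinearMap.lTensor_zero]
  rfl

/-- Vanishing in negative degrees, for `M` flat. -/
theorem van_neg [Module.Flat R M] (T : ModuleCat.{u} R) (n : ℤ) (hn : n < 0) :
    Subsingleton (Y ⟶ (G.obj T)⟦n⟧) := by
  have hinj : ∀ (T : ModuleCat.{u} R), Function.Injective ((cι T).hom.lTensor M) := fun T =>
    Module.Flat.lTensor_preserves_injective_linearMap _ Subtype.val_injective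
  have key : ∀ (k : ℕ) (T : ModuleCat.{u} R) (n : ℤ), n = -1 - k →
      Subsingleton (Y ⟶ (G.obj T)⟦n⟧) := by
    intro k
    induction k with
    | zero =>
      intro T n hn
      obtain ⟨δ, hδ⟩ := exists_tri h T
      refine ⟨fun f g => ?_⟩
      suffices h1 : ∀ f : Y ⟶ (G.obj T)⟦n⟧, f = 0 by rw [h1 f, h1 g]
      intro f
      let z : ∀ X : D, X⟦(0 : ℤ)⟧ ≅ X := fun X => (shiftFunctorZero D ℤ).app X
      have hz : ∀ {X X' : D} (f : X ⟶ X'), f⟦(0 : ℤ)⟧' ≫ (z _).hom = (z _).hom ≫ f := fun f =>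
        (shiftFunctorZero D ℤ).hom.naturality f
      obtain ⟨g, hg⟩ := exact₁ _ _ _ hδ Y n 0 (by simp [hn]) (by
        intro w hw
        obtain ⟨y, hy⟩ := (kappa_bijective h (relMod T)).2 (w ≫ (z _).hom)
        have h3 := kappa_naturality h (cι T) y
        rw [hy, Category.assoc, ← hz, ← Category.assoc, hw, zero_comp] at h3
        have h5 := (kappa_bijective h (freeMod T)).1 (h3.symm.trans (map_zero _).symm)
        have h6 : y = 0 := hinj T (h5.trans (map_zero _).symm)
        rw [h6, map_zero] at hy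
        rw [← cancel_mono (z _).hom, zero_comp]
        exact hy.symm) f
      rw [hg, (van_free h T _ (by simp [hn])).elim g 0, zero_comp]
    | succ k ih =>
      intro T n hn
      obtain ⟨δ, hδ⟩ := exists_tri h T
      refine ⟨fun f g => ?_⟩
      suffices h1 : ∀ f : Y ⟶ (G.obj T)⟦n⟧, f = 0 by rw [h1 f, h1 g]
      intro f
      obtain ⟨g, hg⟩ := exact₃ _ _ _ hδ Y n (n + 1) rfl
        (ih (relMod T) (n + 1) (by rw [hn]; push_cast; ring)) f
      rw [hg, (van_free h T _ (by rw [hn]; push_cast; omega)).elim g 0, zero_comp]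
  obtain ⟨k, hk⟩ := Int.eq_ofNat_of_zero_le (show 0 ≤ -1 - n by omega)
  exact key k T n (by omega)

theorem van [Module.Flat R M] (T : ModuleCat.{u} R) (n : ℤ) (hn : n ≠ 0) :
    Subsingleton (Y ⟶ (G.obj T)⟦n⟧) := by
  rcases lt_or_gt_of_ne hn with h1 | h1
  · exact van_neg h T n h1
  · exact van_pos h T n h1

end Main

end Groth.Agent.LoccohB.BCDev
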