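import Groth.Agent.LoccohB.FlatLBC
import Groth.Agent.LoccohB.LBC2
import Mathlib.RingTheory.IsTensorProduct

/-!
# Beck–Chevalley isomorphism for modules along a pushout square of rings

`C → C'`, `C → B`, `B' = C' ⊗_C B`: `C' ⊗_C (M|_C) ≅ (B' ⊗_B M)|_{C'}` naturally in the `B`-module `M`.
-/

set_option autoImplicit false

universe u

open CategoryTheory CategoryTheory.Limits CategoryTheory.Functor TensorProduct

attribute [local instance] HasDerivedCategory.standard

namespace Groth.Agent.LoccohB.BeckChev

variable (C C' B B' : Type u) [CommRing C] [CommRing C'] [CommRing B] [CommRing B']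
  [Algebra C C'] [Algebra C B] [Algebra C' B'] [Algebra B B'] [Algebra C B']
  [IsScalarTower C C' B'] [IsScalarTower C B B']

omit [Algebra C B] [Algebra C B'] [IsScalarTower C C' B'] [IsScalarTower C B B'] [Algebra C C'] [Algebra C' B'] in
lemma one_tmul_add (M : ModuleCat.{u} B) (m m' : M) :
    FlatLBC.extEquiv B B' M ((1 : B') ⊗ₜ[B] (m + m')) =
      FlatLBC.extEquiv B B' M ((1 : B') ⊗ₜ[B] m) + FlatLBC.extEquiv B B' M ((1 : B') ⊗ₜ[B] m') := by
  rw [TensorProduct.tmul_add, _root_.map_add]

lemma one_tmul_smul (M : ModuleCat.{u} B) (c : C) (m : M) :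
    FlatLBC.extEquiv B B' M ((1 : B') ⊗ₜ[B] (algebraMap C B c • m)) =
      algebraMap C' B' (algebraMap C C' c) • FlatLBC.extEquiv B B' M ((1 : B') ⊗ₜ[B] m) := by
  rw [← _root_.map_smul, TensorProduct.smul_tmul', TensorProduct.tmul_smul,
    TensorProduct.smul_tmul', ← IsScalarTower.algebraMap_apply C C' B',
    IsScalarTower.algebraMap_apply C B B', Algebra.smul_def, smul_eq_mul]

/-- `M|_C ⟶ ((B' ⊗_B M)|_{C'})|_C`, `m ↦ 1 ⊗ m`. -/
noncomputable def preMap (M : ModuleCat.{u} B) :
    (ModuleCat.restrictScalars.{u} (algebraMap C B)).obj M ⟶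
      (ModuleCat.restrictScalars.{u} (algebraMap C C')).obj
        ((ModuleCat.restrictScalars.{u} (algebraMap C' B')).obj
          ((ModuleCat.extendScalars.{u, u, u} (algebraMap B B')).obj M)) :=
  ModuleCat.ofHom (X := (ModuleCat.restrictScalars.{u} (algebraMap C B)).obj M)
    (Y := (ModuleCat.restrictScalars.{u} (algebraMap C C')).obj
        ((ModuleCat.restrictScalars.{u} (algebraMap C' B')).obj
          ((ModuleCat.extendScalars.{u, u, u} (algebraMap B B')).obj M)))
    { toFun := fun m => FlatLBC.extEquiv B B' M ((1 : B') ⊗ₜ[B] (m : M))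
      map_add' := fun m m' => one_tmul_add B B' M m m'
      map_smul' := fun c m => one_tmul_smul C C' B B' M c m }

lemma preMap_naturality {M N : ModuleCat.{u} B} (f : M ⟶ N) :
    (ModuleCat.restrictScalars.{u} (algebraMap C B)).map f ≫ preMap C C' B B' N =
      preMap C C' B B' M ≫ (ModuleCat.restrictScalars.{u} (algebraMap C C')).map
        ((ModuleCat.restrictScalars.{u} (algebraMap C' B')).map
          ((ModuleCat.extendScalars.{u, u, u} (algebraMap B B')).map f)) := by
  apply ModuleCat.hom_ext
  apply LinearMap.ext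
  intro m
  rfl

/-- The Beck–Chevalley map. -/
noncomputable def bcMap :
    ModuleCat.restrictScalars.{u} (algebraMap C B) ⋙
        ModuleCat.extendScalars.{u, u, u} (algebraMap C C') ⟶
      ModuleCat.extendScalars.{u, u, u} (algebraMap B B') ⋙
        ModuleCat.restrictScalars.{u} (algebraMap C' B') where
  app M := ((ModuleCat.extendRestrictScalarsAdj.{u, u, u} (algebraMap C C')).homEquiv _ _).symm
    (preMap C C' B B' M)
  naturality M N f := by
    apply ((ModuleCat.extendRestrictScalarsAdj.{u, u, u} (algebraMap C C')).homEquiv _ _).injective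
    dsimp only [Functor.comp_map, Functor.comp_obj]
    rw [Adjunction.homEquiv_naturality_left, Adjunction.homEquiv_naturality_right,
      Equiv.apply_symm_apply, Equiv.apply_symm_apply]
    exact preMap_naturality C C' B B' f

lemma bcMap_app_tmul (M : ModuleCat.{u} B) (c : C')
    (m : (ModuleCat.restrictScalars.{u} (algebraMap C B)).obj M) :
    ((bcMap C C' B B').app M).hom (FlatLBC.extEquiv C C' _ (c ⊗ₜ[C] m)) =
      algebraMap C' B' c • FlatLBC.extEquiv B B' M ((1 : B') ⊗ₜ[B] (m : M)) := by
  have h1 := congrArg (fun t => t.hom m)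
    (((ModuleCat.extendRestrictScalarsAdj.{u, u, u} (algebraMap C C')).homEquiv _ _).apply_symm_apply
    (preMap C C' B B' M))
  have h2 : ((bcMap C C' B B').app M).hom (FlatLBC.extEquiv C C' _ ((1 : C') ⊗ₜ[C] m)) =
    FlatLBC.extEquiv B B' M ((1 : B') ⊗ₜ[B] (m : M)) := h1
  have h3 : (c ⊗ₜ[C] m : C' ⊗[C] ((ModuleCat.restrictScalars.{u} (algebraMap C B)).obj M)) =
    c • ((1 : C') ⊗ₜ[C] m) := by rw [TensorProduct.smul_tmul', smul_eq_mul, mul_one]
  rw [h3, _root_.map_smul, _root_.map_smul, h2]
  rfl

instance isIso_bcMap_app [Algebra.IsPushout C C' B B'] (M : ModuleCat.{u} B) :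
    IsIso ((bcMap C C' B B').app M) := by
  let _ : Module C M := Module.compHom M (algebraMap C B)
  have : IsScalarTower C B M := ⟨fun x y z => by
    rw [Algebra.smul_def, mul_smul]; rfl⟩
  let e := Algebra.IsPushout.cancelBaseChange C C' B B' M
  have hb : Function.Bijective ((bcMap C C' B B').app M).hom := by
    let F1 : C' ⊗[C] M →+ ((ModuleCat.extendScalars.{u, u, u} (algebraMap B B') ⋙
        ModuleCat.restrictScalars.{u} (algebraMap C' B')).obj M) :=
      ((bcMap C C' B B').app M).hom.toAddMonoidHom.comp (FlatLBC.extEquiv C C'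
        ((ModuleCat.restrictScalars.{u} (algebraMap C B)).obj M)).toLinearMap.toAddMonoidHom
    let F2 : C' ⊗[C] M →+ ((ModuleCat.extendScalars.{u, u, u} (algebraMap B B') ⋙
        ModuleCat.restrictScalars.{u} (algebraMap C' B')).obj M) :=
      (FlatLBC.extEquiv B B' M).toLinearMap.toAddMonoidHom.comp e.symm.toLinearMap.toAddMonoidHom
    have h0 : ∀ t, F1 t = F2 t := by
      intro t
      induction t using TensorProduct.induction_on with
      | zero => rw [_root_.map_zero, _root_.map_zero]
      | add x y hx hy => rw [_root_.map_add, _root_.map_add, hx, hy]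
      | tmul c m =>
        refine (bcMap_app_tmul C C' B B' M c m).trans ?_
        change _ = FlatLBC.extEquiv B B' M (e.symm (c ⊗ₜ[C] m))
        rw [Algebra.IsPushout.cancelBaseChange_symm_tmul, ← _root_.map_smul,
          TensorProduct.smul_tmul', smul_eq_mul, mul_one]
    have h2 : ∀ x, ((bcMap C C' B B').app M).hom x =
        (FlatLBC.extEquiv B B' M) (e.symm ((FlatLBC.extEquiv C C'
        ((ModuleCat.restrictScalars.{u} (algebraMap C B)).obj M)).symm x)) := by
      intro x
      obtain ⟨t, rfl⟩ := (FlatLBC.extEquiv C C'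
        ((ModuleCat.restrictScalars.{u} (algebraMap C B)).obj M)).surjective x
      rw [LinearEquiv.symm_apply_apply]
      exact h0 t
    have h3 : ⇑((bcMap C C' B B').app M).hom =
        (FlatLBC.extEquiv B B' M) ∘ e.symm ∘ (FlatLBC.extEquiv C C'
        ((ModuleCat.restrictScalars.{u} (algebraMap C B)).obj M)).symm := by
      funext x
      exact h2 x
    rw [h3]
    exact (FlatLBC.extEquiv B B' M).bijective.comp (e.symm.bijective.comp (LinearEquiv.bijective _))
  exact (ConcreteCategory.isIso_iff_bijective _).2 hb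

/-- The Beck–Chevalley isomorphism. -/
noncomputable def bcIso [Algebra.IsPushout C C' B B'] :
    ModuleCat.restrictScalars.{u} (algebraMap C B) ⋙
        ModuleCat.extendScalars.{u, u, u} (algebraMap C C') ≅
      ModuleCat.extendScalars.{u, u, u} (algebraMap B B') ⋙
        ModuleCat.restrictScalars.{u} (algebraMap C' B') :=
  NatIso.ofComponents (fun M => asIso ((bcMap C C' B B').app M))
    (fun f => (bcMap C C' B B').naturality f)

/-- The derived Beck–Chevalley isomorphism for `C → C'` and `B → B'` flat. -/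
noncomputable def bcDIso [Algebra.IsPushout C C' B B'] (h : (algebraMap C C').Flat)
    (h' : (algebraMap B B').Flat) :
    DRing.restrictD (algebraMap C B) ⋙ FlatLBC.flatBC (algebraMap C C') h ≅
      FlatLBC.flatBC (algebraMap B B') h' ⋙ DRing.restrictD (algebraMap C' B') :=
  haveI := ModuleCat.preservesFiniteLimits_extendScalars_of_flat h
  haveI := ModuleCat.preservesFiniteLimits_extendScalars_of_flat h'
  LBC.mapDerComp _ _ _ (bcIso C C' B B') ≪≫ (LBC.mapDerComp _ _ _ (Iso.refl _)).symm

end Groth.Agent.LoccohB.BeckChev
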