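import Groth.Agent.LoccohB.BCUnit
import Groth.Agent.LoccohB.BeckChev
import Groth.Agent.PerfC.AcyclicBdd
import Groth.Agent.Ega3A.FlatSES
import Mathlib.CategoryTheory.Abelian.Projective.Extend
import Mathlib.RingTheory.Flat.Stability
import Mathlib.Algebra.Category.ModuleCat.Projective

/-!
# Derived base change of a module which is flat over the base

`R → R'`, `C` flat over `R`, `C' = R' ⊗_R C`.  For a `C`-module `M` which is flat over `R`, the derived base
change of `M` along `C → C'` is `C' ⊗_C M`.
-/

set_option autoImplicit false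

universe u

open CategoryTheory CategoryTheory.Limits CategoryTheory.Functor TensorProduct

attribute [local instance] HasDerivedCategory.standard

namespace Groth.Agent.LoccohB.BCFlat

open DerivedCategory LBC BCUnit PerfC.AcyclicBdd

section Flat

variable (R C : Type u) [CommRing R] [CommRing C] [Algebra R C]

/-- `C`-modules which are flat over `R`. -/
def FlatOver : ObjectProperty (ModuleCat.{u} C) := fun M =>
  Module.Flat R ((ModuleCat.restrictScalars.{u} (algebraMap R C)).obj M)

lemma flatOver_of_flat [Module.Flat R C] (M : ModuleCat.{u} C) [Module.Flat C M] :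
    FlatOver R C M := by
  let _ : Module R M := Module.compHom M (algebraMap R C)
  have : IsScalarTower R C M := ⟨fun x y z => by
    rw [Algebra.smul_def, mul_smul]; rfl⟩
  exact Module.Flat.trans R C M

lemma flatOver_of_isZero (M : ModuleCat.{u} C) (hM : IsZero M) : FlatOver R C M := by
  have h1 : IsZero ((ModuleCat.restrictScalars.{u} (algebraMap R C)).obj M) :=
    Functor.map_isZero _ hM
  have := ModuleCat.subsingleton_of_isZero h1
  unfold FlatOver
  infer_instance

lemma flatOver_biprod (M N : ModuleCat.{u} C) (hM : FlatOver R C M) (hN : FlatOver R C N) :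
    FlatOver R C (M ⊞ N) := by
  have h := (ShortComplex.Splitting.ofHasBinaryBiproduct M N).shortExact.map_of_exact
    (ModuleCat.restrictScalars.{u} (algebraMap R C))
  have h1 : Module.Flat R ((ModuleCat.restrictScalars.{u} (algebraMap R C)).obj M) := hM
  have h2 : Module.Flat R ((ModuleCat.restrictScalars.{u} (algebraMap R C)).obj N) := hN
  exact @Ega3A.FlatSES.flat_middle _ _ _ _ _ _ _ _ _ _ _ _ _ h.moduleCat_injective_f
      ((ShortComplex.ShortExact.moduleCat_exact_iff_function_exact _).1 h.exact)
      h.moduleCat_surjective_g h1 h2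

end Flat

variable (R R' C C' : Type u) [CommRing R] [CommRing R'] [CommRing C] [CommRing C']
  [Algebra R R'] [Algebra R C] [Algebra R' C'] [Algebra C C'] [Algebra R C']
  [IsScalarTower R R' C'] [IsScalarTower R C C'] [Algebra.IsPushout R R' C C']

include R' in
/-- The class of `R`-flat modules is adapted to `C' ⊗_C -`. -/
theorem adapted : Adapted (ModuleCat.extendScalars.{u, u, u} (algebraMap C C')) (FlatOver R C) where
  zero M hM := flatOver_of_isZero R C M hM
  ker S hS h₂ h₃ := by
    have h := hS.map_of_exact (ModuleCat.restrictScalars.{u} (algebraMap R C))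
    exact @Ega3A.FlatSES.flat_left _ _ _ _ _ _ _ _ _ _ _ _ _ h.moduleCat_injective_f
      ((ShortComplex.ShortExact.moduleCat_exact_iff_function_exact _).1 h.exact)
      h.moduleCat_surjective_g h₂ h₃
  mono S hS h₃ := by
    have h := hS.map_of_exact (ModuleCat.restrictScalars.{u} (algebraMap R C))
    have h3 : Module.Flat R ((ModuleCat.restrictScalars.{u} (algebraMap R C)).obj S.X₃) := h₃
    have h4 : Mono ((ModuleCat.extendScalars.{u, u, u} (algebraMap R R')).map
        ((ModuleCat.restrictScalars.{u} (algebraMap R C)).map S.f)) := by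
      rw [ModuleCat.mono_iff_injective]
      have h5 := @Ega3A.FlatSES.lTensor_injective_of_flat _ _ _ _ _ _ _ _ _ _ _ _ _
        h.moduleCat_injective_f
        ((ShortComplex.ShortExact.moduleCat_exact_iff_function_exact _).1 h.exact)
        h.moduleCat_surjective_g h3 R' _ _
      have h6 : ⇑((ModuleCat.extendScalars.{u, u, u} (algebraMap R R')).map
        ((ModuleCat.restrictScalars.{u} (algebraMap R C)).map S.f)).hom =
        (FlatLBC.extEquiv R R' _) ∘ (LinearMap.lTensor R'
          ((ModuleCat.restrictScalars.{u} (algebraMap R C)).map S.f).hom) ∘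
        (FlatLBC.extEquiv R R' _).symm := by
        funext x
        obtain ⟨t, rfl⟩ := (FlatLBC.extEquiv R R' _).surjective x
        dsimp only [Function.comp_apply]
        rw [LinearEquiv.symm_apply_apply]
        induction t using TensorProduct.induction_on with
        | zero => simp only [_root_.map_zero]
        | add x y hx hy => simp only [_root_.map_add, hx, hy]
        | tmul c m => rfl
      rw [h6]
      exact (FlatLBC.extEquiv R R' _).injective.comp (h5.comp (FlatLBC.extEquiv R R' _).symm.injective)
    have h5 : Mono ((ModuleCat.extendScalars.{u, u, u} (algebraMap C C') ⋙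
        ModuleCat.restrictScalars.{u} (algebraMap R' C')).map S.f) := by
      have h6 := (BeckChev.bcIso R R' C C').hom.naturality S.f
      have h7 : (ModuleCat.extendScalars.{u, u, u} (algebraMap C C') ⋙
        ModuleCat.restrictScalars.{u} (algebraMap R' C')).map S.f =
        (BeckChev.bcIso R R' C C').inv.app _ ≫
        (ModuleCat.restrictScalars.{u} (algebraMap R C) ⋙
          ModuleCat.extendScalars.{u, u, u} (algebraMap R R')).map S.f ≫
        (BeckChev.bcIso R R' C C').hom.app _ := by
        rw [h6, Iso.inv_hom_id_app_assoc]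
      rw [h7]
      have h8 : Mono ((ModuleCat.restrictScalars.{u} (algebraMap R C) ⋙
          ModuleCat.extendScalars.{u, u, u} (algebraMap R R')).map S.f) := h4
      infer_instance
    exact (ModuleCat.restrictScalars.{u} (algebraMap R' C')).mono_of_mono_map h5

section Value

/-- If `C' ⊗ -` preserves a K-projective resolution of `K` then it computes the derived base change. -/
lemma isIso_lbcQCounit_of_res {A B : Type u} [CommRing A] [CommRing B] (φ : A →+* B)
    [DRing.HasLBaseChange φ] {F K : CochainComplex (ModuleCat.{u} A) ℤ} [F.IsKProjective] (p : F ⟶ K)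
    [QuasiIso p] (hp : QuasiIso ((extCx φ).map p)) : IsIso ((lbcQCounit φ).app K) := by
  have h1 := (lbcQCounit φ).naturality p
  have h2 : IsIso (Q.map p) := inferInstance
  have h3 : IsIso (Q.map ((extCx φ).map p)) := inferInstance
  have h4 : IsIso ((Q ⋙ DRing.LBaseChange φ).map p) :=
    inferInstanceAs (IsIso ((DRing.LBaseChange φ).map (Q.map p)))
  have h5 : IsIso ((Q ⋙ DRing.LBaseChange φ).map p ≫ (lbcQCounit φ).app K) := by
    rw [h1]
    exact inferInstanceAs (IsIso ((lbcQCounit φ).app F ≫ Q.map ((extCx φ).map p)))
  exact IsIso.of_isIso_comp_left ((Q ⋙ DRing.LBaseChange φ).map p) _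

/-- A projective resolution of a module placed in degree `n`. -/
lemma exists_res (M : ModuleCat.{u} C) (n : ℤ) :
    ∃ (F : CochainComplex (ModuleCat.{u} C) ℤ) (p : F ⟶ (CochainComplex.singleFunctor _ n).obj M),
      F.IsKProjective ∧ QuasiIso p ∧ (∀ i, n < i → IsZero (F.X i)) ∧ ∀ i, Projective (F.X i) := by
  let P := projectiveResolution M
  let F₀ := P.cochainComplex
  let e : ((CochainComplex.singleFunctor (ModuleCat.{u} C) 0).obj M)⟦(-n)⟧ ≅
      (CochainComplex.singleFunctor (ModuleCat.{u} C) n).obj M :=
    ((CochainComplex.singleFunctors (ModuleCat.{u} C)).shiftIso (-n) n 0 (by simp)).app M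
  have hz : ∀ i, n < i → IsZero ((F₀⟦(-n)⟧).X i) := fun i hi =>
    CochainComplex.isZero_of_isStrictlyLE F₀ 0 (i + (-n)) (by lia)
  have hpr : ∀ i, Projective ((F₀⟦(-n)⟧).X i) := fun i =>
    inferInstanceAs (Projective (F₀.X (i + (-n))))
  have : CochainComplex.IsStrictlyLE (F₀⟦(-n)⟧) n := by
    rw [CochainComplex.isStrictlyLE_iff]
    exact hz
  refine ⟨F₀⟦(-n)⟧, P.π'⟦(-n)⟧' ≫ e.hom, CochainComplex.isKProjective_of_projective _ n, ?_, hz, hpr⟩
  have h1 : QuasiIso (P.π'⟦(-n)⟧') := by
    rw [CochainComplex.quasiIso_shift_iff]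
    infer_instance
  infer_instance


include R' in
/-- `C`, `M` flat over `R`, `C' = R' ⊗_R C`: the derived base change of `M[-n]` is `(C' ⊗_C M)[-n]`. -/
theorem isIso_lbcQCounit_single [Module.Flat R C] [DRing.HasLBaseChange (algebraMap C C')]
    (M : ModuleCat.{u} C) (hM : FlatOver R C M) (n : ℤ) :
    IsIso ((lbcQCounit (algebraMap C C')).app ((CochainComplex.singleFunctor _ n).obj M)) := by
  obtain ⟨F, p, h1, h2, h3, h4⟩ := exists_res C M n
  refine isIso_lbcQCounit_of_res (algebraMap C C') p ?_
  have hz : ∀ i, n < i → IsZero (((CochainComplex.singleFunctor (ModuleCat.{u} C) n).obj M).X i) :=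
    fun i hi => HomologicalComplex.isZero_single_obj_X (ComplexShape.up ℤ) n M i (by lia)
  refine (adapted R R' C C').quasiIso_map (flatOver_biprod R C) p n h3 hz ?_ ?_
  · intro i
    have h5 : Module.Projective C (F.X i) := (IsProjective.iff_projective (R := C) (F.X i)).2 (h4 i)
    exact flatOver_of_flat R C _
  · intro i
    by_cases hi : i = n
    · subst hi
      exact (adapted R R' C C').of_iso
        (HomologicalComplex.singleObjXSelf (ComplexShape.up ℤ) i M).symm hM
    · exact flatOver_of_isZero R C _ (HomologicalComplex.isZero_single_obj_X (ComplexShape.up ℤ) n M i hi)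

end Value

end Groth.Agent.LoccohB.BCFlat
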