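import Groth.Agent.PerfA.Localizing
import Groth.Agent.PerfA.HomologyCoprod
import Groth.Agent.PerfA.CompactRel
import Groth.Agent.LoccohB.AdjCoprod
import Groth.Agent.LoccohB.RAdj
import Groth.Agent.LoccohB.LBC2
import Groth.Agent.LoccohB.Univ
import Groth.Agent.LoccohB.PerfTri
import Groth.Agent.LoccohB.DCalc
import Groth.Agent.PerfB.BoundedInd
import Groth.Agent.CohtopA.DModRing
import Mathlib.Algebra.Category.ModuleCat.AB
import Mathlib.Algebra.Category.ModuleCat.Limits

/-!
# `D(A)` is generated by the compact object `A[0]`; dévissage for natural transformations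

* `isCompactW_inD`: `A[0]` is compact in `D(A)`; `isCompactW_of_isPerfect`.
* `generates_inD`: `A[0]` generates.
* `prop_of_localizing`: a localizing property containing `A[0]` holds for everything.
* `isIso_app`: a natural transformation of triangulated functors commuting with coproducts which is an isomorphism
  on all `A[n]` is an isomorphism (no compatibility of the transformation with shifts needed).
-/

set_option autoImplicit false

universe w v u v' u' t

open CategoryTheory CategoryTheory.Limits Pretriangulated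

attribute [local instance] HasDerivedCategory.standard

namespace Groth.Agent.LoccohB.LocGen

open Groth.Agent.CohtopA.BrownW Groth.Agent.CohtopA.Compact DerivedCategory DBase

section Compact

variable {A : Type u} [CommRing A]

/-- Elements of (the point of) a coproduct of modules are finite sums. -/
lemma iSup_range_eq_top {ι : Type u} {X : ι → ModuleCat.{u} A} {c : Cofan X} (hc : IsColimit c) :
    ⨆ i, LinearMap.range (c.inj i).hom = ⊤ := by
  set N := ⨆ i, LinearMap.range (c.inj i).hom with hN
  have h : ModuleCat.ofHom N.mkQ = (0 : c.pt ⟶ ModuleCat.of A (c.pt ⧸ N)) := by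
    refine Cofan.IsColimit.hom_ext hc _ _ (fun i => ?_)
    apply ModuleCat.hom_ext
    ext x
    rw [comp_zero]
    change N.mkQ ((c.inj i).hom x) = 0
    rw [Submodule.mkQ_apply, Submodule.Quotient.mk_eq_zero]
    exact Submodule.mem_iSup_of_mem i ⟨x, rfl⟩
  rw [eq_top_iff]
  intro x _
  rw [← Submodule.ker_mkQ N, LinearMap.mem_ker]
  exact congrArg (fun f : c.pt ⟶ ModuleCat.of A (c.pt ⧸ N) => f.hom x) h

/-- `A[n]` is compact. -/
theorem isCompactW_sg (n : ℤ) : IsCompactW.{u} (sg A n A) := by
  intro ι X c hc f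
  let H := homologyFunctor (ModuleCat.{u} A) n
  let c' : Cofan (fun i => H.obj (X i)) := Cofan.mk (H.obj c.pt) (fun i => H.map (c.inj i))
  have hc' : IsColimit c' := isColimitCofanMkObjOfIsColimit H _ _ hc
  have key : ∀ x : Dual.HD A c.pt n, IsFiniteSum c ((homEquivHD n c.pt).symm x) := by
    intro x
    have hx : x ∈ ⨆ i, LinearMap.range (c'.inj i).hom := by
      rw [iSup_range_eq_top hc']
      trivial
    induction hx using Submodule.iSup_induction' with
    | mem i x hx =>
      obtain ⟨y, rfl⟩ := hx
      have h1 : (homEquivHD n c.pt).symm ((c'.inj i).hom y) =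
          (homEquivHD n (X i)).symm y ≫ c.inj i := by
        rw [LinearEquiv.symm_apply_eq, homEquivHD_comp, LinearEquiv.apply_symm_apply]
        rfl
      rw [h1]
      exact IsFiniteSum.single c i _
    | zero =>
      rw [map_zero]
      exact IsFiniteSum.zero c
    | add x y hx hy hx' hy' =>
      rw [map_add]
      exact IsFiniteSum.add hx' hy'
  have := key (homEquivHD n c.pt f)
  rwa [LinearEquiv.symm_apply_apply] at this

/-- `A[0]` is compact. -/
theorem isCompactW_inD : IsCompactW.{u} (Dual.inD A A) := isCompactW_sg 0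

/-- `A[0]` generates `D(A)`. -/
theorem generates_inD : CohDer.Generates (fun _ : PUnit.{u + 1} => Dual.inD A A) := by
  intro K h
  rw [DCalc.isZero_iff]
  intro i
  have h1 : Subsingleton (Dual.inD A A ⟶ K⟦i⟧) := ⟨fun f g => (h PUnit.unit i f).trans
    (h PUnit.unit i g).symm⟩
  have h2 : Subsingleton (Dual.HD A (K⟦i⟧) 0) := (homEquivHD 0 (K⟦i⟧)).symm.toEquiv.subsingleton
  have h3 : IsZero ((homologyFunctor (ModuleCat.{u} A) 0).obj (K⟦i⟧)) :=
    ModuleCat.isZero_of_subsingleton _
  exact IsZero.of_iso h3 (((homologyFunctor (ModuleCat.{u} A) 0).shiftIso i 0 i (by omega)).app K).symm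

/-- `P[n]` is compact for `P` finite projective. -/
theorem isCompactW_single (P : ModuleCat.{u} A) (n : ℤ) (hf : Module.Finite A P)
    (hp : Module.Projective A P) :
    IsCompactW.{u} ((singleFunctor (ModuleCat.{u} A) n).obj P) := by
  obtain ⟨r, f, hf'⟩ := Module.Finite.exists_fin' A P
  obtain ⟨s, hs⟩ := Module.projective_lifting_property f LinearMap.id hf'
  intro ι X c hc g
  have h1 : ∀ x : P, x = ∑ j, s x j • f (Pi.single j 1) := by
    intro x
    have h2 : f (s x) = x := DFunLike.congr_fun hs x
    conv_lhs => rw [← h2, ← Finset.univ_sum_single (s x)]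
    rw [map_sum]
    refine Finset.sum_congr rfl (fun j _ => ?_)
    rw [← map_smul]
    congr 1
    rw [← Pi.single_smul, smul_eq_mul, mul_one]
  let a : Fin r → (P ⟶ ModuleCat.of A A) := fun j => ModuleCat.ofHom (LinearMap.proj j ∘ₗ s)
  let b : Fin r → (ModuleCat.of A A ⟶ P) := fun j =>
    ModuleCat.ofHom (LinearMap.toSpanSingleton A P (f (Pi.single j 1)))
  have h3 : ∑ j, a j ≫ b j = 𝟙 P := by
    apply ModuleCat.hom_ext
    ext x
    rw [ModuleCat.hom_sum, LinearMap.sum_apply]
    exact (h1 x).symm
  let F := singleFunctor (ModuleCat.{u} A) n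
  have h4 : g = ∑ j, F.map (a j) ≫ (F.map (b j) ≫ g) := by
    have : ∑ j, F.map (a j) ≫ F.map (b j) = 𝟙 (F.obj P) := by
      rw [← F.map_id, ← h3, Functor.map_sum]
      exact Finset.sum_congr rfl (fun j _ => (F.map_comp _ _).symm)
    conv_lhs => rw [← Category.id_comp g, ← this, Preadditive.sum_comp]
    exact Finset.sum_congr rfl (fun j _ => Category.assoc _ _ _)
  rw [h4]
  have key : ∀ t : Finset (Fin r), IsFiniteSum c (∑ j ∈ t, F.map (a j) ≫ (F.map (b j) ≫ g)) := by
    classical
    intro t
    induction t using Finset.induction_on with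
    | empty =>
      rw [Finset.sum_empty]
      exact IsFiniteSum.zero c
    | insert j t hj ih =>
      rw [Finset.sum_insert hj]
      exact IsFiniteSum.add ((isCompactW_sg n ι X c hc _).precomp _) ih
  exact key _

instance isTriangulated_compactW :
    ObjectProperty.IsTriangulated (fun K : Dual.D A => IsCompactW.{u} K) :=
  isTriangulated_isCompactW

instance closedUnderIso_compactW :
    ObjectProperty.IsClosedUnderIsomorphisms (fun K : Dual.D A => IsCompactW.{u} K) where
  of_iso e h := isCompactW_of_iso e h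

/-- Perfect objects are compact. -/
theorem isCompactW_of_isPerfect {K : Dual.D A} (h : DRing.IsPerfect A K) : IsCompactW.{u} K := by
  obtain ⟨E, a, b, h1, h2, ⟨e⟩⟩ := h
  refine isCompactW_of_iso e ?_
  exact PerfB.BoundedInd.bounded_induction (fun K : Dual.D A => IsCompactW.{u} K) E a b h1
    (fun i => isCompactW_single (E.X i) 0 (h2 i).1 (h2 i).2)

lemma isCompactObjRel_inD : PerfAux.IsCompactObjRel.{u} (fun _ => True) (Dual.inD A A) := by
  rw [PerfA.CompactRel.isCompactObjRel_iff]
  intro ι X _ _ f
  exact isCompactW_inD ι X _ (coproductIsCoproduct X) f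

instance locallySmall_D : LocallySmall.{u} (Dual.D A) := CohtopA.DModRing.locallySmall A

instance top_isTriangulated {D : Type*} [Category* D] [Preadditive D] [HasZeroObject D]
    [HasShift D ℤ] [∀ n : ℤ, (shiftFunctor D n).Additive] [Pretriangulated D] :
    (⊤ : ObjectProperty D).IsTriangulated where
  toContainsZero := inferInstance
  isStableUnderShiftBy _ := ⟨fun _ _ => trivial⟩
  ext₂' _ _ _ _ := ObjectProperty.le_isoClosure _ _ trivial

/-- A triangulated property closed under coproducts and containing `A[0]` holds for all objects. -/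
theorem prop_of_localizing (L : ObjectProperty (Dual.D A)) [L.IsTriangulated]
    [L.IsClosedUnderIsomorphisms] (hL : ∀ (J : Type u) (K : J → Dual.D A), (∀ j, L (K j)) → L (∐ K))
    (h0 : L (Dual.inD A A)) (X : Dual.D A) : L X := by
  have hg := generates_inD (A := A)
  refine PerfA.Localizing.prop_of_localizing (⊤ : ObjectProperty (Dual.D A)) L
    (fun _ _ _ => trivial) (fun J K _ h => hL J K h) (fun _ : PUnit.{u + 1} => Dual.inD A A)
    (fun _ => isCompactObjRel_inD) (fun _ => trivial) (fun _ => h0) (fun X _ h => ?_) X trivial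
  apply hg
  intro k n f
  have h1 := h k (-n) (((shiftEquiv' (Dual.D A) (-n) n (neg_add_cancel n)).toAdjunction.homEquiv
    (Dual.inD A A) X).symm f)
  have h2 := congrArg ((shiftEquiv' (Dual.D A) (-n) n (neg_add_cancel n)).toAdjunction.homEquiv
    (Dual.inD A A) X) h1
  rw [Equiv.apply_symm_apply] at h2
  rw [h2, Adjunction.homEquiv_unit]
  exact (congrArg (fun t => _ ≫ t) (Functor.map_zero (shiftFunctor (Dual.D A) n) _ _)).trans comp_zero

end Compact

section Nat

variable {D : Type u} [Category.{v} D] {D' : Type u'} [Category.{v'} D']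

/-- A natural transformation between functors preserving a colimit cofan is an isomorphism on the point if
it is so on the summands. -/
lemma isIso_app_of_isColimit {F G : D ⥤ D'} (β : F ⟶ G) {ι : Type w} {X : ι → D} {c : Cofan X}
    (hc : IsColimit c) [PreservesColimit (Discrete.functor X) F]
    [PreservesColimit (Discrete.functor X) G] (h : ∀ i, IsIso (β.app (X i))) :
    IsIso (β.app c.pt) := by
  let cF : Cofan (fun i => F.obj (X i)) := Cofan.mk (F.obj c.pt) (fun i => F.map (c.inj i))
  let cG : Cofan (fun i => G.obj (X i)) := Cofan.mk (G.obj c.pt) (fun i => G.map (c.inj i))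
  have hF : IsColimit cF := isColimitCofanMkObjOfIsColimit F _ _ hc
  have hG : IsColimit cG := isColimitCofanMkObjOfIsColimit G _ _ hc
  let g : cG.pt ⟶ cF.pt := Cofan.IsColimit.desc hG (fun i => inv (β.app (X i)) ≫ cF.inj i)
  have hg : ∀ i, cG.inj i ≫ g = inv (β.app (X i)) ≫ cF.inj i := fun i =>
    Cofan.IsColimit.fac hG _ i
  have hβ : ∀ i, cF.inj i ≫ β.app c.pt = β.app (X i) ≫ cG.inj i := fun i =>
    β.naturality (c.inj i)
  refine ⟨g, ?_, ?_⟩
  · refine Cofan.IsColimit.hom_ext hF _ _ (fun i => ?_)
    rw [← Category.assoc, hβ, Category.assoc, hg, IsIso.hom_inv_id_assoc]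
    exact (Category.comp_id _).symm
  · refine Cofan.IsColimit.hom_ext hG _ _ (fun i => ?_)
    rw [← Category.assoc, hg, Category.assoc, hβ, IsIso.inv_hom_id_assoc]
    exact (Category.comp_id _).symm

end Nat

section Tri

variable {D : Type u} [Category.{v} D] [Preadditive D] [HasZeroObject D] [HasShift D ℤ]
    [∀ n : ℤ, (shiftFunctor D n).Additive] [Pretriangulated D]
  {D' : Type u'} [Category.{v'} D'] [Preadditive D'] [HasZeroObject D'] [HasShift D' ℤ]
    [∀ n : ℤ, (shiftFunctor D' n).Additive] [Pretriangulated D']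

/-- Exactness of `Hom(X, F -)` on a distinguished triangle (at the middle). -/
lemma exact_mid (F : D ⥤ D') [F.CommShift ℤ] [F.IsTriangulated] (T : Triangle D)
    (hT : T ∈ distTriang D) {X : D'} (a : X ⟶ F.obj T.obj₂) (ha : a ≫ F.map T.mor₂ = 0) :
    ∃ b : X ⟶ F.obj T.obj₁, a = b ≫ F.map T.mor₁ :=
  Triangle.coyoneda_exact₂ _ (F.map_distinguished T hT) a ha

lemma comp_map_zero (F : D ⥤ D') [F.CommShift ℤ] [F.IsTriangulated] (T : Triangle D)
    (hT : T ∈ distTriang D) : F.map T.mor₁ ≫ F.map T.mor₂ = 0 := by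
  rw [← F.map_comp, comp_distTriang_mor_zero₁₂ T hT, F.map_zero]

/-- Five lemma: a natural transformation between triangulated functors (not required to commute with the
shifts) which is an isomorphism on `T₁, T₂, T₁[1], T₂[1]` is an isomorphism on `T₃`. -/
lemma isIso_app_obj₃ {F G : D ⥤ D'} [F.CommShift ℤ] [F.IsTriangulated] [G.CommShift ℤ]
    [G.IsTriangulated] (β : F ⟶ G) (T : Triangle D) (hT : T ∈ distTriang D)
    (h1 : IsIso (β.app T.obj₁)) (h2 : IsIso (β.app T.obj₂))
    (h1' : IsIso (β.app (T.obj₁⟦(1 : ℤ)⟧))) (h2' : IsIso (β.app (T.obj₂⟦(1 : ℤ)⟧))) :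
    IsIso (β.app T.obj₃) := by
  have hT' := rot_of_distTriang _ hT
  have hT'' := rot_of_distTriang _ hT'
  have key : ∀ X : D', Function.Bijective (fun f : X ⟶ F.obj T.obj₃ => f ≫ β.app T.obj₃) := by
    intro X
    constructor
    · intro f f' hff
      rw [← sub_eq_zero]
      set g := f - f' with hg
      have hg0 : g ≫ β.app T.obj₃ = 0 := by
        rw [hg, Preadditive.sub_comp, sub_eq_zero]
        exact hff
      have h3 : g ≫ F.map T.mor₃ = 0 := by
        rw [← cancel_mono (β.app (T.obj₁⟦(1 : ℤ)⟧)), Category.assoc, β.naturality,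
          ← Category.assoc, hg0, zero_comp, zero_comp]
      obtain ⟨y, hy'⟩ : ∃ y : X ⟶ F.obj T.obj₂, g = y ≫ F.map T.mor₂ := exact_mid F T.rotate hT' g h3
      have h4 : (y ≫ β.app T.obj₂) ≫ G.map T.mor₂ = 0 := by
        rw [Category.assoc, ← β.naturality, ← Category.assoc, ← hy', hg0]
      obtain ⟨z, hz⟩ := exact_mid G T hT (y ≫ β.app T.obj₂) h4
      have h5 : y = (z ≫ inv (β.app T.obj₁)) ≫ F.map T.mor₁ := by
        rw [← cancel_mono (β.app T.obj₂), hz, Category.assoc, Category.assoc, β.naturality,
          IsIso.inv_hom_id_assoc]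
      rw [hy', h5, Category.assoc, comp_map_zero F T hT, comp_zero]
    · intro x
      let y : X ⟶ F.obj (T.obj₁⟦(1 : ℤ)⟧) := (x ≫ G.map T.mor₃) ≫ inv (β.app (T.obj₁⟦(1 : ℤ)⟧))
      have hy : y ≫ β.app (T.obj₁⟦(1 : ℤ)⟧) = x ≫ G.map T.mor₃ := by
        simp only [y, Category.assoc, IsIso.inv_hom_id, Category.comp_id]
      have h3 : y ≫ F.map T.rotate.rotate.mor₂ = 0 := by
        have hG : G.map T.mor₃ ≫ G.map T.rotate.rotate.mor₂ = 0 :=
          comp_map_zero G T.rotate.rotate hT''
        change y ≫ F.map (-(T.mor₁⟦(1 : ℤ)⟧')) = 0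
        rw [← cancel_mono (β.app (T.obj₂⟦(1 : ℤ)⟧)), Category.assoc, β.naturality,
          ← Category.assoc, hy, Category.assoc, zero_comp]
        exact (congrArg (fun t => x ≫ t) hG).trans comp_zero
      obtain ⟨z, hz'⟩ : ∃ z : X ⟶ F.obj T.obj₃, y = z ≫ F.map T.mor₃ :=
        exact_mid F T.rotate.rotate hT'' y h3
      have h4 : (x - z ≫ β.app T.obj₃) ≫ G.map T.mor₃ = 0 := by
        rw [Preadditive.sub_comp, Category.assoc, ← β.naturality, ← Category.assoc, ← hz', hy,
          sub_self]
      obtain ⟨w, hw'⟩ : ∃ w : X ⟶ G.obj T.obj₂, x - z ≫ β.app T.obj₃ = w ≫ G.map T.mor₂ :=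
        exact_mid G T.rotate hT' (x - z ≫ β.app T.obj₃) h4
      refine ⟨z + (w ≫ inv (β.app T.obj₂)) ≫ F.map T.mor₂, ?_⟩
      dsimp only
      rw [Preadditive.add_comp, Category.assoc, Category.assoc, β.naturality,
        IsIso.inv_hom_id_assoc, ← hw', add_sub_cancel]
  obtain ⟨g, hg⟩ := (key (G.obj T.obj₃)).2 (𝟙 _)
  dsimp only at hg
  refine ⟨g, (key _).1 ?_, hg⟩
  dsimp only
  rw [Category.assoc, hg, Category.comp_id, Category.id_comp]

end Tri

section Devissage

open ZeroObject

variable {A B : Type u} [CommRing A] [CommRing B]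
  {F G : Dual.D A ⥤ Dual.D B} [F.CommShift ℤ] [F.IsTriangulated] [G.CommShift ℤ]
    [G.IsTriangulated] (hF : ∀ J : Type u, PreservesColimitsOfShape (Discrete J) F)
    (hG : ∀ J : Type u, PreservesColimitsOfShape (Discrete J) G) (β : F ⟶ G)

/-- Objects all of whose shifts are sent to isomorphisms. -/
def Good : ObjectProperty (Dual.D A) := fun V => ∀ n : ℤ, IsIso (β.app (V⟦n⟧))

instance : (Good β).IsClosedUnderIsomorphisms where
  of_iso e h n := by
    have := h n
    exact (NatTrans.isIso_app_iff_of_iso β ((shiftFunctor (Dual.D A) n).mapIso e)).1 this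

omit [F.CommShift ℤ] [F.IsTriangulated] [G.CommShift ℤ] [G.IsTriangulated] in
lemma good_shift {V : Dual.D A} (h : Good β V) (m : ℤ) : Good β (V⟦m⟧) := fun n => by
  have := h (m + n)
  exact (NatTrans.isIso_app_iff_of_iso β ((shiftFunctorAdd (Dual.D A) m n).app V)).1 this

lemma good_obj₃ (T : Triangle (Dual.D A)) (hT : T ∈ distTriang (Dual.D A)) (h1 : Good β T.obj₁)
    (h2 : Good β T.obj₂) : Good β T.obj₃ := fun n => by
  have h3 : ∀ V, Good β V → IsIso (β.app ((V⟦n⟧)⟦(1 : ℤ)⟧)) := by
    intro V hV
    have h4 := good_shift β hV n 1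
    exact h4
  exact isIso_app_obj₃ β _ (Triangle.shift_distinguished T hT n) (h1 n) (h2 n) (h3 _ h1) (h3 _ h2)

instance : (Good β).IsTriangulated where
  exists_zero := ⟨0, isZero_zero _, fun n => by
    have h : IsZero ((0 : Dual.D A)⟦n⟧) := Functor.map_isZero _ (isZero_zero _)
    exact ⟨0, (F.map_isZero h).eq_of_src _ _, (G.map_isZero h).eq_of_src _ _⟩⟩
  isStableUnderShiftBy n := ⟨fun _ hV => good_shift β hV n⟩
  ext₂' T hT h1 h3 := ObjectProperty.le_isoClosure _ _
    (good_obj₃ β _ (inv_rot_of_distTriang _ hT) (good_shift β h3 (-1)) h1)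

include hF hG in
/-- **Dévissage.** A natural transformation between triangulated functors on `D(A)` commuting with coproducts, which
is an isomorphism on `A[n]` for all `n`, is an isomorphism. -/
theorem isIso_app (h0 : ∀ n : ℤ, IsIso (β.app ((Dual.inD A A)⟦n⟧))) (V : Dual.D A) :
    IsIso (β.app V) := by
  have h1 : Good β V := by
    refine prop_of_localizing (Good β) (fun J K hK n => ?_) h0 V
    let c : Cofan (fun j => (K j)⟦n⟧) := Cofan.mk ((∐ K)⟦n⟧) (fun j => (Sigma.ι K j)⟦n⟧')
    have hc : IsColimit c :=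
      isColimitCofanMkObjOfIsColimit (shiftFunctor (Dual.D A) n) _ _ (coproductIsCoproduct K)
    have := hF J
    have := hG J
    exact isIso_app_of_isColimit β hc (fun j => hK j n)
  have h2 := h1 0
  exact (NatTrans.isIso_app_iff_of_iso β ((shiftFunctorZero (Dual.D A) ℤ).app V)).1 h2

/-- `M[n]` is `M[0][n]`. -/
noncomputable def sgShiftIso (M : Type u) [AddCommGroup M] [Module A M] (n : ℤ) :
    (Dual.inD A M)⟦n⟧ ≅ sg A (-n) M :=
  ((SingleFunctors.shiftIso (singleFunctors (ModuleCat.{u} A)) n (-n) 0 (by omega)).app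
    (ModuleCat.of A M))

include hF hG in
/-- **Dévissage**, with the objects `A[n]` written `sg A n A`. -/
theorem isIso_app_of_sg (h0 : ∀ n : ℤ, IsIso (β.app (sg A n A))) (V : Dual.D A) :
    IsIso (β.app V) :=
  isIso_app hF hG β (fun n => by
    have := h0 (-n)
    exact (NatTrans.isIso_app_iff_of_iso β (sgShiftIso A n)).2 this) V

end Devissage

section Adj

variable {A B : Type u} [CommRing A] [CommRing B] (φ : A →+* B)

/-- Derived base change commutes with coproducts. -/
theorem lbc_preservesCoprod [DRing.HasLBaseChange φ] (J : Type u) :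
    PreservesColimitsOfShape (Discrete J) (DRing.LBaseChange φ) :=
  have : PreservesColimitsOfSize.{u, u} (DRing.LBaseChange φ) :=
    (LBC.lbcAdj φ).leftAdjoint_preservesColimits
  inferInstance

/-- Restriction of scalars commutes with coproducts. -/
theorem restrictD_preservesCoprod (J : Type u) :
    PreservesColimitsOfShape (Discrete J) (DRing.restrictD φ) :=
  have : PreservesColimitsOfSize.{u, u} (DRing.restrictD φ) :=
    (RAdj.coextAdj φ).leftAdjoint_preservesColimits
  inferInstance

variable {φ} {R : Dual.D A ⥤ Dual.D B} (adj : DRing.restrictD φ ⊣ R)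

include adj

lemma radj_additive : R.Additive := adj.right_adjoint_additive

/-- A right adjoint of restriction is triangulated for the transported shift structure. -/
theorem radj_isTriangulated : letI := adj.rightAdjointCommShift ℤ; R.IsTriangulated := by
  let _ := adj.rightAdjointCommShift ℤ
  have := adj.commShift_of_leftAdjoint ℤ
  exact adj.isTriangulated_rightAdjoint

/-- If `φ_* B` is perfect over `A` then the right adjoint of restriction commutes with coproducts. -/
theorem radj_preservesCoprod
    (hB : DRing.IsPerfect A ((DRing.restrictD φ).obj (Dual.inD B B))) (J : Type u) :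
    PreservesColimitsOfShape (Discrete J) R := by
  have := radj_additive adj
  refine AdjCoprod.preservesCoproducts_of_adj (fun _ : PUnit.{u + 1} => Dual.inD B B)
    (fun _ => isCompactW_inD) generates_inD adj (fun _ n => ?_) J
  refine isCompactW_of_iso (((DRing.restrictD φ).commShiftIso n).app _).symm ?_
  exact isCompactW_shift (isCompactW_of_isPerfect hB) n

end Adj

end Groth.Agent.LoccohB.LocGen
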