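import Groth.Agent.LoccohB.BCDev
import Groth.Agent.LoccohB.LocGen
import Groth.Agent.CohtopB.DCoprod
import Mathlib.Algebra.Category.ModuleCat.Descent

/-!
# The hypotheses of the dévissage `BCDev` for perfect complexes

For `C` flat over `R`, `G R C m : Mod R ⥤ D(C)`, `T ↦ (C ⊗_R T)[-m]` and `Y` perfect over `C`: `tri`, `free`, `high`.
-/

set_option autoImplicit false

universe u v w

open CategoryTheory CategoryTheory.Limits Pretriangulated

attribute [local instance] HasDerivedCategory.standard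

namespace Groth.Agent.LoccohB.BCHyp

open DerivedCategory Groth.Agent.CohtopA.BrownW Groth.Agent.CohtopA.Compact

section Single

variable {A : Type u} [Category.{v} A] [Abelian A] [HasDerivedCategory.{w} A]

lemma comp_map_inv_map_hom {D : Type*} [Category* D] (F : D ⥤ D) {X Y Z W : D} (a : X ⟶ Y)
    (t : Y ⟶ F.obj Z) (e : W ≅ Z) : (a ≫ t ≫ F.map e.inv) ≫ F.map e.hom = a ≫ t := by
  rw [Category.assoc, Category.assoc, ← F.map_comp, e.inv_hom_id, F.map_id, Category.comp_id]

/-- The single functor in degree `m`, sends short exact sequences to distinguished triangles. -/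
lemma exists_tri {S : ShortComplex A} (hS : S.ShortExact) (m : ℤ) :
    ∃ δ, Triangle.mk ((singleFunctor A m).map S.f) ((singleFunctor A m).map S.g) δ ∈
      distTriang (DerivedCategory A) := by
  let hS' := hS.map_of_exact (HomologicalComplex.single A (ComplexShape.up ℤ) m)
  let e : singleFunctor A m ≅ CochainComplex.singleFunctor A m ⋙ Q := singleFunctorIsoCompQ A m
  let T' : Triangle (DerivedCategory A) := triangleOfSES hS'
  have hT' : T' ∈ distTriang (DerivedCategory A) := triangleOfSES_distinguished hS'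
  refine ⟨e.hom.app S.X₃ ≫ T'.mor₃ ≫ (e.inv.app S.X₁)⟦(1 : ℤ)⟧', ?_⟩
  refine isomorphic_distinguished _ hT' _ (Triangle.isoMk _ T' (e.app S.X₁) (e.app S.X₂)
    (e.app S.X₃) (e.hom.naturality S.f) (e.hom.naturality S.g) ?_)
  exact comp_map_inv_map_hom (shiftFunctor (DerivedCategory A) (1 : ℤ)) (e.hom.app S.X₃) T'.mor₃
    (e.app S.X₁)

end Single

section G

variable (R C : Type u) [CommRing R] [CommRing C] [Algebra R C]

/-- `T ↦ (C ⊗_R T)[-m]`. -/
noncomputable def G (m : ℤ) : ModuleCat.{u} R ⥤ Dual.D C :=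
  ModuleCat.extendScalars.{u, u, u} (algebraMap R C) ⋙
    DerivedCategory.singleFunctor (ModuleCat.{u} C) m

instance (m : ℤ) : (G R C m).Additive := by
  unfold G
  infer_instance

theorem tri [Module.Flat R C] (m : ℤ) (S : ShortComplex (ModuleCat.{u} R)) (hS : S.ShortExact) :
    ∃ δ, Triangle.mk ((G R C m).map S.f) ((G R C m).map S.g) δ ∈ distTriang (Dual.D C) := by
  have h1 : PreservesFiniteLimits (ModuleCat.extendScalars.{u, u, u} (algebraMap R C)) :=
    ModuleCat.preservesFiniteLimits_extendScalars_of_flat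
      (show (algebraMap R C).Flat from (RingHom.flat_algebraMap_iff).2 inferInstance)
  exact exists_tri (hS.map_of_exact (ModuleCat.extendScalars.{u, u, u} (algebraMap R C))) m

/-- The free module as a coproduct. -/
noncomputable def finsuppCofan (ι : Type u) : Cofan (fun _ : ι => ModuleCat.of R R) :=
  Cofan.mk (ModuleCat.of R (ι →₀ R)) (fun i => ModuleCat.ofHom (Finsupp.lsingle i))

/-- The free module as a coproduct. -/
noncomputable def isColimitFinsuppCofan (ι : Type u) : IsColimit (finsuppCofan R ι) :=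
  Cofan.IsColimit.mk _ (fun s => ModuleCat.ofHom (Finsupp.lsum ℕ fun i => (s.inj i).hom))
    (fun s i => by
      apply ModuleCat.hom_ext
      ext
      change (Finsupp.lsum ℕ fun i => (s.inj i).hom) (Finsupp.single i (1 : R)) = _
      simp)
    (fun s f hf => by
      apply ModuleCat.hom_ext
      refine Finsupp.lhom_ext' fun i => ?_
      ext
      have := congrArg (fun t => t.hom (1 : R)) (hf i)
      refine Eq.trans this ?_
      change _ = (Finsupp.lsum ℕ fun i => (s.inj i).hom) (Finsupp.single i (1 : R))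
      simp)

theorem free (m : ℤ) (Y : Dual.D C) (hY : DRing.IsPerfect C Y) (ι : Type u) (n : ℤ)
    (f : Y ⟶ ((G R C m).obj (ModuleCat.of R (ι →₀ R)))⟦n⟧) :
    ∃ (s : Finset ι) (g : ι → (Y ⟶ ((G R C m).obj (ModuleCat.of R R))⟦n⟧)),
      f = ∑ i ∈ s, g i ≫ ((G R C m).map (ModuleCat.ofHom (Finsupp.lsingle i)))⟦n⟧' := by
  have h0 : PreservesColimitsOfShape (Discrete ι)
      (DerivedCategory.singleFunctor (ModuleCat.{u} C) m) :=
    CohtopB.DCoprod.preservesColimitsOfShape_singleFunctor m
  have h1 : PreservesColimitsOfShape (Discrete ι) (G R C m) := by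
    unfold G
    infer_instance
  let F := G R C m ⋙ shiftFunctor (Dual.D C) n
  let c : Cofan (fun _ : ι => F.obj (ModuleCat.of R R)) :=
    Cofan.mk (F.obj (ModuleCat.of R (ι →₀ R))) (fun i => F.map (ModuleCat.ofHom (Finsupp.lsingle i)))
  have hc : IsColimit c := isColimitCofanMkObjOfIsColimit F _ _ (isColimitFinsuppCofan R ι)
  obtain ⟨s, g, h⟩ := LocGen.isCompactW_of_isPerfect hY ι _ c hc f
  exact ⟨s, g, h⟩

end G

section High

variable {C : Type u} [CommRing C]

lemma eq_zero_of_kproj {E L : DRing.Cx C} [E.IsKProjective] (h : ∀ i, IsZero (E.X i) ∨ IsZero (L.X i))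
    (f : (Q.obj E : Dual.D C) ⟶ Q.obj L) : f = 0 := by
  obtain ⟨g, rfl⟩ := KDer.liftsFrom_Q E f
  have : g = 0 := by
    refine HomologicalComplex.hom_ext _ _ fun i => ?_
    rcases h i with h | h
    · exact h.eq_of_src _ _
    · exact h.eq_of_tgt _ _
  rw [this]
  exact Functor.map_zero _ _ _

theorem high' (m : ℤ) (Y : Dual.D C) (hY : DRing.IsPerfect C Y) :
    ∃ N : ℤ, ∀ (M : ModuleCat.{u} C) (n : ℤ), N < n →
      Subsingleton (Y ⟶ ((DerivedCategory.singleFunctor (ModuleCat.{u} C) m).obj M)⟦n⟧) := by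
  obtain ⟨E, a, b, h1, h2, ⟨e⟩⟩ := hY
  have hK : E.IsKProjective :=
    PerfTri.isKProjective_of_vanishesAbove (b := b) (fun i hi => h1 i (Or.inr hi)) (fun i => (h2 i).2)
  refine ⟨m - a, fun M n hn => ?_⟩
  let L : DRing.Cx C := ((CochainComplex.singleFunctor (ModuleCat.{u} C) m).obj M)⟦n⟧
  let e' : ((DerivedCategory.singleFunctor (ModuleCat.{u} C) m).obj M)⟦n⟧ ≅ (Q.obj L : Dual.D C) :=
    (shiftFunctor (Dual.D C) n).mapIso ((singleFunctorIsoCompQ (ModuleCat.{u} C) m).app M) ≪≫
      ((Q.commShiftIso n).app _).symm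
  have key : ∀ f : Y ⟶ ((DerivedCategory.singleFunctor (ModuleCat.{u} C) m).obj M)⟦n⟧, f = 0 := by
    intro f
    have h3 : e.hom ≫ f ≫ e'.hom = 0 := by
      refine eq_zero_of_kproj (fun i => ?_) _
      by_cases hi : i < a
      · exact Or.inl (h1 i (Or.inl hi))
      · refine Or.inr ?_
        change IsZero (((CochainComplex.singleFunctor (ModuleCat.{u} C) m).obj M).X (i + n))
        exact HomologicalComplex.isZero_single_obj_X _ _ _ _ (by omega)
    have h4 : f = e.inv ≫ (e.hom ≫ f ≫ e'.hom) ≫ e'.inv := by simp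
    rw [h4, h3, zero_comp, comp_zero]
  exact ⟨fun f g => (key f).trans (key g).symm⟩

variable (R : Type u) [CommRing R] [Algebra R C]

theorem high (m : ℤ) (Y : Dual.D C) (hY : DRing.IsPerfect C Y) :
    ∃ N : ℤ, ∀ (T : ModuleCat.{u} R) (n : ℤ), N < n → Subsingleton (Y ⟶ ((G R C m).obj T)⟦n⟧) := by
  obtain ⟨N, hN⟩ := high' m Y hY
  exact ⟨N, fun T n hn => hN _ n hn⟩

end High

end Groth.Agent.LoccohB.BCHyp
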