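import Groth.Agent.LoccohB.BCFlat
import Groth.Agent.LoccohB.Univ
import Mathlib.CategoryTheory.Adjunction.Mates

/-!
# The derived Beck–Chevalley map

For a commutative square of rings `C → C'`, `C → B`, `C' → B'`, `B → B'` the natural map
`(M|_C) ⊗^L_C C' ⟶ (M ⊗^L_B B')|_{C'}`, `M` in `D(B)`.  It is an isomorphism for all `M` as soon as it is one for
`M = B[-n]`, in particular if the square is the base change of `C → B` along `R → R'`, with `C`, `B` flat over `R`.
-/

set_option autoImplicit false

universe u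

open CategoryTheory CategoryTheory.Limits CategoryTheory.Functor TensorProduct

attribute [local instance] HasDerivedCategory.standard

namespace Groth.Agent.LoccohB.BCMap

open DerivedCategory LBC BCUnit BCFlat DBase

section Abs

variable {𝒜 𝒟 : Type*} [Category* 𝒜] [Category* 𝒟] {L₁ L₂ : 𝒜 ⥤ 𝒟} {R₁ R₂ : 𝒟 ⥤ 𝒜}
  (adj₁ : L₁ ⊣ R₁) (adj₂ : L₂ ⊣ R₂) (α : L₂ ⟶ L₁)

lemma homEquiv_conj (T : 𝒜) (d : 𝒟) (f : L₁.obj T ⟶ d) :
    adj₂.homEquiv T d (α.app T ≫ f) =
      adj₁.homEquiv T d f ≫ (conjugateEquiv adj₁ adj₂ α).app d := by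
  rw [Adjunction.homEquiv_unit, Adjunction.homEquiv_unit, Functor.map_comp, Category.assoc,
    (conjugateEquiv adj₁ adj₂ α).naturality, ← Category.assoc, ← Category.assoc,
    unit_conjugateEquiv]

lemma bijective_conj (T : 𝒜) (d : 𝒟) [IsIso (α.app T)] :
    Function.Bijective (fun g : T ⟶ R₁.obj d => g ≫ (conjugateEquiv adj₁ adj₂ α).app d) := by
  have h : (fun g : T ⟶ R₁.obj d => g ≫ (conjugateEquiv adj₁ adj₂ α).app d) =
      (adj₂.homEquiv T d) ∘ (fun f => α.app T ≫ f) ∘ (adj₁.homEquiv T d).symm := by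
    funext g
    dsimp only [Function.comp_apply]
    rw [homEquiv_conj adj₁ adj₂, Equiv.apply_symm_apply]
  rw [h]
  exact (Equiv.bijective _).comp (((asIso (α.app T)).homFromEquiv (Z := d)).symm.bijective.comp
    (Equiv.bijective _))

end Abs

/-- A natural transformation between left adjoints defined on `D(A)` is an isomorphism if it is one on
the objects `A[-n]`. -/
theorem isIso_of_sg {A : Type u} [CommRing A] {𝒟 : Type*} [Category* 𝒟] {L₁ L₂ : Dual.D A ⥤ 𝒟}
    {R₁ R₂ : 𝒟 ⥤ Dual.D A} (adj₁ : L₁ ⊣ R₁) (adj₂ : L₂ ⊣ R₂) (α : L₂ ⟶ L₁)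
    (h : ∀ n : ℤ, IsIso (α.app (sg A n A))) : IsIso α := by
  have h1 : ∀ d, IsIso ((conjugateEquiv adj₁ adj₂ α).app d) := fun d =>
    Univ.isIso_of_sg _ (fun n => haveI := h n; bijective_conj adj₁ adj₂ α (sg A n A) d)
  have h2 : IsIso (conjugateEquiv adj₁ adj₂ α) := NatIso.isIso_of_isIso_app _
  exact conjugateEquiv_of_iso adj₁ adj₂ α

lemma comp_aux₂ {𝒞 : Type*} [Category* 𝒞] {P₀ P₁ P₂ P₃ P₁' Z W V T : 𝒞} {a : P₀ ⟶ P₁}
    {k : P₁ ⟶ P₂} {c : P₂ ⟶ P₃} {c₁ : P₁ ⟶ P₁'} {k' : P₁' ⟶ P₃} (h₂ : c₁ ≫ k' = k ≫ c)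
    {m : P₀ ⟶ Z} {r : Z ⟶ P₁'} (h₁ : a ≫ c₁ = m ≫ r) {f₁ : P₁' ⟶ Z} {f₂ : Z ⟶ W} {q : W ⟶ V}
    {g : V ⟶ P₃} (h₃ : k' = (f₁ ≫ f₂) ≫ q ≫ g) (h₅ : r ≫ f₁ = 𝟙 _) {F : P₀ ⟶ T} {n : T ⟶ W}
    (h₄ : m ≫ f₂ = F ≫ n) {pq : T ⟶ V} (h₆ : pq = n ≫ q) :
    (a ≫ k) ≫ c = F ≫ pq ≫ g := by
  rw [Category.assoc, ← h₂, reassoc_of% h₁, h₃, h₆, Category.assoc, Category.assoc,
    reassoc_of% h₅, reassoc_of% h₄]

section MapDer

variable {C₁ : Type*} [Category* C₁] [Abelian C₁] [HasDerivedCategory C₁]
  {C₂ : Type*} [Category* C₂] [Abelian C₂] [HasDerivedCategory C₂]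
  {C₃ : Type*} [Category* C₃] [Abelian C₃] [HasDerivedCategory C₃]
  (F : C₁ ⥤ C₂) (G : C₂ ⥤ C₃) (H : C₁ ⥤ C₃)
  [F.Additive] [PreservesFiniteLimits F] [PreservesFiniteColimits F]
  [G.Additive] [PreservesFiniteLimits G] [PreservesFiniteColimits G]
  [H.Additive] [PreservesFiniteLimits H] [PreservesFiniteColimits H]

/-- The comparison `G (F (Q K)) ⟶ Q (G (F K))`. -/
noncomputable def fac₂ (K : CochainComplex C₁ ℤ) :
    G.mapDerivedCategory.obj (F.mapDerivedCategory.obj (Q.obj K)) ≅
      Q.obj ((G.mapHomologicalComplex (ComplexShape.up ℤ)).obj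
        ((F.mapHomologicalComplex (ComplexShape.up ℤ)).obj K)) :=
  G.mapDerivedCategory.mapIso (F.mapDerivedCategoryFactors.app K) ≪≫
    G.mapDerivedCategoryFactors.app ((F.mapHomologicalComplex (ComplexShape.up ℤ)).obj K)

lemma mapDerComp_hom_app_Q (e : F ⋙ G ≅ H) (K : CochainComplex C₁ ℤ) :
    (mapDerComp F G H e).hom.app (Q.obj K) =
      (fac₂ F G K).hom ≫ Q.map ((Functor.mapHomologicalComplexCompIso e (ComplexShape.up ℤ)).hom.app K) ≫
        H.mapDerivedCategoryFactors.inv.app K := by
  dsimp only [mapDerComp]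
  rw [natIsoOfQ_hom_app]
  simp [fac₂]

lemma mapDerComp_inv_app_Q (e : F ⋙ G ≅ H) (K : CochainComplex C₁ ℤ) :
    (mapDerComp F G H e).inv.app (Q.obj K) =
      H.mapDerivedCategoryFactors.hom.app K ≫
      Q.map ((Functor.mapHomologicalComplexCompIso e (ComplexShape.up ℤ)).inv.app K) ≫
        (fac₂ F G K).inv := by
  rw [← cancel_epi ((mapDerComp F G H e).hom.app (Q.obj K)), Iso.hom_inv_id_app,
    mapDerComp_hom_app_Q, Category.assoc, Category.assoc, Iso.inv_hom_id_app_assoc,
    ← Functor.map_comp_assoc, Iso.hom_inv_id_app]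
  exact ((congrArg (fun t => (fac₂ F G K).hom ≫ t ≫ (fac₂ F G K).inv)
    (CategoryTheory.Functor.map_id Q _)).trans
      ((congrArg (fun t => (fac₂ F G K).hom ≫ t) (Category.id_comp _)).trans
        (Iso.hom_inv_id _))).symm

end MapDer

section Square

variable (C C' B B' : Type u) [CommRing C] [CommRing C'] [CommRing B] [CommRing B']
  [Algebra C C'] [Algebra C B] [Algebra C' B'] [Algebra B B'] [Algebra C B']
  [IsScalarTower C C' B'] [IsScalarTower C B B']

/-- Restriction to `C` of a `B'`-module through `B` or through `C'`. -/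
noncomputable def kapM : ModuleCat.restrictScalars.{u} (algebraMap B B') ⋙
    ModuleCat.restrictScalars.{u} (algebraMap C B) ≅
    ModuleCat.restrictScalars.{u} (algebraMap C' B') ⋙ ModuleCat.restrictScalars.{u} (algebraMap C C') :=
  (ModuleCat.restrictScalarsComp' (algebraMap C B) (algebraMap B B') (algebraMap C B')
    (IsScalarTower.algebraMap_eq C B B')).symm ≪≫
  ModuleCat.restrictScalarsComp' (algebraMap C C') (algebraMap C' B') (algebraMap C B')
    (IsScalarTower.algebraMap_eq C C' B')

/-- The same for complexes. -/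
noncomputable def kapCx (K : CochainComplex (ModuleCat.{u} B') ℤ) :
    (resCx (algebraMap C B)).obj ((resCx (algebraMap B B')).obj K) ≅
      (resCx (algebraMap C C')).obj ((resCx (algebraMap C' B')).obj K) :=
  HomologicalComplex.Hom.isoOfComponents (fun i => (kapM C C' B B').app (K.X i))
    (fun i j _ => ((kapM C C' B B').hom.naturality (K.d i j)).symm)

/-- The same for derived categories. -/
noncomputable def kap : DRing.restrictD (algebraMap B B') ⋙ DRing.restrictD (algebraMap C B) ≅
    DRing.restrictD (algebraMap C' B') ⋙ DRing.restrictD (algebraMap C C') :=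
  restrictDComp (algebraMap C B) (algebraMap B B') (algebraMap C B')
    (IsScalarTower.algebraMap_eq C B B') ≪≫
  (restrictDComp (algebraMap C C') (algebraMap C' B') (algebraMap C B')
    (IsScalarTower.algebraMap_eq C C' B')).symm

lemma kap_hom_app_Q (K : CochainComplex (ModuleCat.{u} B') ℤ) :
    (kap C C' B B').hom.app (Q.obj K) =
      (fac₂ (ModuleCat.restrictScalars.{u} (algebraMap B B'))
        (ModuleCat.restrictScalars.{u} (algebraMap C B)) K).hom ≫
      Q.map (kapCx C C' B B' K).hom ≫
      (fac₂ (ModuleCat.restrictScalars.{u} (algebraMap C' B'))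
        (ModuleCat.restrictScalars.{u} (algebraMap C C')) K).inv := by
  dsimp only [kap, Iso.trans_hom, NatTrans.comp_app, Iso.symm_hom, restrictDComp]
  rw [mapDerComp_hom_app_Q, mapDerComp_inv_app_Q]
  simp only [Category.assoc, Iso.inv_hom_id_app_assoc]
  rw [← Functor.map_comp_assoc]
  congr 3

/-- The chain level map `K|_C ⟶ ((K ⊗_B B')|_{C'})|_C`. -/
noncomputable def preCx (K : CochainComplex (ModuleCat.{u} B) ℤ) :
    (resCx (algebraMap C B)).obj K ⟶ (resCx (algebraMap C C')).obj ((resCx (algebraMap C' B')).obj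
      ((extCx (algebraMap B B')).obj K)) :=
  (resCx (algebraMap C B)).map ((cxAdj (algebraMap B B')).unit.app K) ≫
    (kapCx C C' B B' ((extCx (algebraMap B B')).obj K)).hom

/-- The chain level Beck–Chevalley map. -/
noncomputable def bcCx (K : CochainComplex (ModuleCat.{u} B) ℤ) :
    (extCx (algebraMap C C')).obj ((resCx (algebraMap C B)).obj K) ⟶
      (resCx (algebraMap C' B')).obj ((extCx (algebraMap B B')).obj K) where
  f i := (BeckChev.bcMap C C' B B').app (K.X i)
  comm' i j _ := ((BeckChev.bcMap C C' B B').naturality (K.d i j)).symm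

lemma unit_bcCx (K : CochainComplex (ModuleCat.{u} B) ℤ) :
    (cxAdj (algebraMap C C')).unit.app ((resCx (algebraMap C B)).obj K) ≫
      (resCx (algebraMap C C')).map (bcCx C C' B B' K) = preCx C C' B B' K := by
  ext i : 1
  have h1 : (ModuleCat.extendRestrictScalarsAdj.{u, u, u} (algebraMap C C')).unit.app
      ((ModuleCat.restrictScalars.{u} (algebraMap C B)).obj (K.X i)) ≫
      (ModuleCat.restrictScalars.{u} (algebraMap C C')).map ((BeckChev.bcMap C C' B B').app (K.X i)) =
      BeckChev.preMap C C' B B' (K.X i) := by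
    have h2 := ((ModuleCat.extendRestrictScalarsAdj.{u, u, u} (algebraMap C C')).homEquiv _ _).apply_symm_apply
      (BeckChev.preMap C C' B B' (K.X i))
    rw [Adjunction.homEquiv_unit] at h2
    exact h2
  refine Eq.trans h1 ?_
  rfl

instance isIso_bcCx [Algebra.IsPushout C C' B B'] (K : CochainComplex (ModuleCat.{u} B) ℤ) :
    IsIso (bcCx C C' B B' K) := by
  have : ∀ i, IsIso ((bcCx C C' B B' K).f i) := fun i =>
    BeckChev.isIso_bcMap_app C C' B B' (K.X i)
  exact HomologicalComplex.Hom.isIso_of_components _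

variable [DRing.HasLBaseChange (algebraMap C C')] [DRing.HasLBaseChange (algebraMap B B')]

/-- The map `M|_C ⟶ ((M ⊗^L_B B')|_{C'})|_C`. -/
noncomputable def preBcm (M : Dual.D B) : (DRing.restrictD (algebraMap C B)).obj M ⟶
    (DRing.restrictD (algebraMap C C')).obj ((DRing.restrictD (algebraMap C' B')).obj
      ((DRing.LBaseChange (algebraMap B B')).obj M)) :=
  (DRing.restrictD (algebraMap C B)).map ((lbcAdj (algebraMap B B')).unit.app M) ≫
    (kap C C' B B').hom.app ((DRing.LBaseChange (algebraMap B B')).obj M)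

omit [DRing.HasLBaseChange (algebraMap C C')] in
lemma preBcm_naturality {M N : Dual.D B} (f : M ⟶ N) :
    (DRing.restrictD (algebraMap C B)).map f ≫ preBcm C C' B B' N =
      preBcm C C' B B' M ≫ (DRing.restrictD (algebraMap C C')).map
        ((DRing.restrictD (algebraMap C' B')).map ((DRing.LBaseChange (algebraMap B B')).map f)) := by
  have h1 := (lbcAdj (algebraMap B B')).unit.naturality f
  have h2 := (kap C C' B B').hom.naturality ((DRing.LBaseChange (algebraMap B B')).map f)
  dsimp only [Functor.id_map, Functor.comp_map, Functor.id_obj, Functor.comp_obj] at h1 h2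
  dsimp only [preBcm]
  rw [Category.assoc, ← h2, ← Functor.map_comp_assoc, ← Functor.map_comp_assoc, h1]

/-- The derived Beck–Chevalley map `(M|_C) ⊗^L_C C' ⟶ (M ⊗^L_B B')|_{C'}`. -/
noncomputable def bcm : DRing.restrictD (algebraMap C B) ⋙ DRing.LBaseChange (algebraMap C C') ⟶
    DRing.LBaseChange (algebraMap B B') ⋙ DRing.restrictD (algebraMap C' B') where
  app M := ((lbcAdj (algebraMap C C')).homEquiv _ _).symm (preBcm C C' B B' M)
  naturality M N f := by
    apply ((lbcAdj (algebraMap C C')).homEquiv _ _).injective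
    dsimp only [Functor.comp_map, Functor.comp_obj]
    rw [Adjunction.homEquiv_naturality_left, Adjunction.homEquiv_naturality_right,
      Equiv.apply_symm_apply, Equiv.apply_symm_apply]
    exact preBcm_naturality C C' B B' f

lemma homEquiv_bcm (M : Dual.D B) :
    (lbcAdj (algebraMap C C')).homEquiv _ _ ((bcm C C' B B').app M) = preBcm C C' B B' M :=
  Equiv.apply_symm_apply _ _

omit [DRing.HasLBaseChange (algebraMap C C')] in
set_option backward.isDefEq.respectTransparency false in
lemma preBcm_Q (K : CochainComplex (ModuleCat.{u} B) ℤ) :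
    preBcm C C' B B' (Q.obj K) ≫ (DRing.restrictD (algebraMap C C')).map
      ((DRing.restrictD (algebraMap C' B')).map ((lbcQCounit (algebraMap B B')).app K)) =
    (ModuleCat.restrictScalars.{u} (algebraMap C B)).mapDerivedCategoryFactors.hom.app K ≫
      Q.map (preCx C C' B B' K) ≫
      (fac₂ (ModuleCat.restrictScalars.{u} (algebraMap C' B'))
        (ModuleCat.restrictScalars.{u} (algebraMap C C')) ((extCx (algebraMap B B')).obj K)).inv := by
  have h1 := unit_lbcQCounit (algebraMap B B') K
  have h2 := (kap C C' B B').hom.naturality ((lbcQCounit (algebraMap B B')).app K)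
  have h3 := kap_hom_app_Q C C' B B' ((extCx (algebraMap B B')).obj K)
  have h4 := (ModuleCat.restrictScalars.{u} (algebraMap C B)).mapDerivedCategoryFactors.hom.naturality
    ((cxAdj (algebraMap B B')).unit.app K)
  have h5 : (resQ (algebraMap B B')).hom.app ((extCx (algebraMap B B')).obj K) ≫
    (ModuleCat.restrictScalars.{u} (algebraMap B B')).mapDerivedCategoryFactors.hom.app
      ((extCx (algebraMap B B')).obj K) = 𝟙 _ := Iso.inv_hom_id_app _ _
  have h1' : (DRing.restrictD (algebraMap C B)).map ((lbcAdj (algebraMap B B')).unit.app (Q.obj K)) ≫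
      (DRing.restrictD (algebraMap C B)).map ((DRing.restrictD (algebraMap B B')).map
        ((lbcQCounit (algebraMap B B')).app K)) =
      (DRing.restrictD (algebraMap C B)).map (Q.map ((cxAdj (algebraMap B B')).unit.app K)) ≫
        (DRing.restrictD (algebraMap C B)).map
          ((resQ (algebraMap B B')).hom.app ((extCx (algebraMap B B')).obj K)) := by
    rw [← Functor.map_comp, h1, Functor.map_comp]
  have h5' : (DRing.restrictD (algebraMap C B)).map
      ((resQ (algebraMap B B')).hom.app ((extCx (algebraMap B B')).obj K)) ≫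
      (DRing.restrictD (algebraMap C B)).map
      ((ModuleCat.restrictScalars.{u} (algebraMap B B')).mapDerivedCategoryFactors.hom.app
      ((extCx (algebraMap B B')).obj K)) = 𝟙 _ := by
    rw [← Functor.map_comp, h5, CategoryTheory.Functor.map_id]
  have h6 : Q.map (preCx C C' B B' K) =
      Q.map ((resCx (algebraMap C B)).map ((cxAdj (algebraMap B B')).unit.app K)) ≫
      Q.map (kapCx C C' B B' ((extCx (algebraMap B B')).obj K)).hom := Functor.map_comp _ _ _
  exact comp_aux₂ h2 h1' h3 h5' h4 h6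

lemma comp_aux₃ {𝒞 : Type*} [Category* 𝒞] {P P₃ P₄ T V Z : 𝒞} {p : P ⟶ P₃}
    {t : P₃ ⟶ P₄} {F : P ⟶ T} {n : T ⟶ V} {g : V ⟶ P₃} (h₁ : p = F ≫ n ≫ g)
    {a : T ⟶ Z} {b : Z ⟶ V} (h₂ : a ≫ b = n) {g' : V ⟶ P₄} (h₃ : g ≫ t = g') :
    p ≫ t = F ≫ a ≫ b ≫ g' := by
  rw [h₁, Category.assoc, Category.assoc, h₃, reassoc_of% h₂]

lemma comp_aux₄ {𝒞 : Type*} [Category* 𝒞] {P T V Z W X : 𝒞} {w : P ⟶ T} {c : T ⟶ V}
    {a : P ⟶ Z} {r : Z ⟶ V} (h₁ : w ≫ c = a ≫ r) {b : Z ⟶ W} {g : W ⟶ X} {d : V ⟶ X}
    (h₂ : b ≫ g = r ≫ d) : a ≫ b ≫ g = w ≫ c ≫ d := by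
  rw [h₂, reassoc_of% h₁]

set_option backward.isDefEq.respectTransparency false in
/-- The derived Beck–Chevalley map is computed by the one on complexes. -/
lemma bcm_Q (K : CochainComplex (ModuleCat.{u} B) ℤ) :
    (bcm C C' B B').app (Q.obj K) ≫
      (DRing.restrictD (algebraMap C' B')).map ((lbcQCounit (algebraMap B B')).app K) ≫
      (ModuleCat.restrictScalars.{u} (algebraMap C' B')).mapDerivedCategoryFactors.hom.app
        ((extCx (algebraMap B B')).obj K) =
    (DRing.LBaseChange (algebraMap C C')).map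
      ((ModuleCat.restrictScalars.{u} (algebraMap C B)).mapDerivedCategoryFactors.hom.app K) ≫
      (lbcQCounit (algebraMap C C')).app ((resCx (algebraMap C B)).obj K) ≫
      Q.map (bcCx C C' B B' K) := by
  apply ((lbcAdj (algebraMap C C')).homEquiv _ _).injective
  have h1 : (lbcAdj (algebraMap C C')).homEquiv _ _ ((bcm C C' B B').app (Q.obj K) ≫
      (DRing.restrictD (algebraMap C' B')).map ((lbcQCounit (algebraMap B B')).app K) ≫
      (ModuleCat.restrictScalars.{u} (algebraMap C' B')).mapDerivedCategoryFactors.hom.app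
        ((extCx (algebraMap B B')).obj K)) =
      (preBcm C C' B B' (Q.obj K) ≫ (DRing.restrictD (algebraMap C C')).map
        ((DRing.restrictD (algebraMap C' B')).map ((lbcQCounit (algebraMap B B')).app K))) ≫
      (DRing.restrictD (algebraMap C C')).map
      ((ModuleCat.restrictScalars.{u} (algebraMap C' B')).mapDerivedCategoryFactors.hom.app
        ((extCx (algebraMap B B')).obj K)) := by
    rw [Adjunction.homEquiv_naturality_right, homEquiv_bcm, Category.assoc]
    exact congrArg (fun t => preBcm C C' B B' (Q.obj K) ≫ t) (Functor.map_comp _ _ _)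
  have h2 := preBcm_Q C C' B B' K
  have h3 : (fac₂ (ModuleCat.restrictScalars.{u} (algebraMap C' B'))
        (ModuleCat.restrictScalars.{u} (algebraMap C C')) ((extCx (algebraMap B B')).obj K)).inv ≫
      (DRing.restrictD (algebraMap C C')).map
      ((ModuleCat.restrictScalars.{u} (algebraMap C' B')).mapDerivedCategoryFactors.hom.app
        ((extCx (algebraMap B B')).obj K)) =
      (resQ (algebraMap C C')).hom.app ((resCx (algebraMap C' B')).obj
        ((extCx (algebraMap B B')).obj K)) := by
    rw [Iso.inv_comp_eq]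
    dsimp only [fac₂, Iso.trans_hom, Functor.mapIso_hom]
    have h4 : (ModuleCat.restrictScalars.{u} (algebraMap C C')).mapDerivedCategoryFactors.hom.app
        ((resCx (algebraMap C' B')).obj ((extCx (algebraMap B B')).obj K)) ≫
        (resQ (algebraMap C C')).hom.app ((resCx (algebraMap C' B')).obj
        ((extCx (algebraMap B B')).obj K)) = 𝟙 _ := Iso.hom_inv_id_app _ _
    rw [Category.assoc]
    exact ((congrArg (fun t => _ ≫ t) h4).trans (Category.comp_id _)).symm
  have h5 : Q.map ((cxAdj (algebraMap C C')).unit.app ((resCx (algebraMap C B)).obj K)) ≫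
      Q.map ((resCx (algebraMap C C')).map (bcCx C C' B B' K)) = Q.map (preCx C C' B B' K) := by
    rw [← Functor.map_comp, unit_bcCx]
  rw [h1]
  refine (comp_aux₃ h2 h5 h3).trans ?_
  rw [Adjunction.homEquiv_naturality_left]
  refine congrArg (fun t => _ ≫ t) ?_
  rw [Adjunction.homEquiv_unit, Functor.map_comp]
  have h6 := unit_lbcQCounit (algebraMap C C') ((resCx (algebraMap C B)).obj K)
  have h7 := (resQ (algebraMap C C')).hom.naturality (bcCx C C' B B' K)
  exact comp_aux₄ h6 h7

/-- The Beck–Chevalley map is an isomorphism at `K` as soon as the underived one computes it. -/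
lemma isIso_bcm_Q [Algebra.IsPushout C C' B B'] (K : CochainComplex (ModuleCat.{u} B) ℤ)
    (h₁ : IsIso ((lbcQCounit (algebraMap B B')).app K))
    (h₂ : IsIso ((lbcQCounit (algebraMap C C')).app ((resCx (algebraMap C B)).obj K))) :
    IsIso ((bcm C C' B B').app (Q.obj K)) := by
  have h3 := bcm_Q C C' B B' K
  have h4 : IsIso ((DRing.restrictD (algebraMap C' B')).map ((lbcQCounit (algebraMap B B')).app K) ≫
      (ModuleCat.restrictScalars.{u} (algebraMap C' B')).mapDerivedCategoryFactors.hom.app
        ((extCx (algebraMap B B')).obj K)) := inferInstance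
  have h5 : IsIso ((DRing.LBaseChange (algebraMap C C')).map
      ((ModuleCat.restrictScalars.{u} (algebraMap C B)).mapDerivedCategoryFactors.hom.app K) ≫
      (lbcQCounit (algebraMap C C')).app ((resCx (algebraMap C B)).obj K) ≫
      Q.map (bcCx C C' B B' K)) := inferInstance
  rw [← h3] at h5
  exact IsIso.of_isIso_comp_right _ ((DRing.restrictD (algebraMap C' B')).map
    ((lbcQCounit (algebraMap B B')).app K) ≫
      (ModuleCat.restrictScalars.{u} (algebraMap C' B')).mapDerivedCategoryFactors.hom.app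
        ((extCx (algebraMap B B')).obj K))

/-- If the Beck–Chevalley map is an isomorphism at all `B[-n]`, it is an isomorphism. -/
theorem isIso_bcm_of_sg (h : ∀ n : ℤ, IsIso ((bcm C C' B B').app (sg B n B))) :
    IsIso (bcm C C' B B') :=
  isIso_of_sg ((lbcAdj (algebraMap B B')).comp (RAdj.coextAdj (algebraMap C' B')))
    ((RAdj.coextAdj (algebraMap C B)).comp (lbcAdj (algebraMap C C'))) (bcm C C' B B') h

end Square

lemma isIso_app_of_iso {𝒜 ℬ : Type*} [Category* 𝒜] [Category* ℬ] {F G : 𝒜 ⥤ ℬ} (τ : F ⟶ G) {X Y : 𝒜}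
    (e : X ≅ Y) (h : IsIso (τ.app X)) : IsIso (τ.app Y) := by
  have h1 := τ.naturality e.hom
  have h2 : IsIso (F.map e.hom ≫ τ.app Y) := by
    rw [h1]
    infer_instance
  exact IsIso.of_isIso_comp_left (F.map e.hom) _

section Base

variable (R R' C C' B B' : Type u) [CommRing R] [CommRing R'] [CommRing C] [CommRing C'] [CommRing B]
  [CommRing B'] [Algebra R R'] [Algebra R C] [Algebra R C'] [Algebra R B] [Algebra R B']
  [Algebra R' C'] [Algebra R' B'] [Algebra C C'] [Algebra C B] [Algebra C B'] [Algebra C' B']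
  [Algebra B B'] [IsScalarTower R R' C'] [IsScalarTower R C C'] [IsScalarTower R R' B']
  [IsScalarTower R B B'] [IsScalarTower R C B] [IsScalarTower R' C' B'] [IsScalarTower C C' B']
  [IsScalarTower C B B'] [IsScalarTower R C' B']
  [Algebra.IsPushout R R' C C'] [Algebra.IsPushout R R' B B']

include R R' in
/-- The square `C → C'`, `B → B'` is a pushout. -/
lemma isPushout_square : Algebra.IsPushout C C' B B' := by
  have hcc : Algebra.IsPushout R C R' C' := Algebra.IsPushout.symm inferInstance
  have hbb : Algebra.IsPushout R B R' B' := Algebra.IsPushout.symm inferInstance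
  have h1 : Algebra.IsPushout C B C' B' := (Algebra.IsPushout.comp_iff R C R' C').1 hbb
  exact h1.symm

/-- `resCx` of a module in a single degree. -/
noncomputable def resSingle {A B : Type u} [CommRing A] [CommRing B] (φ : A →+* B) (M : ModuleCat.{u} B)
    (n : ℤ) : (resCx φ).obj ((CochainComplex.singleFunctor _ n).obj M) ≅
      (CochainComplex.singleFunctor _ n).obj ((ModuleCat.restrictScalars.{u} φ).obj M) :=
  (HomologicalComplex.singleMapHomologicalComplex
      (ModuleCat.restrictScalars.{u} φ) (ComplexShape.up ℤ) n).app M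

/-- `B` is `R`-flat as a `C`-module if it is flat over `R`. -/
lemma flatOver_restrict [Module.Flat R B] : FlatOver R C
    ((ModuleCat.restrictScalars.{u} (algebraMap C B)).obj (ModuleCat.of B B)) := by
  unfold FlatOver
  have key : ∀ (r : R) (x : B), algebraMap C B (algebraMap R C r) * x = r • x := fun r x => by
    rw [← IsScalarTower.algebraMap_apply R C B, Algebra.smul_def]
  refine Module.Flat.of_linearEquiv (M := B)
    { toFun := fun x => x
      invFun := fun x => x
      left_inv := fun _ => rfl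
      right_inv := fun _ => rfl
      map_add' := fun _ _ => rfl
      map_smul' := fun r x => key r x }

include R R' in
/-- **Derived Beck–Chevalley** for the base change of `C → B` along `R → R'`, with `C` and `B` flat over
`R`: `(M|_C) ⊗^L_C C' ≅ (M ⊗^L_B B')|_{C'}` for all `M` in `D(B)`. -/
theorem isIso_bcm [Module.Flat R C] [Module.Flat R B]
    [DRing.HasLBaseChange (algebraMap C C')] [DRing.HasLBaseChange (algebraMap B B')] :
    IsIso (bcm C C' B B') := by
  have hp := isPushout_square R R' C C' B B'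
  refine isIso_bcm_of_sg C C' B B' (fun n => ?_)
  refine isIso_app_of_iso (bcm C C' B B')
    ((singleFunctorIsoCompQ (ModuleCat.{u} B) n).symm.app (ModuleCat.of B B)) ?_
  refine isIso_bcm_Q C C' B B' ((CochainComplex.singleFunctor _ n).obj (ModuleCat.of B B)) ?_ ?_
  · infer_instance
  · refine isIso_app_of_iso (lbcQCounit (algebraMap C C'))
      (resSingle (algebraMap C B) (ModuleCat.of B B) n).symm ?_
    refine isIso_lbcQCounit_single R R' C C' _ ?_ n
    exact flatOver_restrict R C B

end Base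

end Groth.Agent.LoccohB.BCMap
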