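import Groth.Prelude.Def_DDual2
import Mathlib.Algebra.Homology.DerivedCategory.TStructure
import Mathlib.Algebra.Homology.DerivedCategory.KProjective
import Mathlib.Algebra.Homology.DerivedCategory.FullyFaithful
import Mathlib.Algebra.Homology.DerivedCategory.Ext.EnoughProjectives
import Mathlib.Algebra.Category.ModuleCat.EnoughInjectives
import Mathlib.Algebra.Category.ModuleCat.Ext.Finite

/-!
# Basics on D(A): an exact functor commutes with cohomology, Hom(A, K) = H^0(K)
-/

set_option autoImplicit false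
universe w₁ w₂ v₁ v₂ u₁ u₂ u

open CategoryTheory CategoryTheory.Limits Opposite Pretriangulated

namespace Groth.Agent.LoccohB.DBase

section ExactFunctor

variable {C₁ : Type u₁} [Category.{v₁} C₁] [Abelian C₁] 
  {C₂ : Type u₂} [Category.{v₂} C₂] [Abelian C₂]
  (F : C₁ ⥤ C₂) [F.Additive] [PreservesFiniteLimits F] [PreservesFiniteColimits F]

/-- termwise: homology commutes with an exact functor. -/
noncomputable def mapComplexHomologyIso (n : ℤ) :
    F.mapHomologicalComplex (ComplexShape.up ℤ) ⋙ HomologicalComplex.homologyFunctor C₂ _ n ≅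
      HomologicalComplex.homologyFunctor C₁ (ComplexShape.up ℤ) n ⋙ F :=
  Functor.isoWhiskerLeft (F.mapHomologicalComplex (ComplexShape.up ℤ))
    (HomologicalComplex.homologyFunctorIso C₂ (ComplexShape.up ℤ) n) ≪≫
  (Iso.refl _ : F.mapHomologicalComplex (ComplexShape.up ℤ) ⋙
      HomologicalComplex.shortComplexFunctor C₂ (ComplexShape.up ℤ) n ⋙
        ShortComplex.homologyFunctor C₂ ≅
      HomologicalComplex.shortComplexFunctor C₁ (ComplexShape.up ℤ) n ⋙
        F.mapShortComplex ⋙ ShortComplex.homologyFunctor C₂) ≪≫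
  Functor.isoWhiskerLeft (HomologicalComplex.shortComplexFunctor C₁ (ComplexShape.up ℤ) n)
    (ShortComplex.homologyFunctorIso F) ≪≫
  Functor.isoWhiskerRight (HomologicalComplex.homologyFunctorIso C₁ (ComplexShape.up ℤ) n).symm F

variable [HasDerivedCategory.{w₁} C₁] [HasDerivedCategory.{w₂} C₂]

/-- `H^n(F K) ≅ F (H^n K)` for an exact functor. -/
noncomputable def mapDerivedCategoryHomologyIso (n : ℤ) :
    F.mapDerivedCategory ⋙ DerivedCategory.homologyFunctor C₂ n ≅
      DerivedCategory.homologyFunctor C₁ n ⋙ F := by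
  letI l₁ : Localization.Lifting (DerivedCategory.Q (C := C₁))
    (HomologicalComplex.quasiIso C₁ (ComplexShape.up ℤ))
    (F.mapHomologicalComplex (ComplexShape.up ℤ) ⋙ HomologicalComplex.homologyFunctor C₂ _ n)
    (F.mapDerivedCategory ⋙ DerivedCategory.homologyFunctor C₂ n) :=
    ⟨Functor.isoWhiskerRight F.mapDerivedCategoryFactors (DerivedCategory.homologyFunctor C₂ n) ≪≫
      Functor.isoWhiskerLeft (F.mapHomologicalComplex (ComplexShape.up ℤ))
        (DerivedCategory.homologyFunctorFactors C₂ n)⟩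
  letI l₂ : Localization.Lifting (DerivedCategory.Q (C := C₁))
    (HomologicalComplex.quasiIso C₁ (ComplexShape.up ℤ))
    (HomologicalComplex.homologyFunctor C₁ (ComplexShape.up ℤ) n ⋙ F)
    (DerivedCategory.homologyFunctor C₁ n ⋙ F) :=
    ⟨Functor.isoWhiskerRight (DerivedCategory.homologyFunctorFactors C₁ n) F⟩
  exact Localization.liftNatIso (DerivedCategory.Q (C := C₁))
    (HomologicalComplex.quasiIso C₁ (ComplexShape.up ℤ))
    (F.mapHomologicalComplex (ComplexShape.up ℤ) ⋙ HomologicalComplex.homologyFunctor C₂ _ n)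
    (HomologicalComplex.homologyFunctor C₁ (ComplexShape.up ℤ) n ⋙ F)
    _ _ (mapComplexHomologyIso F n)

end ExactFunctor

end Groth.Agent.LoccohB.DBase
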