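import Groth.Agent.LoccohB.FlatPoly
import Groth.Agent.LoccohB.PerfTri
import Groth.Agent.Flat2H.FPInf2
import Groth.Prelude.Def_DDual2
import Mathlib.RingTheory.Flat.EquationalCriterion

/-!
# `A` is perfect over `R[x_1..x_n]` for `R → A` flat of finite type, `R` Noetherian
-/

set_option autoImplicit false

universe u

open CategoryTheory CategoryTheory.Limits Pretriangulated DerivedCategory

attribute [local instance] HasDerivedCategory.standard

namespace Groth.Agent.LoccohB.FlatPerf

open Flat2H Flat2H.TorDim

/-- A module of type `FP_{n+1}` and of flat dimension `≤ n` is perfect. -/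
theorem isPerfect_inD_of_fpn {A : Type u} [CommRing A] (n : ℕ) :
    ∀ (M : Type u) [AddCommGroup M] [Module A M], FPn A (n + 1) M → DRing.HasTorDimLE A n M →
      DRing.IsPerfect A (Dual.inD A M) := by
  induction n with
  | zero =>
    intro M _ _ h hd
    have := (hasTorDimLE_zero_iff (A := A) (M := M)).1 hd
    obtain ⟨k, f, hf, hk⟩ := h
    have hk' : Module.Finite A (LinearMap.ker f) := hk
    have : Module.FinitePresentation A M :=
      Module.finitePresentation_of_surjective f hf ((Module.Finite.iff_fg).1 hk')
    have : Module.Projective A M := Module.Flat.projective_of_finitePresentation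
    exact PerfTri.isPerfect_inD_of_projective M
  | succ n ih =>
    intro M _ _ h hd
    obtain ⟨k, f, hf, hk⟩ := h
    have h1 := (hasTorDimLE_succ_iff_ker f hf n).1 hd
    have h2 := ih _ hk h1
    exact PerfTri.isPerfect_right (LinearMap.ker f).subtype f (Submodule.subtype_injective _)
      (by intro x; simp) hf h2 (PerfTri.isPerfect_inD_of_projective _)

theorem isPerfect_inD_of_fpInf {A : Type u} [CommRing A] (n : ℕ) {M : Type u} [AddCommGroup M]
    [Module A M] (h : FPInf A M) (hd : DRing.HasTorDimLE A n M) :
    DRing.IsPerfect A (Dual.inD A M) :=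
  isPerfect_inD_of_fpn n M (h _) hd

/-- If `N` is a pseudo-coherent module over `R[x_1..x_n]` which is flat over `R` then it is perfect. -/
theorem isPerfect_inD_mvPolynomial {R : Type u} [CommRing R] {n : ℕ}
    (N : Type u) [AddCommGroup N] [Module (MvPolynomial (Fin n) R) N] [Module R N]
    [IsScalarTower R (MvPolynomial (Fin n) R) N] [Module.Flat R N]
    (h : FPInf (MvPolynomial (Fin n) R) N) :
    DRing.IsPerfect (MvPolynomial (Fin n) R) (Dual.inD _ N) :=
  isPerfect_inD_of_fpInf n h (FlatPoly.hasTorDimLE_mvPolynomial N)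

theorem isPerfect_inD_mvPolynomial_of_noetherian {R : Type u} [CommRing R] [IsNoetherianRing R]
    {n : ℕ} (N : Type u) [AddCommGroup N] [Module (MvPolynomial (Fin n) R) N] [Module R N]
    [IsScalarTower R (MvPolynomial (Fin n) R) N] [Module.Flat R N]
    [Module.Finite (MvPolynomial (Fin n) R) N] :
    DRing.IsPerfect (MvPolynomial (Fin n) R) (Dual.inD _ N) :=
  isPerfect_inD_mvPolynomial N (FPInf.of_isNoetherianRing N)

section Hom

/-- restriction of scalars on a module in degree zero. -/
noncomputable def restrictDInD {A B : Type u} [CommRing A] [CommRing B] (φ : A →+* B) (M : Type u)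
    [AddCommGroup M] [Module B M] :
    (DRing.restrictD φ).obj (Dual.inD B M) ≅
      (letI := Module.compHom M φ
       Dual.inD A M) :=
  ((ModuleCat.restrictScalars.{u} φ).mapDerivedCategorySingleFunctor 0).app (ModuleCat.of B M)

variable {R A : Type u} [CommRing R] [CommRing A] [Algebra R A] {n : ℕ}
    (ψ : MvPolynomial (Fin n) R →ₐ[R] A)

theorem isPerfect_restrictD_of_fpInf [Module.Flat R A]
    (h : letI := ψ.toRingHom.toAlgebra
      FPInf (MvPolynomial (Fin n) R) A) :
    DRing.IsPerfect (MvPolynomial (Fin n) R)
      ((DRing.restrictD ψ.toRingHom).obj (Dual.inD A A)) := by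
  letI := ψ.toRingHom.toAlgebra
  haveI : IsScalarTower R (MvPolynomial (Fin n) R) A :=
    IsScalarTower.of_algebraMap_eq (fun r => (ψ.commutes r).symm)
  exact PerfTri.isPerfect_of_iso (restrictDInD ψ.toRingHom A).symm
    (isPerfect_inD_mvPolynomial A h)

/-- `A` is perfect over `R[x_1..x_n]` for `R → A` flat of finite type, `R` Noetherian. -/
theorem isPerfect_of_flat_of_noetherian [IsNoetherianRing R] [Module.Flat R A]
    (hψ : Function.Surjective ψ) :
    DRing.IsPerfect (MvPolynomial (Fin n) R)
      ((DRing.restrictD ψ.toRingHom).obj (Dual.inD A A)) := by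
  apply isPerfect_restrictD_of_fpInf
  letI := ψ.toRingHom.toAlgebra
  haveI : Module.Finite (MvPolynomial (Fin n) R) A :=
    Module.Finite.of_surjective (Algebra.linearMap (MvPolynomial (Fin n) R) A) hψ
  exact FPInf.of_isNoetherianRing A

end Hom

end Groth.Agent.LoccohB.FlatPerf
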