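import Groth.Agent.LoccohB.RelOmega
import Groth.Agent.LoccohB.FlatPerf
import Groth.Agent.LoccohB.PCNoeth
import Groth.Agent.LoccohB.DBase
import Groth.Agent.LoccohB.LBC2
import Groth.Agent.LoccohB.DualShift
import Groth.Agent.S1783
import Groth.Prelude.Def_DualSh

/-!
# Properties of `ω = R_ψ(P)[n]`: bounds, finite tor dimension over the base, relative perfectness
-/

set_option autoImplicit false

universe u

open CategoryTheory CategoryTheory.Limits Pretriangulated DerivedCategory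

attribute [local instance] HasDerivedCategory.standard

namespace Groth.Agent.LoccohB.RelOmega

section General

variable {P A : Type u} [CommRing P] [CommRing A]

lemma subsingleton_HD_restrict (φ : P →+* A) (K : Dual.D A) (i : ℤ) :
    Subsingleton (Dual.HD P ((DRing.restrictD φ).obj K) i) ↔ Subsingleton (Dual.HD A K i) := by
  let e := ((DBase.mapDerivedCategoryHomologyIso (ModuleCat.restrictScalars.{u} φ) i).app K).toLinearEquiv
  exact ⟨fun h => @Equiv.subsingleton _ _ e.symm.toEquiv h,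
    fun h => @Equiv.subsingleton _ _ e.toEquiv h⟩

lemma exists_bounds_of_isPerfect {K : Dual.D P} (h : DRing.IsPerfect P K) :
    ∃ a b : ℤ, ∀ i : ℤ, (i < a ∨ b < i) → Subsingleton (Dual.HD P K i) := by
  obtain ⟨E, a, b, hE, -, ⟨e⟩⟩ := h
  refine ⟨a, b, fun i hi => ?_⟩
  have h1 : IsZero (E.homology i) := by
    rw [← HomologicalComplex.exactAt_iff_isZero_homology, HomologicalComplex.exactAt_iff]
    exact ShortComplex.exact_of_isZero_X₂ _ (hE i hi)
  have h2 : IsZero ((homologyFunctor (ModuleCat.{u} P) i).obj (DRing.toD E)) :=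
    IsZero.of_iso h1 ((homologyFunctorFactors (ModuleCat.{u} P) i).app E)
  exact ModuleCat.subsingleton_of_isZero
    (IsZero.of_iso h2 ((homologyFunctor (ModuleCat.{u} P) i).mapIso e.symm))

lemma hasFiniteTorDimCx_of_iso {K L : Dual.D P} (e : K ≅ L) (h : DRing.HasFiniteTorDimCx P K) :
    DRing.HasFiniteTorDimCx P L := by
  obtain ⟨a, b, E, h1, h2, ⟨e'⟩⟩ := h
  exact ⟨a, b, E, h1, h2, ⟨e' ≪≫ e⟩⟩

lemma hasFiniteTorDimCx_shift {K : Dual.D P} (n : ℤ) (h : DRing.HasFiniteTorDimCx P K) :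
    DRing.HasFiniteTorDimCx P (K⟦n⟧) := by
  obtain ⟨a, b, E, h1, h2, ⟨e'⟩⟩ := h
  exact ⟨a - n, b - n, E⟦n⟧, fun i hi => h1 (i + n) (by omega), fun i => h2 (i + n),
    ⟨(DerivedCategory.Q.commShiftIso n).app E ≪≫ (shiftFunctor _ n).mapIso e'⟩⟩

/-- The restriction of a perfect complex along a flat ring map has finite tor dimension. -/
lemma hasFiniteTorDimCx_of_isPerfect {R : Type u} [CommRing R] [Algebra R P] [Module.Flat R P]
    {K : Dual.D P} (h : DRing.IsPerfect P K) :
    DRing.HasFiniteTorDimCx R ((DRing.restrictD (algebraMap R P)).obj K) := by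
  obtain ⟨E, a, b, hE, hE', ⟨e⟩⟩ := h
  refine ⟨a, b, ((ModuleCat.restrictScalars.{u} (algebraMap R P)).mapHomologicalComplex
    (ComplexShape.up ℤ)).obj E, fun i hi => ?_, fun i => ?_, ⟨?_⟩⟩
  · exact (ModuleCat.restrictScalars.{u} (algebraMap R P)).map_isZero (hE i hi)
  · have h1 := (hE' i).2
    let _ : Module R (E.X i) := Module.compHom (E.X i) (algebraMap R P)
    have : IsScalarTower R P (E.X i) := ⟨fun r p x => by
      rw [Algebra.smul_def, mul_smul]; rfl⟩
    exact Module.Flat.trans R P (E.X i)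
  · exact ((ModuleCat.restrictScalars.{u} (algebraMap R P)).mapDerivedCategoryFactors.app E).symm ≪≫
      (DRing.restrictD (algebraMap R P)).mapIso e

end General

section Shriek

variable {R A : Type u} [CommRing R] [CommRing A] [Algebra R A] (n : ℕ)
  (ψ : MvPolynomial (Fin n) R →ₐ[R] A) [DRing.HasLBaseChange (algebraMap R (MvPolynomial (Fin n) R))]
  (Rψ : Dual.D (MvPolynomial (Fin n) R) ⥤ Dual.D A) (adj : DRing.restrictD ψ.toRingHom ⊣ Rψ)

/-- `ω = R_ψ(P)[n]`. -/
noncomputable def omegaIso : Dual2.shriekVia n Rψ (Dual.inD R R) ≅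
    (Rψ.obj (Dual.inD (MvPolynomial (Fin n) R) (MvPolynomial (Fin n) R)))⟦(n : ℤ)⟧ :=
  (shiftFunctor _ (n : ℤ)).mapIso (Rψ.mapIso (LBC.lbcSelfIso _ 0))

variable (hA : DRing.IsPerfect (MvPolynomial (Fin n) R)
  ((DRing.restrictD ψ.toRingHom).obj (Dual.inD A A)))

include adj hA

lemma isPerfect_restrictD_omega : DRing.IsPerfect (MvPolynomial (Fin n) R)
    ((DRing.restrictD ψ.toRingHom).obj (Dual2.shriekVia n Rψ (Dual.inD R R))) := by
  let _ : Algebra (MvPolynomial (Fin n) R) A := ψ.toRingHom.toAlgebra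
  have h1 := isPerfect_restrictD_radj (P := MvPolynomial (Fin n) R) (A := A) adj hA
  refine PerfTri.isPerfect_of_iso ?_ (PerfTri.isPerfect_shift (n : ℤ) h1)
  exact (((DRing.restrictD ψ.toRingHom).commShiftIso (n : ℤ)).app _).symm ≪≫
    (DRing.restrictD ψ.toRingHom).mapIso (omegaIso n Rψ).symm

/-- `ω` has finite tor dimension over `R`. -/
theorem hasFiniteTorDimCx_omega : DRing.HasFiniteTorDimCx R
    ((DRing.restrictD (algebraMap R A)).obj (Dual2.shriekVia n Rψ (Dual.inD R R))) :=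
  hasFiniteTorDimCx_of_iso ((LBC.restrictDComp (algebraMap R (MvPolynomial (Fin n) R)) ψ.toRingHom
    (algebraMap R A) ψ.comp_algebraMap.symm).app _)
    (hasFiniteTorDimCx_of_isPerfect (isPerfect_restrictD_omega n ψ Rψ adj hA))

theorem exists_bounds_omega : ∃ a b : ℤ, ∀ i : ℤ, (i < a ∨ b < i) →
    Subsingleton (Dual.HD A (Dual2.shriekVia n Rψ (Dual.inD R R)) i) := by
  obtain ⟨a, b, h⟩ := exists_bounds_of_isPerfect (isPerfect_restrictD_omega n ψ Rψ adj hA)
  exact ⟨a, b, fun i hi => (subsingleton_HD_restrict _ _ i).1 (h i hi)⟩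

theorem toEnd_bijective_omega : Function.Bijective (fun a : A => a •
    𝟙 (Dual2.shriekVia n Rψ (Dual.inD R R))) := by
  let _ : Algebra (MvPolynomial (Fin n) R) A := ψ.toRingHom.toAlgebra
  have h1 := toEnd_bijective (P := MvPolynomial (Fin n) R) (A := A) adj hA
  refine end_bijective_of_iso (omegaIso n Rψ).symm ?_
  have h2 := (DualShift.homShiftBoth (Rψ.obj (Dual.inD (MvPolynomial (Fin n) R)
    (MvPolynomial (Fin n) R))) (Rψ.obj (Dual.inD (MvPolynomial (Fin n) R)
    (MvPolynomial (Fin n) R))) (n : ℤ)).bijective.comp h1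
  convert h2 using 1
  ext a
  change a • 𝟙 _ = (shiftFunctor (Dual.D A) (n : ℤ)).map (a • 𝟙 _)
  rw [Functor.map_smul, CategoryTheory.Functor.map_id]

theorem subsingleton_ext_omega (i : ℤ) (hi : i ≠ 0) :
    Subsingleton (Dual2.shriekVia n Rψ (Dual.inD R R) ⟶
      (Dual2.shriekVia n Rψ (Dual.inD R R))⟦i⟧) := by
  let _ : Algebra (MvPolynomial (Fin n) R) A := ψ.toRingHom.toAlgebra
  have h1 := subsingleton_ext (P := MvPolynomial (Fin n) R) (A := A) adj hA i hi
  refine subsingleton_of_iso (omegaIso n Rψ).symm i ?_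
  have h2 := (DualShift.homShiftBoth (Rψ.obj (Dual.inD (MvPolynomial (Fin n) R)
    (MvPolynomial (Fin n) R))) ((Rψ.obj (Dual.inD (MvPolynomial (Fin n) R)
    (MvPolynomial (Fin n) R)))⟦i⟧) (n : ℤ)).symm.subsingleton
  exact @Equiv.subsingleton _ _ ((Iso.refl _).homCongr
    ((shiftFunctorComm (Dual.D A) i (n : ℤ)).app _)).symm h2

omit adj hA in
/-- `ω` is relatively perfect and satisfies (a)-(c) of 0BZW in the Noetherian case. -/
theorem noeth_omega [IsNoetherianRing R] [IsNoetherianRing A] [Module.Flat R A]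
    (hψ : Function.Surjective ψ) (adj : DRing.restrictD ψ.toRingHom ⊣ Rψ) :
    (∃ a b : ℤ, ∀ i : ℤ, (i < a ∨ b < i) →
      Subsingleton (Dual.HD A (Dual2.shriekVia n Rψ (Dual.inD R R)) i)) ∧
    (∀ i : ℤ, Module.Finite A (Dual.HD A (Dual2.shriekVia n Rψ (Dual.inD R R)) i)) ∧
    DRing.HasFiniteTorDimCx R ((DRing.restrictD (algebraMap R A)).obj
      (Dual2.shriekVia n Rψ (Dual.inD R R))) ∧
    (Function.Bijective (fun a : A => a • 𝟙 (Dual2.shriekVia n Rψ (Dual.inD R R))) ∧
      ∀ i : ℤ, i ≠ 0 → Subsingleton (Dual2.shriekVia n Rψ (Dual.inD R R) ⟶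
        (Dual2.shriekVia n Rψ (Dual.inD R R))⟦i⟧)) := by
  have hA := FlatPerf.isPerfect_of_flat_of_noetherian ψ hψ
  have h1 : ∀ i : ℤ, i < 0 → Subsingleton (Dual.HD R (Dual.inD R R) i) := by
    intro i hi
    exact ModuleCat.subsingleton_of_isZero (isZero_of_isGE _ 0 i hi)
  have h2 : ∀ i : ℤ, Module.Finite R (Dual.HD R (Dual.inD R R) i) := by
    intro i
    by_cases hi : i = 0
    · subst hi
      exact ConeRes.finite_of_iso ((singleFunctorCompHomologyFunctorIso _ 0).symm.app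
        (ModuleCat.of R R)) (inferInstanceAs (Module.Finite R R))
    · apply ConeRes.finite_of_isZero
      rcases lt_or_gt_of_ne hi with h | h
      · exact isZero_of_isGE _ 0 i h
      · exact isZero_of_isLE _ 0 i h
  exact ⟨exists_bounds_omega n ψ Rψ adj hA,
    (S1783.result R A n ψ hψ Rψ adj (Dual.inD R R) 0 h1).2 h2,
    hasFiniteTorDimCx_omega n ψ Rψ adj hA, toEnd_bijective_omega n ψ Rψ adj hA,
    subsingleton_ext_omega n ψ Rψ adj hA⟩

omit hA in
theorem isRelPerfect_noeth [IsNoetherianRing R] [IsNoetherianRing A] [Module.Flat R A]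
    (hψ : Function.Surjective ψ) :
    Dual2.IsRelPerfect R A (Dual2.shriekVia n Rψ (Dual.inD R R)) := by
  obtain ⟨⟨a, b, h1⟩, h2, h3, -⟩ := noeth_omega n ψ Rψ hψ adj
  exact ⟨PCNoeth.isPseudoCoherent'_of_noetherian' _ b (fun i hi => h1 i (Or.inr hi)) h2, h3⟩

end Shriek

end Groth.Agent.LoccohB.RelOmega
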