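import Groth.Agent.LoccohB.RelF2
import Groth.Agent.LoccohB.RelOmega2
import Groth.Agent.LoccohB.LocGen
import Mathlib.CategoryTheory.Triangulated.Orthogonal

/-!
# A duality criterion for universality of `φ_* Y ⟶ A[m]`

`isUniv_of_dual`: `A → B`, `B` and `φ_* Y` perfect over `A`, `e : φ_* Y ⟶ V`, `V ≅ A[m]`, such that
`B → Hom(φ_* Y, V)`, `b ↦ φ_*(b) ≫ e` is bijective and `Hom(φ_* Y, V[i]) = 0` for `i ≠ 0`.  Then `e` is universal.
-/

set_option autoImplicit false

universe u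

open CategoryTheory CategoryTheory.Limits Pretriangulated

attribute [local instance] HasDerivedCategory.standard

namespace Groth.Agent.LoccohB.BCStep2

open DerivedCategory Univ DBase

section Perf

variable {A : Type u} [CommRing A]

/-- The objects without morphisms to the shifts of `V`. -/
def Perp (V : Dual.D A) : ObjectProperty (Dual.D A) := fun X => ∀ i : ℤ, Subsingleton (X ⟶ V⟦i⟧)

instance (V : Dual.D A) : (Perp V).IsStableUnderShift ℤ where
  isStableUnderShiftBy n := ⟨fun X hX i => by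
    have h0 := hX (i - n)
    have h1 : Subsingleton (X ⟶ (shiftEquiv (Dual.D A) n).inverse.obj (V⟦i⟧)) :=
      (((shiftFunctorAdd' (Dual.D A) i (-n) (i - n) (by omega)).app V).homToEquiv
        (Z := X)).symm.subsingleton
    exact ((shiftEquiv (Dual.D A) n).toAdjunction.homEquiv X (V⟦i⟧)).subsingleton⟩

lemma perp_rightOrthogonal {V : Dual.D A} (i : ℤ) : (Perp V).rightOrthogonal (V⟦i⟧) :=
  fun _ _ hX => (hX i).elim _ _

/-- Perfect objects are right orthogonal to `⊥ (A[m])`. -/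
theorem rightOrthogonal_of_isPerfect {V K : Dual.D A} (m : ℤ) (eV : V ≅ (Dual.inD A A)⟦m⟧)
    (hK : DRing.IsPerfect A K) : (Perp V).rightOrthogonal K := by
  have h0 : ∀ i : ℤ, (Perp V).rightOrthogonal (sg A i A) := fun i =>
    ((Perp V).rightOrthogonal).prop_of_iso
      ((shiftFunctor (Dual.D A) (-i - m)).mapIso eV ≪≫
        (shiftFunctorAdd' (Dual.D A) m (-i - m) (-i) (by omega)).symm.app (Dual.inD A A) ≪≫
        LocGen.sgShiftIso A (-i) ≪≫ eqToIso (by rw [neg_neg]))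
      (perp_rightOrthogonal (-i - m))
  obtain ⟨E, a, b, h1, h2, ⟨e⟩⟩ := hK
  refine ((Perp V).rightOrthogonal).prop_of_iso e ?_
  refine PerfB.BoundedInd.bounded_induction ((Perp V).rightOrthogonal) E a b h1 (fun i => ?_)
  obtain ⟨hf, hp⟩ := h2 i
  set P : ModuleCat.{u} A := E.X i
  obtain ⟨r, f, hf'⟩ := Module.Finite.exists_fin' A P
  obtain ⟨s, hs⟩ := Module.projective_lifting_property f LinearMap.id hf'
  intro X g hX
  have h1 : ∀ x : P, x = ∑ j, s x j • f (Pi.single j 1) := by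
    intro x
    have h2 : f (s x) = x := DFunLike.congr_fun hs x
    conv_lhs => rw [← h2, ← Finset.univ_sum_single (s x)]
    rw [map_sum]
    refine Finset.sum_congr rfl (fun j _ => ?_)
    rw [← map_smul]
    congr 1
    rw [← Pi.single_smul, smul_eq_mul, mul_one]
  let a : Fin r → (P ⟶ ModuleCat.of A A) := fun j => ModuleCat.ofHom (LinearMap.proj j ∘ₗ s)
  let b : Fin r → (ModuleCat.of A A ⟶ P) := fun j =>
    ModuleCat.ofHom (LinearMap.toSpanSingleton A P (f (Pi.single j 1)))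
  have h3 : ∑ j, a j ≫ b j = 𝟙 P := by
    apply ModuleCat.hom_ext
    ext x
    rw [ModuleCat.hom_sum, LinearMap.sum_apply]
    exact (h1 x).symm
  let F := singleFunctor (ModuleCat.{u} A) 0
  have h4 : g = ∑ j, (g ≫ F.map (a j)) ≫ F.map (b j) := by
    have : ∑ j, F.map (a j) ≫ F.map (b j) = 𝟙 (F.obj P) := by
      rw [← F.map_id, ← h3, Functor.map_sum]
      exact Finset.sum_congr rfl (fun j _ => (F.map_comp _ _).symm)
    conv_lhs => rw [← Category.comp_id g, ← this, Preadditive.comp_sum]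
    exact Finset.sum_congr rfl (fun j _ => (Category.assoc _ _ _).symm)
  rw [h4]
  refine Finset.sum_eq_zero (fun j _ => ?_)
  have h5 : g ≫ F.map (a j) = 0 := h0 0 _ hX
  rw [h5, zero_comp]

/-- A perfect object without morphisms to the shifts of `A[m]` is zero. -/
theorem isZero_of_isPerfect {V K : Dual.D A} (m : ℤ) (eV : V ≅ (Dual.inD A A)⟦m⟧)
    (hK : DRing.IsPerfect A K) (h : ∀ i : ℤ, Subsingleton (K ⟶ V⟦i⟧)) : IsZero K := by
  rw [IsZero.iff_id_eq_zero]
  exact rightOrthogonal_of_isPerfect m eV hK _ h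

/-- A morphism of perfect objects inducing bijections on `Hom(-, A[m][i])` is an isomorphism. -/
theorem isIso_of_isPerfect {V K L : Dual.D A} (m : ℤ) (eV : V ≅ (Dual.inD A A)⟦m⟧)
    (hK : DRing.IsPerfect A K) (hL : DRing.IsPerfect A L) (f : K ⟶ L)
    (h : ∀ i : ℤ, Function.Bijective (fun g : L ⟶ V⟦i⟧ => f ≫ g)) : IsIso f := by
  obtain ⟨Z, p, δ, hT⟩ := distinguished_cocone_triangle f
  have hZ : DRing.IsPerfect A Z := PerfTri.isPerfect_obj₃ hT hK hL
  refine (Triangle.isZero₃_iff_isIso₁ _ hT).1 (isZero_of_isPerfect m eV hZ (fun i => ?_))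
  refine ⟨fun x y => ?_⟩
  rw [← sub_eq_zero]
  obtain ⟨z, hz⟩ : ∃ z : Z ⟶ V⟦i⟧, z = x - y := ⟨x - y, rfl⟩
  rw [← hz]
  have h1 : p ≫ z = 0 := by
    apply (h i).1
    dsimp only
    have h2 : f ≫ p = 0 := comp_distTriang_mor_zero₁₂ _ hT
    rw [← Category.assoc, h2, zero_comp, comp_zero]
  obtain ⟨w, hw⟩ : ∃ w : K⟦(1 : ℤ)⟧ ⟶ V⟦i⟧, z = δ ≫ w := Triangle.yoneda_exact₃ _ hT z h1
  have h3 : ∃ w' : L⟦(1 : ℤ)⟧ ⟶ V⟦i⟧, w = f⟦(1 : ℤ)⟧' ≫ w' := by
    let e1 := (shiftFunctorAdd' (Dual.D A) (i - 1) 1 i (by omega)).app V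
    obtain ⟨w₀, hw₀⟩ : ∃ w₀ : K ⟶ V⟦i - 1⟧, w₀⟦(1 : ℤ)⟧' = w ≫ e1.hom :=
      (shiftFunctor (Dual.D A) (1 : ℤ)).map_surjective (w ≫ e1.hom)
    obtain ⟨v, hv⟩ : ∃ v : L ⟶ V⟦i - 1⟧, f ≫ v = w₀ := (h (i - 1)).2 w₀
    refine ⟨v⟦(1 : ℤ)⟧' ≫ e1.inv, ?_⟩
    rw [← Category.assoc, ← Functor.map_comp, hv, hw₀, Category.assoc, e1.hom_inv_id,
      Category.comp_id]
  obtain ⟨w', rfl⟩ := h3
  have h4 : δ ≫ f⟦(1 : ℤ)⟧' = 0 := comp_distTriang_mor_zero₃₁ _ hT
  rw [hw, ← Category.assoc, h4]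
  exact zero_comp

end Perf

section Main

variable {A B : Type u} [CommRing A] [CommRing B] (φ : A →+* B)

/-- Restriction of scalars reflects isomorphisms. -/
lemma isIso_of_isIso_restrictD {X Y : Dual.D B} (g : Y ⟶ X) (h : IsIso ((DRing.restrictD φ).map g)) :
    IsIso g := by
  obtain ⟨Z, p, δ, hT⟩ := distinguished_cocone_triangle g
  refine (Triangle.isZero₃_iff_isIso₁ _ hT).1 ?_
  have h1 := (DRing.restrictD φ).map_distinguished _ hT
  have h2 : IsZero ((DRing.restrictD φ).obj Z) := (Triangle.isZero₃_iff_isIso₁ _ h1).2 h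
  change IsZero Z
  rw [DCalc.isZero_iff]
  intro i
  have h3 : Subsingleton (Dual.HD A ((DRing.restrictD φ).obj Z) i) :=
    ModuleCat.subsingleton_of_isZero ((homologyFunctor (ModuleCat.{u} A) i).map_isZero h2)
  have h4 : Subsingleton (Dual.HD B Z i) := (RelOmega.subsingleton_HD_restrict φ Z i).1 h3
  exact ModuleCat.isZero_of_subsingleton _

/-- **Duality criterion.**  Let `B` and `φ_* Y` be perfect over `A`, `V ≅ A[m]`, `e : φ_* Y ⟶ V` such that
`B → Hom(φ_* Y, V)` is bijective and `Hom(φ_* Y, V[i]) = 0`, `i ≠ 0`; the same for the universal arrow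
`u : φ_* X ⟶ V`.  Then `e` is universal. -/
theorem isUniv_of_dual_of_univ {V : Dual.D A} (m : ℤ) (eV : V ≅ (Dual.inD A A)⟦m⟧) {X Y : Dual.D B}
    (u : (DRing.restrictD φ).obj X ⟶ V) (hu : IsUniv φ u)
    (hX : DRing.IsPerfect A ((DRing.restrictD φ).obj X))
    (hXa : Function.Bijective (fun b : B => (DRing.restrictD φ).map (b • 𝟙 X) ≫ u))
    (hXb : ∀ i : ℤ, i ≠ 0 → Subsingleton ((DRing.restrictD φ).obj X ⟶ V⟦i⟧))
    (e : (DRing.restrictD φ).obj Y ⟶ V)
    (hY : DRing.IsPerfect A ((DRing.restrictD φ).obj Y))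
    (hYa : Function.Bijective (fun b : B => (DRing.restrictD φ).map (b • 𝟙 Y) ≫ e))
    (hYb : ∀ i : ℤ, i ≠ 0 → Subsingleton ((DRing.restrictD φ).obj Y ⟶ V⟦i⟧)) : IsUniv φ e := by
  obtain ⟨g, hg⟩ : ∃ g : Y ⟶ X, (DRing.restrictD φ).map g ≫ u = e := (hu Y).2 e
  have h0 : Function.Bijective (fun t : (DRing.restrictD φ).obj X ⟶ V =>
      (DRing.restrictD φ).map g ≫ t) := by
    have h1 : (fun b : B => (DRing.restrictD φ).map (b • 𝟙 Y) ≫ e) =
        (fun t : (DRing.restrictD φ).obj X ⟶ V => (DRing.restrictD φ).map g ≫ t) ∘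
        (fun b : B => (DRing.restrictD φ).map (b • 𝟙 X) ≫ u) := by
      funext b
      dsimp only [Function.comp_apply]
      rw [← hg, ← Category.assoc, ← Category.assoc, ← Functor.map_comp, ← Functor.map_comp,
        Linear.smul_comp, Linear.comp_smul, Category.comp_id, Category.id_comp]
    rw [h1] at hYa
    exact (Function.Bijective.of_comp_iff _ hXa).1 hYa
  have h2 : IsIso ((DRing.restrictD φ).map g) := by
    refine isIso_of_isPerfect m eV hY hX _ (fun i => ?_)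
    by_cases hi : i = 0
    · subst hi
      have h3 : (fun t : (DRing.restrictD φ).obj X ⟶ V⟦(0 : ℤ)⟧ => (DRing.restrictD φ).map g ≫ t) =
          (((shiftFunctorZero (Dual.D A) ℤ).app V).symm.homToEquiv
            (Z := (DRing.restrictD φ).obj Y)) ∘
          (fun t : (DRing.restrictD φ).obj X ⟶ V => (DRing.restrictD φ).map g ≫ t) ∘
          (((shiftFunctorZero (Dual.D A) ℤ).app V).homToEquiv
            (Z := (DRing.restrictD φ).obj X)) := by
        funext t
        simp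
      rw [h3]
      exact (Equiv.bijective _).comp (h0.comp (Equiv.bijective _))
    · have h4 := hXb i hi
      have h5 := hYb i hi
      exact ⟨fun _ _ _ => Subsingleton.elim _ _, fun y => ⟨0, Subsingleton.elim _ _⟩⟩
  have h3 : IsIso g := isIso_of_isIso_restrictD φ g h2
  rw [← hg]
  exact hu.of_iso_left (asIso g)

end Main

section Final

variable {A B : Type u} [CommRing A] [CommRing B] [Algebra A B]

lemma toEnd_bijective_shift {X : Dual.D B} (m : ℤ)
    (h : Function.Bijective (fun b : B => b • 𝟙 X)) :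
    Function.Bijective (fun b : B => b • 𝟙 (X⟦m⟧)) := by
  have h2 := (DualShift.homShiftBoth X X m).bijective.comp h
  convert h2 using 1
  ext a
  change a • 𝟙 _ = (shiftFunctor (Dual.D B) m).map (a • 𝟙 _)
  rw [Functor.map_smul, CategoryTheory.Functor.map_id]

lemma subsingleton_ext_shift {X : Dual.D B} (m i : ℤ) (h : Subsingleton (X ⟶ X⟦i⟧)) :
    Subsingleton (X⟦m⟧ ⟶ (X⟦m⟧)⟦i⟧) := by
  have h2 : Subsingleton (X⟦m⟧ ⟶ (X⟦i⟧)⟦m⟧) :=
    @Equiv.subsingleton _ _ (DualShift.homShiftBoth X (X⟦i⟧) m).symm h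
  exact @Equiv.subsingleton _ _ ((Iso.refl _).homCongr
    ((shiftFunctorComm (Dual.D B) m i).app X)) h2

variable (hB : DRing.IsPerfect A ((DRing.restrictD (algebraMap A B)).obj (Dual.inD B B)))
include hB

/-- The universal arrow to `V ≅ A[m]` and its properties. -/
theorem exists_univ {V : Dual.D A} (m : ℤ) (eV : V ≅ (Dual.inD A A)⟦m⟧) :
    ∃ (X : Dual.D B) (u : (DRing.restrictD (algebraMap A B)).obj X ⟶ V),
      IsUniv (algebraMap A B) u ∧
      DRing.IsPerfect A ((DRing.restrictD (algebraMap A B)).obj X) ∧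
      Function.Bijective (fun b : B => (DRing.restrictD (algebraMap A B)).map (b • 𝟙 X) ≫ u) ∧
      ∀ i : ℤ, i ≠ 0 → Subsingleton ((DRing.restrictD (algebraMap A B)).obj X ⟶ V⟦i⟧) := by
  let adj := RAdj.coextAdj (algebraMap A B)
  let X₀ := (RAdj.RCoext (algebraMap A B)).obj (Dual.inD A A)
  have h0 : IsUniv (algebraMap A B) (adj.counit.app (Dual.inD A A)) := isUniv_counit adj _
  have h1 := h0.shift m
  have h2 := h1.of_iso_right eV.symm
  refine ⟨X₀⟦m⟧, _, h2, ?_, ?_, ?_⟩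
  · exact PerfTri.isPerfect_of_iso (((DRing.restrictD (algebraMap A B)).commShiftIso m).app X₀).symm
      (PerfTri.isPerfect_shift m (RelF2.isPerfect_restrictD hB h0))
  · exact (h2 _).comp (toEnd_bijective_shift m (RelF2.toEnd_bijective hB h0))
  · intro i hi
    have h3 := subsingleton_ext_shift (X := X₀) m i (RelF2.subsingleton_ext hB h0 i hi)
    exact (Equiv.ofBijective _ (h2.shift i (X₀⟦m⟧))).subsingleton_congr.1 h3

/-- **Duality criterion for universality.** -/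
theorem isUniv_of_dual {V : Dual.D A} (m : ℤ) (eV : V ≅ (Dual.inD A A)⟦m⟧) {Y : Dual.D B}
    (e : (DRing.restrictD (algebraMap A B)).obj Y ⟶ V)
    (hY : DRing.IsPerfect A ((DRing.restrictD (algebraMap A B)).obj Y))
    (hYa : Function.Bijective (fun b : B => (DRing.restrictD (algebraMap A B)).map (b • 𝟙 Y) ≫ e))
    (hYb : ∀ i : ℤ, i ≠ 0 → Subsingleton ((DRing.restrictD (algebraMap A B)).obj Y ⟶ V⟦i⟧)) :
    IsUniv (algebraMap A B) e := by
  obtain ⟨X, u, hu, h1, h2, h3⟩ := exists_univ hB m eV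
  exact isUniv_of_dual_of_univ (algebraMap A B) m eV u hu h1 h2 h3 e hY hYa hYb

/-- **Duality criterion for universality**, `V ≅ A[-m]` written `sg A m A`. -/
theorem isUniv_of_dual_sg {V : Dual.D A} (m : ℤ) (eV : V ≅ sg A m A) {Y : Dual.D B}
    (e : (DRing.restrictD (algebraMap A B)).obj Y ⟶ V)
    (hY : DRing.IsPerfect A ((DRing.restrictD (algebraMap A B)).obj Y))
    (hYa : Function.Bijective (fun b : B => (DRing.restrictD (algebraMap A B)).map (b • 𝟙 Y) ≫ e))
    (hYb : ∀ i : ℤ, i ≠ 0 → Subsingleton ((DRing.restrictD (algebraMap A B)).obj Y ⟶ V⟦i⟧)) :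
    IsUniv (algebraMap A B) e :=
  isUniv_of_dual hB (-m) (eV ≪≫ eqToIso (by rw [neg_neg]) ≪≫ (LocGen.sgShiftIso A (-m)).symm)
    e hY hYa hYb

end Final

end Groth.Agent.LoccohB.BCStep2
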