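import Groth.Agent.LoccohB.BCMap
import Groth.Agent.LoccohB.LocGen

/-!
# Base change for right adjoints of restriction: reduction to the unit object

For a square of rings for which the derived Beck–Chevalley map `bcm : res ⋙ LBC ⟶ LBC ⋙ res'` is an isomorphism, the
mate `beta : F ⋙ LBC ⟶ LBC ⋙ F'` between right adjoints `F`, `F'` of restriction is an isomorphism on all objects
if it is so on the objects `C[-n]`, provided `B`, `B'` are perfect over `C`, `C'`.
-/

set_option autoImplicit false

universe u

open CategoryTheory CategoryTheory.Limits CategoryTheory.Functor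

attribute [local instance] HasDerivedCategory.standard

namespace Groth.Agent.LoccohB.BCStep3

open DerivedCategory LBC BCMap DBase BCUnit

section Abs

variable {𝒜 𝒟 𝒜' 𝒟' : Type*} [Category* 𝒜] [Category* 𝒟] [Category* 𝒜'] [Category* 𝒟']
  {res : 𝒜 ⥤ 𝒟} {F : 𝒟 ⥤ 𝒜} (adj : res ⊣ F) {res' : 𝒜' ⥤ 𝒟'} {F' : 𝒟' ⥤ 𝒜'} (adj' : res' ⊣ F')
  {G : 𝒜 ⥤ 𝒜'} {H : 𝒟 ⥤ 𝒟'} (α : G ⋙ res' ⟶ res ⋙ H)

/-- The mate of a square. -/
def mate : F ⋙ G ⟶ H ⋙ F' where
  app V := adj'.homEquiv _ _ (α.app (F.obj V) ≫ H.map (adj.counit.app V))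
  naturality V W f := by
    dsimp only [Functor.comp_map, Functor.comp_obj]
    rw [← adj'.homEquiv_naturality_left, ← adj'.homEquiv_naturality_right, Category.assoc]
    have h1 := α.naturality (F.map f)
    dsimp only [Functor.comp_map, Functor.comp_obj] at h1
    have h2 := adj.counit.naturality f
    dsimp only [Functor.comp_map, Functor.comp_obj, Functor.id_map, Functor.id_obj] at h2
    rw [reassoc_of% h1, ← H.map_comp, ← H.map_comp, h2]

lemma homEquiv_mate (V : 𝒟) : (adj'.homEquiv _ _).symm ((mate adj adj' α).app V) =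
    α.app (F.obj V) ≫ H.map (adj.counit.app V) := Equiv.symm_apply_apply _ _

end Abs

section Perfect

variable {A B : Type u} [CommRing A] [CommRing B] (φ : A →+* B)

lemma finite_extendScalars (M : ModuleCat.{u} A) (h : Module.Finite A M) :
    Module.Finite B ((ModuleCat.extendScalars.{u, u, u} φ).obj M) := by
  let _ := φ.toAlgebra
  exact inferInstanceAs (Module.Finite B (TensorProduct A B M))

lemma projective_extendScalars (M : ModuleCat.{u} A) (h : Module.Projective A M) :
    Module.Projective B ((ModuleCat.extendScalars.{u, u, u} φ).obj M) := by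
  let _ := φ.toAlgebra
  exact inferInstanceAs (Module.Projective B (TensorProduct A B M))

/-- Derived base change preserves perfect objects. -/
theorem isPerfect_lbc [DRing.HasLBaseChange φ] {K : Dual.D A} (h : DRing.IsPerfect A K) :
    DRing.IsPerfect B ((DRing.LBaseChange φ).obj K) := by
  obtain ⟨E, a, b, h1, h2, ⟨e⟩⟩ := h
  have hp : ∀ i, Projective (E.X i) := fun i =>
    (IsProjective.iff_projective (E.X i)).1 (h2 i).2
  have hE : CochainComplex.IsStrictlyLE E b := by
    rw [CochainComplex.isStrictlyLE_iff]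
    exact fun i hi => h1 i (Or.inr hi)
  have hK : E.IsKProjective := CochainComplex.isKProjective_of_projective _ b
  exact ⟨(BCUnit.extCx φ).obj E, a, b,
    fun i hi => (ModuleCat.extendScalars.{u, u, u} φ).map_isZero (h1 i hi),
    fun i => ⟨finite_extendScalars φ _ (h2 i).1, projective_extendScalars φ _ (h2 i).2⟩,
    ⟨(lbcQIso φ E).symm ≪≫ (DRing.LBaseChange φ).mapIso e⟩⟩

end Perfect

section Square

variable (C C' B B' : Type u) [CommRing C] [CommRing C'] [CommRing B] [CommRing B']
  [Algebra C C'] [Algebra C B] [Algebra C' B'] [Algebra B B'] [Algebra C B']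
  [IsScalarTower C C' B'] [IsScalarTower C B B']
  [DRing.HasLBaseChange (algebraMap C C')] [DRing.HasLBaseChange (algebraMap B B')]
  {F : Dual.D C ⥤ Dual.D B} (adj : DRing.restrictD (algebraMap C B) ⊣ F)
  {F' : Dual.D C' ⥤ Dual.D B'} (adj' : DRing.restrictD (algebraMap C' B') ⊣ F')
  [IsIso (bcm C C' B B')]

/-- The base change map `LBC (F V) ⟶ F' (LBC V)`. -/
noncomputable def beta : F ⋙ DRing.LBaseChange (algebraMap B B') ⟶
    DRing.LBaseChange (algebraMap C C') ⋙ F' :=
  mate adj adj' (inv (bcm C C' B B'))

omit [IsIso (bcm C C' B B')] in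
variable {C C' B B'} in
/-- If the Beck–Chevalley map is an isomorphism, `B'` is perfect over `C'`. -/
theorem isPerfect_baseChange (h : IsIso (bcm C C' B B'))
    (hB : DRing.IsPerfect C ((DRing.restrictD (algebraMap C B)).obj (Dual.inD B B))) :
    DRing.IsPerfect C' ((DRing.restrictD (algebraMap C' B')).obj (Dual.inD B' B')) :=
  PerfTri.isPerfect_of_iso ((asIso (bcm C C' B B')).app (Dual.inD B B) ≪≫
    (DRing.restrictD (algebraMap C' B')).mapIso (lbcSelfIso (algebraMap B B') 0))
    (isPerfect_lbc (algebraMap C C') hB)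

variable {C C' B B'} in
/-- The base change map is an isomorphism if it is one on `C[-n]`. -/
theorem isIso_beta_app
    (hB : DRing.IsPerfect C ((DRing.restrictD (algebraMap C B)).obj (Dual.inD B B)))
    (h : ∀ n : ℤ, IsIso ((beta C C' B B' adj adj').app (sg C n C))) (V : Dual.D C) :
    IsIso ((beta C C' B B' adj adj').app V) := by
  have hB' := isPerfect_baseChange (inferInstance : IsIso (bcm C C' B B')) hB
  let _ := adj.rightAdjointCommShift ℤ
  let _ := adj'.rightAdjointCommShift ℤ
  have := LocGen.radj_isTriangulated adj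
  have := LocGen.radj_isTriangulated adj'
  have h1 := LocGen.radj_preservesCoprod adj hB
  have h2 := LocGen.radj_preservesCoprod adj' hB'
  have h3 := LocGen.lbc_preservesCoprod (algebraMap C C')
  have h4 := LocGen.lbc_preservesCoprod (algebraMap B B')
  refine LocGen.isIso_app_of_sg (fun J => ?_) (fun J => ?_) (beta C C' B B' adj adj') h V
  · have := h1 J
    have := h4 J
    infer_instance
  · have := h3 J
    have := h2 J
    infer_instance

end Square

end Groth.Agent.LoccohB.BCStep3
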