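import Groth.Agent.LoccohB.LBC2

/-!
# The unit of the derived base change adjunction on complexes
-/

set_option autoImplicit false

universe u

open CategoryTheory CategoryTheory.Limits CategoryTheory.Functor

attribute [local instance] HasDerivedCategory.standard

namespace Groth.Agent.LoccohB.BCUnit

open DerivedCategory LBC

lemma comp_aux {𝒞 : Type*} [Category* 𝒞] {X X' Y₁ Y₂ Y₃ Y₄ Z W : 𝒞} {η : X ⟶ Y₁} {m : Y₁ ⟶ Y₂}
    {qi : X ⟶ X'} {η' : X' ⟶ Y₂} (h₁ : η ≫ m = qi ≫ η') {c : Y₂ ⟶ Y₃} {a : X' ⟶ Z} {ρ : Z ⟶ Y₃}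
    (h₂ : η' ≫ c = a ≫ ρ) {t : Y₃ ⟶ Y₄} {s : Z ⟶ W} {r : W ⟶ Y₄} (h₃ : ρ ≫ t = s ≫ r)
    {qh : X' ⟶ X} {v : X ⟶ W} (h₄ : a ≫ s = qh ≫ v) (h₅ : qi ≫ qh = 𝟙 _) :
    η ≫ m ≫ c ≫ t = v ≫ r := by
  rw [reassoc_of% h₁, reassoc_of% h₂, h₃, reassoc_of% h₄, reassoc_of% h₅]

variable {A B : Type u} [CommRing A] [CommRing B] (φ : A →+* B)

/-- Termwise extension of scalars. -/
noncomputable abbrev extCx : CochainComplex (ModuleCat.{u} A) ℤ ⥤ CochainComplex (ModuleCat.{u} B) ℤ :=
  (ModuleCat.extendScalars.{u, u, u} φ).mapHomologicalComplex (ComplexShape.up ℤ)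

/-- Termwise restriction of scalars. -/
noncomputable abbrev resCx : CochainComplex (ModuleCat.{u} B) ℤ ⥤ CochainComplex (ModuleCat.{u} A) ℤ :=
  (ModuleCat.restrictScalars.{u} φ).mapHomologicalComplex (ComplexShape.up ℤ)

/-- The adjunction on complexes. -/
noncomputable abbrev cxAdj : extCx φ ⊣ resCx φ :=
  MapAdj.mapComplexAdj (ModuleCat.extendRestrictScalarsAdj.{u, u, u} φ) (ComplexShape.up ℤ)

/-- `Q (res K) ≅ restrictD (Q K)`. -/
noncomputable abbrev resQ : resCx φ ⋙ Q ≅ Q ⋙ DRing.restrictD φ :=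
  (ModuleCat.restrictScalars.{u} φ).mapDerivedCategoryFactors.symm

set_option backward.isDefEq.respectTransparency false in
lemma restrictFac_quotient (K : CochainComplex (ModuleCat.{u} B) ℤ) :
    (restrictFac φ).hom.app ((HomotopyCategory.quotient _ _).obj K) ≫
      (DRing.restrictD φ).map ((quotientCompQhIso _).hom.app K) =
    (quotientCompQhIso _).hom.app ((resCx φ).obj K) ≫ (resQ φ).hom.app K := by
  have h1 := (ModuleCat.restrictScalars.{u} φ).mapDerivedCategoryFactorsh_hom_app K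
  have h2 : (restrictFac φ).hom.app ((HomotopyCategory.quotient _ _).obj K) =
    (ModuleCat.restrictScalars.{u} φ).mapDerivedCategoryFactorsh.inv.app
      ((HomotopyCategory.quotient _ _).obj K) := rfl
  rw [h2, ← cancel_epi ((ModuleCat.restrictScalars.{u} φ).mapDerivedCategoryFactorsh.hom.app
    ((HomotopyCategory.quotient _ _).obj K)), Iso.hom_inv_id_app_assoc, h1]
  have h3 : (Qh (C := ModuleCat.{u} A)).map (((ModuleCat.restrictScalars.{u} φ).mapHomotopyCategoryFactors
    (ComplexShape.up ℤ)).inv.app K) = 𝟙 _ := CategoryTheory.Functor.map_id _ _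
  have h5 : (quotientCompQhIso (ModuleCat.{u} A)).inv.app ((resCx φ).obj K) ≫
    (quotientCompQhIso (ModuleCat.{u} A)).hom.app ((resCx φ).obj K) = 𝟙 _ := Iso.inv_hom_id_app _ _
  have h6 : (ModuleCat.restrictScalars.{u} φ).mapDerivedCategoryFactors.hom.app K ≫
    (resQ φ).hom.app K = 𝟙 _ := Iso.hom_inv_id_app _ _
  have h7 : (quotientCompQhIso (ModuleCat.{u} A)).inv.app ((resCx φ).obj K) ≫
    (Qh (C := ModuleCat.{u} A)).map (((ModuleCat.restrictScalars.{u} φ).mapHomotopyCategoryFactors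
    (ComplexShape.up ℤ)).inv.app K) = (quotientCompQhIso (ModuleCat.{u} A)).inv.app ((resCx φ).obj K) :=
    (congrArg (fun t => (quotientCompQhIso (ModuleCat.{u} A)).inv.app ((resCx φ).obj K) ≫ t) h3).trans
      (Category.comp_id _)
  rw [h7, Category.assoc, Category.assoc, reassoc_of% h5, h6]
  exact (Category.comp_id _).symm

variable [DRing.HasLBaseChange φ]

lemma unit_lbcCounit (X : HomotopyCategory (ModuleCat.{u} A) (ComplexShape.up ℤ)) :
    (lbcAdj φ).unit.app (Qh.obj X) ≫ (DRing.restrictD φ).map ((lbcCounit φ).app X) =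
      Qh.map ((MapAdj.mapHomotopyAdj (ModuleCat.extendRestrictScalarsAdj.{u, u, u} φ)
        (ComplexShape.up ℤ)).unit.app X) ≫ (restrictFac φ).hom.app _ := by
  have : (DRing.restrictD φ).IsRightDerivedFunctor (restrictFac φ).hom
      (HomotopyCategory.quasiIso (ModuleCat.{u} B) (ComplexShape.up ℤ)) :=
    isRightDerivedFunctor_of_inverts _ _ (restrictFac φ).symm
  have := isLeftDerivedFunctor_comp A (DRing.LBaseChange φ) (lbcCounit φ) (DRing.restrictD φ)
  exact Adjunction.derivedη_fac_app _ (HomotopyCategory.quasiIso (ModuleCat.{u} A) (ComplexShape.up ℤ))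
    (lbcCounit φ) (restrictFac φ).hom X

set_option backward.isDefEq.respectTransparency false in
/-- The unit on complexes. -/
lemma unit_lbcQCounit (K : CochainComplex (ModuleCat.{u} A) ℤ) :
    (lbcAdj φ).unit.app (Q.obj K) ≫ (DRing.restrictD φ).map ((lbcQCounit φ).app K) =
      Q.map ((cxAdj φ).unit.app K) ≫ (resQ φ).hom.app _ := by
  have h1 := unit_lbcCounit φ ((HomotopyCategory.quotient _ _).obj K)
  rw [MapAdj.mapHomotopyAdj_unit_app_quotient] at h1
  have h2 := quotientCompQhIso_hom_naturality ((cxAdj φ).unit.app K)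
  have h3 : (lbcQCounit φ).app K = (DRing.LBaseChange φ).map ((quotientCompQhIso _).inv.app K) ≫
      (lbcCounit φ).app ((HomotopyCategory.quotient _ _).obj K) ≫
      (quotientCompQhIso _).hom.app ((extCx φ).obj K) := by
    have h4 : (Qh (C := ModuleCat.{u} B)).map (((ModuleCat.extendScalars.{u, u, u} φ).mapHomotopyCategoryFactors
      (ComplexShape.up ℤ)).hom.app K) = 𝟙 _ := CategoryTheory.Functor.map_id _ _
    dsimp only [lbcQCounit, NatTrans.comp_app, whiskerRight_app, whiskerLeft_app,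
      Functor.associator_hom_app, Functor.associator_inv_app]
    rw [h4]
    simp only [Category.id_comp]
    rfl
  rw [h3, Functor.map_comp, Functor.map_comp]
  have h5 := (lbcAdj φ).unit.naturality ((quotientCompQhIso (ModuleCat.{u} A)).inv.app K)
  have h6 := restrictFac_quotient φ ((extCx φ).obj K)
  have h7 : (quotientCompQhIso (ModuleCat.{u} A)).inv.app K ≫
    (quotientCompQhIso (ModuleCat.{u} A)).hom.app K = 𝟙 _ := Iso.inv_hom_id_app _ _
  exact comp_aux h5.symm h1 h6 h2 h7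

end Groth.Agent.LoccohB.BCUnit
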