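import Groth.Agent.LoccohB.HomCxFin
import Groth.Agent.Localalg.CDFLocal
import Groth.Agent.Localalg.DHomCDF

/-!
# Local criterion for dualizing complexes, part A: dévissage for the evaluation map

`A` Noetherian, `I` a bounded complex of injectives with finite cohomology. If the evaluation map
`κ[0] ⟶ Hom•(Hom•(κ[0], I), I)` is a quasi-isomorphism for all residue fields `κ = A/m` at maximal ideals,
then so is the evaluation map of `M[0]` for every finite module `M`.
-/

universe v u

open CategoryTheory CategoryTheory.Limits CochainComplex CochainComplex.HomComplex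
  HomologicalComplex ZeroObject

attribute [local instance] HasDerivedCategory.standard

namespace Groth.Agent.LoccohB.BassCrit

open Groth.Agent.LoccohB Groth.Agent.LoccohB.HomCx

variable {A : Type u} [CommRing A]

/-- Nakayama for modules over a non-maximal prime: a finite module on which every `x ∉ p` acts
surjectively vanishes if `p` is not maximal. -/
lemma subsingleton_of_smul_surjective (p m : Ideal A) [hm : m.IsMaximal] (hpm : p < m) (N : Type*)
    [AddCommGroup N] [Module A N] [Module.Finite A N]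
    (h : ∀ x ∉ p, ∀ n : N, ∃ n' : N, x • n' = n) : Subsingleton N := by
  obtain ⟨y, hym, hyp⟩ := SetLike.exists_of_lt hpm
  have h1 : (⊤ : Submodule A N) ≤ m • ⊤ := by
    intro n _
    obtain ⟨n', rfl⟩ := h y hyp n
    exact Submodule.smul_mem_smul hym trivial
  obtain ⟨r, hr, hr'⟩ := Submodule.exists_sub_one_mem_and_smul_eq_zero_of_fg_of_le_smul m ⊤
    Module.Finite.fg_top h1
  have hrp : r ∉ p := fun hrp => by
    have h2 : (1 : A) ∈ m := by
      have := m.sub_mem (hpm.le hrp) hr
      simpa using this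
    exact hm.ne_top ((Ideal.eq_top_iff_one m).2 h2)
  refine subsingleton_of_forall_eq 0 fun n => ?_
  obtain ⟨n', rfl⟩ := h r hrp n
  exact hr' n' trivial

lemma homCxPre_smul {K K' : DRing.Cx A} (a : A) (f : K ⟶ K') (I : DRing.Cx A) :
    homCxPre (a • f) I = a • homCxPre f I := by
  refine HomologicalComplex.hom_ext _ _ fun i => ModuleCat.hom_ext (LinearMap.ext
    fun (z : Cochain K' I i) => ?_)
  change (Cochain.ofHom (a • f)).comp z (zero_add i) =
    a • (Cochain.ofHom f).comp z (zero_add i)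
  ext p q hpq : 1
  rw [Cochain.zero_cochain_comp_v, Cochain.smul_v, Cochain.zero_cochain_comp_v, Cochain.ofHom_v,
    Cochain.ofHom_v, HomologicalComplex.smul_f_apply, Linear.smul_comp]

lemma ddMap_smul_id (K I : DRing.Cx A) (a : A) : ddMap (a • 𝟙 K) I = a • 𝟙 _ := by
  rw [ddMap, homCxPre_smul, homCxPre_smul, homCxPre_id, homCxPre_id]

lemma homologyMap_smul_id_apply (K : DRing.Cx A) (a : A) (i : ℤ) (k : K.homology i) :
    homologyMap (a • 𝟙 K) i k = a • k := by
  obtain ⟨x, hx, rfl⟩ := ModHom.exists_hmk K i k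
  rw [ModHom.homologyMap_hmk, ← ModHom.hmk_smul]
  rfl

section Step

variable {S₁ S₂ : ShortComplex (DRing.Cx A)} (φ : S₁ ⟶ S₂) (hS₁ : S₁.ShortExact)
  (hS₂ : S₂.ShortExact) (h3 : QuasiIso φ.τ₃)

include hS₁ hS₂ h3

lemma ker_step (i : ℤ) (k : S₁.X₂.homology i) (hk : homologyMap φ.τ₂ i k = 0) :
    ∃ k' : S₁.X₁.homology i, homologyMap φ.τ₁ i k' = 0 ∧ homologyMap S₁.f i k' = k := by
  have hbij (j : ℤ) : Function.Bijective (homologyMap φ.τ₃ j) :=
    (ConcreteCategory.isIso_iff_bijective _).1 inferInstance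
  -- `k` comes from the left
  have h1 : homologyMap S₁.g i k = 0 := by
    apply (hbij i).1
    rw [map_zero]
    change (homologyMap S₁.g i ≫ homologyMap φ.τ₃ i) k = 0
    rw [← homologyMap_comp, ← φ.comm₂₃, homologyMap_comp]
    change homologyMap S₂.g i (homologyMap φ.τ₂ i k) = 0
    rw [hk, map_zero]
  obtain ⟨k', hk'⟩ := (ShortComplex.moduleCat_exact_iff _).1 (hS₁.homology_exact₂ i) k h1
  replace hk' : homologyMap S₁.f i k' = k := hk'
  have h2 : homologyMap S₂.f i (homologyMap φ.τ₁ i k') = 0 := by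
    change (homologyMap φ.τ₁ i ≫ homologyMap S₂.f i) k' = 0
    rw [← homologyMap_comp, φ.comm₁₂, homologyMap_comp]
    change homologyMap φ.τ₂ i (homologyMap S₁.f i k') = 0
    rw [hk', hk]
  obtain ⟨d, hd⟩ := (ShortComplex.moduleCat_exact_iff _).1
    (hS₂.homology_exact₁ (i - 1) i (by simp)) _ h2
  replace hd : hS₂.δ (i - 1) i (by simp) d = homologyMap φ.τ₁ i k' := hd
  obtain ⟨k3, rfl⟩ := (hbij (i - 1)).2 d
  have h4 : homologyMap φ.τ₁ i (hS₁.δ (i - 1) i (by simp) k3) = homologyMap φ.τ₁ i k' := by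
    rw [← hd]
    change (hS₁.δ (i - 1) i (by simp) ≫ homologyMap φ.τ₁ i) k3 =
      (homologyMap φ.τ₃ (i - 1) ≫ hS₂.δ (i - 1) i (by simp)) k3
    rw [HomologicalComplex.HomologySequence.δ_naturality φ hS₁ hS₂ (i - 1) i (by simp)]
  refine ⟨k' - hS₁.δ (i - 1) i (by simp) k3, ?_, ?_⟩
  · rw [map_sub, h4, sub_self]
  · have h5 : homologyMap S₁.f i (hS₁.δ (i - 1) i (by simp) k3) = 0 := by
      change (hS₁.δ (i - 1) i (by simp) ≫ homologyMap S₁.f i) k3 = 0
      rw [hS₁.δ_comp]
      rfl
    rw [map_sub, h5, sub_zero, hk']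

lemma coker_step (hm : ∀ i, Function.Injective (homologyMap φ.τ₁ i)) (i : ℤ)
    (d : S₂.X₂.homology i) :
    ∃ (k : S₁.X₂.homology i) (d' : S₂.X₁.homology i),
      homologyMap S₂.f i d' = d - homologyMap φ.τ₂ i k := by
  have hbij (j : ℤ) : Function.Bijective (homologyMap φ.τ₃ j) :=
    (ConcreteCategory.isIso_iff_bijective _).1 inferInstance
  obtain ⟨k3, hk3⟩ := (hbij i).2 (homologyMap S₂.g i d)
  have h1 : hS₁.δ i (i + 1) rfl k3 = 0 := by
    apply hm (i + 1)
    rw [map_zero]
    change (hS₁.δ i (i + 1) rfl ≫ homologyMap φ.τ₁ (i + 1)) k3 = 0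
    rw [HomologicalComplex.HomologySequence.δ_naturality φ hS₁ hS₂ i (i + 1) rfl]
    change hS₂.δ i (i + 1) rfl (homologyMap φ.τ₃ i k3) = 0
    rw [hk3]
    change (homologyMap S₂.g i ≫ hS₂.δ i (i + 1) rfl) d = 0
    rw [hS₂.comp_δ]
    rfl
  obtain ⟨k, hk⟩ := (ShortComplex.moduleCat_exact_iff _).1
    (hS₁.homology_exact₃ i (i + 1) rfl) k3 h1
  replace hk : homologyMap S₁.g i k = k3 := hk
  have h2 : homologyMap S₂.g i (d - homologyMap φ.τ₂ i k) = 0 := by
    rw [map_sub, sub_eq_zero, ← hk3, ← hk]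
    change (homologyMap S₁.g i ≫ homologyMap φ.τ₃ i) k = (homologyMap φ.τ₂ i ≫ homologyMap S₂.g i) k
    rw [← homologyMap_comp, ← homologyMap_comp, φ.comm₂₃]
  obtain ⟨d', hd'⟩ := (ShortComplex.moduleCat_exact_iff _).1 (hS₂.homology_exact₂ i) _ h2
  exact ⟨k, d', hd'⟩

lemma quasiIso_τ₂ (h1 : QuasiIso φ.τ₁) : QuasiIso φ.τ₂ := by
  have hbij (j : ℤ) : Function.Bijective (homologyMap φ.τ₁ j) :=
    (ConcreteCategory.isIso_iff_bijective _).1 inferInstance
  rw [quasiIso_iff]
  intro i
  rw [quasiIsoAt_iff_isIso_homologyMap, ConcreteCategory.isIso_iff_bijective]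
  constructor
  · rw [injective_iff_map_eq_zero]
    intro k hk
    obtain ⟨k', hk', rfl⟩ := ker_step φ hS₁ hS₂ h3 i k hk
    have : k' = 0 := (hbij i).1 (by rw [hk', map_zero])
    rw [this, map_zero]
  · intro d
    obtain ⟨k, d', hd'⟩ := coker_step φ hS₁ hS₂ h3 (fun i => (hbij i).1) i d
    obtain ⟨k', rfl⟩ := (hbij i).2 d'
    refine ⟨k + homologyMap S₁.f i k', ?_⟩
    rw [map_add]
    have : homologyMap φ.τ₂ i (homologyMap S₁.f i k') =
        homologyMap S₂.f i (homologyMap φ.τ₁ i k') := by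
      change (homologyMap S₁.f i ≫ homologyMap φ.τ₂ i) k' =
        (homologyMap φ.τ₁ i ≫ homologyMap S₂.f i) k'
      rw [← homologyMap_comp, ← homologyMap_comp, φ.comm₁₂]
    rw [this, hd']
    abel

end Step

/-- If `K →x K → L` is a short exact sequence of complexes for all `x ∉ p`, with the evaluation map of `L` a
quasi-isomorphism, then so is the evaluation map of `K`, when `p` is a nonmaximal prime and
everything has finite cohomology. -/
lemma quasiIso_ev_of_smul (I : DRing.Cx A) [IsNoetherianRing A] (hI : ∀ n, Injective (I.X n))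
    (p m : Ideal A) [m.IsMaximal] (hpm : p < m) (K : DRing.Cx A)
    (hK : ∀ i, Module.Finite A (K.homology i))
    (hDK : ∀ i, Module.Finite A ((DRing.homCx (DRing.homCx K I) I).homology i))
    (h : ∀ x ∉ p, ∃ (L : DRing.Cx A) (g : K ⟶ L) (w : (x • 𝟙 K) ≫ g = 0),
      (ShortComplex.mk (x • 𝟙 K) g w).ShortExact ∧ QuasiIso (ev L I)) :
    QuasiIso (ev K I) := by
  have key1 : ∀ i, Function.Injective (homologyMap (ev K I) i) := by
    intro i
    have hfin := hK i
    have : Subsingleton (LinearMap.ker (homologyMap (ev K I) i).hom) := by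
      apply subsingleton_of_smul_surjective p m hpm
      rintro x hx ⟨k, hk⟩
      obtain ⟨L, g, w, hS, hL⟩ := h x hx
      obtain ⟨k', hk', hk''⟩ := ker_step (evSC (ShortComplex.mk (x • 𝟙 K) g w) I) hS
        (ddSC_shortExact hS I hI) hL i k hk
      refine ⟨⟨k', hk'⟩, ?_⟩
      ext
      exact (homologyMap_smul_id_apply K x i k').symm.trans hk''
    exact LinearMap.ker_eq_bot.1 ((Submodule.subsingleton_iff_eq_bot).1 this)
  rw [quasiIso_iff]
  intro i
  rw [quasiIsoAt_iff_isIso_homologyMap, ConcreteCategory.isIso_iff_bijective]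
  refine ⟨key1 i, ?_⟩
  have hfin := hDK i
  have : Subsingleton ((DRing.homCx (DRing.homCx K I) I).homology i ⧸
      LinearMap.range (homologyMap (ev K I) i).hom) := by
    apply subsingleton_of_smul_surjective p m hpm
    rintro x hx n
    obtain ⟨d, rfl⟩ := Submodule.mkQ_surjective _ n
    obtain ⟨L, g, w, hS, hL⟩ := h x hx
    obtain ⟨k, d', hd'⟩ : ∃ (k : K.homology i)
        (d' : (DRing.homCx (DRing.homCx K I) I).homology i),
        homologyMap (ddMap (x • 𝟙 K) I) i d' = d - homologyMap (ev K I) i k :=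
      coker_step (evSC (ShortComplex.mk (x • 𝟙 K) g w) I) hS (ddSC_shortExact hS I hI) hL key1 i d
    refine ⟨Submodule.mkQ _ d', ?_⟩
    have hd2 : x • d' = d - homologyMap (ev K I) i k := by
      rw [← homologyMap_smul_id_apply, ← ddMap_smul_id]
      exact hd'
    rw [← map_smul, hd2, map_sub, sub_eq_self]
    exact (Submodule.Quotient.mk_eq_zero _).2 ⟨k, rfl⟩
  exact LinearMap.range_eq_top.1 ((Submodule.Quotient.subsingleton_iff).1 this)

section Devissage

variable (I : DRing.Cx A) [IsNoetherianRing A] [I.IsKInjective] (hI : ∀ n, Injective (I.X n))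

/-- The complex `M[0]`. -/
noncomputable abbrev M0 (M : Type u) [AddCommGroup M] [Module A M] : DRing.Cx A :=
  (CochainComplex.singleFunctor (ModuleCat.{u} A) 0).obj (ModuleCat.of A M)

omit [IsNoetherianRing A] in
lemma single_shortExact {M₁ M₂ M₃ : Type u} [AddCommGroup M₁] [Module A M₁] [AddCommGroup M₂]
    [Module A M₂] [AddCommGroup M₃] [Module A M₃] (f : M₁ →ₗ[A] M₂) (g : M₂ →ₗ[A] M₃)
    (hf : Function.Injective f) (hg : Function.Surjective g) (hfg : Function.Exact f g) :
    ((Groth.Agent.Localalg.DHomCDF.sc f g hfg).map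
      (CochainComplex.singleFunctor (ModuleCat.{u} A) 0)).ShortExact :=
  (Groth.Agent.Localalg.DHomCDF.sc_shortExact f g hf hg hfg).map_of_exact
    (HomologicalComplex.single (ModuleCat.{u} A) (ComplexShape.up ℤ) 0)

omit [IsNoetherianRing A] in
lemma shortExact_congr {C : Type*} [Category C] [Limits.HasZeroMorphisms C] {X Y Z : C} {f f' : X ⟶ Y} {g : Y ⟶ Z}
    (hf : f = f') (w : f ≫ g = 0) (w' : f' ≫ g = 0) (h : (ShortComplex.mk f g w).ShortExact) :
    (ShortComplex.mk f' g w').ShortExact := by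
  subst hf
  exact h

omit [IsNoetherianRing A] in
lemma M0_map_smul_id (M : Type u) [AddCommGroup M] [Module A M] (x : A) :
    (CochainComplex.singleFunctor (ModuleCat.{u} A) 0).map
      (ModuleCat.ofHom (x • (LinearMap.id : M →ₗ[A] M))) = x • 𝟙 (M0 M) := by
  have : ModuleCat.ofHom (x • (LinearMap.id : M →ₗ[A] M)) = x • 𝟙 (ModuleCat.of A M) := rfl
  rw [this]
  have := (CochainComplex.singleFunctors (ModuleCat.{u} A)).functor 0 |>.map_smul x
    (𝟙 (ModuleCat.of A M))
  exact this.trans (congrArg (x • ·)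
    (((CochainComplex.singleFunctors (ModuleCat.{u} A)).functor 0).map_id _))

omit [IsNoetherianRing A] in
lemma M0_acyclic (M : Type u) [AddCommGroup M] [Module A M] [Subsingleton M] :
    (M0 (A := A) M).Acyclic :=
  acyclic_of_isZero_X fun p =>
    (HomologicalComplex.eval _ _ p).map_isZero
      ((CochainComplex.singleFunctor (ModuleCat.{u} A) 0).map_isZero
        (ModuleCat.isZero_of_subsingleton _))

lemma M0_finite (M : Type u) [AddCommGroup M] [Module A M] [Module.Finite A M] (i : ℤ) :
    Module.Finite A ((M0 (A := A) M).homology i) :=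
  ConeRes.finite_homology_of_finite_X _ _ (ConeRes.finite_single_X _ inferInstance 0 i)

omit [IsNoetherianRing A] in
/-- the annihilator of `(A/p)/x` is bigger than `p`. -/
lemma lt_and_le_annihilator {p : Ideal A} {x : A} (hx : x ∉ p) {N : Type u} [AddCommGroup N]
    [Module A N] (e : N ≃ₗ[A] A ⧸ p) :
    p < p ⊔ Ideal.span {x} ∧ p ⊔ Ideal.span {x} ≤ Module.annihilator A (QuotSMulTop x N) := by
  constructor
  · refine lt_of_le_of_ne le_sup_left fun h ↦ hx ?_
    rw [h]
    exact Ideal.mem_sup_right (Ideal.mem_span_singleton_self x)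
  · refine sup_le ?_ ?_
    · have : p ≤ Module.annihilator A N := by
        rw [LinearEquiv.annihilator_eq e, Ideal.annihilator_quotient]
      refine this.trans ?_
      exact LinearMap.annihilator_le_of_surjective (M := N) (Submodule.mkQ _)
        (Submodule.mkQ_surjective _)
    · rw [Ideal.span_le, Set.singleton_subset_iff, SetLike.mem_coe, Module.mem_annihilator]
      intro m
      obtain ⟨m, rfl⟩ := Submodule.mkQ_surjective _ m
      rw [← map_smul, Submodule.mkQ_apply, Submodule.Quotient.mk_eq_zero]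
      exact Submodule.smul_mem_pointwise_smul _ _ _ trivial

omit [IsNoetherianRing A] in
lemma isSMulRegular_of_equiv {p : Ideal A} [p.IsPrime] {x : A} (hx : x ∉ p) {N : Type u}
    [AddCommGroup N] [Module A N] (e : N ≃ₗ[A] A ⧸ p) : IsSMulRegular N x := by
  intro a b hab
  apply e.injective
  have h1 : x • e a = x • e b := by rw [← map_smul, ← map_smul]; exact congr_arg e hab
  obtain ⟨a', ha'⟩ := Ideal.Quotient.mk_surjective (e a)
  obtain ⟨b', hb'⟩ := Ideal.Quotient.mk_surjective (e b)
  rw [← ha', ← hb'] at h1 ⊢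
  have h2 : Ideal.Quotient.mk p (x * a') = Ideal.Quotient.mk p (x * b') := h1
  rw [Ideal.Quotient.eq] at h2 ⊢
  rw [← mul_sub] at h2
  exact (Ideal.IsPrime.mem_or_mem ‹_› h2).resolve_left hx

include hI in
/-- Dévissage: if the evaluation maps of all `(A/m)[0]`, `m` maximal, are quasi-isomorphisms then so is the
evaluation map of `M[0]` for every finite module `M`. -/
theorem quasiIso_ev_module (a b : ℤ) [I.IsStrictlyGE a] [I.IsStrictlyLE b]
    (hfin : ∀ j, Module.Finite A (I.homology j))
    (hκ : ∀ (m : Ideal A) [m.IsMaximal], QuasiIso (ev (M0 (A ⧸ m)) I))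
    (M : Type u) [AddCommGroup M] [Module A M] [Module.Finite A M] :
    QuasiIso (ev (M0 (A := A) M) I) := by
  refine Groth.Agent.Localalg.CDFLocal.prime_induction
    (P := fun (M : Type u) [AddCommGroup M] [Module A M] [Module.Finite A M] =>
      QuasiIso (ev (M0 (A := A) M) I)) ?_ ?_ ?_ M
  · intro N _ _ _ _
    exact quasiIso_ev_of_acyclic I (M0_acyclic N)
  · intro N₁ _ _ _ N₂ _ _ _ N₃ _ _ _ f g hf hg hfg h₁ h₃
    have hS := single_shortExact f g hf hg hfg
    exact quasiIso_τ₂ (evSC _ I) hS (ddSC_shortExact hS I hI) h₃ h₁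
  · intro p hp ih N _ _ _ e
    by_cases hpm : p.IsMaximal
    · exact quasiIso_ev_of_iso I ((CochainComplex.singleFunctor (ModuleCat.{u} A) 0).mapIso
        e.symm.toModuleIso) (hκ p)
    · obtain ⟨m, hm, hpm'⟩ := p.exists_le_maximal hp.ne_top
      have hlt : p < m := lt_of_le_of_ne hpm' fun h => hpm (h ▸ hm)
      have hDfin : ∀ i, Module.Finite A ((DRing.homCx (DRing.homCx (M0 (A := A) N) I) I).homology i) :=
        finite_homology_homCx I hI a b hfin _
          (finite_homology_homCx I hI a b hfin _ (M0_finite N))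
      refine quasiIso_ev_of_smul I hI p m hlt (M0 N) (M0_finite N) hDfin fun x hx => ?_
      have hreg := isSMulRegular_of_equiv hx e
      obtain ⟨h1, h2⟩ := lt_and_le_annihilator hx e
      let f : N →ₗ[A] N := x • LinearMap.id
      let g : N →ₗ[A] QuotSMulTop x N := Submodule.mkQ _
      have hf : Function.Injective f := fun a b hab => hreg hab
      have hg : Function.Surjective g := Submodule.mkQ_surjective _
      have hfg : Function.Exact f g := by
        rw [LinearMap.exact_iff, Submodule.ker_mkQ]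
        ext y
        simp [f, Submodule.mem_smul_pointwise_iff_exists]
      have hS := single_shortExact f g hf hg hfg
      have hw : (x • 𝟙 (M0 (A := A) N)) ≫ (CochainComplex.singleFunctor (ModuleCat.{u} A) 0).map
          (ModuleCat.ofHom g) = 0 := by
        rw [← M0_map_smul_id]
        exact (((Groth.Agent.Localalg.DHomCDF.sc f g hfg).map
          (CochainComplex.singleFunctor (ModuleCat.{u} A) 0))).zero
      exact ⟨M0 (QuotSMulTop x N), (CochainComplex.singleFunctor (ModuleCat.{u} A) 0).map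
        (ModuleCat.ofHom g), hw, shortExact_congr (M0_map_smul_id N x) _ hw hS,
        ih (QuotSMulTop x N) _ h1 h2⟩

end Devissage

end Groth.Agent.LoccohB.BassCrit
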