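import Groth.Agent.LoccohB.BassCritA
import Groth.Agent.LoccohB.HomBC2
import Groth.Agent.LoccohB.HomCxHD
import Mathlib.Algebra.Homology.DerivedCategory.FullyFaithful

/-!
# Local criterion for dualizing complexes, part B: the residue fields, and the conclusion

`isDualizing_of_residue`: a Noetherian ring `A` and `ω ∈ D(A)` of finite injective dimension with finite cohomology
modules such that for all maximal ideals `m` the groups `Hom(A/m, ω[i])` vanish except in one degree, where the
group is isomorphic to `A/m`.  Then `ω` is a dualizing complex.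
-/

universe v u

open CategoryTheory CategoryTheory.Limits CochainComplex CochainComplex.HomComplex
  HomologicalComplex ZeroObject

attribute [local instance] HasDerivedCategory.standard

namespace Groth.Agent.LoccohB.BassCrit

open Groth.Agent.LoccohB Groth.Agent.LoccohB.HomCx Groth.Agent.LoccohB.HomCxHD
  Groth.Agent.LoccohB.InjRep

variable {A : Type u} [CommRing A]

/-- if `a` kills `K` then it kills all terms of `Hom•(K, I)`. -/
lemma smul_homCx_eq_zero {K : DRing.Cx A} (I : DRing.Cx A) (a : A) (h : a • 𝟙 K = 0) (n : ℤ)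
    (φ : (DRing.homCx K I).X n) : a • φ = 0 := by
  have h1 : a • 𝟙 (DRing.homCx K I) = 0 := by
    rw [← homCxPre_id, ← homCxPre_smul, h, homCxPre_zero]
  have h2 := congrArg (fun f : DRing.homCx K I ⟶ DRing.homCx K I => (f.f n).hom φ) h1
  exact h2

lemma smul_id_M0_eq_zero (m : Ideal A) (a : A) (ha : a ∈ m) : a • 𝟙 (M0 (A := A) (A ⧸ m)) = 0 := by
  rw [← M0_map_smul_id]
  have : a • (LinearMap.id : (A ⧸ m) →ₗ[A] (A ⧸ m)) = 0 := by
    ext
    change a • (Ideal.Quotient.mk m 1) = 0
    rw [← Ideal.Quotient.mk_eq_mk, ← Submodule.Quotient.mk_smul, smul_eq_mul, mul_one]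
    exact (Submodule.Quotient.mk_eq_zero m).2 ha
  rw [this, ModuleCat.ofHom_zero, Functor.map_zero]

section Residue

variable (I : DRing.Cx A) (m : Ideal A)

/-- the generator `1` of `(A/m)[0]`. -/
noncomputable def kone : (M0 (A := A) (A ⧸ m)).X 0 :=
  (HomologicalComplex.singleObjXSelf (ComplexShape.up ℤ) 0 (ModuleCat.of A (A ⧸ m))).inv
    (1 : A ⧸ m)

/-- If evaluation at `1` is a coboundary then `H^n(Hom•(κ[0], I)) = 0`. -/
lemma exists_coboundary (z : Cochain (DRing.homCx (M0 (A := A) (A ⧸ m)) I) I (-1))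
    (hz : δ (-1) 0 z = evCochain (M0 (A := A) (A ⧸ m)) I 0 (kone m)) (n : ℤ)
    (φ : Cochain (M0 (A := A) (A ⧸ m)) I n) (hφ : δ n (n + 1) φ = 0) :
    ∃ ψ : Cochain (M0 (A := A) (A ⧸ m)) I (n - 1), δ (n - 1) n ψ = φ := by
  obtain ⟨f', rfl⟩ := Cochain.fromSingleMk_surjective φ n (zero_add n)
  let φ' : (DRing.homCx (M0 (A := A) (A ⧸ m)) I).X n := Cochain.fromSingleMk f' (zero_add n)
  let w : I.X (n - 1) := (z.v n (n - 1) (by lia)) φ'
  -- the differential of `w`
  have hw : I.d (n - 1) n w = f' (1 : A ⧸ m) := by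
    have h1 := congrArg (fun c => c.hom φ') (Cochain.congr_v hz n n (by lia))
    rw [δ_v (-1) 0 rfl z n n (by lia) (n - 1) (n + 1) rfl rfl] at h1
    have h2 : ((z.v n (n - 1) (by lia)) ≫ I.d (n - 1) n).hom φ' = I.d (n - 1) n w := rfl
    have h3 : ((DRing.homCx (M0 (A := A) (A ⧸ m)) I).d n (n + 1) ≫
        z.v (n + 1) n (by lia)).hom φ' = 0 := by
      have h6 : (DRing.homCx (M0 (A := A) (A ⧸ m)) I).d n (n + 1) φ' = 0 := hφ
      change z.v (n + 1) n (by lia) ((DRing.homCx (M0 (A := A) (A ⧸ m)) I).d n (n + 1) φ') = 0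
      rw [h6, map_zero]
    have h4 : ((evCochain (M0 (A := A) (A ⧸ m)) I 0 (kone m)).v n n (by lia)).hom φ' =
        f' (1 : A ⧸ m) := by
      have := evCochain_v_apply (M0 (A := A) (A ⧸ m)) I 0 (kone m) n n (by lia) φ'
      refine this.trans ?_
      rw [zero_mul, Int.negOnePow_zero, one_smul]
      change ((Cochain.fromSingleMk f' (zero_add n)).v 0 n (by lia)) (kone m) = _
      rw [Cochain.fromSingleMk_v]
      change ((HomologicalComplex.singleObjXSelf (ComplexShape.up ℤ) 0
        (ModuleCat.of A (A ⧸ m))).inv ≫ (HomologicalComplex.singleObjXSelf (ComplexShape.up ℤ) 0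
        (ModuleCat.of A (A ⧸ m))).hom ≫ f') (1 : A ⧸ m) = _
      rw [Iso.inv_hom_id_assoc]
    have h5 : ((z.v n (n - 1) (by lia)) ≫ I.d (n - 1) n + Int.negOnePow 0 •
        ((DRing.homCx (M0 (A := A) (A ⧸ m)) I).d n (n + 1) ≫ z.v (n + 1) n (by lia))).hom φ' =
        I.d (n - 1) n w := by
      rw [Int.negOnePow_zero, one_smul, ModuleCat.hom_add, LinearMap.add_apply, h2, h3, add_zero]
    exact (h5.symm.trans h1).trans h4
  have hle : m ≤ LinearMap.ker (LinearMap.toSpanSingleton A _ w) := by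
    intro a ha
    change a • w = 0
    have : a • φ' = 0 := smul_homCx_eq_zero I a (smul_id_M0_eq_zero m a ha) n φ'
    rw [← map_smul, this, map_zero]
  let g : ModuleCat.of A (A ⧸ m) ⟶ I.X (n - 1) :=
    ModuleCat.ofHom (Submodule.liftQ m (LinearMap.toSpanSingleton A _ w) hle)
  refine ⟨Cochain.fromSingleMk g (zero_add (n - 1)), ?_⟩
  rw [Cochain.δ_fromSingleMk g (zero_add (n - 1)) n n (zero_add n)]
  congr 1
  refine ModuleCat.hom_ext ?_
  refine Submodule.linearMap_qext _ (LinearMap.ext_ring ?_)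
  change I.d (n - 1) n (g (Submodule.Quotient.mk (1 : A))) = f' (1 : A ⧸ m)
  rw [← hw]
  congr 1
  change (1 : A) • w = w
  rw [one_smul]

/-- A complex whose cohomology is concentrated in degree `n` where it is `M` is isomorphic to `M[-n]` in
`D(A)`. -/
lemma exists_iso_single (J : DRing.Cx A) (n : ℤ) (h : ∀ i ≠ n, Subsingleton (J.homology i))
    (M : Type u) [AddCommGroup M] [Module A M] (e : J.homology n ≃ₗ[A] M) :
    Nonempty (DerivedCategory.Q.obj J ≅
      (DerivedCategory.singleFunctor (ModuleCat.{u} A) n).obj (ModuleCat.of A M)) := by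
  have hz (i : ℤ) (hi : i ≠ n) : J.ExactAt i := by
    rw [exactAt_iff_isZero_homology]
    have := h i hi
    exact ModuleCat.isZero_of_subsingleton _
  have h1 : J.IsGE n := by
    rw [CochainComplex.isGE_iff]
    exact fun i hi => hz i (by lia)
  have h2 : J.IsLE n := by
    rw [CochainComplex.isLE_iff]
    exact fun i hi => hz i (by lia)
  have h3 : (DerivedCategory.Q.obj J).IsGE n := by
    rw [DerivedCategory.isGE_Q_obj_iff]; exact h1
  have h4 : (DerivedCategory.Q.obj J).IsLE n := by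
    rw [DerivedCategory.isLE_Q_obj_iff]; exact h2
  obtain ⟨Y, ⟨e1⟩⟩ := DerivedCategory.exists_iso_singleFunctor_obj_of_isGE_of_isLE
    (DerivedCategory.Q.obj J) n
  have e2 : Y ≅ J.homology n :=
    ((DerivedCategory.singleFunctorCompHomologyFunctorIso (ModuleCat.{u} A) n).app Y).symm ≪≫
      (DerivedCategory.homologyFunctor (ModuleCat.{u} A) n).mapIso e1.symm ≪≫
      (DerivedCategory.homologyFunctorFactors (ModuleCat.{u} A) n).app J
  exact ⟨e1 ≪≫ (DerivedCategory.singleFunctor (ModuleCat.{u} A) n).mapIso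
    (e2 ≪≫ e.toModuleIso)⟩

variable [I.IsKInjective]

/-- `H^i(Hom•(M[0], I)) = Hom(M, I[i])`. -/
noncomputable def homologyEquivM0 (M : Type u) [AddCommGroup M] [Module A M] (i : ℤ) :
    (DRing.homCx (M0 (A := A) M) I).homology i ≃ₗ[A] (Dual.inD A M ⟶ (DRing.toD I)⟦i⟧) :=
  (homologyEquiv (M0 M) I i (computes_of_isKInjective _ _)).trans
    (Linear.homCongr A (isoInD M).symm (Iso.refl _))

/-- `H^i(Hom•(J, I)) = Hom(M, I[i][n])` for `J ≅ M[-n]`. -/
noncomputable def homologyEquivSingle {J : DRing.Cx A} {n : ℤ} {M : Type u} [AddCommGroup M]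
    [Module A M] (e : DerivedCategory.Q.obj J ≅
      (DerivedCategory.singleFunctor (ModuleCat.{u} A) n).obj (ModuleCat.of A M)) (i j : ℤ)
    (h : i + n = j) :
    (DRing.homCx J I).homology i ≃ₗ[A] (Dual.inD A M ⟶ (DRing.toD I)⟦j⟧) :=
  (homologyEquiv J I i (computes_of_isKInjective _ _)).trans
    ((Linear.homCongr A e (Iso.refl _)).trans
      ((HomBC.sgEquiv n (ModuleCat.of A M) ((DRing.toD I)⟦i⟧)).trans
        (Linear.homCongr A (Iso.refl _) ((CategoryTheory.shiftFunctorAdd' (Dual.D A) i n j h).symm.app _))))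

/-- The evaluation map of `κ[0]`, `κ = A/m`, is a quasi-isomorphism if `Hom(κ, I[i])` is zero except in
one degree where it is `κ`. -/
theorem quasiIso_ev_residue [hm : m.IsMaximal] (n : ℤ)
    (h0 : ∀ i ≠ n, Subsingleton (Dual.inD A (A ⧸ m) ⟶ (DRing.toD I)⟦i⟧))
    (h1 : Nonempty ((Dual.inD A (A ⧸ m) ⟶ (DRing.toD I)⟦n⟧) ≃ₗ[A] A ⧸ m)) :
    QuasiIso (ev (M0 (A := A) (A ⧸ m)) I) := by
  obtain ⟨e1⟩ := h1
  obtain ⟨e⟩ := exists_iso_single (DRing.homCx (M0 (A := A) (A ⧸ m)) I) n
    (fun i hi => by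
      have := h0 i hi
      exact (homologyEquivM0 I (A ⧸ m) i).toEquiv.subsingleton)
    (A ⧸ m) ((homologyEquivM0 I (A ⧸ m) n).trans e1)
  have hDD (i : ℤ) (hi : i ≠ 0) :
      Subsingleton ((DRing.homCx (DRing.homCx (M0 (A := A) (A ⧸ m)) I) I).homology i) := by
    have := h0 (i + n) (by lia)
    exact (homologyEquivSingle I e i (i + n) rfl).toEquiv.subsingleton
  have eDD : (DRing.homCx (DRing.homCx (M0 (A := A) (A ⧸ m)) I) I).homology 0 ≃ₗ[A] (A ⧸ m) :=
    (homologyEquivSingle I e 0 n (zero_add n)).trans e1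
  have eK : (M0 (A := A) (A ⧸ m)).homology 0 ≃ₗ[A] (A ⧸ m) :=
    ((HomologicalComplex.homologyFunctorSingleIso (ModuleCat.{u} A) (ComplexShape.up ℤ) 0).app
      (ModuleCat.of A (A ⧸ m))).toLinearEquiv
  rw [quasiIso_iff]
  intro i
  rw [quasiIsoAt_iff_isIso_homologyMap, ConcreteCategory.isIso_iff_bijective]
  by_cases hi : i = 0
  · subst hi
    have hs : IsSimpleModule A (A ⧸ m) := isSimpleModule_iff_quot_maximal.2
      ⟨m, hm, ⟨LinearEquiv.refl A _⟩⟩
    have hs1 : IsSimpleModule A ((M0 (A := A) (A ⧸ m)).homology 0) := IsSimpleModule.congr eK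
    have hs2 : IsSimpleModule A
        ((DRing.homCx (DRing.homCx (M0 (A := A) (A ⧸ m)) I) I).homology 0) :=
      IsSimpleModule.congr eDD
    refine LinearMap.bijective_of_ne_zero (f := (homologyMap (ev (M0 (A := A) (A ⧸ m)) I) 0).hom)
      fun hzero => ?_
    have h2 := LinearMap.congr_fun hzero (ModHom.hmk _ 0 (kone m) rfl)
    have h3 : homologyMap (ev (M0 (A := A) (A ⧸ m)) I) 0 (ModHom.hmk _ 0 (kone m) rfl) = 0 := h2
    rw [ModHom.homologyMap_hmk, ModHom.hmk_eq_zero_iff] at h3
    obtain ⟨z, hz⟩ := h3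
    have h4 : (DRing.homCx (M0 (A := A) (A ⧸ m)) I).ExactAt n := by
      rw [ModHom.exactAt_iff'']
      intro φ hφ
      exact exists_coboundary I m z hz n φ hφ
    rw [exactAt_iff_isZero_homology] at h4
    have h5 : Subsingleton ((DRing.homCx (M0 (A := A) (A ⧸ m)) I).homology n) :=
      ModuleCat.subsingleton_of_isZero h4
    have h6 : Subsingleton (A ⧸ m) :=
      ((homologyEquivM0 I (A ⧸ m) n).trans e1).symm.toEquiv.subsingleton
    exact hm.ne_top (Ideal.Quotient.subsingleton_iff.1 h6)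
  · have h1 := hDD i hi
    have h2 : Subsingleton ((M0 (A := A) (A ⧸ m)).homology i) := by
      have : (M0 (A := A) (A ⧸ m)).ExactAt i := by
        rw [exactAt_iff]
        exact ShortComplex.exact_of_isZero_X₂ _
          (HomologicalComplex.isZero_single_obj_X (ComplexShape.up ℤ) 0 _ i hi)
      rw [exactAt_iff_isZero_homology] at this
      exact ModuleCat.subsingleton_of_isZero this
    exact ⟨fun _ _ _ => Subsingleton.elim _ _, fun y => ⟨0, Subsingleton.elim _ _⟩⟩

end Residue

section Conclusion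

variable (I : DRing.Cx A) [I.IsKInjective] (hev : QuasiIso (ev (S0 A) I))

include hev

/-- Converse of `HomCx.quasiIso_ev_s0`, in degree `0`. -/
theorem toEnd_bijective_of_quasiIso :
    Function.Bijective (fun a : A => a • 𝟙 (DRing.toD I)) := by
  have h0 := (ModHom.quasiIsoAt_iff' (ev (S0 A) I) 0).1 inferInstance
  constructor
  · have key : ∀ a : A, a • 𝟙 (DRing.toD I) = 0 → a = 0 := by
      intro a ha
      have h1 : DerivedCategory.Q.map (a • theta I) = 0 := by
        rw [Functor.map_smul, ← Category.comp_id (DerivedCategory.Q.map (theta I)),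
          ← Linear.comp_smul, ha, comp_zero]
      obtain ⟨y, hy⟩ := (exists_δ_eq_ofHom_iff (a • theta I) (0 - 1) (by lia)).2 h1
      rw [← ev_s0_eq] at hy
      obtain ⟨y', hy'⟩ := h0.1 (a • s0one A) rfl ⟨y, hy⟩
      have h2 : a • s0one A = 0 := by
        rw [← hy']
        have : (S0 A).d (0 - 1) 0 = 0 := rfl
        rw [this]
        rfl
      have h3 := congrArg (s0Iso A).hom h2
      rw [map_smul, map_zero] at h3
      have h4 : (s0Iso A).hom (s0one A) = (1 : A) := by
        change ((s0Iso A).inv ≫ (s0Iso A).hom) (1 : A) = 1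
        simp
      rw [h4] at h3
      have h5 : a * 1 = 0 := h3
      rwa [mul_one] at h5
    intro a b hab
    rw [← sub_eq_zero]
    apply key
    rw [sub_smul, sub_eq_zero]
    exact hab
  · intro f
    obtain ⟨g, rfl⟩ := exists_Q_map_eq f
    obtain ⟨x, z, -, hz⟩ := h0.2 (Cochain.ofHom (theta I ≫ g)) (δ_ofHom (theta I ≫ g))
    rw [s0_eq_smul x] at hz
    set a : A := (s0Iso A).hom x
    refine ⟨a, ?_⟩
    have hz' : δ (0 - 1) 0 (z : Cochain (DRing.homCx (S0 A) I) I (0 - 1)) =
        Cochain.ofHom (a • theta I - theta I ≫ g) := by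
      rw [Cochain.ofHom_sub, ← ev_s0_eq]
      exact hz
    have h1 := (exists_δ_eq_ofHom_iff (a • theta I - theta I ≫ g) (0 - 1) (by lia)).1 ⟨z, hz'⟩
    rw [Functor.map_sub, sub_eq_zero, Functor.map_smul, Functor.map_comp] at h1
    rw [← cancel_epi (DerivedCategory.Q.map (theta I)), Linear.comp_smul, Category.comp_id]
    exact h1

/-- Converse of `HomCx.quasiIso_ev_s0`, in nonzero degrees. -/
theorem ext_self_subsingleton_of_quasiIso (i : ℤ) (hi : i ≠ 0) :
    Subsingleton (DRing.toD I ⟶ (DRing.toD I)⟦i⟧) := by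
  have h1 : Subsingleton ((DRing.homCx (DRing.homCx (S0 A) I) I).homology i) := by
    have : (S0 A).ExactAt i := by
      rw [exactAt_iff]
      exact ShortComplex.exact_of_isZero_X₂ _ (isZero_S0_X i hi)
    rw [exactAt_iff_of_quasiIsoAt (ev (S0 A) I) i, exactAt_iff_isZero_homology] at this
    exact ModuleCat.subsingleton_of_isZero this
  have h2 : Subsingleton (DerivedCategory.Q.obj (DRing.homCx (S0 A) I) ⟶ (DRing.toD I)⟦i⟧) :=
    (homologyEquiv (DRing.homCx (S0 A) I) I i (computes_of_isKInjective _ _)).symm.toEquiv.subsingleton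
  exact subsingleton_of_iso_left (DerivedCategory.Q.mapIso (asIso (theta I))).symm h2

end Conclusion

/-- **Local criterion for dualizing complexes.** -/
theorem isDualizing_of_residue [IsNoetherianRing A] (ω : Dual.D A)
    (hinj : ∃ a b : ℤ, ∀ (M : Type u) [AddCommGroup M] [Module A M] (i : ℤ),
      (i < a ∨ b < i) → Subsingleton (Dual.inD A M ⟶ ω⟦i⟧))
    (hfin : ∀ i : ℤ, Module.Finite A (Dual.HD A ω i))
    (hκ : ∀ (m : Ideal A) [m.IsMaximal], ∃ n : ℤ,
      (∀ i : ℤ, i ≠ n → Subsingleton (Dual.inD A (A ⧸ m) ⟶ ω⟦i⟧)) ∧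
        Nonempty ((Dual.inD A (A ⧸ m) ⟶ ω⟦n⟧) ≃ₗ[A] (A ⧸ m))) :
    Dual.IsDualizing A ω := by
  obtain ⟨a, b, hab⟩ := hinj
  obtain ⟨I, hIa, hIb, hI, ⟨e⟩⟩ := exists_injective_representative_of_subsingleton ω a b hab
  have hKI : I.IsKInjective := isKInjective_of_injective I a
  refine HomBC.isDualizing_of_iso e ?_
  have hfinI (j : ℤ) : Module.Finite A (I.homology j) := by
    have := hfin j
    exact Module.Finite.equiv
      ((((DerivedCategory.homologyFunctor (ModuleCat.{u} A) j).mapIso e.symm) ≪≫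
        (DerivedCategory.homologyFunctorFactors (ModuleCat.{u} A) j).app I).toLinearEquiv)
  have hs (M : Type u) [AddCommGroup M] [Module A M] (i : ℤ)
      (h : Subsingleton (Dual.inD A M ⟶ ω⟦i⟧)) :
      Subsingleton (Dual.inD A M ⟶ (DRing.toD I)⟦i⟧) :=
    subsingleton_of_iso e i h
  have hev : ∀ (M : Type u) [AddCommGroup M] [Module A M] [Module.Finite A M],
      QuasiIso (ev (M0 (A := A) M) I) := by
    intro M _ _ _
    refine quasiIso_ev_module I hI a b hfinI ?_ M
    intro m hm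
    obtain ⟨n, hn, ⟨e1⟩⟩ := hκ m
    exact quasiIso_ev_residue I m n (fun i hi => hs _ i (hn i hi))
      ⟨(Linear.homCongr A (Iso.refl _) ((CategoryTheory.shiftFunctor _ n).mapIso e)).trans e1⟩
  have hev0 : QuasiIso (ev (S0 A) I) := hev A
  exact
    { isNoetherianRing := inferInstance
      finite_injective_dimension := ⟨a, b, fun M _ _ i hi => hs M i (hab M i hi)⟩
      finite_cohomology := fun i => by
        have := hfinI i
        exact Module.Finite.equiv (hdEquiv I i).symm
      toEnd_bijective := toEnd_bijective_of_quasiIso I hev0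
      ext_self_subsingleton := ext_self_subsingleton_of_quasiIso I hev0 }

end Groth.Agent.LoccohB.BassCrit
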