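import Groth.Agent.LoccohB.DualBC
import Groth.Agent.LoccohB.FinInj

/-!
# Flat ascent and faithfully flat descent for dualizing complexes, part 2
-/

set_option autoImplicit false
universe w v u w₁ v₁ u₁ uA uB v₂ u₂

open CategoryTheory CategoryTheory.Limits Opposite Pretriangulated
open scoped TensorProduct ChangeOfRings

attribute [local instance] HasDerivedCategory.standard

namespace Groth.Agent.LoccohB.DualBC

open DerivedCategory Groth.Agent.LoccohB.DBase Groth.Agent.LoccohB.FlatLBC
  Groth.Agent.LoccohB.HomBC Groth.Agent.LoccohB.Devissage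

/-- For an object with cohomology in `[a, b]`, the injective dimension can be tested on `A/J`. -/
lemma finite_inj_dim_of_ideals {A : Type u} [CommRing A] (K : Dual.D A) (a b : ℤ) (hGE : K.IsGE a)
    (hLE : K.IsLE b) (hJ : ∀ J : Ideal A, Subsingleton (Dual.inD A (A ⧸ J) ⟶ K⟦b + 1⟧))
    (M : Type u) [AddCommGroup M] [Module A M] (i : ℤ) (hi : i < a ∨ b < i) :
    Subsingleton (Dual.inD A M ⟶ K⟦i⟧) := by
  obtain ⟨I, h1, h2, h3, ⟨e⟩⟩ := InjRep.exists_injective_representative K a b hJ
  exact FinInj.subsingleton_of_injective I a b h3 K e M i hi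

variable {A : Type u} (B : Type u) [CommRing A] [CommRing B] [Algebra A B]
  (h : (algebraMap A B).Flat)

/-- **Faithfully flat descent of dualizing complexes** (Stacks 0E4A). -/
theorem isDualizing_of_flatBC' [IsNoetherianRing A] [Module.FaithfullyFlat A B] {K : Dual.D A}
    (hK : Dual.IsDualizing B ((flatBC (algebraMap A B) h).obj K)) : Dual.IsDualizing A K := by
  refine isDualizing_of_flatBC B h hK ?_
  intro a b hGE hLE hM
  exact finite_inj_dim_of_ideals K a b hGE hLE (fun J => hM (A ⧸ J) (b + 1) (Or.inr (by lia)))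

end Groth.Agent.LoccohB.DualBC
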