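import Groth.Agent.LoccohB.BassCritB
import Groth.Agent.LoccohB.FlatDual
import Groth.Agent.LoccohB.DualBC2
import Groth.Agent.PerfA.ExactD
import Groth.Agent.LoccohA.DzKappa
import Mathlib.RingTheory.Localization.LocalizationLocalization
import Mathlib.RingTheory.Localization.BaseChange

/-!
# Local criterion for dualizing complexes, part C: localization

* `OneDeg A ω m n`: `Hom(A/m, ω[i])` vanishes for `i ≠ n` and is `A/m` for `i = n`.
* `InjLE A ω N`: `Hom(M, ω[i]) = 0` for all modules `M` and `i > N`.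
* `isDualizing_of_oneDeg`: local criterion with a uniform bound.
* `GoodPt N ω p`: the localization of `ω` at `p` is dualizing with `InjLE N`.
* `isDualizing_of_goodPt`: `ω` is dualizing if it is good at all maximal ideals (uniform `N`).
* `GoodPt.of_le`, `goodPt_iff_of_isLocalization`: behaviour under localization.
-/

set_option autoImplicit false
universe v u

open CategoryTheory CategoryTheory.Limits
open scoped TensorProduct ChangeOfRings

attribute [local instance] HasDerivedCategory.standard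

namespace Groth.Agent.LoccohB.BassCrit

open DerivedCategory Groth.Agent.LoccohB Groth.Agent.LoccohB.HomBC Groth.Agent.LoccohB.FlatLBC
  Groth.Agent.LoccohB.FlatDual Groth.Agent.LoccohB.InjRep Groth.Agent.LoccohB.DualBC

/-- `Hom(A/m, ω[i])` vanishes for `i ≠ n` and is isomorphic to `A/m` for `i = n`. -/
structure OneDeg (A : Type u) [CommRing A] (ω : Dual.D A) (m : Ideal A) (n : ℤ) : Prop where
  sub : ∀ i : ℤ, i ≠ n → Subsingleton (Dual.inD A (A ⧸ m) ⟶ ω⟦i⟧)
  equiv : Nonempty ((Dual.inD A (A ⧸ m) ⟶ ω⟦n⟧) ≃ₗ[A] (A ⧸ m))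

/-- `Hom(M, ω[i]) = 0` for all modules `M` and `i > N`. -/
def InjLE (A : Type u) [CommRing A] (ω : Dual.D A) (N : ℤ) : Prop :=
  ∀ (M : Type u) [AddCommGroup M] [Module A M] (i : ℤ), N < i →
    Subsingleton (Dual.inD A M ⟶ ω⟦i⟧)

section Basic

variable {A : Type u} [CommRing A]

lemma OneDeg.le_of_injLE {ω : Dual.D A} {m : Ideal A} {n N : ℤ} (h : OneDeg A ω m n)
    (hm : m ≠ ⊤) (hN : InjLE A ω N) : n ≤ N := by
  by_contra hlt
  have := hN (A ⧸ m) n (not_le.1 hlt)
  obtain ⟨e⟩ := h.equiv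
  have h2 : Subsingleton (A ⧸ m) := e.symm.toEquiv.subsingleton
  exact hm (Ideal.Quotient.subsingleton_iff.1 h2)

lemma OneDeg.of_iso {ω ω' : Dual.D A} (e : ω ≅ ω') {m : Ideal A} {n : ℤ} (h : OneDeg A ω m n) :
    OneDeg A ω' m n where
  sub i hi := by
    have := h.sub i hi
    exact subsingleton_of_iso e.symm i this
  equiv := by
    obtain ⟨e1⟩ := h.equiv
    exact ⟨(Linear.homCongr A (Iso.refl _) ((shiftFunctor _ n).mapIso e)).symm.trans e1⟩

lemma InjLE.of_iso {ω ω' : Dual.D A} (e : ω ≅ ω') {N : ℤ} (h : InjLE A ω N) :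
    InjLE A ω' N := fun M _ _ i hi => subsingleton_of_iso e.symm i (h M i hi)

lemma InjLE.mono {ω : Dual.D A} {N N' : ℤ} (h : InjLE A ω N) (hN : N ≤ N') : InjLE A ω N' :=
  fun M _ _ i hi => h M i (lt_of_le_of_lt hN hi)

lemma InjLE.isLE {ω : Dual.D A} {N : ℤ} (h : InjLE A ω N) : ω.IsLE N :=
  isLE_of_subsingleton ω N fun i hi => h A i hi

/-- The one-degree condition at a maximal ideal for dualizing complexes (Stacks 0A7L). -/
theorem exists_oneDeg [IsNoetherianRing A] {ω : Dual.D A} (hω : Dual.IsDualizing A ω)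
    (m : Ideal A) [m.IsMaximal] : ∃ n, OneDeg A ω m n := by
  obtain ⟨n, h1, h2⟩ := Groth.Agent.LoccohA.DzKappa.ext_residueField hω m
  exact ⟨n, h1, h2⟩

/-- **Local criterion**, with a uniform bound instead of finite injective dimension. -/
theorem isDualizing_of_oneDeg [IsNoetherianRing A] (ω : Dual.D A) (a N : ℤ) [ω.IsGE a]
    (hfin : ∀ i : ℤ, Module.Finite A (Dual.HD A ω i))
    (h : ∀ (m : Ideal A) [m.IsMaximal], ∃ n ≤ N, OneDeg A ω m n) :
    Dual.IsDualizing A ω ∧ InjLE A ω N := by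
  have key := FinInj.finite_injective_dimension_of_maximal ω a N hfin (fun m hm i hi => by
    obtain ⟨n, hn, h1⟩ := h m
    exact h1.sub i (by lia))
  refine ⟨isDualizing_of_residue ω ⟨a, N, key⟩ hfin fun m hm => ?_,
    fun M _ _ i hi => key M i (Or.inr hi)⟩
  obtain ⟨n, hn, h1⟩ := h m
  exact ⟨n, h1.sub, h1.equiv⟩

/-- The local criterion over a local ring. -/
theorem isDualizing_of_oneDeg_local [IsNoetherianRing A] [IsLocalRing A] (ω : Dual.D A) (a n : ℤ)
    [ω.IsGE a] (hfin : ∀ i : ℤ, Module.Finite A (Dual.HD A ω i))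
    (h : OneDeg A ω (IsLocalRing.maximalIdeal A) n) :
    Dual.IsDualizing A ω ∧ InjLE A ω n :=
  isDualizing_of_oneDeg ω a n hfin fun m hm => ⟨n, le_rfl, by
    rwa [IsLocalRing.eq_maximalIdeal hm]⟩

end Basic

section FlatBC

/-- Base change along equal ring maps. -/
noncomputable def flatBCCongr {A B : Type u} [CommRing A] [CommRing B] {φ φ' : A →+* B}
    (e : φ = φ') (hφ : φ.Flat) (hφ' : φ'.Flat) : flatBC φ hφ ≅ flatBC φ' hφ' :=
  eqToIso (by subst e; rfl)

/-- Base change along a composition. -/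
noncomputable def flatBCComp {A B C : Type u} [CommRing A] [CommRing B] [CommRing C] (φ : A →+* B)
    (ψ : B →+* C) (hφ : φ.Flat) (hψ : ψ.Flat) (h : (ψ.comp φ).Flat) :
    flatBC φ hφ ⋙ flatBC ψ hψ ≅ flatBC (ψ.comp φ) h :=
  haveI := ModuleCat.preservesFiniteLimits_extendScalars_of_flat hφ
  haveI := ModuleCat.preservesFiniteLimits_extendScalars_of_flat hψ
  haveI := ModuleCat.preservesFiniteLimits_extendScalars_of_flat h
  Groth.Agent.PerfA.ExactD.mapDComp (F := ModuleCat.extendScalars.{u, u, u} φ)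
    (G := ModuleCat.extendScalars.{u, u, u} ψ) (H := ModuleCat.extendScalars.{u, u, u} (ψ.comp φ))
    (ModuleCat.extendScalarsComp φ ψ).symm

variable (A C B : Type u) [CommRing A] [CommRing B] [CommRing C] [Algebra A C] [Algebra C B]
  [Algebra A B] [IsScalarTower A C B]

/-- Base change in a tower. -/
noncomputable def flatBCTower (h1 : (algebraMap A C).Flat) (h2 : (algebraMap C B).Flat)
    (h3 : (algebraMap A B).Flat) :
    flatBC (algebraMap A C) h1 ⋙ flatBC (algebraMap C B) h2 ≅ flatBC (algebraMap A B) h3 :=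
  flatBCComp (algebraMap A C) (algebraMap C B) h1 h2
    (by rw [← IsScalarTower.algebraMap_eq A C B]; exact h3) ≪≫
    flatBCCongr (IsScalarTower.algebraMap_eq A C B).symm _ h3

end FlatBC

section Loc

variable {A B : Type u} [CommRing A] [CommRing B] [Algebra A B] (h : (algebraMap A B).Flat)

/-- `InjLE` is inherited along flat maps for which all ideals are extended. -/
theorem InjLE.flatBC [IsNoetherianRing A] (hJ : ∀ J' : Ideal B, ∃ J : Ideal A,
    J.map (algebraMap A B) = J') (ω : Dual.D A) (a N : ℤ) [ω.IsGE a] (hω : InjLE A ω N) :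
    InjLE B ((flatBC (algebraMap A B) h).obj ω) N := by
  have h1 : ((FlatLBC.flatBC (algebraMap A B) h).obj ω).IsGE a := isGE_flatBC B h ω a
  have h2 : ω.IsLE N := hω.isLE
  have h3 : ((FlatLBC.flatBC (algebraMap A B) h).obj ω).IsLE N := isLE_flatBC B h ω N
  intro M _ _ i hi
  refine finite_inj_dim_of_ideals _ a N h1 h3 (fun J' => ?_) M i (Or.inr hi)
  obtain ⟨J, rfl⟩ := hJ J'
  exact subsingleton_quot h ω a J (N + 1) (hω (A ⧸ J) (N + 1) (by lia))

/-- A dualizing complex with `InjLE N` remains so under localization. -/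
theorem isDualizing_injLE_flatBC [IsNoetherianRing A] [IsNoetherianRing B]
    (hJ : ∀ J' : Ideal B, ∃ J : Ideal A, J.map (algebraMap A B) = J') (ω : Dual.D A) (N : ℤ)
    (hω : Dual.IsDualizing A ω ∧ InjLE A ω N) :
    Dual.IsDualizing B ((flatBC (algebraMap A B) h).obj ω) ∧
      InjLE B ((flatBC (algebraMap A B) h).obj ω) N := by
  obtain ⟨a, b, _, _, hab⟩ := exists_bounds_of_isDualizing hω.1
  exact ⟨isDualizing_flatBC_of_maximal h ω hω.1 fun m _ => hJ m, InjLE.flatBC h hJ ω a N hω.2⟩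

end Loc

section Residue

variable {A : Type u} [CommRing A]

lemma smul_id_inD_eq_zero (m : Ideal A) (a : A) (ha : a ∈ m) : a • 𝟙 (Dual.inD A (A ⧸ m)) = 0 := by
  rw [← FinInj.inDMap_smul_id]
  have : a • (LinearMap.id : (A ⧸ m) →ₗ[A] (A ⧸ m)) = 0 := by
    ext
    change a • (Ideal.Quotient.mk m 1) = 0
    rw [← Ideal.Quotient.mk_eq_mk, ← Submodule.Quotient.mk_smul, smul_eq_mul, mul_one]
    exact (Submodule.Quotient.mk_eq_zero m).2 ha
  rw [this]
  exact (DerivedCategory.singleFunctor (ModuleCat.{u} A) 0).map_zero _ _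

/-- `m` kills `Hom(A/m, Y)`. -/
lemma smul_hom_eq_zero (m : Ideal A) (a : A) (ha : a ∈ m) {Y : Dual.D A}
    (f : Dual.inD A (A ⧸ m) ⟶ Y) : a • f = 0 := by
  calc a • f = (a • 𝟙 _) ≫ f := by rw [Linear.smul_comp, Category.id_comp]
    _ = 0 := by rw [smul_id_inD_eq_zero m a ha, zero_comp]

/-- The elements outside `m` act bijectively on modules killed by the maximal ideal `m`. -/
lemma isLocalizedModule_id_of_smul (m : Ideal A) [hm : m.IsMaximal] (V : Type*) [AddCommGroup V]
    [Module A V] (hV : ∀ a ∈ m, ∀ v : V, a • v = 0) :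
    IsLocalizedModule m.primeCompl (LinearMap.id : V →ₗ[A] V) where
  map_units := by
    rintro ⟨s, hs⟩
    obtain ⟨t, ht⟩ := Ideal.Quotient.exists_inv (I := m) (a := Ideal.Quotient.mk m s) (by
      rw [Ne, Ideal.Quotient.eq_zero_iff_mem]
      exact hs)
    obtain ⟨t, rfl⟩ := Ideal.Quotient.mk_surjective t
    have h1 : s * t - 1 ∈ m := by
      rw [← Ideal.Quotient.eq_zero_iff_mem, map_sub, map_mul, ht, map_one, sub_self]
    have h2 : ∀ v : V, (s * t) • v = v := fun v => by
      have := hV _ h1 v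
      rwa [sub_smul, one_smul, sub_eq_zero] at this
    rw [Module.End.isUnit_iff]
    constructor
    · rw [injective_iff_map_eq_zero]
      intro v hv
      have hv' : s • v = 0 := hv
      rw [← h2 v, mul_comm, mul_smul, hv', smul_zero]
    · intro v
      refine ⟨t • v, ?_⟩
      change s • t • v = v
      rw [← mul_smul, h2]
  surj v := ⟨(v, 1), one_smul _ _⟩
  exists_of_eq h := ⟨1, congr_arg _ h⟩

/-- `B ⊗ V = V` for `V` killed by `m`, `B = A_m`. -/
noncomputable def tensorEquivOfSmul (m : Ideal A) [hm : m.IsMaximal] (B : Type*) [CommRing B]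
    [Algebra A B] [IsLocalization.AtPrime B m] (V : Type*) [AddCommGroup V] [Module A V]
    (hV : ∀ a ∈ m, ∀ v : V, a • v = 0) : V ≃ₗ[A] B ⊗[A] V :=
  haveI := isLocalizedModule_id_of_smul m V hV
  haveI : IsLocalizedModule m.primeCompl (TensorProduct.mk A B V 1) :=
    (isLocalizedModule_iff_isBaseChange m.primeCompl B _).2 (TensorProduct.isBaseChange A V B)
  IsLocalizedModule.linearEquiv m.primeCompl (LinearMap.id : V →ₗ[A] V)
    (TensorProduct.mk A B V 1)

variable (B : Type u) [CommRing B] [Algebra A B] (h : (algebraMap A B).Flat)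

/-- `B ⊗ Hom(A/J, K[i]) = Hom(B/JB, K_B[i])`. -/
noncomputable def homQuotEquiv [IsNoetherianRing A] (J : Ideal A) (K : Dual.D A) (c : ℤ)
    [K.IsGE c] (i : ℤ) :
    B ⊗[A] (Dual.inD A (A ⧸ J) ⟶ K⟦i⟧) ≃ₗ[B]
      (Dual.inD B (B ⧸ J.map (algebraMap A B)) ⟶ ((flatBC (algebraMap A B) h).obj K)⟦i⟧) :=
  haveI h1 : (Dual.inD A (A ⧸ J)).IsGE 0 := by dsimp [Dual.inD]; infer_instance
  haveI h2 : (Dual.inD A (A ⧸ J)).IsLE 0 := by dsimp [Dual.inD]; infer_instance
  (homBCEquiv B h (Dual.inD A (A ⧸ J)) 0 0 (finite_HD_inD _) K c i).trans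
    (Linear.homCongr B (flatBCQuot h J) (Iso.refl _))

theorem OneDeg.flatBC [IsNoetherianRing A] {K : Dual.D A} (c : ℤ) [K.IsGE c] {m : Ideal A} {n : ℤ}
    (hK : OneDeg A K m n) :
    OneDeg B ((flatBC (algebraMap A B) h).obj K) (m.map (algebraMap A B)) n where
  sub i hi := by
    have := hK.sub i hi
    exact subsingleton_quot h K c m i this
  equiv := by
    obtain ⟨e⟩ := hK.equiv
    exact ⟨(homQuotEquiv B h m K c n).symm.trans ((TensorProduct.AlgebraTensorModule.congr
      (LinearEquiv.refl B B) e).trans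
      (Algebra.TensorProduct.quotIdealMapEquivTensorQuot B m).symm.toLinearEquiv)⟩

/-- The one-degree condition at a maximal ideal can be tested after localization. -/
theorem OneDeg.of_flatBC [IsNoetherianRing A] {K : Dual.D A} (c : ℤ) [K.IsGE c] {m : Ideal A}
    [hm : m.IsMaximal] [IsLocalization.AtPrime B m] {n : ℤ}
    (hK : OneDeg B ((FlatLBC.flatBC (algebraMap A B) h).obj K) (m.map (algebraMap A B)) n) :
    OneDeg A K m n := by
  have hV (i : ℤ) : ∀ a ∈ m, ∀ v : (Dual.inD A (A ⧸ m) ⟶ K⟦i⟧), a • v = 0 :=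
    fun a ha v => smul_hom_eq_zero m a ha v
  refine ⟨fun i hi => ?_, ?_⟩
  · have := hK.sub i hi
    have h1 : Subsingleton (B ⊗[A] (Dual.inD A (A ⧸ m) ⟶ K⟦i⟧)) :=
      (homQuotEquiv B h m K c i).toEquiv.subsingleton
    exact (tensorEquivOfSmul m B _ (hV i)).toEquiv.subsingleton
  · obtain ⟨e⟩ := hK.equiv
    have e1 : (B ⊗[A] (Dual.inD A (A ⧸ m) ⟶ K⟦n⟧)) ≃ₗ[B] (B ⊗[A] (A ⧸ m)) :=
      (homQuotEquiv B h m K c n).trans
        (e.trans (Algebra.TensorProduct.quotIdealMapEquivTensorQuot B m).toLinearEquiv)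
    have hQ : ∀ a ∈ m, ∀ v : (A ⧸ m), a • v = 0 := by
      intro a ha v
      obtain ⟨v, rfl⟩ := Ideal.Quotient.mk_surjective v
      rw [← Ideal.Quotient.mk_eq_mk, ← Submodule.Quotient.mk_smul, smul_eq_mul]
      exact (Submodule.Quotient.mk_eq_zero m).2 (m.mul_mem_right _ ha)
    exact ⟨(tensorEquivOfSmul m B _ (hV n)).trans ((e1.restrictScalars A).trans
      (tensorEquivOfSmul m B _ hQ).symm)⟩

end Residue

end Groth.Agent.LoccohB.BassCrit
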