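import Groth.Agent.LoccohB.BassCritC
import Mathlib.RingTheory.Localization.Submodule
import Mathlib.RingTheory.Localization.Ideal

/-!
# Local criterion for dualizing complexes, part D: pointwise dualizing complexes

* `GoodPt N ω p`: the localization of `ω` at `p` is dualizing with `InjLE N`.
* `goodPt_of_isLocalization`: it suffices to consider one localization.
* `GoodPt.of_le`: good at `q` implies good at all primes `p ≤ q`.
* `goodPt_iff_of_isLocalization`: `GoodPt N ω_C q ↔ GoodPt N ω (q ∩ A)` for `C` a localization of `A`.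
* `goodPt_of_oneDeg`: the one-degree condition at a maximal ideal implies good.
* `isDualizing_of_goodPt`: `ω` is dualizing if it is good at all maximal ideals (uniform `N`).
-/

set_option autoImplicit false
universe v u

open CategoryTheory CategoryTheory.Limits
open scoped TensorProduct ChangeOfRings

attribute [local instance] HasDerivedCategory.standard

namespace Groth.Agent.LoccohB.BassCrit

open DerivedCategory Groth.Agent.LoccohB Groth.Agent.LoccohB.HomBC Groth.Agent.LoccohB.FlatLBC
  Groth.Agent.LoccohB.FlatDual Groth.Agent.LoccohB.InjRep Groth.Agent.LoccohB.DualBC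

/-- The localization of `ω` at `p` is a dualizing complex with `InjLE N`. -/
def GoodPt {A : Type u} [CommRing A] (N : ℤ) (ω : Dual.D A) (p : Ideal A) [p.IsPrime] : Prop :=
  ∀ (B : Type u) [CommRing B] [Algebra A B] [IsLocalization.AtPrime B p]
    (h : (algebraMap A B).Flat),
    Dual.IsDualizing B ((flatBC (algebraMap A B) h).obj ω) ∧
      InjLE B ((flatBC (algebraMap A B) h).obj ω) N

section

variable {A : Type u} [CommRing A]

lemma flat_of_isLocalization (M : Submonoid A) (B : Type u) [CommRing B] [Algebra A B]
    [IsLocalization M B] : (algebraMap A B).Flat :=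
  (RingHom.flat_algebraMap_iff).2 (IsLocalization.flat B M)

lemma exists_ideal_map_eq (M : Submonoid A) (B : Type u) [CommRing B] [Algebra A B]
    [IsLocalization M B] (J' : Ideal B) : ∃ J : Ideal A, J.map (algebraMap A B) = J' :=
  ⟨J'.comap (algebraMap A B), IsLocalization.map_under M B J'⟩

lemma GoodPt.of_iso {N : ℤ} {ω ω' : Dual.D A} (e : ω ≅ ω') {p : Ideal A} [p.IsPrime]
    (h : GoodPt N ω p) : GoodPt N ω' p := by
  intro B _ _ _ hB
  obtain ⟨h1, h2⟩ := h B hB
  exact ⟨isDualizing_of_iso ((flatBC (algebraMap A B) hB).mapIso e) h1,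
    h2.of_iso ((flatBC (algebraMap A B) hB).mapIso e)⟩

lemma GoodPt.mono {N N' : ℤ} {ω : Dual.D A} {p : Ideal A} [p.IsPrime]
    (h : GoodPt N ω p) (hN : N ≤ N') : GoodPt N' ω p := by
  intro B _ _ _ hB
  obtain ⟨h1, h2⟩ := h B hB
  exact ⟨h1, h2.mono hN⟩

/-- The general principle: in a tower `A → C → B` with `C → B` a localization, dualizing with
`InjLE` passes from the base change to `C` to the base change to `B`. -/
lemma pair_of_tower (C B : Type u) [CommRing C] [CommRing B] [Algebra A C] [Algebra C B]
    [Algebra A B] [IsScalarTower A C B] [IsNoetherianRing C] [IsNoetherianRing B]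
    (h1 : (algebraMap A C).Flat) (h2 : (algebraMap C B).Flat) (h3 : (algebraMap A B).Flat)
    (hJ : ∀ J' : Ideal B, ∃ J : Ideal C, J.map (algebraMap C B) = J') (ω : Dual.D A) (N : ℤ)
    (hω : Dual.IsDualizing C ((flatBC (algebraMap A C) h1).obj ω) ∧
      InjLE C ((flatBC (algebraMap A C) h1).obj ω) N) :
    Dual.IsDualizing B ((flatBC (algebraMap A B) h3).obj ω) ∧
      InjLE B ((flatBC (algebraMap A B) h3).obj ω) N := by
  obtain ⟨h4, h5⟩ := isDualizing_injLE_flatBC h2 hJ _ N hω
  exact ⟨isDualizing_of_iso ((flatBCTower A C B h1 h2 h3).app ω) h4,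
    h5.of_iso ((flatBCTower A C B h1 h2 h3).app ω)⟩

/-- One localization suffices. -/
theorem goodPt_of_isLocalization {N : ℤ} {ω : Dual.D A} {p : Ideal A} [p.IsPrime] (B : Type u)
    [CommRing B] [Algebra A B] [IsLocalization.AtPrime B p] (hB : (algebraMap A B).Flat)
    (h : Dual.IsDualizing B ((flatBC (algebraMap A B) hB).obj ω) ∧
      InjLE B ((flatBC (algebraMap A B) hB).obj ω) N) : GoodPt N ω p := by
  intro B' _ _ _ hB'
  let e : B ≃ₐ[A] B' := IsLocalization.algEquiv p.primeCompl B B'
  let _ : Algebra B B' := e.toAlgHom.toRingHom.toAlgebra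
  have : IsScalarTower A B B' := IsScalarTower.of_algebraMap_eq fun x => (e.commutes x).symm
  have hN : IsNoetherianRing B := h.1.isNoetherianRing
  have hN' : IsNoetherianRing B' := isNoetherianRing_of_ringEquiv B e.toRingEquiv
  refine pair_of_tower B B' hB (RingHom.Flat.of_bijective e.bijective) hB' (fun J' => ?_) ω N h
  refine ⟨J'.comap e.toAlgHom.toRingHom, ?_⟩
  exact Ideal.map_comap_of_surjective _ e.surjective J'

/-- Good at `q` implies good at `p ≤ q`. -/
theorem GoodPt.of_le {N : ℤ} {ω : Dual.D A} {p q : Ideal A} [p.IsPrime] [q.IsPrime]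
    (hpq : p ≤ q) (h : GoodPt N ω q) : GoodPt N ω p := by
  have hq := h (Localization.AtPrime q) (flat_of_isLocalization q.primeCompl _)
  have hN : IsNoetherianRing (Localization.AtPrime q) := hq.1.isNoetherianRing
  have hle : q.primeCompl ≤ p.primeCompl := fun x hx hx' => hx (hpq hx')
  let _ := IsLocalization.localizationAlgebraOfSubmonoidLe (Localization.AtPrime q)
    (Localization.AtPrime p) q.primeCompl p.primeCompl hle
  have : IsScalarTower A (Localization.AtPrime q) (Localization.AtPrime p) :=
    IsLocalization.localization_isScalarTower_of_submonoid_le (Localization.AtPrime q)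
      (Localization.AtPrime p) q.primeCompl p.primeCompl hle
  have hloc : IsLocalization (p.primeCompl.map (algebraMap A (Localization.AtPrime q)))
      (Localization.AtPrime p) :=
    IsLocalization.isLocalization_of_submonoid_le _ _ q.primeCompl p.primeCompl hle
  have hN' : IsNoetherianRing (Localization.AtPrime p) :=
    IsLocalization.isNoetherianRing (p.primeCompl.map (algebraMap A (Localization.AtPrime q)))
      (Localization.AtPrime p) hN
  refine goodPt_of_isLocalization (Localization.AtPrime p)
    (flat_of_isLocalization p.primeCompl _) ?_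
  exact pair_of_tower (Localization.AtPrime q) (Localization.AtPrime p) _
    (flat_of_isLocalization (p.primeCompl.map (algebraMap A (Localization.AtPrime q))) _) _
    (exists_ideal_map_eq (p.primeCompl.map (algebraMap A (Localization.AtPrime q))) _) ω N hq

/-- Compatibility with localization. -/
theorem goodPt_iff_of_isLocalization {N : ℤ} (ω : Dual.D A) (M : Submonoid A) (C : Type u)
    [CommRing C] [Algebra A C] [IsLocalization M C] (hC : (algebraMap A C).Flat) (q : Ideal C)
    [q.IsPrime] (p : Ideal A) [p.IsPrime] (hp : q.comap (algebraMap A C) = p) :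
    GoodPt N ((flatBC (algebraMap A C) hC).obj ω) q ↔ GoodPt N ω p := by
  subst hp
  have : IsScalarTower A C (Localization.AtPrime q) := inferInstance
  have hloc : IsLocalization.AtPrime (Localization.AtPrime q) (q.comap (algebraMap A C)) :=
    IsLocalization.isLocalization_isLocalization_atPrime_isLocalization M _ q
  have h2 : (algebraMap C (Localization.AtPrime q)).Flat := flat_of_isLocalization q.primeCompl _
  have h3 : (algebraMap A (Localization.AtPrime q)).Flat :=
    flat_of_isLocalization (q.comap (algebraMap A C)).primeCompl _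
  let e := (flatBCTower A C (Localization.AtPrime q) hC h2 h3).app ω
  constructor
  · intro h
    obtain ⟨h4, h5⟩ := h (Localization.AtPrime q) h2
    exact goodPt_of_isLocalization (Localization.AtPrime q) h3
      ⟨isDualizing_of_iso e h4, h5.of_iso e⟩
  · intro h
    obtain ⟨h4, h5⟩ := h (Localization.AtPrime q) h3
    exact goodPt_of_isLocalization (Localization.AtPrime q) h2
      ⟨isDualizing_of_iso e.symm h4, h5.of_iso e.symm⟩

/-- The one-degree condition at a maximal ideal implies `GoodPt`. -/
theorem goodPt_of_oneDeg [IsNoetherianRing A] (ω : Dual.D A) (a n : ℤ) [ω.IsGE a]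
    (hfin : ∀ i : ℤ, Module.Finite A (Dual.HD A ω i)) (m : Ideal A) [m.IsMaximal]
    (h : OneDeg A ω m n) : GoodPt n ω m := by
  have hflat := flat_of_isLocalization m.primeCompl (Localization.AtPrime m)
  have hGE : ((flatBC (algebraMap A (Localization.AtPrime m)) hflat).obj ω).IsGE a :=
    isGE_flatBC _ hflat ω a
  refine goodPt_of_isLocalization (Localization.AtPrime m) hflat ?_
  refine isDualizing_of_oneDeg_local _ a n (fun i => ?_) ?_
  · have := hfin i
    exact Module.Finite.equiv (flatHDEquiv _ hflat ω i)
  · have h1 := h.flatBC (Localization.AtPrime m) hflat a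
    rwa [Localization.AtPrime.map_eq_maximalIdeal] at h1

/-- A good maximal ideal satisfies the one-degree condition. -/
theorem GoodPt.exists_oneDeg [IsNoetherianRing A] {N : ℤ} (ω : Dual.D A) (a : ℤ) [ω.IsGE a]
    (m : Ideal A) [m.IsMaximal] (h : GoodPt N ω m) : ∃ n ≤ N, OneDeg A ω m n := by
  have hflat := flat_of_isLocalization m.primeCompl (Localization.AtPrime m)
  obtain ⟨h1, h2⟩ := h (Localization.AtPrime m) hflat
  have := h1.isNoetherianRing
  obtain ⟨n, hn⟩ := BassCrit.exists_oneDeg h1
    (IsLocalRing.maximalIdeal (Localization.AtPrime m))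
  refine ⟨n, hn.le_of_injLE (Ideal.IsPrime.ne_top inferInstance) h2, ?_⟩
  rw [← Localization.AtPrime.map_eq_maximalIdeal] at hn
  exact hn.of_flatBC (Localization.AtPrime m) hflat a

/-- **Pointwise dualizing with a uniform bound implies dualizing.** -/
theorem isDualizing_of_goodPt [IsNoetherianRing A] (ω : Dual.D A) (a N : ℤ) [ω.IsGE a]
    (hfin : ∀ i : ℤ, Module.Finite A (Dual.HD A ω i))
    (h : ∀ (m : Ideal A) [m.IsMaximal], GoodPt N ω m) :
    Dual.IsDualizing A ω ∧ InjLE A ω N :=
  isDualizing_of_oneDeg ω a N hfin fun m _ => (h m).exists_oneDeg ω a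

/-- A dualizing complex is good at all primes. -/
theorem goodPt_of_isDualizing [IsNoetherianRing A] (ω : Dual.D A) (N : ℤ)
    (h : Dual.IsDualizing A ω ∧ InjLE A ω N) (p : Ideal A) [p.IsPrime] : GoodPt N ω p := by
  intro B _ _ _ hB
  have : IsNoetherianRing B := IsLocalization.isNoetherianRing p.primeCompl B inferInstance
  exact isDualizing_injLE_flatBC hB (exists_ideal_map_eq p.primeCompl B) ω N h

end

end Groth.Agent.LoccohB.BassCrit
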