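import Groth.Agent.LoccohB.Univ
import Groth.Agent.LoccohB.HomBC
import Groth.Agent.PerfB.BoundedInd
import Groth.Agent.CalgB.DerTri

/-!
# Flat base change for Hom: perfect and pseudo-coherent objects, any ring

* `bc_bijective_of_isPerfect` : `X` perfect, any `K`.
* `bc_bijective_of_isPseudoCoherent` : `X` pseudo-coherent, `K` bounded below.
* `IsUniv.flat_of_isPerfect`, `IsUniv.flat_of_isPseudoCoherent` : flat base change for universal arrows.
-/

set_option autoImplicit false
universe u

open CategoryTheory CategoryTheory.Limits Opposite Pretriangulated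
open scoped TensorProduct ChangeOfRings ZeroObject

attribute [local instance] HasDerivedCategory.standard

namespace Groth.Agent.LoccohB.BcPerf

open DerivedCategory Groth.Agent.LoccohB.DBase Groth.Agent.LoccohB.FlatLBC
  Groth.Agent.LoccohB.Devissage Groth.Agent.LoccohB.HomBC

variable {A : Type u} (B : Type u) [CommRing A] [CommRing B] [Algebra A B]
  (h : (algebraMap A B).Flat)

/-- The property "the comparison map is bijective for all `K`". -/
def GoodAll : ObjectProperty (Dual.D A) := fun X =>
  ∀ (K : Dual.D A), Function.Bijective (bc A B (flatBC (algebraMap A B) h) X K)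

instance : (GoodAll (A := A) B h).IsClosedUnderIsomorphisms where
  of_iso e hX K :=
    ⟨bc_injective_of_iso_left A B _ e (hX K).1, bc_surjective_of_iso_left A B _ e (hX K).2⟩

lemma goodAll_shift (X : Dual.D A) (n : ℤ) (hX : GoodAll B h X) : GoodAll B h (X⟦n⟧) := by
  intro K
  exact bc_bijective_shift_left B h X K n (-n) (by simp) (hX _)

lemma goodAll_of_isZero (Z : Dual.D A) (hZ : IsZero Z) : GoodAll B h Z := by
  intro K
  have h1 : ∀ t : B ⊗[A] (Z ⟶ K), t = 0 := by
    intro t
    induction t using TensorProduct.induction_on with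
    | zero => rfl
    | tmul b f => rw [hZ.eq_of_src f 0, TensorProduct.tmul_zero]
    | add x y hx hy => rw [hx, hy, add_zero]
  constructor
  · intro s t _
    rw [h1 s, h1 t]
  · intro f
    exact ⟨0, ((flatBC (algebraMap A B) h).map_isZero hZ).eq_of_src _ _⟩

lemma goodAll_triangle₃ (T : Triangle (Dual.D A)) (hT : T ∈ distTriang _)
    (h₁ : GoodAll B h T.obj₁) (h₂ : GoodAll B h T.obj₂) : GoodAll B h T.obj₃ := by
  have hfl : Module.Flat A B := (RingHom.flat_algebraMap_iff).1 h
  intro K
  exact ⟨bc_injective₃ A B _ hT K (goodAll_shift B h _ 1 h₂ K).2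
      (goodAll_shift B h _ 1 h₁ K).1 (h₂ K).1,
    bc_surjective₃ A B _ hT K (goodAll_shift B h _ 1 h₁ K).2 (h₂ K).2 (h₁ K).1⟩

lemma goodAll_triangle₂ (T : Triangle (Dual.D A)) (hT : T ∈ distTriang _)
    (h₁ : GoodAll B h T.obj₁) (h₃ : GoodAll B h T.obj₃) : GoodAll B h T.obj₂ :=
  goodAll_triangle₃ B h T.invRotate (inv_rot_of_distTriang _ hT)
    (goodAll_shift B h _ (-1) h₃) h₁

instance : (GoodAll (A := A) B h).IsTriangulated where
  exists_zero := ⟨0, isZero_zero _, goodAll_of_isZero B h _ (isZero_zero _)⟩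
  isStableUnderShiftBy a := { le_shift := fun X hX => goodAll_shift B h X a hX }
  toIsTriangulatedClosed₂ := ObjectProperty.IsTriangulatedClosed₂.mk' (fun T hT h₁ h₃ =>
    goodAll_triangle₂ B h T hT h₁ h₃)

/-- Finite projective modules. -/
lemma goodAll_projective (P : ModuleCat.{u} A) (n : ℤ) (hf : Module.Finite A P)
    (hp : Module.Projective A P) : GoodAll B h ((singleFunctor (ModuleCat.{u} A) n).obj P) := by
  intro K
  obtain ⟨r, f, hf'⟩ := Module.Finite.exists_fin' A P
  obtain ⟨s, hs⟩ := Module.projective_lifting_property f LinearMap.id hf'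
  refine bc_bijective_of_sum A B _ (J := Unit) (fun _ => sg A n (Fin r → A))
    (fun _ => (singleFunctor (ModuleCat.{u} A) n).map (ModuleCat.ofHom f))
    (fun _ => (singleFunctor (ModuleCat.{u} A) n).map (ModuleCat.ofHom s))
    ?_ K (fun _ => bc_free_bijective A B h r n K)
  simp only [Finset.univ_unique, Finset.sum_singleton]
  rw [← Functor.map_comp, ← CategoryTheory.Functor.map_id]
  congr 1
  ext x
  exact LinearMap.congr_fun hs x

lemma goodAll_of_bounded (E : DRing.Cx A) (a b : ℤ) (hE : DRing.VanishesOutside E a b)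
    (hE' : DRing.TermwiseFiniteProjective E) : GoodAll B h (DRing.toD E) :=
  PerfB.BoundedInd.bounded_induction (GoodAll B h) E a b hE
    (fun i => goodAll_projective B h (E.X i) 0 (hE' i).1 (hE' i).2)

/-- **Flat base change for Hom out of a perfect object.** -/
theorem bc_bijective_of_isPerfect (X : Dual.D A) (hX : DRing.IsPerfect A X) (K : Dual.D A) :
    Function.Bijective (bc A B (flatBC (algebraMap A B) h) X K) := by
  obtain ⟨E, a, b, h1, h2, ⟨e⟩⟩ := hX
  exact (GoodAll B h).prop_of_iso e (goodAll_of_bounded B h E a b h1 h2) K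

/-- **Flat base change for Hom out of a pseudo-coherent object.** -/
theorem bc_bijective_of_isPseudoCoherent (X : Dual.D A) (hX : DRing.IsPseudoCoherent' A X)
    (K : Dual.D A) (k : ℤ) [K.IsGE k] :
    Function.Bijective (bc A B (flatBC (algebraMap A B) h) X K) := by
  have hfl : Module.Flat A B := (RingHom.flat_algebraMap_iff).1 h
  obtain ⟨E, b, h1, h2, ⟨e⟩⟩ := hX
  -- the stupid truncation
  let m : ℤ := k - 2
  let F := CalgB.DerTri.sge E m
  let f := CalgB.DerTri.sgeHom E m
  have hF : GoodAll B h (DRing.toD F) := by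
    refine goodAll_of_bounded B h F m b ?_ ?_
    · rintro i (hi | hi)
      · exact CalgB.DerTri.sge_isZero E m i hi
      · by_cases him : m ≤ i
        · exact (h1 i hi).of_iso (CalgB.DerTri.sgeXIso E m i him)
        · exact CalgB.DerTri.sge_isZero E m i (by omega)
    · intro i
      by_cases him : m ≤ i
      · have := (h2 i).1
        have := (h2 i).2
        exact ⟨Module.Finite.equiv (CalgB.DerTri.sgeXIso E m i him).toLinearEquiv.symm,
          Module.Projective.of_equiv (CalgB.DerTri.sgeXIso E m i him).toLinearEquiv.symm⟩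
      · have hz := CalgB.DerTri.sge_isZero E m i (by omega)
        have : Subsingleton (F.X i) := ModuleCat.subsingleton_of_isZero hz
        exact ⟨inferInstance, inferInstance⟩
  obtain ⟨Z, g, w, hT⟩ := distinguished_cocone_triangle (Q.map f)
  have hZ : Z.IsLE (m - 1) := by
    refine (CalgB.DerTri.isLE_obj₃_iff hT m (m - 1) (by ring)).2 ⟨?_, ?_⟩
    · intro i hi
      exact (CalgB.DerTri.isIso_homologyFunctor_map_Q_iff f i).2
        (CalgB.DerTri.quasiIsoAt_sgeHom E m i hi)
    · exact (CalgB.DerTri.epi_homologyFunctor_map_Q_iff f m).2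
        (CalgB.DerTri.epi_homologyMap_sgeHom E m)
  have hZK : Function.Bijective (bc A B (flatBC (algebraMap A B) h) Z K) :=
    bc_bijective_of_isLE_of_isGE B h Z K (m - 1) k (by omega)
  have hZK' : Function.Bijective (bc A B (flatBC (algebraMap A B) h) (Z⟦(-1 : ℤ)⟧) K) := by
    have : (Z⟦(-1 : ℤ)⟧).IsLE m :=
      (TStructure.t : Triangulated.TStructure (Dual.D A)).isLE_shift Z (m - 1) (-1) m (by ring)
    exact bc_bijective_of_isLE_of_isGE B h _ K m k (by omega)
  have hinv := inv_rot_of_distTriang _ hT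
  have hE : Function.Bijective (bc A B (flatBC (algebraMap A B) h) (DRing.toD E) K) := by
    have e1 : (Z⟦(-1 : ℤ)⟧)⟦(1 : ℤ)⟧ ≅ Z := (shiftFunctorCompIsoId (Dual.D A) (-1) 1 (by simp)).app Z
    have h4 : Function.Bijective (bc A B (flatBC (algebraMap A B) h) ((Z⟦(-1 : ℤ)⟧)⟦(1 : ℤ)⟧) K) :=
      ⟨bc_injective_of_iso_left A B _ e1.symm hZK.1,
        bc_surjective_of_iso_left A B _ e1.symm hZK.2⟩
    exact ⟨bc_injective₃ A B _ hinv K (goodAll_shift B h _ 1 hF K).2 h4.1 (hF K).1,
      bc_surjective₃ A B _ hinv K h4.2 (hF K).2 hZK'.1⟩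
  exact ⟨bc_injective_of_iso_left A B _ e hE.1, bc_surjective_of_iso_left A B _ e hE.2⟩

end Groth.Agent.LoccohB.BcPerf

namespace Groth.Agent.LoccohB.Univ

open DerivedCategory Groth.Agent.LoccohB.DBase Groth.Agent.LoccohB.HomBC
  Groth.Agent.LoccohB.FlatLBC

section Flat

variable (C C' B B' : Type u) [CommRing C] [CommRing C'] [CommRing B] [CommRing B']
  [Algebra C C'] [Algebra C B] [Algebra C' B'] [Algebra B B'] [Algebra C B']
  [IsScalarTower C C' B'] [IsScalarTower C B B'] [Algebra.IsPushout C C' B B']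
  (h : (algebraMap C C').Flat) (h' : (algebraMap B B').Flat)

omit [CommRing C'] [CommRing B'] [Algebra C C'] [Algebra C' B'] [Algebra B B'] [Algebra C B']
  [IsScalarTower C C' B'] [IsScalarTower C B B'] [Algebra.IsPushout C C' B B'] in
lemma nonempty_shift_sg (n : ℤ) :
    Nonempty (((DRing.restrictD (algebraMap C B)).obj (Dual.inD B B))⟦(-n)⟧ ≅
      (DRing.restrictD (algebraMap C B)).obj (sg B n B)) := by
  have e : (Dual.inD B B)⟦(-n)⟧ ≅ sg B n B :=
    ((singleFunctors (ModuleCat.{u} B)).shiftIso (-n) n 0 (by simp)).app (ModuleCat.of B B)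
  exact ⟨(((DRing.restrictD (algebraMap C B)).commShiftIso (-n)).app _).symm ≪≫
    (DRing.restrictD (algebraMap C B)).mapIso e⟩

/-- Flat base change for universal arrows, `B` perfect over `C`. -/
theorem IsUniv.flat_of_isPerfect
    (hB : DRing.IsPerfect C ((DRing.restrictD (algebraMap C B)).obj (Dual.inD B B)))
    {X : Dual.D B} {L : Dual.D C}
    {e : (DRing.restrictD (algebraMap C B)).obj X ⟶ L} (he : IsUniv (algebraMap C B) e) :
    IsUniv (algebraMap C' B') (flatArrow C C' B B' h h' e) := by
  refine he.flat C C' B B' h h' (fun n => ?_)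
  obtain ⟨i⟩ := nonempty_shift_sg C B n
  exact (BcPerf.GoodAll C' h).prop_of_iso i (BcPerf.goodAll_shift C' h _ (-n)
    (fun K => BcPerf.bc_bijective_of_isPerfect C' h _ hB K)) L

/-- Flat base change for universal arrows, `B` pseudo-coherent over `C`, `L` bounded below. -/
theorem IsUniv.flat_of_isPseudoCoherent
    (hB : DRing.IsPseudoCoherent' C ((DRing.restrictD (algebraMap C B)).obj (Dual.inD B B)))
    {X : Dual.D B} {L : Dual.D C} (k : ℤ) [L.IsGE k]
    {e : (DRing.restrictD (algebraMap C B)).obj X ⟶ L} (he : IsUniv (algebraMap C B) e) :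
    IsUniv (algebraMap C' B') (flatArrow C C' B B' h h' e) := by
  refine he.flat C C' B B' h h' (fun n => ?_)
  obtain ⟨i⟩ := nonempty_shift_sg C B n
  exact (HomBC.GoodPlus C' h).prop_of_iso i (HomBC.goodPlus_shift C' h _ (-n)
    (fun K k hK => BcPerf.bc_bijective_of_isPseudoCoherent C' h _ hB K k)) L k inferInstance

end Flat

end Groth.Agent.LoccohB.Univ
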