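import Groth.Agent.LoccohB.HomCxFin
import Groth.Agent.LoccohB.RHomVal
import Groth.Agent.LoccohB.HomCxHD

/-!
# Duality with respect to a dualizing complex: passage to D(A)

* `exists_model`: a dualizing complex is `Q I` with `I` a bounded complex of injectives with `A → RHom(I, I)` iso;
* `homCxIsoOfIso`: `Q E ≅ Q F` implies `Q Hom•(E, I) ≅ Q Hom•(F, I)` for `I` K-injective.
-/

set_option autoImplicit false

universe u

open CategoryTheory Limits CochainComplex CochainComplex.HomComplex

attribute [local instance] HasDerivedCategory.standard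

namespace Groth.Agent.LoccohB.BidualD

open HomCx RHomVal HomCxHD

variable {A : Type u} [CommRing A]

lemma isIso_Q_map_iff {K L : DRing.Cx A} (f : K ⟶ L) :
    IsIso (DerivedCategory.Q.map f) ↔ QuasiIso f :=
  DerivedCategory.isIso_Q_map_iff_quasiIso _ f

/-- `Q E ≅ Q F` implies `Q Hom•(E, I) ≅ Q Hom•(F, I)` for `I` K-injective. -/
theorem nonempty_homCx_iso {E F : DRing.Cx A} (I : DRing.Cx A) [I.IsKInjective]
    (e : DRing.toD E ≅ DRing.toD F) :
    Nonempty (DRing.toD (DRing.homCx E I) ≅ DRing.toD (DRing.homCx F I)) := by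
  obtain ⟨J, f, hJ, hf⟩ := enoughKInjectives_moduleCat A F
  obtain ⟨g, hg⟩ := exists_Q_map_eq (e.hom ≫ DerivedCategory.Q.map f)
  have hg' : QuasiIso g := by
    rw [← isIso_Q_map_iff, hg]
    infer_instance
  have h1 := quasiIso_homCxPre f I
  have h2 := quasiIso_homCxPre g I
  exact ⟨(asIso (DerivedCategory.Q.map (homCxPre g I))).symm ≪≫
    asIso (DerivedCategory.Q.map (homCxPre f I))⟩

/-- A bounded complex of injectives representing a dualizing complex. -/
structure IsModel (I : DRing.Cx A) (a b : ℤ) : Prop where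
  isStrictlyGE : I.IsStrictlyGE a
  isStrictlyLE : I.IsStrictlyLE b
  injective : ∀ n, Injective (I.X n)
  isKInjective : I.IsKInjective
  finite : ∀ n, Module.Finite A (I.homology n)
  toEnd_bijective : Function.Bijective (fun a : A => a • 𝟙 (DRing.toD I))
  ext_self : ∀ i : ℤ, i ≠ 0 → Subsingleton (DRing.toD I ⟶ (DRing.toD I)⟦i⟧)

/-- A dualizing complex is represented by a bounded complex of injectives. -/
theorem exists_model (ω : Dual.D A) (hω : Dual.IsDualizing A ω) :
    ∃ (I : DRing.Cx A) (a b : ℤ), IsModel I a b ∧ Nonempty (DRing.toD I ≅ ω) := by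
  obtain ⟨a, b, hab⟩ := hω.finite_injective_dimension
  obtain ⟨I, h1, h2, h3, ⟨e⟩⟩ :=
    InjRep.exists_injective_representative_of_subsingleton ω a b hab
  refine ⟨I, a, b, ⟨h1, h2, h3, CochainComplex.isKInjective_of_injective I a, ?_, ?_, ?_⟩, ⟨e⟩⟩
  · intro n
    have := hω.finite_cohomology n
    exact Module.Finite.equiv (((DerivedCategory.homologyFunctor (ModuleCat.{u} A) n).mapIso
      e).toLinearEquiv.symm ≪≫ₗ hdEquiv I n)
  · constructor
    · intro x y hxy
      apply hω.toEnd_bijective.1
      have : e.inv ≫ (x • 𝟙 (DRing.toD I)) ≫ e.hom = e.inv ≫ (y • 𝟙 (DRing.toD I)) ≫ e.hom :=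
        congrArg (fun f => e.inv ≫ f ≫ e.hom) hxy
      simpa using this
    · intro f
      obtain ⟨x, hx⟩ := hω.toEnd_bijective.2 (e.inv ≫ f ≫ e.hom)
      refine ⟨x, ?_⟩
      have : e.hom ≫ (x • 𝟙 ω) ≫ e.inv = e.hom ≫ (e.inv ≫ f ≫ e.hom) ≫ e.inv :=
        congrArg (fun f => e.hom ≫ f ≫ e.inv) hx
      simpa using this
  · intro i hi
    have := hω.ext_self_subsingleton i hi
    exact InjRep.subsingleton_of_iso e i (InjRep.subsingleton_of_iso_left e this)

section Model

variable {I : DRing.Cx A} {a b : ℤ} (hI : IsModel I a b)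

include hI

/-- Biduality for a model of a dualizing complex. -/
theorem IsModel.quasiIso_ev [IsNoetherianRing A] (K : DRing.Cx A)
    (hK : ∀ i, Module.Finite A (K.homology i)) : QuasiIso (ev K I) := by
  have := hI.isStrictlyGE
  have := hI.isStrictlyLE
  have := hI.isKInjective
  exact HomCx.quasiIso_ev I hI.injective a b (quasiIso_ev_s0 I hI.toEnd_bijective hI.ext_self) K hK

/-- Finiteness of `RHom(K, ω)` for a model of a dualizing complex. -/
theorem IsModel.finite_homology_homCx [IsNoetherianRing A] (K : DRing.Cx A)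
    (hK : ∀ i, Module.Finite A (K.homology i)) (j : ℤ) :
    Module.Finite A ((DRing.homCx K I).homology j) := by
  have := hI.isStrictlyGE
  have := hI.isStrictlyLE
  have := hI.isKInjective
  exact HomCx.finite_homology_homCx I hI.injective a b hI.finite K hK j

end Model

end Groth.Agent.LoccohB.BidualD
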