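import Groth.Prelude.Def_DDual2
import Groth.Agent.LoccohB.DualShift
import Groth.Agent.LoccohB.DBase3
import Groth.Agent.S0364
import Groth.Agent.S0368
import Groth.Agent.S1719

/-!
Cohen–Macaulayness of a Noetherian local ring in terms of a dualizing complex: exactly one nonzero
cohomology module.
-/

universe u
open CategoryTheory CategoryTheory.Limits
attribute [local instance] HasDerivedCategory.standard

namespace Groth.Agent.LoccohB.CMDual

open DualShift

theorem homInD (A : Type u) [CommRing A] (K : Dual.D A) (i : ℤ) :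
    Nonempty ((Dual.inD A A ⟶ K⟦i⟧) ≃ₗ[A] Dual.HD A K i) :=
  ⟨(DBase.homEquivHD 0 (K⟦i⟧)).trans (shiftHD K i 0 i (add_zero i)).toLinearEquiv⟩

theorem exists_minimalPrime_dim_eq (B : Type u) [CommRing B] (d : ℕ) (hd : ringKrullDim B = d) :
    ∃ p ∈ minimalPrimes B, ringKrullDim (B ⧸ p) = d := by
  obtain ⟨l, hl⟩ := Order.le_krullDim_iff.1 (le_of_eq hd.symm : ((d : ℕ) : WithBot ℕ∞) ≤ _)
  obtain ⟨q, hq, hql⟩ := Ideal.exists_minimalPrimes_le (J := l.head.asIdeal) bot_le
  refine ⟨q, hq, le_antisymm ((ringKrullDim_quotient_le q).trans hd.le) ?_⟩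
  rw [ringKrullDim_quotient]
  let l' : LTSeries (PrimeSpectrum.zeroLocus (R := B) q) :=
    { length := l.length
      toFun := fun i => ⟨l i, fun x hx => (LTSeries.head_le l i) (hql hx)⟩
      step := fun i => l.step i }
  have := Order.LTSeries.length_le_krullDim l'
  rw [← hl]
  exact this

/-- Every dualizing complex over a local ring has a normalized shift. -/
theorem exists_normalized (B : Type u) [CommRing B] [IsLocalRing B] [IsNoetherianRing B] (ω : Dual.D B)
    (hω : Dual.IsDualizing B ω) :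
    ∃ n : ℤ, Dual.IsDualizing B (ω⟦n⟧) ∧ Dual.IsNormalized B (ω⟦n⟧) := by
  obtain ⟨n, h, -⟩ := S0364.result B ω hω (IsLocalRing.maximalIdeal B)
  exact ⟨n, isDualizing_shift ω hω n, isNormalized_shift ω n h⟩

theorem cm_iff_of_normalized (B : Type u) [CommRing B] [IsLocalRing B] [IsNoetherianRing B] (ω : Dual.D B)
    (hω : Dual.IsDualizing B ω) (hn : Dual.IsNormalized B ω) :
    LocCoh.IsCohenMacaulayLocalRing B ↔ ∃! i : ℤ, Nontrivial (Dual.HD B ω i) := by
  obtain ⟨d, hd⟩ : ∃ d : ℕ, ringKrullDim B = d := by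
    have h1 : ringKrullDim B ≠ ⊥ := ringKrullDim_ne_bot
    have h2 : ringKrullDim B ≠ ⊤ := ringKrullDim_ne_top
    obtain ⟨x, hx⟩ := WithBot.ne_bot_iff_exists.1 h1
    have hx2 : x ≠ ⊤ := by rintro rfl; exact h2 hx.symm
    obtain ⟨d, hd⟩ := ENat.ne_top_iff_exists.1 hx2
    exact ⟨d, by rw [← hx, ← hd]; rfl⟩
  have hsd : Module.supportDim B B = d := by rw [Module.supportDim_self_eq_ringKrullDim, hd]
  have hcm : LocCoh.IsCohenMacaulayLocalRing B ↔ LocCoh.IsCohenMacaulayModule B B :=
    ⟨fun h => h.supportDim_eq_depth, fun h => { supportDim_eq_depth := h }⟩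
  have key := S0368.result B ω hω hn B d hsd
  have key2 : LocCoh.IsCohenMacaulayLocalRing B ↔
      ∀ i : ℤ, i ≠ d → Subsingleton (Dual.HD B ω (-i)) := by
    rw [hcm, key]
    refine forall_congr' fun i => imp_congr_right fun _ => ?_
    obtain ⟨e⟩ := homInD B ω (-i)
    exact e.toEquiv.subsingleton_congr
  -- there is a minimal prime of maximal dimension
  obtain ⟨p, hp, hpd⟩ := exists_minimalPrime_dim_eq B d hd
  have hnt : ∀ i : ℤ, Nontrivial (LocalizedModule (Ideal.primeCompl p (hp := hp.1.1)) (Dual.HD B ω i)) ↔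
      i = -(d : ℤ) := fun i => S1719.result B ω hω hn p hp d hpd i
  have hd0 : Nontrivial (Dual.HD B ω (-(d : ℤ))) := by
    have h1 := (hnt (-(d : ℤ))).2 rfl
    by_contra hc
    rw [not_nontrivial_iff_subsingleton] at hc
    have : Subsingleton (LocalizedModule (Ideal.primeCompl p (hp := hp.1.1)) (Dual.HD B ω (-(d : ℤ)))) :=
      inferInstance
    exact not_nontrivial_iff_subsingleton.2 this h1
  rw [key2]
  constructor
  · intro h
    refine ⟨-(d : ℤ), hd0, fun j hj => ?_⟩
    by_contra hne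
    have := h (-j) (by omega)
    rw [neg_neg] at this
    exact not_nontrivial_iff_subsingleton.2 this hj
  · rintro ⟨i, hi, hu⟩ j hj
    by_contra hc
    rw [not_subsingleton_iff_nontrivial] at hc
    have h1 := hu _ hc
    have h2 := hu _ hd0
    omega

theorem cm_iff_local (B : Type u) [CommRing B] [IsLocalRing B] [IsNoetherianRing B] (ω : Dual.D B)
    (hω : Dual.IsDualizing B ω) :
    LocCoh.IsCohenMacaulayLocalRing B ↔ ∃! i : ℤ, Nontrivial (Dual.HD B ω i) := by
  obtain ⟨n, h1, h2⟩ := exists_normalized B ω hω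
  rw [cm_iff_of_normalized B _ h1 h2]
  have h : ∀ i : ℤ, Nontrivial (Dual.HD B (ω⟦n⟧) i) ↔ Nontrivial (Dual.HD B ω (n + i)) := fun i =>
    (shiftHD ω n i (n + i) rfl).toLinearEquiv.toEquiv.nontrivial_congr
  simp only [h]
  constructor
  · rintro ⟨i, hi, hu⟩
    refine ⟨n + i, hi, fun j hj => ?_⟩
    have := hu (j - n) (by simpa using hj)
    omega
  · rintro ⟨i, hi, hu⟩
    refine ⟨i - n, by simpa using hi, fun j hj => ?_⟩
    have := hu (n + j) hj
    omega

end Groth.Agent.LoccohB.CMDual
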