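import Mathlib.CategoryTheory.Adjunction.Basic
import Mathlib.CategoryTheory.Preadditive.AdditiveFunctor
import Mathlib.CategoryTheory.Adjunction.Additive

/-!
# Localization of Hom groups, abstractly

`Loc e μP μO Z`: precomposition with `e : P ⟶ O` exhibits `Hom(P, Z)` as the localization of
`Hom(O, Z)` with respect to the endomorphisms `μP` of `P` and `μO` of `O`.

`FLoc Φ F μ Z`: the functor `Φ` exhibits `Hom(Φ F, Φ Z)` as the localization of `Hom(F, Z)` with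
respect to the endomorphism `μ` of `F`.
-/

set_option autoImplicit false

open CategoryTheory

namespace Groth.Agent.LoccohB.LocAbs

universe v₁ v₂ v₃ u₁ u₂ u₃

variable {C : Type u₁} [Category.{v₁} C] [Preadditive C]
  {D : Type u₂} [Category.{v₂} D] [Preadditive D]
  {E : Type u₃} [Category.{v₃} E] [Preadditive E]

/-- Iterates of an endomorphism. -/
def pw {X : C} (μ : X ⟶ X) : ℕ → (X ⟶ X)
  | 0 => 𝟙 X
  | n + 1 => μ ≫ pw μ n

omit [Preadditive C] in
@[simp]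
lemma pw_zero {X : C} (μ : X ⟶ X) : pw μ 0 = 𝟙 X := rfl

omit [Preadditive C] in
lemma pw_succ {X : C} (μ : X ⟶ X) (n : ℕ) : pw μ (n + 1) = μ ≫ pw μ n := rfl

omit [Preadditive C] in
lemma pw_add {X : C} (μ : X ⟶ X) (m n : ℕ) : pw μ (m + n) = pw μ m ≫ pw μ n := by
  induction m with
  | zero => simp
  | succ m ih => rw [Nat.succ_add, pw_succ, pw_succ, ih, Category.assoc]

omit [Preadditive C] in
@[reassoc]
lemma pw_comm {X Y : C} (μ : X ⟶ X) (ν : Y ⟶ Y) (e : X ⟶ Y) (h : μ ≫ e = e ≫ ν) (n : ℕ) :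
    pw μ n ≫ e = e ≫ pw ν n := by
  induction n with
  | zero => simp
  | succ n ih => rw [pw_succ, Category.assoc, ih, reassoc_of% h, pw_succ]

omit [Preadditive C] [Preadditive D] in
lemma map_pw (Φ : C ⥤ D) {X : C} (μ : X ⟶ X) (n : ℕ) : Φ.map (pw μ n) = pw (Φ.map μ) n := by
  induction n with
  | zero => simp
  | succ n ih => rw [pw_succ, Φ.map_comp, ih, pw_succ]

omit [Preadditive C] in
lemma bijective_pw {X Z : C} (μ : X ⟶ X) (h : Function.Bijective (fun x : X ⟶ Z => μ ≫ x))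
    (n : ℕ) : Function.Bijective (fun x : X ⟶ Z => pw μ n ≫ x) := by
  induction n with
  | zero =>
    have : (fun x : X ⟶ Z => pw μ 0 ≫ x) = id := by ext x; simp
    rw [this]
    exact Function.bijective_id
  | succ n ih =>
    have : (fun x : X ⟶ Z => pw μ (n + 1) ≫ x) =
        (fun x : X ⟶ Z => μ ≫ x) ∘ (fun x : X ⟶ Z => pw μ n ≫ x) := by
      ext x; simp [pw_succ]
    rw [this]
    exact h.comp ih

/-- Precomposition with `e : P ⟶ O` exhibits `Hom(P, Z)` as the localization of `Hom(O, Z)`. -/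
structure Loc {P O : C} (e : P ⟶ O) (μP : P ⟶ P) (μO : O ⟶ O) (Z : C) : Prop where
  ex : ∀ x : P ⟶ Z, ∃ (k : ℕ) (y : O ⟶ Z), pw μP k ≫ x = e ≫ y
  zero : ∀ y : O ⟶ Z, e ≫ y = 0 → ∃ k : ℕ, pw μO k ≫ y = 0
  bij : Function.Bijective (fun x : P ⟶ Z => μP ≫ x)

/-- A morphism `η : Z ⟶ H` which is bijective on `Hom(O, -)` is bijective on `Hom(P, -)`. -/
theorem Loc.bijective {P O : C} {e : P ⟶ O} {μP : P ⟶ P} {μO : O ⟶ O} {Z H : C} (η : Z ⟶ H)
    (he : μP ≫ e = e ≫ μO) (hZ : Loc e μP μO Z) (hH : Loc e μP μO H)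
    (hη : Function.Bijective (fun y : O ⟶ Z => y ≫ η)) :
    Function.Bijective (fun x : P ⟶ Z => x ≫ η) := by
  have inj : ∀ x : P ⟶ Z, x ≫ η = 0 → x = 0 := by
    intro x hx
    obtain ⟨k, y, hy⟩ := hZ.ex x
    obtain ⟨l, hl⟩ := hH.zero (y ≫ η) (by
      rw [← Category.assoc, ← hy, Category.assoc, hx, Limits.comp_zero])
    have h1 : pw μO l ≫ y = 0 := hη.1 (by
      change (pw μO l ≫ y) ≫ η = 0 ≫ η
      rw [Category.assoc, hl, Limits.zero_comp])
    have h2 : pw μP (l + k) ≫ x = 0 := by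
      rw [pw_add, Category.assoc, hy, pw_comm_assoc μP μO e he, h1, Limits.comp_zero]
    exact (bijective_pw μP hZ.bij (l + k)).1 (by
      change pw μP (l + k) ≫ x = pw μP (l + k) ≫ 0
      rw [h2, Limits.comp_zero])
  constructor
  · intro x x' h
    have : x - x' = 0 := inj _ (by
      change x ≫ η = x' ≫ η at h
      rw [Preadditive.sub_comp, h, sub_self])
    exact sub_eq_zero.1 this
  · intro z
    obtain ⟨k, w, hw⟩ := hH.ex z
    obtain ⟨y, rfl⟩ := hη.2 w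
    obtain ⟨x, hx⟩ := (bijective_pw μP hZ.bij k).2 (e ≫ y)
    refine ⟨x, (bijective_pw μP hH.bij k).1 ?_⟩
    change pw μP k ≫ x ≫ η = pw μP k ≫ z
    change pw μP k ≫ x = e ≫ y at hx
    rw [hw, reassoc_of% hx]

/-- Transport of `Loc` along isomorphisms of the source data. -/
lemma Loc.of_iso {P O P' O' : C} {e : P ⟶ O} {μP : P ⟶ P} {μO : O ⟶ O} {e' : P' ⟶ O'}
    {μP' : P' ⟶ P'} {μO' : O' ⟶ O'} {Z : C} (a : P ≅ P') (b : O ≅ O')
    (he : e ≫ b.hom = a.hom ≫ e') (hP : μP ≫ a.hom = a.hom ≫ μP')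
    (hO : μO ≫ b.hom = b.hom ≫ μO') (h : Loc e μP μO Z) : Loc e' μP' μO' Z where
  ex x := by
    obtain ⟨k, y, hy⟩ := h.ex (a.hom ≫ x)
    refine ⟨k, b.inv ≫ y, ?_⟩
    rw [← cancel_epi a.hom, ← pw_comm_assoc μP μP' a.hom hP, hy, ← reassoc_of% he,
      Iso.hom_inv_id_assoc]
  zero y hy := by
    obtain ⟨k, hk⟩ := h.zero (b.hom ≫ y) (by rw [reassoc_of% he, hy, Limits.comp_zero])
    refine ⟨k, ?_⟩
    rw [← cancel_epi b.hom, ← pw_comm_assoc μO μO' b.hom hO, hk, Limits.comp_zero]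
  bij := by
    constructor
    · intro x x' hx
      change μP' ≫ x = μP' ≫ x' at hx
      rw [← cancel_epi a.hom]
      apply h.bij.1
      change μP ≫ a.hom ≫ x = μP ≫ a.hom ≫ x'
      rw [reassoc_of% hP, reassoc_of% hP, hx]
    · intro x
      obtain ⟨x', hx'⟩ := h.bij.2 (a.hom ≫ x)
      refine ⟨a.inv ≫ x', ?_⟩
      change μP ≫ x' = a.hom ≫ x at hx'
      change μP' ≫ a.inv ≫ x' = x
      rw [← cancel_epi a.hom, ← reassoc_of% hP, Iso.hom_inv_id_assoc, hx']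

/-- Transport of `Loc` along an isomorphism of the target. -/
lemma Loc.of_iso_right {P O : C} {e : P ⟶ O} {μP : P ⟶ P} {μO : O ⟶ O} {Z Z' : C} (c : Z ≅ Z')
    (h : Loc e μP μO Z) : Loc e μP μO Z' where
  ex x := by
    obtain ⟨k, y, hy⟩ := h.ex (x ≫ c.inv)
    refine ⟨k, y ≫ c.hom, ?_⟩
    rw [← cancel_mono c.inv, Category.assoc, hy, Category.assoc, Category.assoc, Iso.hom_inv_id,
      Category.comp_id]
  zero y hy := by
    obtain ⟨k, hk⟩ := h.zero (y ≫ c.inv) (by rw [← Category.assoc, hy, Limits.zero_comp])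
    refine ⟨k, ?_⟩
    rw [← cancel_mono c.inv, Category.assoc, hk, Limits.zero_comp]
  bij := by
    constructor
    · intro x x' hx
      change μP ≫ x = μP ≫ x' at hx
      rw [← cancel_mono c.inv]
      apply h.bij.1
      change μP ≫ x ≫ c.inv = μP ≫ x' ≫ c.inv
      rw [← Category.assoc, hx, Category.assoc]
    · intro x
      obtain ⟨x', hx'⟩ := h.bij.2 (x ≫ c.inv)
      refine ⟨x' ≫ c.hom, ?_⟩
      change μP ≫ x' = x ≫ c.inv at hx'
      change μP ≫ x' ≫ c.hom = x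
      rw [← Category.assoc, hx', Category.assoc, Iso.inv_hom_id, Category.comp_id]

/-- `Loc` and adjunctions. -/
lemma Loc.of_adj {F : C ⥤ D} {R : D ⥤ C} (adj : F ⊣ R) [F.Additive] {P O : C} {e : P ⟶ O}
    {μP : P ⟶ P} {μO : O ⟶ O} {Z : D} (h : Loc (F.map e) (F.map μP) (F.map μO) Z) :
    Loc e μP μO (R.obj Z) where
  ex x := by
    obtain ⟨k, y, hy⟩ := h.ex ((adj.homEquiv _ _).symm x)
    refine ⟨k, adj.homEquiv _ _ y, ?_⟩
    apply (adj.homEquiv _ _).symm.injective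
    rw [← map_pw] at hy
    rw [adj.homEquiv_naturality_left_symm, adj.homEquiv_naturality_left_symm, hy,
      Equiv.symm_apply_apply]
  zero y hy := by
    obtain ⟨k, hk⟩ := h.zero ((adj.homEquiv _ _).symm y) (by
      rw [← adj.homEquiv_naturality_left_symm, hy, Adjunction.homEquiv_counit, F.map_zero,
        Limits.zero_comp])
    refine ⟨k, ?_⟩
    apply (adj.homEquiv _ _).symm.injective
    rw [← map_pw] at hk
    rw [adj.homEquiv_naturality_left_symm, hk, Adjunction.homEquiv_counit, F.map_zero,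
        Limits.zero_comp]
  bij := by
    constructor
    · intro x x' hx
      change μP ≫ x = μP ≫ x' at hx
      apply (adj.homEquiv _ _).symm.injective
      apply h.bij.1
      change F.map μP ≫ _ = F.map μP ≫ _
      rw [← adj.homEquiv_naturality_left_symm, hx, adj.homEquiv_naturality_left_symm]
    · intro x
      obtain ⟨x', hx'⟩ := h.bij.2 ((adj.homEquiv _ _).symm x)
      refine ⟨adj.homEquiv _ _ x', ?_⟩
      change F.map μP ≫ x' = _ at hx'
      change μP ≫ _ = x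
      rw [← adj.homEquiv_naturality_left, hx', Equiv.apply_symm_apply]

/-- The functor `Φ` exhibits `Hom(Φ F, Φ Z)` as the localization of `Hom(F, Z)`. -/
structure FLoc (Φ : C ⥤ D) (F : C) (μ : F ⟶ F) (Z : C) : Prop where
  ex : ∀ x : Φ.obj F ⟶ Φ.obj Z, ∃ (k : ℕ) (y : F ⟶ Z), Φ.map (pw μ k) ≫ x = Φ.map y
  zero : ∀ y : F ⟶ Z, Φ.map y = 0 → ∃ k : ℕ, pw μ k ≫ y = 0
  bij : Function.Bijective (fun x : Φ.obj F ⟶ Φ.obj Z => Φ.map μ ≫ x)

/-- `FLoc` gives `Loc` for the counit of the adjunction between `Φ` and its left adjoint. -/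
lemma FLoc.loc {Φ : C ⥤ D} {Ψ : D ⥤ C} (adj : Ψ ⊣ Φ) [Φ.Additive] {F : C} {μ : F ⟶ F} {Z : C}
    (h : FLoc Φ F μ Z) :
    Loc (adj.counit.app F) (Ψ.map (Φ.map μ)) μ Z where
  ex x := by
    obtain ⟨k, y, hy⟩ := h.ex (adj.homEquiv _ _ x)
    refine ⟨k, y, ?_⟩
    rw [← map_pw, ← map_pw]
    apply (adj.homEquiv _ _).injective
    rw [adj.homEquiv_naturality_left, hy, Adjunction.homEquiv_unit, Φ.map_comp,
      adj.right_triangle_components_assoc]
  zero y hy := by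
    apply h.zero y
    have h1 := congrArg (adj.homEquiv _ _) hy
    rwa [Adjunction.homEquiv_unit, Φ.map_comp, adj.right_triangle_components_assoc,
      Adjunction.homEquiv_unit, Φ.map_zero, Limits.comp_zero] at h1
  bij := by
    constructor
    · intro x x' hx
      change Ψ.map (Φ.map μ) ≫ x = Ψ.map (Φ.map μ) ≫ x' at hx
      apply (adj.homEquiv _ _).injective
      apply h.bij.1
      change Φ.map μ ≫ _ = Φ.map μ ≫ _
      rw [← adj.homEquiv_naturality_left, hx, adj.homEquiv_naturality_left]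
    · intro x
      obtain ⟨x', hx'⟩ := h.bij.2 (adj.homEquiv _ _ x)
      refine ⟨(adj.homEquiv _ _).symm x', ?_⟩
      change Φ.map μ ≫ x' = _ at hx'
      change Ψ.map (Φ.map μ) ≫ _ = x
      rw [← adj.homEquiv_naturality_left_symm, hx', Equiv.symm_apply_apply]

lemma FLoc.of_natIso {Φ Φ' : C ⥤ D} (i : Φ ≅ Φ') {F : C} {μ : F ⟶ F} {Z : C}
    (h : FLoc Φ F μ Z) : FLoc Φ' F μ Z where
  ex x := by
    obtain ⟨k, y, hy⟩ := h.ex (i.hom.app F ≫ x ≫ i.inv.app Z)
    refine ⟨k, y, ?_⟩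
    have h1 := congrArg (fun t => i.inv.app F ≫ t ≫ i.hom.app Z) hy
    simpa using h1
  zero y hy := by
    apply h.zero y
    have h1 := congrArg (fun t => i.hom.app F ≫ t ≫ i.inv.app Z) hy
    simpa using h1
  bij := by
    constructor
    · intro x x' hx
      have h1 : Φ.map μ ≫ i.hom.app F ≫ x ≫ i.inv.app Z =
          Φ.map μ ≫ i.hom.app F ≫ x' ≫ i.inv.app Z := by
        have h1 := congrArg (fun t => i.hom.app F ≫ t ≫ i.inv.app Z) hx
        simpa using h1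
      have h2 := h.bij.1 h1
      rwa [cancel_epi, cancel_mono] at h2
    · intro x
      obtain ⟨x', hx'⟩ := h.bij.2 (i.hom.app F ≫ x ≫ i.inv.app Z)
      refine ⟨i.inv.app F ≫ x' ≫ i.hom.app Z, ?_⟩
      have h1 := congrArg (fun t => i.inv.app F ≫ t ≫ i.hom.app Z) hx'
      simpa using h1

lemma FLoc.of_comp_ff {Φ : C ⥤ D} {T : D ⥤ E} [T.Full] [T.Faithful] [T.Additive] {F : C}
    {μ : F ⟶ F} {Z : C} (h : FLoc Φ F μ Z) : FLoc (Φ ⋙ T) F μ Z where
  ex x := by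
    obtain ⟨x, rfl⟩ := T.map_surjective x
    obtain ⟨k, y, hy⟩ := h.ex x
    refine ⟨k, y, ?_⟩
    change T.map _ ≫ T.map x = T.map _
    rw [← T.map_comp, hy]
  zero y hy := by
    apply h.zero y
    apply T.map_injective
    rw [T.map_zero]
    exact hy
  bij := by
    constructor
    · intro x x' hx
      obtain ⟨x, rfl⟩ := T.map_surjective x
      obtain ⟨x', rfl⟩ := T.map_surjective x'
      change T.map (Φ.map μ) ≫ T.map x = T.map (Φ.map μ) ≫ T.map x' at hx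
      rw [← T.map_comp, ← T.map_comp] at hx
      have := h.bij.1 (T.map_injective hx)
      rw [this]
    · intro x
      obtain ⟨x, rfl⟩ := T.map_surjective x
      obtain ⟨x', hx'⟩ := h.bij.2 x
      refine ⟨T.map x', ?_⟩
      change T.map (Φ.map μ) ≫ T.map x' = T.map x
      rw [← T.map_comp]
      exact congrArg T.map hx'

lemma FLoc.of_ff_comp {T : C ⥤ D} {Φ : D ⥤ E} [T.Full] [T.Faithful] [T.Additive] {F : C}
    {μ : F ⟶ F} {Z : C} (h : FLoc (T ⋙ Φ) F μ Z) :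
    FLoc Φ (T.obj F) (T.map μ) (T.obj Z) where
  ex x := by
    obtain ⟨k, y, hy⟩ := h.ex x
    refine ⟨k, T.map y, ?_⟩
    rw [← map_pw]
    exact hy
  zero y hy := by
    obtain ⟨y, rfl⟩ := T.map_surjective y
    obtain ⟨k, hk⟩ := h.zero y hy
    exact ⟨k, by rw [← map_pw, ← T.map_comp, hk, T.map_zero]⟩
  bij := h.bij

lemma FLoc.of_iso {Φ : C ⥤ D} [Φ.Additive] {F F' Z Z' : C} {μ : F ⟶ F} {μ' : F' ⟶ F'}
    (a : F ≅ F') (c : Z ≅ Z') (ha : μ ≫ a.hom = a.hom ≫ μ') (h : FLoc Φ F μ Z) :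
    FLoc Φ F' μ' Z' where
  ex x := by
    obtain ⟨k, y, hy⟩ := h.ex (Φ.map a.hom ≫ x ≫ Φ.map c.inv)
    refine ⟨k, a.inv ≫ y ≫ c.hom, ?_⟩
    have h1 : Φ.map (pw μ k) ≫ Φ.map a.hom = Φ.map a.hom ≫ Φ.map (pw μ' k) := by
      rw [← Φ.map_comp, pw_comm μ μ' a.hom ha, Φ.map_comp]
    have h2 : Φ.map a.hom ≫ Φ.map (pw μ' k) ≫ x ≫ Φ.map c.inv = Φ.map y := by
      rw [← hy, reassoc_of% h1]
    have h3 : Φ.map a.inv ≫ Φ.map a.hom = 𝟙 _ := by
      rw [← Φ.map_comp, a.inv_hom_id, Φ.map_id]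
    have h4 : Φ.map c.inv ≫ Φ.map c.hom = 𝟙 _ := by
      rw [← Φ.map_comp, c.inv_hom_id, Φ.map_id]
    rw [Φ.map_comp, Φ.map_comp, ← h2, Category.assoc, Category.assoc, Category.assoc, h4,
      Category.comp_id, reassoc_of% h3]
  zero y hy := by
    obtain ⟨k, hk⟩ := h.zero (a.hom ≫ y ≫ c.inv) (by
      rw [Φ.map_comp, Φ.map_comp, hy, Limits.zero_comp, Limits.comp_zero])
    refine ⟨k, ?_⟩
    have h1 : a.hom ≫ (pw μ' k ≫ y) ≫ c.inv = 0 := by
      rw [← hk, Category.assoc, pw_comm_assoc μ μ' a.hom ha]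
    rw [← cancel_epi a.hom, ← cancel_mono c.inv, Category.assoc, h1, Limits.comp_zero,
      Limits.zero_comp]
  bij := by
    have h1 : Φ.map μ ≫ Φ.map a.hom = Φ.map a.hom ≫ Φ.map μ' := by
      rw [← Φ.map_comp, ha, Φ.map_comp]
    have h5 : Φ.map a.hom ≫ Φ.map a.inv = 𝟙 _ := by
      rw [← Φ.map_comp, a.hom_inv_id, Φ.map_id]
    have h4 : Φ.map c.inv ≫ Φ.map c.hom = 𝟙 _ := by
      rw [← Φ.map_comp, c.inv_hom_id, Φ.map_id]
    constructor
    · intro x x' hx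
      change Φ.map μ' ≫ x = Φ.map μ' ≫ x' at hx
      have h2 : Φ.map μ ≫ Φ.map a.hom ≫ x ≫ Φ.map c.inv =
          Φ.map μ ≫ Φ.map a.hom ≫ x' ≫ Φ.map c.inv := by
        rw [reassoc_of% h1, reassoc_of% h1, reassoc_of% hx]
      have h3 := h.bij.1 h2
      rwa [cancel_epi, cancel_mono] at h3
    · intro x
      obtain ⟨x', hx'⟩ := h.bij.2 (Φ.map a.hom ≫ x ≫ Φ.map c.inv)
      refine ⟨Φ.map a.inv ≫ x' ≫ Φ.map c.hom, ?_⟩
      change Φ.map μ ≫ x' = _ at hx'
      change Φ.map μ' ≫ _ = x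
      rw [← cancel_epi (Φ.map a.hom), ← reassoc_of% h1, reassoc_of% h5, reassoc_of% hx', h4,
        Category.comp_id]

end Groth.Agent.LoccohB.LocAbs
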