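import Groth.Agent.LoccohB.LocHom
import Groth.Agent.LoccohB.LocAbs

/-!
# `Hom_{D(A)}(X, Z) → Hom_{D(A_f)}(X_f, Z_f)` is a localization
-/

set_option autoImplicit false
universe u v₁ v₂ u₁ u₂

open CategoryTheory CategoryTheory.Limits Pretriangulated DerivedCategory TensorProduct

attribute [local instance] HasDerivedCategory.standard

namespace Groth.Agent.LoccohB.LocHom

open HomBC Devissage FlatLBC LocAbs

section

variable {A : Type u} [CommRing A] {𝒞 : Type u₁} [Category.{v₁} 𝒞] [Preadditive 𝒞] [Linear A 𝒞]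

lemma pw_smul_id (f : A) (X : 𝒞) (k : ℕ) : pw (f • 𝟙 X) k = f ^ k • 𝟙 X := by
  induction k with
  | zero => simp
  | succ k ih => rw [pw_succ, ih, Linear.smul_comp, Category.id_comp, smul_smul, pow_succ']

variable (B : Type u) [CommRing B] [Algebra A B] {𝒟 : Type u₂} [Category.{v₂} 𝒟] [Preadditive 𝒟]
  [Linear B 𝒟] (G : 𝒞 ⥤ 𝒟) [G.Additive] [SemiLinear A B G]

/-- If `B = A_f` and the comparison map `B ⊗ Hom(X, Z) → Hom(G X, G Z)` is bijective, `G` exhibits
`Hom(G X, G Z)` as the localization of `Hom(X, Z)` at `f`. -/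
theorem floc_of_bc (f : A) [IsLocalization.Away f B] (X Z : 𝒞)
    (hb : Function.Bijective (bc A B G X Z)) : FLoc G X (f • 𝟙 X) Z where
  ex x := by
    obtain ⟨t, rfl⟩ := hb.2 x
    obtain ⟨⟨y, s⟩, hs⟩ := IsLocalizedModule.surj (Submonoid.powers f)
      (TensorProduct.mk A B (X ⟶ Z) 1) t
    obtain ⟨_, ⟨k, rfl⟩⟩ := s
    refine ⟨k, y, ?_⟩
    rw [pw_smul_id, semi_map_smul A B, G.map_id, Linear.smul_comp, Category.id_comp, ← bc_smul]
    have h1 : algebraMap A B (f ^ k) • t = (1 : B) ⊗ₜ[A] y := by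
      rw [algebraMap_smul]
      exact hs
    rw [h1, bc_tmul, one_smul]
  zero y hy := by
    have h1 : (1 : B) ⊗ₜ[A] y = 0 := by
      apply hb.1
      rw [bc_tmul, one_smul, hy, map_zero]
    have h2 : TensorProduct.mk A B (X ⟶ Z) 1 y = 0 := h1
    rw [IsLocalizedModule.eq_zero_iff (Submonoid.powers f)] at h2
    obtain ⟨⟨_, ⟨k, rfl⟩⟩, hk⟩ := h2
    refine ⟨k, ?_⟩
    rw [pw_smul_id, Linear.smul_comp, Category.id_comp]
    exact hk
  bij := by
    have h1 : (fun x : G.obj X ⟶ G.obj Z => G.map (f • 𝟙 X) ≫ x) =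
        fun x => algebraMap A B f • x := by
      funext x
      rw [semi_map_smul A B, G.map_id, Linear.smul_comp, Category.id_comp]
    rw [h1]
    obtain ⟨u, hu⟩ := IsLocalization.Away.algebraMap_isUnit (S := B) f
    rw [← hu]
    exact ⟨fun x y hxy => by
      have := congrArg (fun z => (↑u⁻¹ : B) • z) hxy
      simpa [smul_smul] using this, fun x => ⟨(↑u⁻¹ : B) • x, by simp [smul_smul]⟩⟩

end

variable {A : Type u} [CommRing A] (B : Type u) [CommRing B] [Algebra A B]
  (h : (algebraMap A B).Flat) (f : A) [IsLocalization.Away f B]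

/-- Localization of `Hom(X, Z)`, `X` with finite cohomology and `Z` of finite injective dimension. -/
theorem floc_of_finite [IsNoetherianRing A] (X : Dual.D A)
    (hX : ∀ i, Module.Finite A (Dual.HD A X i)) (Z : Dual.D A) (hZ : DRing.HasFiniteInjDim A Z) :
    FLoc (flatBC (algebraMap A B) h) X (f • 𝟙 X) Z := by
  obtain ⟨k, c, h1, h2, h3⟩ := exists_injLE B h (Submonoid.powers f) Z hZ
  exact floc_of_bc B _ f X Z (bc_bijective_of_injLE B h X hX Z k c h2 h3)

/-- Localization of `Hom(A[-n], Z)`. -/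
theorem floc_self (n : ℤ) (Z : Dual.D A) :
    FLoc (flatBC (algebraMap A B) h) ((singleFunctor (ModuleCat.{u} A) n).obj (ModuleCat.of A A))
      (f • 𝟙 _) Z :=
  floc_of_bc B _ f _ Z (bc_self_bijective A B h n Z)

end Groth.Agent.LoccohB.LocHom
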