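import Groth.Agent.LoccohB.RelT2
import Groth.Agent.LoccohB.LocHom2
import Groth.Agent.LoccohB.DBase2
import Groth.Agent.LoccohB.CMDual

/-!
# `A[-n] ⊗ᴸ K` and localization of `Hom(A[-n] ⊗ᴸ K, L)`
-/

set_option autoImplicit false
universe u

open CategoryTheory CategoryTheory.Limits MonoidalCategory CochainComplex CochainComplex.HomComplex
  DerivedCategory

attribute [local instance] HasDerivedCategory.standard

namespace Groth.Agent.LoccohB.LTenUnit

open TenCx LTen RelT LocHom LocAbs FlatLBC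

variable {A : Type u} [CommRing A]

variable (A) in
/-- `A` in degree `n`. -/
noncomputable abbrev sg (n : ℤ) : DRing.Cx A :=
  (CochainComplex.singleFunctor (ModuleCat.{u} A) n).obj (ModuleCat.of A A)

/-- `A` in degree `n` is a shift of `A` in degree `0`. -/
noncomputable def sgIso (n : ℤ) : (unitCx A)⟦-n⟧ ≅ sg A n :=
  ((CochainComplex.singleFunctors (ModuleCat.{u} A)).shiftIso (-n) n 0 (by simp)).app
    (ModuleCat.of A A)

/-- `A[-n] ⊗ K ≅ K[-n]`. -/
noncomputable def sgTen (K : DRing.Cx A) (n : ℤ) : (sg A n ⊗ K : DRing.Cx A) ≅ K⟦-n⟧ :=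
  whiskerRightIso (sgIso n).symm K ≪≫ shiftLeftIso (unitCx A) K (-n) ≪≫
    (CategoryTheory.shiftFunctor _ (-n)).mapIso (λ_ K)

lemma whiskerRight_smul {K K' : DRing.Cx A} (a : A) (f : K ⟶ K') (E : DRing.Cx A) :
    (a • f) ▷ E = a • (f ▷ E) := by
  refine cx_hom_ext fun p q n h x y => ?_
  refine (whiskerRight_tmk (a • f) E p q n h x y).trans ?_
  change tmk K' E p q n h (a • (f.f p).hom x) y = a • ((f ▷ E).f n).hom (tmk K E p q n h x y)
  rw [map_smul, LinearMap.smul_apply]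
  exact congrArg (fun z => a • z) (whiskerRight_tmk f E p q n h x y).symm

instance isKProjective_sg (n : ℤ) : (sg A n).IsKProjective := DBase.isKProjective_single n _

section

variable (K : DRing.Cx A) [DRing.HasLTensorCx A K]

/-- `A[-n] ⊗ᴸ K ≅ K[-n]`. -/
noncomputable def ltenSg (n : ℤ) :
    (DRing.LTensorCx A K).obj (Q.obj (sg A n)) ≅ (DRing.toD K)⟦-n⟧ :=
  ltenIso K (sg A n) ≪≫ Q.mapIso (sgTen K n) ≪≫ (Q.commShiftIso (-n)).app K

lemma Q_map_smul_id (n : ℤ) (f : A) : Q.map (f • 𝟙 (sg A n)) = f • 𝟙 (Q.obj (sg A n)) := by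
  rw [Functor.map_smul, CategoryTheory.Functor.map_id]

lemma Q_map_smul_id' (n : ℤ) (f : A) : Q.map (f • 𝟙 (sg A n ⊗ K : DRing.Cx A)) = f • 𝟙 _ := by
  rw [Functor.map_smul, CategoryTheory.Functor.map_id]

lemma lten_map_smul (n : ℤ) (f : A) :
    (DRing.LTensorCx A K).map (f • 𝟙 (Q.obj (sg A n))) = f • 𝟙 _ := by
  have h1 := ltenIso_naturality K (f • 𝟙 (sg A n))
  rw [whiskerRight_smul, id_whiskerRight, Q_map_smul_id, Q_map_smul_id'] at h1
  rw [← cancel_mono (ltenIso K (sg A n)).hom]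
  refine h1.trans ?_
  rw [Linear.smul_comp, Category.id_comp]
  exact (Linear.comp_smul _ _ _ _ _ _).trans (congrArg (fun z => f • z) (Category.comp_id _))

lemma finite_lten (hK : ∀ i : ℤ, Module.Finite A (Dual.HD A (DRing.toD K) i)) (n i : ℤ) :
    Module.Finite A (Dual.HD A ((DRing.LTensorCx A K).obj (Q.obj (sg A n))) i) := by
  have h1 := hK (-n + i)
  exact Module.Finite.equiv ((DualShift.shiftHD (DRing.toD K) (-n) i (-n + i) rfl).symm ≪≫
    ((DerivedCategory.homologyFunctor _ i).mapIso (ltenSg K n)).symm).toLinearEquiv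

variable (B : Type u) [CommRing B] [Algebra A B]
  (h : (algebraMap A B).Flat) (f : A) [IsLocalization.Away f B]

/-- Localization of `Hom(A[-n] ⊗ᴸ K, L)`. -/
theorem floc_lten [IsNoetherianRing A] (hK : ∀ i : ℤ, Module.Finite A (Dual.HD A (DRing.toD K) i))
    (L : Dual.D A) (hL : DRing.HasFiniteInjDim A L) (n : ℤ) :
    FLoc (flatBC (algebraMap A B) h) ((DRing.LTensorCx A K).obj (Q.obj (sg A n)))
      ((DRing.LTensorCx A K).map (f • 𝟙 (Q.obj (sg A n)))) L := by
  rw [lten_map_smul]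
  exact floc_of_finite B h f _ (finite_lten K hK n) L hL

/-- Localization of `Hom(A[-n], Z)`. -/
theorem floc_sg (n : ℤ) (Z : Dual.D A) :
    FLoc (flatBC (algebraMap A B) h) (Q.obj (sg A n)) (f • 𝟙 _) Z :=
  FLoc.of_iso ((singleFunctorIsoCompQ (ModuleCat.{u} A) n).app (ModuleCat.of A A)) (Iso.refl _)
    (by rw [Linear.smul_comp, Linear.comp_smul, Category.id_comp, Category.comp_id])
    (floc_self B h f n Z)

end

end Groth.Agent.LoccohB.LTenUnit
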