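import Mathlib.Algebra.Homology.DerivedCategory.ExactFunctor
import Mathlib.Algebra.Homology.DerivedCategory.Basic

/-!
# Abstract lemmas: lifting squares of functors to derived categories
-/

set_option autoImplicit false
open CategoryTheory CategoryTheory.Limits

namespace Groth.Agent.LoccohB.LiftSq

section Lift

universe w₁ w₂ w₃ w₄ v₁ v₂ v₃ v₄ v₅ u₁ u₂ u₃ u₄ u₅

variable {A : Type u₁} [Category.{v₁} A] [Abelian A] [HasDerivedCategory.{w₁} A]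
  {B : Type u₂} [Category.{v₂} B] [Abelian B] [HasDerivedCategory.{w₂} B]
  {B' : Type u₃} [Category.{v₃} B'] [Abelian B'] [HasDerivedCategory.{w₃} B']
  {C : Type u₄} [Category.{v₄} C] [Abelian C] [HasDerivedCategory.{w₄} C]
  {E : Type u₅} [Category.{v₅} E]

/-- Lifting isomorphisms along `Q`. -/
noncomputable def liftQ {G₁ G₂ : DerivedCategory A ⥤ E}
    (e : DerivedCategory.Q ⋙ G₁ ≅ DerivedCategory.Q ⋙ G₂) : G₁ ≅ G₂ :=
  Localization.liftNatIso DerivedCategory.Q (HomologicalComplex.quasiIso A (ComplexShape.up ℤ))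
    (DerivedCategory.Q ⋙ G₁) (DerivedCategory.Q ⋙ G₂) G₁ G₂ e

/-- Composition of lifts. -/
noncomputable def compQ {F₁ : CochainComplex A ℤ ⥤ CochainComplex B ℤ}
    {F₂ : CochainComplex B ℤ ⥤ CochainComplex C ℤ} {D₁ : DerivedCategory A ⥤ DerivedCategory B}
    {D₂ : DerivedCategory B ⥤ DerivedCategory C}
    (e₁ : DerivedCategory.Q ⋙ D₁ ≅ F₁ ⋙ DerivedCategory.Q)
    (e₂ : DerivedCategory.Q ⋙ D₂ ≅ F₂ ⋙ DerivedCategory.Q) :
    DerivedCategory.Q ⋙ (D₁ ⋙ D₂) ≅ (F₁ ⋙ F₂) ⋙ DerivedCategory.Q :=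
  (Functor.associator _ _ _).symm ≪≫ Functor.isoWhiskerRight e₁ _ ≪≫ Functor.associator _ _ _ ≪≫
    Functor.isoWhiskerLeft _ e₂ ≪≫ (Functor.associator _ _ _).symm

/-- A commutative square of functors on complexes gives one on derived categories. -/
noncomputable def liftSq {F₁ : CochainComplex A ℤ ⥤ CochainComplex B ℤ}
    {F₂ : CochainComplex B ℤ ⥤ CochainComplex C ℤ} {F₃ : CochainComplex A ℤ ⥤ CochainComplex B' ℤ}
    {F₄ : CochainComplex B' ℤ ⥤ CochainComplex C ℤ} {D₁ : DerivedCategory A ⥤ DerivedCategory B}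
    {D₂ : DerivedCategory B ⥤ DerivedCategory C} {D₃ : DerivedCategory A ⥤ DerivedCategory B'}
    {D₄ : DerivedCategory B' ⥤ DerivedCategory C}
    (e₁ : DerivedCategory.Q ⋙ D₁ ≅ F₁ ⋙ DerivedCategory.Q)
    (e₂ : DerivedCategory.Q ⋙ D₂ ≅ F₂ ⋙ DerivedCategory.Q)
    (e₃ : DerivedCategory.Q ⋙ D₃ ≅ F₃ ⋙ DerivedCategory.Q)
    (e₄ : DerivedCategory.Q ⋙ D₄ ≅ F₄ ⋙ DerivedCategory.Q)
    (e : F₁ ⋙ F₂ ≅ F₃ ⋙ F₄) : D₁ ⋙ D₂ ≅ D₃ ⋙ D₄ :=
  liftQ (compQ e₁ e₂ ≪≫ Functor.isoWhiskerRight e _ ≪≫ (compQ e₃ e₄).symm)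

end Lift

section Flip

universe v₁ v₂ v₃ v₄ v₅ v₆ u₁ u₂ u₃ u₄ u₅ u₆

variable {A : Type u₁} [Category.{v₁} A] {B : Type u₂} [Category.{v₂} B]
  {C : Type u₃} [Category.{v₃} C] {A' : Type u₄} [Category.{v₄} A']
  {B' : Type u₅} [Category.{v₅} B'] {C' : Type u₆} [Category.{v₆} C']

/-- Fix the second variable in `R(G(K, E)) ≅ G'(R₁ K, R₂ E)`. -/
def flipW {G : A ⥤ B ⥤ C} {G' : A' ⥤ B' ⥤ C'} {R₁ : A ⥤ A'} {R₂ : B ⥤ B'} {R : C ⥤ C'}
    (α : G ⋙ (Functor.whiskeringRight _ _ _).obj R ≅ R₁ ⋙ G' ⋙ (Functor.whiskeringLeft _ _ _).obj R₂)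
    (E : B) : G.flip.obj E ⋙ R ≅ R₁ ⋙ G'.flip.obj (R₂.obj E) :=
  NatIso.ofComponents (fun K => (α.app K).app E) (fun f => congr_app (α.hom.naturality f) E)

/-- Fix the second variable in `S(G'(K, R E)) ≅ G(S K, E)`. -/
def flipW' {G : A ⥤ B ⥤ C} {G' : A' ⥤ B' ⥤ C'} {S₁ : A' ⥤ A} {R : B ⥤ B'} {S : C' ⥤ C}
    (α : (G' ⋙ (Functor.whiskeringLeft _ _ _).obj R) ⋙ (Functor.whiskeringRight _ _ _).obj S ≅ S₁ ⋙ G)
    (E : B) : G'.flip.obj (R.obj E) ⋙ S ≅ S₁ ⋙ G.flip.obj E :=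
  NatIso.ofComponents (fun K => (α.app K).app E) (fun f => congr_app (α.hom.naturality f) E)

/-- Assembling isomorphisms natural in one variable. -/
def mkFlip (Q : A ⥤ A') (T : A' ⥤ B' ⥤ C') (b : B') (G : A ⥤ B ⥤ C) (e : B) (Q' : C ⥤ C')
    (κ : ∀ K, (T.obj (Q.obj K)).obj b ≅ Q'.obj ((G.obj K).obj e))
    (nat : ∀ {K K' : A} (w : K ⟶ K'), (T.map (Q.map w)).app b ≫ (κ K').hom =
      (κ K).hom ≫ Q'.map ((G.map w).app e)) :
    Q ⋙ T.flip.obj b ≅ G.flip.obj e ⋙ Q' :=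
  NatIso.ofComponents κ (fun w => nat w)

end Flip

section Adj

universe v₁ v₂ u₁ u₂

variable {C : Type u₁} [Category.{v₁} C] {D : Type u₂} [Category.{v₂} D] {S : C ⥤ D} {R : D ⥤ C}
  (adj : S ⊣ R) [IsIso adj.unit]

include adj in
lemma isIso_counit_of_iso {Z : D} {Z₀ : C} (e : Z ≅ S.obj Z₀) : IsIso (adj.counit.app Z) := by
  have h1 : IsIso (adj.counit.app (S.obj Z₀)) :=
    IsIso.of_isIso_fac_left (adj.left_triangle_components Z₀)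
  have h2 := adj.counit.naturality e.hom
  have h3 : IsIso (adj.counit.app Z ≫ e.hom) := by
    change IsIso (adj.counit.app Z ≫ (𝟭 _).map e.hom)
    rw [← h2]
    infer_instance
  exact IsIso.of_isIso_comp_right _ e.hom

end Adj

end Groth.Agent.LoccohB.LiftSq
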