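import Groth.Agent.PerfC.DTens
import Groth.Agent.PerfC.ExtZeroD
import Groth.Agent.Dcoh.ProjShriek
import Groth.Agent.Dcoh.TensRestr
import Groth.Agent.LoccohB.LiftSq

/-!
# The derived tensor product and extension by zero / restriction to opens

Everything is phrased with the (regular) definitions `tenR`, `ltR`, `resCx`, `extCx`, and natural isomorphisms are given as
theorems `Nonempty (_ ≅ _)`: otherwise the kernel unfolds `DCoh.tensorCx`.
-/

set_option autoImplicit false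
universe u
open CategoryTheory CategoryTheory.Limits AlgebraicGeometry
attribute [local instance] HasDerivedCategory.standard

namespace Groth.Agent.LoccohB.TensShriek

open PerfA PerfA.Restrict PerfC.DTens LiftSq

variable {X U : Scheme.{u}}

/-- `- ⊗ E` on complexes. -/
noncomputable def tenR (E : CochainComplex X.Modules ℤ) :
    CochainComplex X.Modules ℤ ⥤ CochainComplex X.Modules ℤ :=
  (DCoh.tensorCx (X := X)).flip.obj E

/-- `- ⊗ᴸ E` on the derived category. -/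
noncomputable def ltR (E : CochainComplex X.Modules ℤ) : DCoh.D X ⥤ DCoh.D X :=
  (LTX X).flip.obj (DerivedCategory.Q.obj E)

/-- The functor `- ⊗ᴸ E` for `E` K-flat. -/
theorem tenQ {E : CochainComplex X.Modules ℤ} (hE : DCoh.IsKFlat E) :
    Nonempty (DerivedCategory.Q ⋙ ltR E ≅ tenR E ⋙ DerivedCategory.Q) :=
  ⟨mkFlip DerivedCategory.Q (LTX X) (DerivedCategory.Q.obj E) DCoh.tensorCx E DerivedCategory.Q
    (fun P => κIso' P E hE) (fun f => κX_nat₁ f E)⟩

/-- `ltR` is `DCoh.LTensorCx`. -/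
noncomputable def ltRIso (E : CochainComplex X.Modules ℤ) [DCoh.HasLTensorCx E] :
    ltR E ≅ DCoh.LTensorCx E := LTXcx E

/-- `ltR` only depends on the class of `E`. -/
noncomputable def ltRCongr {E E' : CochainComplex X.Modules ℤ}
    (e : DerivedCategory.Q.obj E ≅ DerivedCategory.Q.obj E') : ltR E ≅ ltR E' :=
  (LTX X).flip.mapIso e

variable (j : U ⟶ X) [IsOpenImmersion j]

/-- restriction on complexes -/
noncomputable def resCx : CochainComplex X.Modules ℤ ⥤ CochainComplex U.Modules ℤ :=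
  (Scheme.Modules.restrictFunctor j).mapHomologicalComplex (ComplexShape.up ℤ)

/-- Extension by zero of complexes. -/
noncomputable def extCx : CochainComplex U.Modules ℤ ⥤ CochainComplex X.Modules ℤ :=
  (PerfC.ExtZero.jShriek j).mapHomologicalComplex (ComplexShape.up ℤ)

theorem restrCx' :
    Nonempty (DCoh.tensorCx (X := X) ⋙ (Functor.whiskeringRight _ _ _).obj (resCx j) ≅
      resCx j ⋙ DCoh.tensorCx (X := U) ⋙ (Functor.whiskeringLeft _ _ _).obj (resCx j)) :=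
  ⟨Dcoh.TensRestr.restrCx j⟩

/-- `(K ⊗ E)|_U ≅ K|_U ⊗ E|_U`, natural in `K`. -/
theorem resTen (E : CochainComplex X.Modules ℤ) :
    Nonempty (tenR E ⋙ resCx j ≅ resCx j ⋙ tenR ((resCx j).obj E)) :=
  ⟨flipW (restrCx' j).some E⟩

theorem projCx' :
    Nonempty ((DCoh.tensorCx (X := U) ⋙ (Functor.whiskeringLeft _ _ _).obj (resCx j)) ⋙
      (Functor.whiskeringRight _ _ _).obj (extCx j) ≅
    extCx j ⋙ DCoh.tensorCx (X := X)) :=
  ⟨Dcoh.ProjShriek.projCx j⟩

/-- `j_!(K ⊗ E|_U) ≅ j_! K ⊗ E`, natural in `K`. -/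
theorem extTen (E : CochainComplex X.Modules ℤ) :
    Nonempty (tenR ((resCx j).obj E) ⋙ extCx j ≅ extCx j ⋙ tenR E) :=
  ⟨flipW' (projCx' j).some E⟩

/-- Restriction on derived categories. -/
noncomputable def resQ : DerivedCategory.Q ⋙ restrictD j ≅ resCx j ⋙ DerivedCategory.Q :=
  (Scheme.Modules.restrictFunctor j).mapDerivedCategoryFactors

/-- Extension by zero on derived categories. -/
noncomputable def extQ : DerivedCategory.Q ⋙ PerfC.ExtZeroD.shriekD j ≅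
    extCx j ⋙ DerivedCategory.Q :=
  (PerfC.ExtZero.jShriek j).mapDerivedCategoryFactors

lemma isKFlat_resCx {E : CochainComplex X.Modules ℤ} (hE : DCoh.IsKFlat E) :
    DCoh.IsKFlat ((resCx j).obj E) :=
  Dcoh.ProjShriek.isKFlat_restrict j hE

/-- `(K ⊗ᴸ E)|_U ≅ K|_U ⊗ᴸ E|_U`, natural in `K`, for `E` K-flat. -/
theorem resTenD {E : CochainComplex X.Modules ℤ} (hE : DCoh.IsKFlat E) :
    Nonempty (ltR E ⋙ restrictD j ≅ restrictD j ⋙ ltR ((resCx j).obj E)) := by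
  obtain ⟨e1⟩ := tenQ hE
  obtain ⟨e2⟩ := tenQ (isKFlat_resCx j hE)
  obtain ⟨e3⟩ := resTen j E
  exact ⟨liftSq e1 (resQ j) (resQ j) e2 e3⟩

/-- `j_!(K ⊗ᴸ E|_U) ≅ j_! K ⊗ᴸ E`, natural in `K`, for `E` K-flat. -/
theorem extTenD {E : CochainComplex X.Modules ℤ} (hE : DCoh.IsKFlat E) :
    Nonempty (ltR ((resCx j).obj E) ⋙ PerfC.ExtZeroD.shriekD j ≅
      PerfC.ExtZeroD.shriekD j ⋙ ltR E) := by
  obtain ⟨e1⟩ := tenQ hE
  obtain ⟨e2⟩ := tenQ (isKFlat_resCx j hE)
  obtain ⟨e3⟩ := extTen j E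
  exact ⟨liftSq e2 (extQ j) (extQ j) e1 e3⟩

/-- Every complex is quasi-isomorphic to a K-flat complex. -/
lemma exists_kflat (E : CochainComplex X.Modules ℤ) :
    ∃ E₀ : CochainComplex X.Modules ℤ, DCoh.IsKFlat E₀ ∧
    Nonempty (DerivedCategory.Q.obj E ≅ DerivedCategory.Q.obj E₀) := by
  obtain ⟨E₀, q, hE₀, hq⟩ := hasRes X E
  have hq' : IsIso (DerivedCategory.Q.map q) := (DerivedCategory.isIso_Q_map_iff_quasiIso _ _).2 hq
  exact ⟨E₀, hE₀, ⟨(asIso (DerivedCategory.Q.map q)).symm⟩⟩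

/-- `- ⊗ᴸ E` commutes with restriction. -/
lemma exists_res (E : CochainComplex X.Modules ℤ) : ∃ G : DCoh.D U ⥤ DCoh.D U,
    Nonempty (ltR E ⋙ restrictD j ≅ restrictD j ⋙ G) := by
  obtain ⟨E₀, hE₀, ⟨eE⟩⟩ := exists_kflat E
  obtain ⟨e⟩ := resTenD j hE₀
  exact ⟨_, ⟨Functor.isoWhiskerRight (ltRCongr eE) _ ≪≫ e⟩⟩

/-- `- ⊗ᴸ E` commutes with extension by zero. -/
lemma exists_ext (E : CochainComplex X.Modules ℤ) : ∃ G : DCoh.D U ⥤ DCoh.D U,
    Nonempty (PerfC.ExtZeroD.shriekD j ⋙ ltR E ≅ G ⋙ PerfC.ExtZeroD.shriekD j) := by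
  obtain ⟨E₀, hE₀, ⟨eE⟩⟩ := exists_kflat E
  obtain ⟨e⟩ := extTenD j hE₀
  exact ⟨_, ⟨Functor.isoWhiskerLeft _ (ltRCongr eE) ≪≫ e.symm⟩⟩

/-- If `e` is an isomorphism on `U`, so is `e ⊗ᴸ E`. -/
lemma isIso_restrictD_tensor (E : CochainComplex X.Modules ℤ) {N N' : DCoh.D X} (e : N ⟶ N')
    (he : IsIso ((restrictD j).map e)) : IsIso ((restrictD j).map ((ltR E).map e)) := by
  obtain ⟨G, ⟨α⟩⟩ := exists_res j E
  have h1 : IsIso ((restrictD j ⋙ G).map e) := inferInstanceAs (IsIso (G.map ((restrictD j).map e)))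
  exact (NatIso.isIso_map_iff α e).2 h1

/-- `j_! M ⊗ᴸ E` is an extension by zero. -/
lemma isIso_counit_tensor (E : CochainComplex X.Modules ℤ) (M : DCoh.D U) :
    IsIso ((PerfC.ExtZeroD.adjunction j).counit.app
      ((ltR E).obj ((PerfC.ExtZeroD.shriekD j).obj M))) := by
  obtain ⟨G, ⟨α⟩⟩ := exists_ext j E
  exact isIso_counit_of_iso (PerfC.ExtZeroD.adjunction j) (α.app M)

end Groth.Agent.LoccohB.TensShriek
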