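import Groth.Agent.PerfA.TildeRes
import Groth.Agent.PerfA.TildeMain
import Groth.Agent.PerfA.ExactD
import Groth.Agent.LoccohB.LocHom2
import Groth.Agent.PerfC.ExtZeroD

/-!
# `D(A) → D(Spec A)` and restriction to `D(f)`
-/

set_option autoImplicit false
universe u
open CategoryTheory CategoryTheory.Limits AlgebraicGeometry
attribute [local instance] HasDerivedCategory.standard

namespace Groth.Agent.LoccohB.TildeLocD

open PerfA PerfA.Restrict LocAbs LocHom FlatLBC

variable {R S : CommRingCat.{u}} (φ : R ⟶ S) (h : φ.hom.Flat)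
  [IsOpenImmersion (Spec.map φ)] [PreservesFiniteLimits (tilde.functor R)]
  [PreservesFiniteLimits (tilde.functor S)]

/-- `M ↦ (S ⊗ M)^~`. -/
noncomputable def extTilde : ModuleCat.{u} R ⥤ (Spec S).Modules :=
  ModuleCat.extendScalars.{u, u, u} φ.hom ⋙ tilde.functor S

instance : (extTilde φ).Additive :=
  inferInstanceAs (ModuleCat.extendScalars.{u, u, u} φ.hom ⋙ tilde.functor S).Additive

instance : PreservesFiniteColimits (extTilde φ) := by
  have h1 : PreservesFiniteColimits (ModuleCat.extendScalars.{u, u, u} φ.hom) :=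
    (ModuleCat.extendRestrictScalarsAdj.{u, u, u} φ.hom).leftAdjoint_preservesColimits.{0, 0}.preservesFiniteColimits
  have h2 : PreservesFiniteColimits (tilde.functor S) := inferInstance
  exact comp_preservesFiniteColimits (ModuleCat.extendScalars.{u, u, u} φ.hom) (tilde.functor S)

omit [IsOpenImmersion (Spec.map φ)] [PreservesFiniteLimits (tilde.functor R)] in
include h in
lemma preservesFiniteLimits_extTilde : PreservesFiniteLimits (extTilde φ) := by
  have : PreservesFiniteLimits (ModuleCat.extendScalars.{u, u, u} φ.hom) :=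
    ModuleCat.preservesFiniteLimits_extendScalars_of_flat h
  exact comp_preservesFiniteLimits _ _

/-- `K^~|_{Spec S} ≅ (S ⊗ K)^~` on derived categories. -/
noncomputable def tildeDRestrictIso :
    DCoh.tildeD R ⋙ restrictD (Spec.map φ) ≅ flatBC φ.hom h ⋙ DCoh.tildeD S :=
  haveI : PreservesFiniteLimits (ModuleCat.extendScalars.{u, u, u} φ.hom) :=
    ModuleCat.preservesFiniteLimits_extendScalars_of_flat h
  haveI := preservesFiniteLimits_extTilde φ h
  ExactD.mapDComp (F := tilde.functor R) (G := Scheme.Modules.restrictFunctor (Spec.map φ))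
    (H := extTilde φ)
      (TildeRes.tildeRestrictIso φ) ≪≫
    (ExactD.mapDComp (F := ModuleCat.extendScalars.{u, u, u} φ.hom) (G := tilde.functor S)
      (H := extTilde φ) (Iso.refl _)).symm

variable (R) in
omit [IsOpenImmersion (Spec.map φ)] [PreservesFiniteLimits (tilde.functor S)] in
/-- `DCoh.tildeD`, with values in `D(Spec R)`. -/
noncomputable def tD : Dual.D R ⥤ DCoh.D (Spec R) := DCoh.tildeD R

omit [IsOpenImmersion (Spec.map φ)] [PreservesFiniteLimits (tilde.functor S)] in
instance full_tD : (tD R).Full :=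
  ⟨fun f => (TildeMain.bijective_map R _ _).2 f⟩

omit [IsOpenImmersion (Spec.map φ)] [PreservesFiniteLimits (tilde.functor S)] in
instance faithful_tD : (tD R).Faithful :=
  ⟨fun {_ _ _ _} h => (TildeMain.bijective_map R _ _).1 h⟩

omit [IsOpenImmersion (Spec.map φ)] [PreservesFiniteLimits (tilde.functor S)] in
instance additive_tD : (tD R).Additive := by
  have : (DCoh.tildeD R).Additive := inferInstance
  exact this

/-- `K^~|_{Spec S} ≅ (S ⊗ K)^~` on derived categories. -/
noncomputable def tDRestrictIso :
    tD R ⋙ restrictD (Spec.map φ) ≅ flatBC φ.hom h ⋙ tD S := tildeDRestrictIso φ h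

/-- Localization of Hom groups passes to the associated sheaves. -/
theorem floc_tilde {N Z : Dual.D R} {μ : N ⟶ N} (hN : FLoc (flatBC φ.hom h) N μ Z) :
    FLoc (restrictD (Spec.map φ)) ((tD R).obj N) ((tD R).map μ) ((tD R).obj Z) :=
  FLoc.of_ff_comp ((FLoc.of_comp_ff (T := tD S) hN).of_natIso (tDRestrictIso φ h).symm)

end Groth.Agent.LoccohB.TildeLocD
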