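import Groth.Agent.LoccohB.EtaAbs
import Groth.Agent.LoccohB.LTenUnit
import Groth.Agent.LoccohB.TildeLocD
import Groth.Agent.LoccohB.TensShriek
import Groth.Agent.PerfB.TildeExact

/-!
# The comparison map `RHom(K, L)^~ ⟶ RHom(K^~, L^~)` on `j_! O_{D(f)}`
-/

set_option autoImplicit false
universe u
open CategoryTheory CategoryTheory.Limits AlgebraicGeometry
attribute [local instance] HasDerivedCategory.standard

namespace Groth.Agent.LoccohB.TildeEta

open PerfA PerfA.Restrict PerfC.DTens LocAbs LocHom FlatLBC TildeLocD EtaAbs LTenUnit LTen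

section

variable {X U : Scheme.{u}} (j : U ⟶ X) [IsOpenImmersion j] (E : CochainComplex X.Modules ℤ)
  [DCoh.HasLTensorCx E]

/-- If `e` is an isomorphism on `U`, so is `e ⊗ᴸ E`. -/
lemma isIso_restrictD_LTensorCx {N N' : DCoh.D X} (e : N ⟶ N')
    (he : IsIso ((restrictD j).map e)) :
    IsIso ((restrictD j).map ((DCoh.LTensorCx E).map e)) := by
  have h1 := TensShriek.isIso_restrictD_tensor j E e he
  exact (NatIso.isIso_map_iff (Functor.isoWhiskerRight (TensShriek.ltRIso E) (restrictD j)) e).1 h1

/-- `j_! M ⊗ᴸ E` is an extension by zero. -/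
lemma isIso_counit_LTensorCx (M : DCoh.D U) :
    IsIso ((PerfC.ExtZeroD.adjunction j).counit.app
      ((DCoh.LTensorCx E).obj ((PerfC.ExtZeroD.shriekD j).obj M))) := by
  have h1 := TensShriek.isIso_counit_tensor j E M
  exact (NatTrans.isIso_app_iff_of_iso _ ((TensShriek.ltRIso E).app _)).1 h1

end

instance preservesFiniteLimits_tilde_of (A : Type u) [CommRing A] :
    PreservesFiniteLimits (tilde.functor (CommRingCat.of A)) :=
  Groth.Agent.PerfB.TildeExact.preservesFiniteLimits_tilde (CommRingCat.of A)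

/-- `M ↦ M^~` on derived categories. -/
noncomputable def tA (A : Type u) [CommRing A] : Dual.D A ⥤ DCoh.D (Spec (CommRingCat.of A)) :=
  tD (CommRingCat.of A)

instance full_tA (A : Type u) [CommRing A] : (tA A).Full := full_tD (R := CommRingCat.of A)

instance faithful_tA (A : Type u) [CommRing A] : (tA A).Faithful :=
  faithful_tD (R := CommRingCat.of A)

instance additive_tA (A : Type u) [CommRing A] : (tA A).Additive :=
  additive_tD (R := CommRingCat.of A)

variable {A : Type u} [CommRing A] (K : DRing.Cx A) [DRing.HasLTensorCx A K] [DRing.HasRHomCx K]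
  (E : CochainComplex (Spec (CommRingCat.of A)).Modules ℤ) [DCoh.HasLTensorCx E]
  [DCoh.HasRSheafHom E]
  (θ : tA A ⋙ DCoh.LTensorCx E ≅ DRing.LTensorCx A K ⋙ tA A)

/-- The comparison map `RHom(K, L)^~ ⟶ RHom(K^~, L^~)`. -/
noncomputable def etaT (L : Dual.D A) :
    (tA A).obj ((DRing.RHomCx K).obj L) ⟶
      (DCoh.RSheafHom E).obj ((tA A).obj L) :=
  eta (tA A) (DCoh.RSheafHomAdj E) (ltenAdj K) θ L

section

variable (f : A)

/-- `A → A_f`. -/
noncomputable abbrev locHom : CommRingCat.of A ⟶ CommRingCat.of (Localization.Away f) :=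
  CommRingCat.ofHom (algebraMap A (Localization.Away f))

instance : IsOpenImmersion (Spec.map (locHom f)) := inferInstance

lemma flat_locHom : (locHom f).hom.Flat := by
  change (algebraMap A (Localization.Away f)).Flat
  rw [RingHom.flat_algebraMap_iff]
  exact IsLocalization.flat _ (Submonoid.powers f)

lemma flat_algebraMap : (algebraMap A (Localization.Away f)).Flat := flat_locHom f

/-- `j_! O_{D(f)}[-n]`. -/
noncomputable abbrev Pf (n : ℤ) : DCoh.D (Spec (CommRingCat.of A)) :=
  (PerfC.ExtZeroD.shriekD (Spec.map (locHom f))).obj ((restrictD (Spec.map (locHom f))).obj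
    ((tA A).obj (DerivedCategory.Q.obj (sg A n))))

theorem bijective_Pf [IsNoetherianRing A]
    (hK : ∀ i : ℤ, Module.Finite A (Dual.HD A (DRing.toD K) i))
    (L : Dual.D A) (hL : DRing.HasFiniteInjDim A L) (n : ℤ) :
    Function.Bijective (fun x : Pf f n ⟶ (tA A).obj ((DRing.RHomCx K).obj L) =>
      x ≫ etaT K E θ L) := by
  have : (DCoh.LTensorCx E).Additive := (isTriang_LTensorCx E).additive
  exact bijective_shriek (tA A) (DCoh.RSheafHomAdj E) (ltenAdj K) θ
    (PerfC.ExtZeroD.adjunction (Spec.map (locHom f))) (N := DerivedCategory.Q.obj (sg A n))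
    (f • 𝟙 (DerivedCategory.Q.obj (sg A n))) (L := L)
    (isIso_restrictD_LTensorCx _ E _ inferInstance)
    (isIso_counit_LTensorCx _ E _)
    (floc_tilde (locHom f) (flat_locHom f) (floc_sg (Localization.Away f) (flat_algebraMap f) f n _))
    (floc_tilde (locHom f) (flat_locHom f)
      (floc_lten K (Localization.Away f) (flat_algebraMap f) f hK L hL n))

end

end Groth.Agent.LoccohB.TildeEta
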