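import Groth.Agent.LoccohB.TildeTen3
import Groth.Agent.LoccohB.TildeEta
import Groth.Agent.PerfC.TildeKFlat

/-!
# `(M ⊗ᴸ K)^~ ≅ M^~ ⊗ᴸ K^~`
-/

set_option autoImplicit false
universe u
open CategoryTheory CategoryTheory.Limits AlgebraicGeometry MonoidalCategory
attribute [local instance] HasDerivedCategory.standard

namespace Groth.Agent.LoccohB.ThetaT

open PerfC.DTens TildeEta LTen LiftSq TensShriek TildeTen DerivedCategory

section

variable (R : CommRingCat.{u})

/-- Termwise tilde. -/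
noncomputable def tCx : CochainComplex (ModuleCat.{u} R) ℤ ⥤
    CochainComplex (Spec (CommRingCat.of R)).Modules ℤ :=
  (tilde.functor R).mapHomologicalComplex (ComplexShape.up ℤ)

/-- `- ⊗ E`. -/
noncomputable def mR (E : CochainComplex (ModuleCat.{u} R) ℤ) :
    CochainComplex (ModuleCat.{u} R) ℤ ⥤ CochainComplex (ModuleCat.{u} R) ℤ :=
  tensorRight E

theorem ttBi : Nonempty ((curriedTensor (ModuleCat.{u} R)).map₂CochainComplex ⋙
      (Functor.whiskeringRight _ _ _).obj (tCx R) ≅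
    tCx R ⋙ DCoh.tensorCx ⋙ (Functor.whiskeringLeft _ _ _).obj (tCx R)) :=
  ⟨ttCxNat R⟩

theorem ttOne (E : CochainComplex (ModuleCat.{u} R) ℤ) :
    Nonempty (mR R E ⋙ tCx R ≅ tCx R ⋙ tenR ((tCx R).obj E)) :=
  ⟨flipW (ttBi R).some E⟩

end

section

variable {A : Type u} [CommRing A]

/-- `- ⊗ᴸ P = - ⊗ P` for `P` K-projective. -/
theorem lQ (P : DRing.Cx A) [DRing.HasLTensorCx A P] [P.IsKProjective] :
    Nonempty (Q ⋙ DRing.LTensorCx A P ≅ mR (CommRingCat.of A) P ⋙ Q) := by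
  have h1 : ∀ K, IsIso ((ltenCounit P).app K) := fun K => isIso_ltenCounit_app' P K
  have h2 : IsIso (ltenCounit P) := NatIso.isIso_of_isIso_app _
  exact ⟨@asIso _ _ _ _ (ltenCounit P) h2⟩

/-- K-projective complexes are K-flat. -/
lemma isZero_tensor (P : DRing.Cx A) [P.IsKProjective] (L : DRing.Cx A)
    (hL : ∀ i : ℤ, IsZero (L.homology i)) (i : ℤ) : IsZero (((tensorRight P).obj L).homology i) := by
  have h1 : QuasiIso (0 : L ⟶ L) :=
    ⟨fun i => (quasiIsoAt_iff_isIso_homologyMap _ _).2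
      (isIso_of_source_target_iso_zero _ (hL i).isoZero (hL i).isoZero)⟩
  have h2 : QuasiIso ((0 : L ⟶ L) ▷ P) := quasiIso_whiskerRight P (0 : L ⟶ L)
  have h3 : (0 : L ⟶ L) ▷ P = 0 := by
    have h4 := LTenUnit.whiskerRight_smul (0 : A) (0 : L ⟶ L) P
    rwa [zero_smul, zero_smul] at h4
  rw [h3] at h2
  have h5 : IsIso (HomologicalComplex.homologyMap (0 : (L ⊗ P : DRing.Cx A) ⟶ (L ⊗ P : DRing.Cx A)) i) :=
    inferInstance
  rw [HomologicalComplex.homologyMap_zero] at h5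
  exact ((isIsoZero_iff_source_target_isZero _ _).1 h5).1

instance additive_tilde_of (A : Type u) [CommRing A] :
    (tilde.functor (CommRingCat.of A)).Additive := additive_tilde (CommRingCat.of A)

theorem preservesFiniteColimits_tilde' (R : CommRingCat.{u}) :
    PreservesFiniteColimits (tilde.functor R) := inferInstance

instance preservesFiniteColimits_tilde_of (A : Type u) [CommRing A] :
    PreservesFiniteColimits (tilde.functor (CommRingCat.of A)) :=
  preservesFiniteColimits_tilde' (CommRingCat.of A)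

/-- The complex of sheaves associated with `P`. -/
noncomputable def tP (P : DRing.Cx A) : CochainComplex (Spec (CommRingCat.of A)).Modules ℤ :=
  (tCx (CommRingCat.of A)).obj P

/-- `Q` and tilde. -/
theorem tAQ (A : Type u) [CommRing A] :
    Nonempty (Q ⋙ tA A ≅ tCx (CommRingCat.of A) ⋙ Q) :=
  ⟨(tilde.functor (CommRingCat.of A)).mapDerivedCategoryFactors⟩

lemma isKFlat_tP (P : DRing.Cx A) [P.IsKProjective] : DCoh.IsKFlat (tP P) :=
  PerfC.TildeKFlat.isKFlat_tilde (R := CommRingCat.of A) P (isZero_tensor P)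

/-- `(M ⊗ P)^~ ≅ M^~ ⊗ P^~` on complexes. -/
theorem ttP (P : DRing.Cx A) :
    Nonempty (tCx (CommRingCat.of A) ⋙ tenR (tP P) ≅
      mR (CommRingCat.of A) P ⋙ tCx (CommRingCat.of A)) := by
  obtain ⟨e⟩ := ttOne (CommRingCat.of A) P
  exact ⟨e.symm⟩

/-- `(M ⊗ᴸ P)^~ ≅ M^~ ⊗ᴸ P^~` for `P` K-projective. -/
theorem thetaP (P : DRing.Cx A) [DRing.HasLTensorCx A P] [P.IsKProjective] :
    Nonempty (tA A ⋙ ltR (tP P) ≅ DRing.LTensorCx A P ⋙ tA A) := by
  obtain ⟨e1⟩ := tAQ A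
  obtain ⟨e2⟩ := tenQ (isKFlat_tP P)
  obtain ⟨e3⟩ := lQ P
  obtain ⟨e4⟩ := ttP P
  exact ⟨liftSq e1 e2 e3 e1 e4⟩

end

end Groth.Agent.LoccohB.ThetaT
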