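import Groth.Agent.PerfA.Hyp1
import Groth.Agent.PerfB.ModExact
import Groth.Agent.PerfB.TildeExact
import Groth.Agent.CohqA.BasisHom
import Groth.Agent.PerfA.OUTF
import Groth.Agent.PerfC.ExtZeroD

/-!
# Detecting isomorphisms in `D(O_X)` on hypercohomology of a basis of opens
-/

set_option autoImplicit false

universe u

open CategoryTheory CategoryTheory.Limits AlgebraicGeometry Opposite TopologicalSpace
open Groth.Agent.PerfA.ExtZero Groth.Agent.PerfA.Hyp0 Groth.Agent.PerfA.Hyp1

attribute [local instance] HasDerivedCategory.standard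

namespace Groth.Agent.LoccohB.Detect531

variable {X : Scheme.{u}}

/-- a morphism in the derived category is an isomorphism if it is so on homology -/
lemma isIso_of_isIso_homology {M N : DCoh.D X} (φ : M ⟶ N)
    (h : ∀ m : ℤ, IsIso ((DerivedCategory.homologyFunctor X.Modules m).map φ)) : IsIso φ := by
  rwa [DerivedCategory.isIso_iff]

/-- a section of a module is zero if it is locally zero -/
lemma eq_zero_of_local {M : X.Modules} {U : X.Opens} (s : Γ(M, U))
    (h : ∀ x ∈ U, ∃ (V : X.Opens) (hVU : V ≤ U), x ∈ V ∧ M.presheaf.map (homOfLE hVU).op s = 0) : s = 0 :=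
  Groth.Agent.CohqA.BasisHom.eq_of_locally_eq M s 0 fun x hx => by
    obtain ⟨V, hVU, hxV, hs⟩ := h x hx
    exact ⟨V, hVU, hxV, by rw [hs, map_zero]⟩

lemma mono_homology (B : X.Opens → Prop)
    (hB : ∀ (x : X) (V : X.Opens), x ∈ V → ∃ W, B W ∧ x ∈ W ∧ W ≤ V) {M N : DCoh.D X} (φ : M ⟶ N) (m : ℤ)
    (h : ∀ W, B W → Function.Injective (fun g : P m W ⟶ M => g ≫ φ)) :
    Mono ((DerivedCategory.homologyFunctor X.Modules m).map φ) := by
  refine Groth.Agent.PerfB.TildeExact.mono_of_app_injective _ fun U => ?_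
  refine (injective_iff_map_eq_zero (((DerivedCategory.homologyFunctor X.Modules m).map φ).app U).hom).2
    fun (s : Γ(DCoh.HD M m, U)) (hs : ((DerivedCategory.homologyFunctor X.Modules m).map φ).app U s = 0) => ?_
  refine eq_zero_of_local s fun x hx => ?_
  obtain ⟨V, hVU, ψ, hxV, hψ⟩ := exists_local_toHD_eq s x hx
  have h0 : toHD (ψ ≫ φ) = 0 := by
    rw [toHD_comp, hψ]
    have h1 := Groth.Agent.Dcoh.Restrict.app_map_apply ((DerivedCategory.homologyFunctor X.Modules m).map φ)
      (homOfLE hVU) s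
    rw [hs, map_zero] at h1
    exact h1
  obtain ⟨V', hV', hxV', h2⟩ := exists_local_eq_zero (ψ ≫ φ) h0 x hxV
  obtain ⟨W, hW, hxW, hWV⟩ := hB x V' hxV'
  refine ⟨W, hWV.trans (hV'.trans hVU), hxW, ?_⟩
  have h3 : res (hWV.trans hV') ψ = 0 := by
    apply h W hW
    change res (hWV.trans hV') ψ ≫ φ = 0 ≫ φ
    rw [← res_comp, zero_comp, ← res_res hV' hWV, h2, res_zero]
  have h4 := toHD_res (hWV.trans hV') ψ
  rw [h3, toHD_zero, hψ] at h4
  rw [h4, ← ConcreteCategory.comp_apply, ← Functor.map_comp]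
  rfl

lemma epi_homology (B : X.Opens → Prop)
    (hB : ∀ (x : X) (V : X.Opens), x ∈ V → ∃ W, B W ∧ x ∈ W ∧ W ≤ V) {M N : DCoh.D X} (φ : M ⟶ N) (m : ℤ)
    (h : ∀ W, B W → Function.Surjective (fun g : P m W ⟶ M => g ≫ φ)) :
    Epi ((DerivedCategory.homologyFunctor X.Modules m).map φ) := by
  refine Groth.Agent.PerfB.ModExact.epi_of_locally_surjective _ fun U (y : Γ(DCoh.HD N m, U)) x hx => ?_
  obtain ⟨V, hVU, ψ, hxV, hψ⟩ := exists_local_toHD_eq y x hx
  obtain ⟨W, hW, hxW, hWV⟩ := hB x V hxV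
  obtain ⟨g, hg⟩ := h W hW (res hWV ψ)
  refine ⟨W, hWV.trans hVU, hxW, toHD g, ?_⟩
  rw [← toHD_comp]
  change g ≫ φ = res hWV ψ at hg
  rw [hg, toHD_res, hψ, ← ConcreteCategory.comp_apply, ← Functor.map_comp]
  rfl

/-- a morphism in `D(O_X)` which induces bijections on hypercohomology of a basis of opens is an isomorphism -/
theorem isIso_of_forall_bijective (B : X.Opens → Prop)
    (hB : ∀ (x : X) (V : X.Opens), x ∈ V → ∃ W, B W ∧ x ∈ W ∧ W ≤ V) {M N : DCoh.D X} (φ : M ⟶ N)
    (h : ∀ W, B W → ∀ m : ℤ, Function.Bijective (fun g : P m W ⟶ M => g ≫ φ)) : IsIso φ := by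
  refine isIso_of_isIso_homology φ fun m => ?_
  have := mono_homology B hB φ m fun W hW => (h W hW m).1
  have := epi_homology B hB φ m fun W hW => (h W hW m).2
  exact isIso_of_mono_of_epi _

/-! ### In terms of extension by zero -/

/-- `P m W` is `j_! O_Y [-m]` for an open immersion `j` with range `W`. -/
noncomputable def isoShriekD {Y : Scheme.{u}} (j : Y ⟶ X) [IsOpenImmersion j] (m : ℤ) :
    P m j.opensRange ≅ (Groth.Agent.PerfC.ExtZeroD.shriekD j).obj
      ((DerivedCategory.singleFunctor Y.Modules m).obj (Coh.structureModule Y)) :=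
  (DerivedCategory.singleFunctor X.Modules m).mapIso (Groth.Agent.PerfA.OUTF.isoShriekOfOpenImmersion j) ≪≫
    (((Groth.Agent.PerfC.ExtZero.jShriek j).mapDerivedCategorySingleFunctor m).app _).symm

lemma bijective_comp_of_iso {P P' M N : DCoh.D X} (e : P ≅ P') (φ : M ⟶ N)
    (h : Function.Bijective (fun g : P' ⟶ M => g ≫ φ)) : Function.Bijective (fun g : P ⟶ M => g ≫ φ) := by
  have h1 : (fun g : P ⟶ M => g ≫ φ) =
      (fun g : P' ⟶ N => e.hom ≫ g) ∘ (fun g : P' ⟶ M => g ≫ φ) ∘ (fun g : P ⟶ M => e.inv ≫ g) := by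
    funext g
    simp
  rw [h1]
  refine Function.Bijective.comp ?_ (h.comp ?_)
  · exact ⟨fun a b hab => (cancel_epi e.hom).1 hab, fun g => ⟨e.inv ≫ g, by simp⟩⟩
  · exact ⟨fun a b hab => (cancel_epi e.inv).1 hab, fun g => ⟨e.hom ≫ g, by simp⟩⟩

/-- A morphism `φ` in `D(O_X)` is an isomorphism if `- ≫ φ` is bijective on all `Hom(j_! O_Y [-m], -)`, for a family of open
immersions whose ranges form a basis. -/
theorem isIso_of_forall_bijective_shriek {ι : Type*} (Y : ι → Scheme.{u}) (j : ∀ i, Y i ⟶ X)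
    [∀ i, IsOpenImmersion (j i)]
    (hB : ∀ (x : X) (V : X.Opens), x ∈ V → ∃ i, x ∈ (j i).opensRange ∧ (j i).opensRange ≤ V)
    {M N : DCoh.D X} (φ : M ⟶ N)
    (h : ∀ (i : ι) (m : ℤ), Function.Bijective (fun g : (Groth.Agent.PerfC.ExtZeroD.shriekD (j i)).obj
      ((DerivedCategory.singleFunctor (Y i).Modules m).obj (Coh.structureModule (Y i))) ⟶ M => g ≫ φ)) :
    IsIso φ := by
  refine isIso_of_forall_bijective (fun W => ∃ i, W = (j i).opensRange) (fun x V hx => ?_) φ ?_
  · obtain ⟨i, h1, h2⟩ := hB x V hx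
    exact ⟨_, ⟨i, rfl⟩, h1, h2⟩
  · rintro W ⟨i, rfl⟩ m
    exact bijective_comp_of_iso (isoShriekD (j i) m) φ (h i m)

/-! ### On `Spec A` -/

/-- `A~[-m]` is `O_{Spec A}[-m]`. -/
noncomputable def isoTildeD (R : CommRingCat.{u}) [PreservesFiniteLimits (tilde.functor R)] (m : ℤ) :
    (DerivedCategory.singleFunctor (Spec R).Modules m).obj (Coh.structureModule (Spec R)) ≅
      (DCoh.tildeD R).obj ((DerivedCategory.singleFunctor (ModuleCat.{u} R) m).obj (ModuleCat.of R R)) :=
  (DerivedCategory.singleFunctor (Spec R).Modules m).mapIso (tildeSelf (R := R)).symm ≪≫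
    (((tilde.functor R).mapDerivedCategorySingleFunctor m).app _).symm

/-- On `Spec A`: a morphism `φ` is an isomorphism if `- ≫ φ` is bijective on `Hom(j_! (A_f)~[-n], -)` for all `f` and `n`
(`B f` any localization of `A` away from `f`). -/
theorem isIso_of_forall_bijective_tilde' {A : Type u} [CommRing A] (B : A → Type u) [∀ f, CommRing (B f)]
    [∀ f, Algebra A (B f)] [∀ f, IsLocalization.Away f (B f)]
    [∀ f, IsOpenImmersion (Spec.map (CommRingCat.ofHom (algebraMap A (B f))))]
    [∀ f, PreservesFiniteLimits (tilde.functor (CommRingCat.of (B f)))]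
    {M N : DCoh.D (Spec (CommRingCat.of A))} (φ : M ⟶ N)
    (h : ∀ (f : A) (n : ℤ), Function.Bijective (fun g : (Groth.Agent.PerfC.ExtZeroD.shriekD
        (Spec.map (CommRingCat.ofHom (algebraMap A (B f))))).obj
      ((DCoh.tildeD (CommRingCat.of (B f))).obj
        ((DerivedCategory.singleFunctor (ModuleCat.{u} (B f)) n).obj (ModuleCat.of (B f) (B f)))) ⟶ M => g ≫ φ)) :
    IsIso φ := by
  refine isIso_of_forall_bijective_shriek (fun f : A => Spec (CommRingCat.of (B f)))
    (fun f => Spec.map (CommRingCat.ofHom (algebraMap A (B f)))) (fun x V hx => ?_) φ fun f m => ?_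
  · obtain ⟨_, ⟨_, ⟨f, rfl⟩, rfl⟩, hxf, hfV⟩ := (PrimeSpectrum.isBasis_basic_opens (R := A)).exists_subset_of_mem_open hx V.isOpen
    have h1 : Set.range (PrimeSpectrum.comap (algebraMap A (B f))) = PrimeSpectrum.basicOpen f :=
      PrimeSpectrum.localization_away_comap_range (B f) f
    refine ⟨f, ?_, ?_⟩
    · change x ∈ Set.range (PrimeSpectrum.comap (algebraMap A (B f)))
      rw [h1]
      exact hxf
    · change Set.range (PrimeSpectrum.comap (algebraMap A (B f))) ⊆ V.carrier
      rw [h1]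
      exact hfV
  · exact bijective_comp_of_iso ((Groth.Agent.PerfC.ExtZeroD.shriekD
      (Spec.map (CommRingCat.ofHom (algebraMap A (B f))))).mapIso (isoTildeD (CommRingCat.of (B f)) m)) φ (h f m)

/-- On `Spec A`: a morphism `φ` is an isomorphism if `- ≫ φ` is bijective on `Hom(j_! (A_f)~[-n], -)` for all `f` and `n`. -/
theorem isIso_of_forall_bijective_tilde {A : Type u} [CommRing A]
    [∀ f : A, PreservesFiniteLimits (tilde.functor (CommRingCat.of (Localization.Away f)))]
    {M N : DCoh.D (Spec (CommRingCat.of A))} (φ : M ⟶ N)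
    (h : ∀ (f : A) (n : ℤ), Function.Bijective (fun g : (Groth.Agent.PerfC.ExtZeroD.shriekD
        (Spec.map (CommRingCat.ofHom (algebraMap A (Localization.Away f))))).obj
      ((DCoh.tildeD (CommRingCat.of (Localization.Away f))).obj
        ((DerivedCategory.singleFunctor (ModuleCat.{u} (Localization.Away f)) n).obj
          (ModuleCat.of (Localization.Away f) (Localization.Away f)))) ⟶ M => g ≫ φ)) :
    IsIso φ :=
  isIso_of_forall_bijective_tilde' (fun f => Localization.Away f) φ h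

end Groth.Agent.LoccohB.Detect531
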