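import Groth.Agent.LoccohB.TildeEta
import Groth.Agent.LoccohB.Detect531

/-!
# `RHom(K, L)^~ ≅ RHom(K^~, L^~)`
-/

set_option autoImplicit false
universe u
open CategoryTheory CategoryTheory.Limits AlgebraicGeometry
attribute [local instance] HasDerivedCategory.standard

namespace Groth.Agent.LoccohB.TildeEta

open PerfA PerfA.Restrict PerfC.DTens LocAbs LocHom FlatLBC TildeLocD EtaAbs LTenUnit LTen Detect531

/-- `O_X[-n]` restricts to `O_U[-n]`. -/
noncomputable def restrictSingle {X U : Scheme.{u}} (j : U ⟶ X) [IsOpenImmersion j] (n : ℤ) :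
    (DerivedCategory.singleFunctor U.Modules n).obj (Coh.structureModule U) ≅
      (restrictD j).obj ((DerivedCategory.singleFunctor X.Modules n).obj (Coh.structureModule X)) :=
  (DerivedCategory.singleFunctor U.Modules n).mapIso
    (Groth.Agent.Dcoh.Restrict.restrictUnit j).symm ≪≫
    (((Scheme.Modules.restrictFunctor j).mapDerivedCategorySingleFunctor n).app _).symm

/-- `O[-n] ≅ (A[-n])^~`. -/
noncomputable def tASingle (A : Type u) [CommRing A] (n : ℤ) :
    (DerivedCategory.singleFunctor (Spec (CommRingCat.of A)).Modules n).obj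
        (Coh.structureModule (Spec (CommRingCat.of A))) ≅
      (tA A).obj (DerivedCategory.Q.obj (sg A n)) :=
  isoTildeD (CommRingCat.of A) n ≪≫
    (tA A).mapIso ((DerivedCategory.singleFunctorIsoCompQ (ModuleCat.{u} A) n).app
      (ModuleCat.of A A))

variable {A : Type u} [CommRing A] (f : A)

/-- The two forms of `j_! O_{D(f)}[-n]`. -/
noncomputable def PfIso (n : ℤ) :
    (PerfC.ExtZeroD.shriekD (Spec.map (locHom f))).obj
      ((DCoh.tildeD (CommRingCat.of (Localization.Away f))).obj
        ((DerivedCategory.singleFunctor (ModuleCat.{u} (Localization.Away f)) n).obj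
          (ModuleCat.of (Localization.Away f) (Localization.Away f)))) ≅ Pf f n :=
  (PerfC.ExtZeroD.shriekD (Spec.map (locHom f))).mapIso
    ((isoTildeD (CommRingCat.of (Localization.Away f)) n).symm ≪≫
      restrictSingle (Spec.map (locHom f)) n ≪≫
      (restrictD (Spec.map (locHom f))).mapIso (tASingle A n))

variable (K : DRing.Cx A) [DRing.HasLTensorCx A K] [DRing.HasRHomCx K]
  (E : CochainComplex (Spec (CommRingCat.of A)).Modules ℤ) [DCoh.HasLTensorCx E]
  [DCoh.HasRSheafHom E]
  (θ : tA A ⋙ DCoh.LTensorCx E ≅ DRing.LTensorCx A K ⋙ tA A)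

/-- The comparison map is an isomorphism. -/
theorem isIso_etaT [IsNoetherianRing A]
    (hK : ∀ i : ℤ, Module.Finite A (Dual.HD A (DRing.toD K) i))
    (L : Dual.D A) (hL : DRing.HasFiniteInjDim A L) : IsIso (etaT K E θ L) :=
  isIso_of_forall_bijective_tilde _ fun f n =>
    bijective_comp_of_iso (PfIso f n) _ (bijective_Pf K E θ f hK L hL n)

end Groth.Agent.LoccohB.TildeEta
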