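import Groth.Agent.LoccohB.LTXInst
import Groth.Agent.LoccohB.AdAffine
import Groth.Agent.LoccohB.RHomVal
import Groth.Agent.LoccohB.BidualD
import Groth.Agent.S1819
import Groth.Agent.S1822

/-!
# Biduality on `Spec A` for coherent complexes of `O`-modules

`A` Noetherian, `ω` a dualizing complex of `A`, `W = ω~`.
* `isCohD_RH`: `RHom(P, W)` is in `D_Coh` for `P` in `D_Coh`;
* `nonempty_bidual`: `RHom(RHom(P, W), W) ≅ P`;
* `isZero_of_isZero_RH`: `RHom(P, W) = 0` implies `P = 0`;
* `isIso_of_retract`: a split epimorphism between abstractly isomorphic objects of `D_Coh` is an isomorphism.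
-/

set_option autoImplicit false

universe u

open CategoryTheory Category Limits AlgebraicGeometry Pretriangulated

attribute [local instance] HasDerivedCategory.standard

namespace Groth.Agent.LoccohB.BiAffine

open DCoh Groth.Agent.PerfC.DTens Groth.Agent.PerfC.RHomD

/-- `RHom(0, K) = 0`. -/
theorem isZero_RH {X : Scheme.{u}} {Z : D X} (hZ : IsZero Z) (K : D X) : IsZero ((RH Z).obj K) := by
  rw [IsZero.iff_id_eq_zero]
  apply ((rhAdj Z).homEquiv _ K).symm.injective
  have hz : IsZero (((LTX X).obj ((RH Z).obj K)).obj Z) := by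
    have := (isTriang_LTX_obj ((RH Z).obj K)).additive
    exact Functor.map_isZero _ hZ
  exact IsZero.eq_of_src hz _ _

section Affine

variable (A : Type u) [CommRing A] [IsNoetherianRing A]
  [PreservesFiniteLimits (tilde.functor (CommRingCat.of A))] (ω : Dual.D A)

lemma hasFiniteInjDim (hω : Dual.IsDualizing A ω) : DRing.HasFiniteInjDim A ω := by
  obtain ⟨I, a, b, hI, ⟨e⟩⟩ := BidualD.exists_model ω hω
  have h1 := hI.isStrictlyGE
  have h2 := hI.isStrictlyLE
  refine ⟨a, b, I, fun i hi => ?_, fun i => ?_, ⟨e⟩⟩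
  · rcases hi with hi | hi
    · exact CochainComplex.isZero_of_isStrictlyGE I a i hi
    · exact CochainComplex.isZero_of_isStrictlyLE I b i hi
  · have := hI.injective i
    exact Module.injective_module_of_injective_object A (I.X i)

/-- `RHom(K~, ω~) = RHom(K, ω)~`. -/
theorem nonempty_RH_tilde (hω : Dual.IsDualizing A ω) (K : DRing.Cx A) [DRing.HasRHomCx K]
    (hK : ∀ i : ℤ, Module.Finite A (Dual.HD A (DRing.toD K) i)) {P : D (Spec (CommRingCat.of A))}
    (e : P ≅ (tildeD (CommRingCat.of A)).obj (DRing.toD K)) :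
    Nonempty ((RH P).obj ((tildeD (CommRingCat.of A)).obj ω) ≅
      (tildeD (CommRingCat.of A)).obj ((DRing.RHomCx K).obj ω)) := by
  let E : CochainComplex (Spec (CommRingCat.of A)).Modules ℤ := DerivedCategory.Q.objPreimage P
  let eE : DerivedCategory.Q.obj E ≅ P := DerivedCategory.Q.objObjPreimageIso P
  have := hasLTensorCx E
  have := hasRSheafHom E
  obtain ⟨i⟩ := S1822.result A K hK ω (hasFiniteInjDim A ω hω) E ⟨eE ≪≫ e⟩
  exact ⟨rhIso eE _ ≪≫ ((rsIso E).app _).symm ≪≫ i⟩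

omit [IsNoetherianRing A] in
/-- Coherent objects on `Spec A` come from complexes of modules. -/
theorem exists_model {P : D (Spec (CommRingCat.of A))} (hP : IsQCohD P) :
    ∃ K : DRing.Cx A, Nonempty (P ≅ (tildeD (CommRingCat.of A)).obj (DRing.toD K)) := by
  obtain ⟨M, ⟨e⟩⟩ := ((S0997.result (CommRingCat.of A)).2.2 P).1 hP
  exact ⟨DerivedCategory.Q.objPreimage M,
    ⟨e.symm ≪≫ (tildeD (CommRingCat.of A)).mapIso (DerivedCategory.Q.objObjPreimageIso M).symm⟩⟩

lemma finite_of_iso {P : D (Spec (CommRingCat.of A))} (hP : IsCohD P) (K : DRing.Cx A)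
    (e : P ≅ (tildeD (CommRingCat.of A)).obj (DRing.toD K)) (i : ℤ) :
    Module.Finite A (Dual.HD A (DRing.toD K) i) :=
  (AdAffine.isCohD_tilde_iff (P := CommRingCat.of A) (DRing.toD K)).1
    (Groth.Agent.PerfA.QCohD.isCohD_of_iso e hP) i

/-- `RHom(P, ω~)` is coherent and `RHom(RHom(P, ω~), ω~) ≅ P`. -/
theorem main (hω : Dual.IsDualizing A ω) {P : D (Spec (CommRingCat.of A))} (hP : IsCohD P) :
    IsCohD ((RH P).obj ((tildeD (CommRingCat.of A)).obj ω)) ∧
      Nonempty ((RH ((RH P).obj ((tildeD (CommRingCat.of A)).obj ω))).obj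
        ((tildeD (CommRingCat.of A)).obj ω) ≅ P) := by
  obtain ⟨K, ⟨e⟩⟩ := exists_model A (Groth.Agent.PerfA.QCohD.isQCohD_of_isCohD hP)
  have hK := finite_of_iso A hP K e
  have := RHomVal.hasRHomCx K
  obtain ⟨i1⟩ := nonempty_RH_tilde A ω hω K hK e
  obtain ⟨h1, h2⟩ := S1819.result A ω hω K hK
  have hc : IsCohD ((RH P).obj ((tildeD (CommRingCat.of A)).obj ω)) :=
    Groth.Agent.PerfA.QCohD.isCohD_of_iso i1.symm
      ((AdAffine.isCohD_tilde_iff (P := CommRingCat.of A) ((DRing.RHomCx K).obj ω)).2 h1)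
  refine ⟨hc, ?_⟩
  let K1 : DRing.Cx A := DerivedCategory.Q.objPreimage ((DRing.RHomCx K).obj ω)
  let e1 : DRing.toD K1 ≅ (DRing.RHomCx K).obj ω := DerivedCategory.Q.objObjPreimageIso _
  have := RHomVal.hasRHomCx K1
  let i2 : (RH P).obj ((tildeD (CommRingCat.of A)).obj ω) ≅
      (tildeD (CommRingCat.of A)).obj (DRing.toD K1) :=
    i1 ≪≫ (tildeD (CommRingCat.of A)).mapIso e1.symm
  obtain ⟨i3⟩ := nonempty_RH_tilde A ω hω K1 (finite_of_iso A hc K1 i2) i2
  obtain ⟨i4⟩ := h2 K1 ⟨e1⟩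
  exact ⟨i3 ≪≫ (tildeD (CommRingCat.of A)).mapIso i4 ≪≫ e.symm⟩

/-- `RHom(P, ω~) = 0` implies `P = 0`. -/
theorem isZero_of_isZero_RH (hω : Dual.IsDualizing A ω) {P : D (Spec (CommRingCat.of A))}
    (hP : IsCohD P) (h : IsZero ((RH P).obj ((tildeD (CommRingCat.of A)).obj ω))) : IsZero P := by
  obtain ⟨e⟩ := (main A ω hω hP).2
  exact (isZero_RH h _).of_iso e.symm

omit [IsNoetherianRing A] [PreservesFiniteLimits (tilde.functor (CommRingCat.of A))] in
/-- A split epimorphism `M ⟶ M` in `D(A)` is an isomorphism if `M` has finite cohomology. -/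
theorem isIso_of_split {M : DerivedCategory (ModuleCat.{u} A)} (i p : M ⟶ M) (h : i ≫ p = 𝟙 M)
    (hM : ∀ n : ℤ, Module.Finite A ((DerivedCategory.homologyFunctor (ModuleCat.{u} A) n).obj M)) :
    IsIso p := by
  rw [DerivedCategory.isIso_iff]
  intro n
  have := hM n
  have h1 : (DerivedCategory.homologyFunctor (ModuleCat.{u} A) n).map i ≫
      (DerivedCategory.homologyFunctor (ModuleCat.{u} A) n).map p = 𝟙 _ := by
    rw [← Functor.map_comp, h, CategoryTheory.Functor.map_id]
  have h2 : Function.Surjective ((DerivedCategory.homologyFunctor (ModuleCat.{u} A) n).map p).hom := by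
    intro x
    refine ⟨((DerivedCategory.homologyFunctor (ModuleCat.{u} A) n).map i).hom x, ?_⟩
    rw [← ModuleCat.comp_apply, h1]
    rfl
  rw [ConcreteCategory.isIso_iff_bijective]
  exact ⟨OrzechProperty.injective_of_surjective_endomorphism _ h2, h2⟩

/-- A split epimorphism between isomorphic coherent objects is an isomorphism. -/
theorem isIso_of_retract {P P' : D (Spec (CommRingCat.of A))} (hP : IsCohD P) (e : P' ≅ P)
    (i : P ⟶ P') (p : P' ⟶ P) (h : i ≫ p = 𝟙 P) : IsIso p := by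
  obtain ⟨K, ⟨f⟩⟩ := exists_model A (Groth.Agent.PerfA.QCohD.isQCohD_of_isCohD hP)
  have hfull := (S0997.result (CommRingCat.of A)).1
  have hfaith := (S0997.result (CommRingCat.of A)).2.1
  obtain ⟨i0, hi0⟩ := (tildeD (CommRingCat.of A)).map_surjective (f.inv ≫ i ≫ e.hom ≫ f.hom)
  obtain ⟨p0, hp0⟩ := (tildeD (CommRingCat.of A)).map_surjective (f.inv ≫ e.inv ≫ p ≫ f.hom)
  have h0 : i0 ≫ p0 = 𝟙 _ := by
    apply (tildeD (CommRingCat.of A)).map_injective
    rw [Functor.map_comp, hi0, hp0, CategoryTheory.Functor.map_id]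
    simp [reassoc_of% h]
  have := isIso_of_split A i0 p0 h0 (finite_of_iso A hP K f)
  have h1 : IsIso (f.inv ≫ e.inv ≫ p ≫ f.hom) := by
    rw [← hp0]
    infer_instance
  have h2 : IsIso (e.inv ≫ p ≫ f.hom) := IsIso.of_isIso_comp_left f.inv _
  have h3 : IsIso (p ≫ f.hom) := IsIso.of_isIso_comp_left e.inv _
  exact IsIso.of_isIso_comp_right p f.hom

end Affine

end Groth.Agent.LoccohB.BiAffine
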