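import Mathlib.CategoryTheory.Triangulated.Pretriangulated
import Mathlib.CategoryTheory.Triangulated.Yoneda

/-!
# Formal biduality

`T : C ⥤ C ⥤ C` is a bifunctor with a natural isomorphism `s : T ≅ T.flip` (no involutivity needed), `K` an
object.  `IsDual T ev`, `ev : T(M, L) ⟶ K`: the object `M` represents `F ↦ Hom(T(F, L), K)`, that is
`M = RHom(L, K)`.

* `exists_retract`: if `M = L^∨`, `M' = M^∨`, `M'' = M'^∨` then there are `η : L ⟶ M'`, `p : M'' ⟶ M`
  (the dual of `η`) and `i : M ⟶ M''` with `i ≫ p = 𝟙`;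
* `isZero_dual_cone`: if the dual of `η` is an isomorphism then the dual of the cone of `η` is zero.
-/

set_option autoImplicit false

open CategoryTheory Category Limits Pretriangulated

namespace Groth.Agent.LoccohB.BiFormal

universe v u

section

variable {C : Type u} [Category.{v} C] (T : C ⥤ C ⥤ C)

/-- `ev : T(M, L) ⟶ K` is universal: `M` represents the functor `F ↦ Hom(T(F, L), K)`. -/
def IsDual {K L M : C} (ev : (T.obj M).obj L ⟶ K) : Prop :=
  ∀ F : C, Function.Bijective (fun g : F ⟶ M => (T.map g).app L ≫ ev)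

variable {T}

lemma IsDual.exists_lift {K L M : C} {ev : (T.obj M).obj L ⟶ K} (h : IsDual T ev) {F : C}
    (b : (T.obj F).obj L ⟶ K) : ∃ g : F ⟶ M, (T.map g).app L ≫ ev = b :=
  (h F).surjective b

lemma IsDual.hom_ext {K L M : C} {ev : (T.obj M).obj L ⟶ K} (h : IsDual T ev) {F : C}
    {g g' : F ⟶ M} (hg : (T.map g).app L ≫ ev = (T.map g').app L ≫ ev) : g = g' :=
  (h F).injective hg

/-- Change of the represented object. -/
lemma IsDual.of_iso {K L M M' : C} {ev : (T.obj M).obj L ⟶ K} (h : IsDual T ev) (e : M' ≅ M) :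
    IsDual T ((T.map e.hom).app L ≫ ev) := by
  intro F
  have h1 : (fun g : F ⟶ M' => (T.map g).app L ≫ (T.map e.hom).app L ≫ ev) =
      (fun g : F ⟶ M => (T.map g).app L ≫ ev) ∘ (fun g : F ⟶ M' => g ≫ e.hom) := by
    funext g
    dsimp only [Function.comp]
    rw [Functor.map_comp, NatTrans.comp_app, assoc]
  rw [h1]
  refine (h F).comp ⟨fun a b hab => (cancel_mono e.hom).1 hab, fun b => ⟨b ≫ e.inv, by simp⟩⟩

/-- Two duals are isomorphic. -/
lemma IsDual.exists_iso {K L M M' : C} {ev : (T.obj M).obj L ⟶ K} (h : IsDual T ev)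
    {ev' : (T.obj M').obj L ⟶ K} (h' : IsDual T ev') :
    ∃ e : M ≅ M', (T.map e.hom).app L ≫ ev' = ev := by
  obtain ⟨a, ha⟩ := h'.exists_lift ev
  obtain ⟨b, hb⟩ := h.exists_lift ev'
  refine ⟨⟨a, b, h.hom_ext ?_, h'.hom_ext ?_⟩, ha⟩
  · rw [Functor.map_comp, NatTrans.comp_app, assoc, hb, ha]
    simp
  · rw [Functor.map_comp, NatTrans.comp_app, assoc, ha, hb]
    simp

variable (s : T ≅ T.flip)

include s in
/-- The formal part of biduality. -/
theorem exists_retract {K L M M' M'' : C} {ev : (T.obj M).obj L ⟶ K} (h : IsDual T ev)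
    {ev' : (T.obj M').obj M ⟶ K} (h' : IsDual T ev')
    {ev'' : (T.obj M'').obj M' ⟶ K} (h'' : IsDual T ev'') :
    ∃ (η : L ⟶ M') (p : M'' ⟶ M) (i : M ⟶ M''), i ≫ p = 𝟙 M ∧
      (T.map p).app L ≫ ev = (T.obj M'').map η ≫ ev'' := by
  obtain ⟨η, hη⟩ := h'.exists_lift ((s.hom.app L).app M ≫ ev)
  obtain ⟨p, hp⟩ := h.exists_lift ((T.obj M'').map η ≫ ev'')
  obtain ⟨i, hi⟩ := h''.exists_lift ((s.inv.app M').app M ≫ ev')
  refine ⟨η, p, i, h.hom_ext ?_, hp⟩
  have n1 : (T.map i).app L ≫ (T.obj M'').map η = (T.obj M).map η ≫ (T.map i).app M' :=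
    ((T.map i).naturality η).symm
  have n2 : (T.obj M).map η ≫ (s.inv.app M').app M = (s.inv.app L).app M ≫ (T.map η).app M :=
    congrArg (fun t => NatTrans.app t M) (s.inv.naturality η)
  have n3 : (s.inv.app L).app M ≫ (s.hom.app L).app M = 𝟙 _ := by
    rw [← NatTrans.comp_app, ← NatTrans.comp_app, s.inv_hom_id]
    rfl
  rw [Functor.map_comp, NatTrans.comp_app, assoc, hp, reassoc_of% n1, hi, reassoc_of% n2, hη,
    reassoc_of% n3]
  simp

end

section Tri

variable {C : Type u} [Category.{v} C] [HasZeroObject C] [HasShift C ℤ] [Preadditive C]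
  [∀ n : ℤ, (shiftFunctor C n).Additive] [Pretriangulated C] {T : C ⥤ C ⥤ C}

/-- Precomposition with the unit of biduality is bijective if its dual is an isomorphism. -/
lemma bijective_comp {K L M M' M'' : C} {ev : (T.obj M).obj L ⟶ K} (h : IsDual T ev)
    {ev'' : (T.obj M'').obj M' ⟶ K} (h'' : IsDual T ev'') (η : L ⟶ M') (p : M'' ⟶ M) [IsIso p]
    (hp : (T.map p).app L ≫ ev = (T.obj M'').map η ≫ ev'') (F : C) :
    Function.Bijective (fun b : (T.obj F).obj M' ⟶ K => (T.obj F).map η ≫ b) := by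
  have h1 : (fun b : (T.obj F).obj M' ⟶ K => (T.obj F).map η ≫ b) ∘
      (fun g : F ⟶ M'' => (T.map g).app M' ≫ ev'') =
      (fun g : F ⟶ M => (T.map g).app L ≫ ev) ∘ (fun g : F ⟶ M'' => g ≫ p) := by
    funext g
    dsimp only [Function.comp]
    rw [Functor.map_comp, NatTrans.comp_app, assoc, hp]
    exact (T.map g).naturality_assoc η ev''
  have h2 : Function.Bijective ((fun b : (T.obj F).obj M' ⟶ K => (T.obj F).map η ≫ b) ∘
      (fun g : F ⟶ M'' => (T.map g).app M' ≫ ev'')) := by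
    rw [h1]
    exact (h F).comp ⟨fun a b hab => (cancel_mono p).1 hab, fun b => ⟨b ≫ inv p, by simp⟩⟩
  exact (Function.Bijective.of_comp_iff _ (h'' F)).1 h2

/-- If the dual of `η : L ⟶ L^∨∨` is an isomorphism then the dual of the cone of `η` is zero. -/
theorem isZero_dual_cone (hT : ∀ F : C, ∃ (_ : (T.obj F).CommShift ℤ), (T.obj F).IsTriangulated)
    (hs : ∀ F : C, Nonempty (T.obj (F⟦(1 : ℤ)⟧) ≅ T.obj F ⋙ shiftFunctor C (1 : ℤ)))
    {K L M M' M'' : C} {ev : (T.obj M).obj L ⟶ K} (h : IsDual T ev)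
    {ev'' : (T.obj M'').obj M' ⟶ K} (h'' : IsDual T ev'') (η : L ⟶ M') (p : M'' ⟶ M) [IsIso p]
    (hp : (T.map p).app L ≫ ev = (T.obj M'').map η ≫ ev'')
    {Z : C} (g : M' ⟶ Z) (δ : Z ⟶ L⟦(1 : ℤ)⟧) (hΔ : Triangle.mk η g δ ∈ distTriang C)
    {N : C} {evN : (T.obj N).obj Z ⟶ K} (hN : IsDual T evN) : IsZero N := by
  have key := bijective_comp h h'' η p hp
  have zero : ∀ (F : C) (x : (T.obj F).obj Z ⟶ K), x = 0 := by
    intro F x
    obtain ⟨_, _⟩ := hT F
    have e0 : (T.obj F).map g ≫ x = 0 := by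
      apply (key F).injective
      dsimp only
      have hz : η ≫ g = 0 := comp_distTriang_mor_zero₁₂ _ hΔ
      rw [← Functor.map_comp_assoc, hz, Functor.map_zero, zero_comp, comp_zero]
    obtain ⟨z, hz⟩ : ∃ z : (T.obj F).obj (L⟦(1 : ℤ)⟧) ⟶ K, x = (T.obj F).map δ ≫ z := by
      obtain ⟨z, hz⟩ := Triangle.yoneda_exact₂ _
        ((T.obj F).map_distinguished _ (rot_of_distTriang _ hΔ)) x e0
      exact ⟨z, hz⟩
    obtain ⟨α⟩ := hs F
    obtain ⟨w, hw⟩ := (key (F⟦(1 : ℤ)⟧)).surjective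
      (α.hom.app L ≫ ((T.obj F).commShiftIso (1 : ℤ)).inv.app L ≫ z)
    dsimp only at hw
    have hz' : z = (T.obj F).map (η⟦(1 : ℤ)⟧') ≫ ((T.obj F).commShiftIso (1 : ℤ)).hom.app M' ≫
        α.inv.app M' ≫ w := by
      have n1 : (T.obj F).map (η⟦(1 : ℤ)⟧') ≫ ((T.obj F).commShiftIso (1 : ℤ)).hom.app M' =
          ((T.obj F).commShiftIso (1 : ℤ)).hom.app L ≫ ((T.obj F).map η)⟦(1 : ℤ)⟧' :=
        ((T.obj F).commShiftIso (1 : ℤ)).hom.naturality η
      have n2 : ((T.obj F).map η)⟦(1 : ℤ)⟧' ≫ α.inv.app M' =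
          α.inv.app L ≫ (T.obj (F⟦(1 : ℤ)⟧)).map η := α.inv.naturality η
      rw [reassoc_of% n1, reassoc_of% n2, hw]
      simp
    have hδ : δ ≫ η⟦(1 : ℤ)⟧' = 0 := comp_distTriang_mor_zero₃₁ _ hΔ
    rw [hz, hz', ← Functor.map_comp_assoc, hδ, Functor.map_zero, zero_comp]
  rw [IsZero.iff_id_eq_zero]
  exact hN.hom_ext ((zero N _).trans (zero N _).symm)

end Tri

end Groth.Agent.LoccohB.BiFormal
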