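import Groth.Agent.LoccohB.BiAffine
import Groth.Agent.PerfA.CohExtGlue
import Groth.Prelude.Def_DualSch

/-!
# Biduality on a locally Noetherian scheme
-/

set_option autoImplicit false

universe u

open CategoryTheory Category Limits AlgebraicGeometry Pretriangulated

attribute [local instance] HasDerivedCategory.standard

namespace Groth.Agent.LoccohB.BiGlobal

open DCoh Groth.Agent.PerfC.DTens Groth.Agent.PerfC.RHomD Groth.Agent.PerfA.Restrict

/-- Every point of a scheme has an affine open neighbourhood. -/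
lemma exists_affine (X : Scheme.{u}) (x : X) : ∃ (A : Type u) (_ : CommRing A)
    (j : Spec (CommRingCat.of A) ⟶ X) (_ : IsOpenImmersion j) (y : Spec (CommRingCat.of A)), j y = x := by
  obtain ⟨V, hV, hx, -⟩ := exists_isAffineOpen_mem_and_subset (U := (⊤ : X.Opens)) (x := x) trivial
  refine ⟨Γ(X, V), inferInstance, hV.fromSpec, inferInstanceAs (IsOpenImmersion hV.fromSpec), ?_⟩
  have : x ∈ Set.range hV.fromSpec := by
    rw [hV.range_fromSpec]
    exact hx
  exact this

lemma isNoetherianRing_of_isOpenImmersion {X : Scheme.{u}} [IsLocallyNoetherian X] (A : Type u)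
    [CommRing A] (j : Spec (CommRingCat.of A) ⟶ X) [IsOpenImmersion j] : IsNoetherianRing A := by
  have := isLocallyNoetherian_of_isOpenImmersion j
  exact isLocallyNoetherian_Spec.1 this

variable {X : Scheme.{u}} [IsLocallyNoetherian X]
  [∀ (U : Scheme.{u}) (j : U ⟶ X) [IsOpenImmersion j],
    PreservesFiniteLimits (Scheme.Modules.restrictFunctor j)]
  [∀ (R : CommRingCat.{u}), PreservesFiniteLimits (tilde.functor R)]
  {K : DCoh.D X} (hK : Dual2.IsDualizingSch X K)

include hK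

/-- `RHom(L, K)` is coherent. -/
theorem isCohD_RH {L : D X} (hL : IsCohD L) : IsCohD ((RH L).obj K) := by
  refine Groth.Agent.PerfA.CohExtGlue.isCohD_of_restrictD _ fun x => ?_
  obtain ⟨A, _, j, _, y, hy⟩ := exists_affine X x
  have := isNoetherianRing_of_isOpenImmersion A j
  obtain ⟨ω, hω, ⟨e⟩⟩ := hK A j
  obtain ⟨i⟩ := nonempty_rhRes j L K
  exact ⟨_, j, inferInstance, y, hy, Groth.Agent.PerfA.QCohD.isCohD_of_iso
    (i ≪≫ (RH _).mapIso e).symm
    (BiAffine.main A ω hω (Groth.Agent.PerfA.QCohD.isCohD_restrictD j hL)).1⟩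

/-- Vanishing is detected by the dual. -/
theorem isZero_of_isZero_RH {Z : D X} (hZ : IsCohD Z) (h : IsZero ((RH Z).obj K)) : IsZero Z := by
  rw [Groth.Agent.PerfA.ExactD.isZero_iff]
  intro n
  refine isZero_of_restrict _ fun x => ?_
  obtain ⟨A, _, j, _, y, hy⟩ := exists_affine X x
  have := isNoetherianRing_of_isOpenImmersion A j
  obtain ⟨ω, hω, ⟨e⟩⟩ := hK A j
  obtain ⟨i⟩ := nonempty_rhRes j Z K
  have h1 : IsZero ((DCoh.restrictD j).obj Z) :=
    BiAffine.isZero_of_isZero_RH A ω hω (Groth.Agent.PerfA.QCohD.isCohD_restrictD j hZ)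
      (((DCoh.restrictD j).map_isZero h).of_iso (i ≪≫ (RH _).mapIso e).symm)
  exact ⟨_, j, inferInstance, y, hy, (Functor.map_isZero (DerivedCategory.homologyFunctor _ n) h1).of_iso
    (HDrestrict j Z n).symm⟩

/-- `RHom(RHom(L, K), K)` is locally isomorphic to `L`. -/
theorem nonempty_bidual_restrict {L : D X} (hL : IsCohD L) (A : Type u) [CommRing A]
    [IsNoetherianRing A] (j : Spec (CommRingCat.of A) ⟶ X) [IsOpenImmersion j] :
    Nonempty ((DCoh.restrictD j).obj ((RH ((RH L).obj K)).obj K) ≅ (DCoh.restrictD j).obj L) := by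
  obtain ⟨ω, hω, ⟨e⟩⟩ := hK A j
  obtain ⟨i1⟩ := nonempty_rhRes j ((RH L).obj K) K
  obtain ⟨i2⟩ := nonempty_rhRes j L K
  obtain ⟨i3⟩ := (BiAffine.main A ω hω (Groth.Agent.PerfA.QCohD.isCohD_restrictD j hL)).2
  exact ⟨i1 ≪≫ (RH _).mapIso e ≪≫ rhIso (i2 ≪≫ (RH _).mapIso e).symm _ ≪≫ i3⟩

/-- **Biduality.** `RHom(RHom(L, K), K) ≅ L`. -/
theorem nonempty_bidual {L : D X} (hL : IsCohD L) :
    Nonempty ((RH ((RH L).obj K)).obj K ≅ L) := by
  obtain ⟨η, p, i, hip, hp⟩ := LTXInst.exists_retract L K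
  have hDL := isCohD_RH hK hL
  have hDDL := isCohD_RH hK hDL
  have hiso : IsIso p := by
    rw [DerivedCategory.isIso_iff]
    intro n
    refine isIso_of_restrict _ fun x => ?_
    obtain ⟨A, _, j, _, y, hy⟩ := exists_affine X x
    have := isNoetherianRing_of_isOpenImmersion A j
    obtain ⟨e⟩ := nonempty_bidual_restrict hK hDL A j
    have h1 : (DCoh.restrictD j).map i ≫ (DCoh.restrictD j).map p = 𝟙 _ := by
      rw [← Functor.map_comp, hip, CategoryTheory.Functor.map_id]
    have h2 : IsIso ((DCoh.restrictD j).map p) :=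
      BiAffine.isIso_of_retract A (Groth.Agent.PerfA.QCohD.isCohD_restrictD j hDL) e _ _ h1
    refine ⟨_, j, inferInstance, y, hy, ?_⟩
    exact (NatIso.isIso_map_iff (Groth.Agent.PerfA.ExactD.mapHomology (Scheme.Modules.restrictFunctor j) n) p).1
      (inferInstanceAs (IsIso ((DerivedCategory.homologyFunctor _ n).map ((DCoh.restrictD j).map p))))
  obtain ⟨Z, g, δ, hΔ⟩ := distinguished_cocone_triangle η
  have hZ : IsCohD Z := Groth.Agent.PerfA.QCohD.isCohD_ext₃ _ hΔ hL hDDL
  have h0 : IsZero Z := isZero_of_isZero_RH hK hZ (LTXInst.isZero_dual_cone L K η p hp g δ hΔ)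
  have : IsIso η := (Triangle.isZero₃_iff_isIso₁ _ hΔ).1 h0
  exact ⟨(asIso η).symm⟩

end Groth.Agent.LoccohB.BiGlobal
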