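import Groth.Agent.LoccohB.HomCxBase
import Groth.Agent.LoccohB.ConeRes

/-!
# Biduality for complexes with finite cohomology (Stacks 0A7C), chain level

Let `A` be Noetherian and `I` a bounded complex of injectives such that the evaluation map of `A[0]` is a
quasi-isomorphism.  Then `ev K I : K ⟶ Hom•(Hom•(K, I), I)` is a quasi-isomorphism for every complex `K` with finite
cohomology modules.
-/

universe v u

open CategoryTheory CategoryTheory.Limits CochainComplex CochainComplex.HomComplex
  HomologicalComplex ZeroObject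

attribute [local instance] HasDerivedCategory.standard

namespace Groth.Agent.LoccohB.HomCx

variable {A : Type u} [CommRing A]

lemma isIso_homologyMap_of_exactAt {K L : DRing.Cx A} (f : K ⟶ L) (j : ℤ) (hK : K.ExactAt j)
    (hL : L.ExactAt j) : IsIso (homologyMap f j) := by
  rw [← quasiIsoAt_iff_isIso_homologyMap, quasiIsoAt_iff_exactAt _ _ hK]
  exact hL

section

variable (I : DRing.Cx A) [I.IsKInjective]

lemma dd_isLE (K : DRing.Cx A) (a b n m : ℤ) (h : b + n ≤ m + a) [K.IsLE n] [I.IsStrictlyGE a]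
    [I.IsStrictlyLE b] : (DRing.homCx (DRing.homCx K I) I).IsLE m := by
  have := homCx_isGE K I a n (a - n) (by lia)
  exact homCx_isLE (DRing.homCx K I) I b (a - n) m (by lia)

lemma dd_isGE (K : DRing.Cx A) (a b n m : ℤ) (h : m + b ≤ a + n) [K.IsGE n] [I.IsStrictlyGE a]
    [I.IsStrictlyLE b] : (DRing.homCx (DRing.homCx K I) I).IsGE m := by
  have := homCx_isLE K I b n (b - n) (by lia)
  exact homCx_isGE (DRing.homCx K I) I a (b - n) m (by lia)

variable [IsNoetherianRing A] (hI : ∀ n, Injective (I.X n)) (a b : ℤ) [I.IsStrictlyGE a]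
  [I.IsStrictlyLE b] (hev : QuasiIso (ev (S0 A) I)) (N : ℕ) (hN : b ≤ a + N)

include hI hev hN in
lemma isIso_ev_of_isLE (m : ℕ) : ∀ (n : ℤ) (K : DRing.Cx A) [K.IsLE n]
    (_ : ∀ i, Module.Finite A (K.homology i)) (j : ℤ) (_ : n + N - m < j),
    IsIso (homologyMap (ev K I) j) := by
  induction m with
  | zero =>
    intro n K _ _ j hj
    have := dd_isLE I K a b n (n + N) (by lia)
    exact isIso_homologyMap_of_exactAt _ _ (K.exactAt_of_isLE n j (by lia))
      (CochainComplex.exactAt_of_isLE _ (n + N) j (by simpa using hj))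
  | succ m ih =>
    have hepi : ∀ (n : ℤ) (K : DRing.Cx A) [K.IsLE n]
        (_ : ∀ i, Module.Finite A (K.homology i)) (j : ℤ) (_ : n + N - (m + 1 : ℕ) < j),
        Epi (homologyMap (ev K I) j) := by
      intro n K _ hK j hj
      obtain ⟨k, φ, hC, hCf⟩ := ConeRes.exists_cone K n hK
      have hS := cone_shortExact φ
      have h2 := ih (n - 1) (mappingCone φ) hCf j (by push_cast at hj; lia)
      have h3 : QuasiIso (ev ((ConeRes.freeAt A n k)⟦(1 : ℤ)⟧) I) :=
        quasiIso_ev_shift I hI (quasiIso_ev_single_free I hI hev n k)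
      exact HomSeqLem.epi_homologyMap_τ₁ (evSC (mappingCone.triangleRotateShortComplex φ) I)
        hS (ddSC_shortExact hS I hI) (j - 1) j (by simp)
        (by change Epi (homologyMap (ev ((ConeRes.freeAt A n k)⟦(1 : ℤ)⟧) I) _); infer_instance)
        (by change Epi (homologyMap (ev (mappingCone φ) I) _); infer_instance)
        (by change Mono (homologyMap (ev ((ConeRes.freeAt A n k)⟦(1 : ℤ)⟧) I) _); infer_instance)
    intro n K _ hK j hj
    have := hepi n K hK j hj
    obtain ⟨k, φ, hC, hCf⟩ := ConeRes.exists_cone K n hK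
    have hS := cone_shortExact φ
    have h2 := ih (n - 1) (mappingCone φ) hCf j (by push_cast at hj; lia)
    have h2' := hepi (n - 1) (mappingCone φ) hCf (j - 1) (by push_cast at hj ⊢; lia)
    have h3 : QuasiIso (ev ((ConeRes.freeAt A n k)⟦(1 : ℤ)⟧) I) :=
      quasiIso_ev_shift I hI (quasiIso_ev_single_free I hI hev n k)
    have : Mono (homologyMap (ev K I) j) :=
      HomSeqLem.mono_homologyMap_τ₁ (evSC (mappingCone.triangleRotateShortComplex φ) I)
        hS (ddSC_shortExact hS I hI) (j - 1) j (by simp)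
        (by change Epi (homologyMap (ev (mappingCone φ) I) _); infer_instance)
        (by change Mono (homologyMap (ev ((ConeRes.freeAt A n k)⟦(1 : ℤ)⟧) I) _); infer_instance)
        (by change Mono (homologyMap (ev (mappingCone φ) I) _); infer_instance)
    exact isIso_of_mono_of_epi _

omit [IsNoetherianRing A] in
lemma isIso_homologyMap_τ₂ {S₁ S₂ : ShortComplex (DRing.Cx A)} (φ : S₁ ⟶ S₂) (j : ℤ)
    (h1 : IsIso (homologyMap S₁.f j)) (h2 : IsIso (homologyMap S₂.f j))
    (h3 : IsIso (homologyMap φ.τ₁ j)) : IsIso (homologyMap φ.τ₂ j) := by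
  have h4 : homologyMap φ.τ₁ j ≫ homologyMap S₂.f j =
      homologyMap S₁.f j ≫ homologyMap φ.τ₂ j := by
    rw [← homologyMap_comp, ← homologyMap_comp, φ.comm₁₂]
  have h5 : IsIso (homologyMap S₁.f j ≫ homologyMap φ.τ₂ j) := by
    rw [← h4]; infer_instance
  exact IsIso.of_isIso_comp_left (homologyMap S₁.f j) _

omit [IsNoetherianRing A] in
lemma truncLE_X₃_exactAt (K : DRing.Cx A) (n q : ℤ) (hq : q ≤ n) :
    (K.shortComplexTruncLE n).X₃.ExactAt q := by
  obtain ⟨k, hk⟩ := Int.le.dest hq
  have h := (HomologicalComplex.shortComplexTruncLE_X₃_isSupportedOutside K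
    (ComplexShape.embeddingUpIntLE n)).exactAt k
  have e : (ComplexShape.embeddingUpIntLE n).f k = q := by
    simp only [ComplexShape.embeddingUpIntLE_f]; lia
  rwa [e] at h

omit [IsNoetherianRing A] in
lemma truncLE_X₃_isGE (K : DRing.Cx A) (n : ℤ) : (K.shortComplexTruncLE n).X₃.IsGE (n + 1) := by
  rw [CochainComplex.isGE_iff]
  intro i hi
  exact truncLE_X₃_exactAt K n i (by lia)

include a b hI hev in
lemma quasiIso_ev_of_isLE (n : ℤ) (K : DRing.Cx A) [K.IsLE n]
    (hK : ∀ i, Module.Finite A (K.homology i)) : QuasiIso (ev K I) := by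
  rw [quasiIso_iff]
  intro j
  rw [quasiIsoAt_iff_isIso_homologyMap]
  exact isIso_ev_of_isLE I hI a b hev (b - a).toNat (by lia)
    (n + (b - a).toNat - j + 1).toNat n K hK j (by lia)

omit [IsNoetherianRing A] in
lemma finite_homology_truncLE (K : DRing.Cx A) (hK : ∀ i, Module.Finite A (K.homology i))
    (n i : ℤ) : Module.Finite A ((K.truncLE n).homology i) := by
  by_cases hi : i ≤ n
  · have : QuasiIsoAt (K.ιTruncLE n) i := K.quasiIsoAt_ιTruncLE n i hi
    exact ConeRes.finite_of_iso (asIso (homologyMap (K.ιTruncLE n) i)).symm (hK i)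
  · exact ConeRes.finite_of_isZero
      ((K.truncLE n).exactAt_of_isLE n i (by lia)).isZero_homology

include a b hI hev in
/-- Chain-level biduality: the evaluation map `K ⟶ Hom•(Hom•(K, I), I)` is a quasi-isomorphism for every complex `K`
with finite cohomology modules. -/
theorem quasiIso_ev (K : DRing.Cx A) (hK : ∀ i, Module.Finite A (K.homology i)) :
    QuasiIso (ev K I) := by
  rw [quasiIso_iff]
  intro j
  rw [quasiIsoAt_iff_isIso_homologyMap]
  set n : ℤ := j + (b - a).toNat + 2 with hn
  have hS := K.shortComplexTruncLE_shortExact n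
  have hS' := ddSC_shortExact hS I hI
  have hX3 := truncLE_X₃_isGE K n
  have hX3' : (homCxSC (homCxSC (K.shortComplexTruncLE n) I) I).X₃.IsGE (j + 1) :=
    dd_isGE I (K.shortComplexTruncLE n).X₃ a b (n + 1) (j + 1) (by lia)
  have h1 : IsIso (homologyMap (K.shortComplexTruncLE n).f j) :=
    ConeRes.isIso_homologyMap_f hS (j - 1) j (by lia)
      (CochainComplex.exactAt_of_isGE _ (n + 1) _ (by lia))
      (CochainComplex.exactAt_of_isGE _ (n + 1) _ (by lia))
  have h2 : IsIso (homologyMap (homCxSC (homCxSC (K.shortComplexTruncLE n) I) I).f j) :=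
    ConeRes.isIso_homologyMap_f hS' (j - 1) j (by lia)
      (CochainComplex.exactAt_of_isGE _ (j + 1) _ (by lia))
      (CochainComplex.exactAt_of_isGE _ (j + 1) _ (by lia))
  have h3 : QuasiIso (ev (K.truncLE n) I) :=
    quasiIso_ev_of_isLE I hI a b hev n (K.truncLE n) (finite_homology_truncLE K hK n)
  exact isIso_homologyMap_τ₂ (evSC (K.shortComplexTruncLE n) I) j h1 h2
    (by change IsIso (homologyMap (ev (K.truncLE n) I) j); infer_instance)

end

end Groth.Agent.LoccohB.HomCx
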