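import Groth.Prelude.Def_DualSch
import Groth.Agent.LoccohB.CMDual
import Groth.Agent.PerfA.Restrict
import Groth.Agent.PerfA.ExactD
import Groth.Agent.CalgA.DepthSmall
import Groth.Agent.LoccohB.LBC
import Groth.Agent.LoccohB.FlatLBC
import Groth.Agent.S0372
import Groth.Agent.S1775

/-!
Dualizing complexes on locally Noetherian schemes and the Cohen–Macaulay locus.
-/

set_option autoImplicit false
universe u
open CategoryTheory CategoryTheory.Limits AlgebraicGeometry
attribute [local instance] HasDerivedCategory.standard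

namespace Groth.Agent.LoccohB.CMSch

/-- Cohen–Macaulay local rings are invariant under ring isomorphism. -/
theorem isCM_of_ringEquiv {R S : Type u} [CommRing R] [CommRing S] (e : R ≃+* S)
    (h : LocCoh.IsCohenMacaulayLocalRing R) : LocCoh.IsCohenMacaulayLocalRing S := by
  have : IsLocalRing R := h.toIsLocalRing
  have : IsNoetherianRing R := inferInstance
  have : IsLocalRing S := e.isLocalRing
  have : IsNoetherianRing S := isNoetherianRing_of_ringEquiv R e
  refine { supportDim_eq_depth := ?_ }
  rw [Module.supportDim_self_eq_ringKrullDim, ← ringKrullDim_eq_of_ringEquiv e,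
    ← CalgA.DepthSmall.depth_ringEquiv e, ← Module.supportDim_self_eq_ringKrullDim]
  exact h.supportDim_eq_depth

theorem isCM_iff_of_ringEquiv {R S : Type u} [CommRing R] [CommRing S] (e : R ≃+* S) :
    LocCoh.IsCohenMacaulayLocalRing R ↔ LocCoh.IsCohenMacaulayLocalRing S :=
  ⟨isCM_of_ringEquiv e, isCM_of_ringEquiv e.symm⟩

/-- The cohomology of the derived localization is the localization of the cohomology. -/
theorem lbcHD_localization {A : Type u} [CommRing A] (S : Submonoid A)
    [DRing.HasLBaseChange (algebraMap A (Localization S))] (K : Dual.D A) (i : ℤ) :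
    Nonempty (Dual.HD (Localization S) ((DRing.LBaseChange (algebraMap A (Localization S))).obj K) i
      ≃ₗ[Localization S] LocalizedModule S (Dual.HD A K i)) := by
  have hφ : (algebraMap A (Localization S)).Flat := by
    rw [RingHom.flat_algebraMap_iff]
    exact IsLocalization.flat _ S
  let e1 := (DerivedCategory.homologyFunctor (ModuleCat.{u} (Localization S)) i).mapIso
    ((FlatLBC.LBaseChangeIso (algebraMap A (Localization S)) hφ).app K)
  let e2 := (FlatLBC.flatBCHomology (algebraMap A (Localization S)) hφ i).app K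
  let e3 := (e1 ≪≫ e2).toLinearEquiv
  let e4 := FlatLBC.extEquiv A (Localization S)
    ((DerivedCategory.homologyFunctor (ModuleCat.{u} A) i).obj K)
  let e5 : LocalizedModule S (Dual.HD A K i) ≃ₗ[Localization S]
    TensorProduct A (Localization S) ((DerivedCategory.homologyFunctor (ModuleCat.{u} A) i).obj K) :=
    LocalizedModule.equivTensorProduct S _
  exact ⟨(e3.trans e4.symm).trans e5.symm⟩

/-- Ring level: the Cohen–Macaulay property of `A_p` in terms of the localizations of the cohomology
modules of a dualizing complex. -/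
theorem cm_iff_atPrime (A : Type u) [CommRing A] [IsNoetherianRing A] (ω : Dual.D A)
    (hω : Dual.IsDualizing A ω) (p : PrimeSpectrum A) :
    LocCoh.IsCohenMacaulayLocalRing (Localization.AtPrime p.asIdeal) ↔
      ∃! i : ℤ, Nontrivial (LocalizedModule p.asIdeal.primeCompl (Dual.HD A ω i)) := by
  have hL : DRing.HasLBaseChange (algebraMap A (Localization p.asIdeal.primeCompl)) :=
    LBC.hasLBaseChange _
  have h1 : Dual.IsDualizing (Localization p.asIdeal.primeCompl)
    ((DRing.LBaseChange (algebraMap A (Localization p.asIdeal.primeCompl))).obj ω) :=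
    S1775.result A p.asIdeal.primeCompl ω hω
  have h2 := CMDual.cm_iff_local (Localization.AtPrime p.asIdeal)
    ((DRing.LBaseChange (algebraMap A (Localization p.asIdeal.primeCompl))).obj ω) h1
  rw [h2]
  have h3 : ∀ i : ℤ, Nontrivial (Dual.HD (Localization p.asIdeal.primeCompl)
      ((DRing.LBaseChange (algebraMap A (Localization p.asIdeal.primeCompl))).obj ω) i) ↔
      Nontrivial (LocalizedModule p.asIdeal.primeCompl (Dual.HD A ω i)) := fun i =>
    (lbcHD_localization p.asIdeal.primeCompl ω i).some.toEquiv.nontrivial_congr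
  exact existsUnique_congr h3

section Sch

variable {X : Scheme.{u}}

/-- `H^i` of the derived tilde is the tilde of `H^i`. -/
noncomputable def tildeHD (R : CommRingCat.{u}) [PreservesFiniteLimits (tilde.functor R)]
    (L : DerivedCategory (ModuleCat.{u} R)) (i : ℤ) :
    DCoh.HD ((DCoh.tildeD R).obj L) i ≅
      (tilde.functor R).obj ((DerivedCategory.homologyFunctor (ModuleCat.{u} R) i).obj L) :=
  (PerfA.ExactD.mapHomology (tilde.functor R) i).app L

theorem nontrivial_stalk_tilde_iff (R : CommRingCat.{u}) (M : ModuleCat.{u} R) (p : PrimeSpectrum R) :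
    Nontrivial (((tilde.functor R).obj M).presheaf.stalk p) ↔
      Nontrivial (LocalizedModule p.asIdeal.primeCompl M) :=
  (IsLocalizedModule.iso p.asIdeal.primeCompl (tilde.toStalk M p).hom).symm.toEquiv.nontrivial_congr

/-- The stalk of `H^i(K)` at `j p` for an open immersion `j : Spec A ⟶ X` such that `K|_{Spec A}` is
the derived tilde of `L`. -/
theorem nontrivial_stalk_iff' (R : CommRingCat.{u}) [PreservesFiniteLimits (tilde.functor R)]
    (j : Spec (CommRingCat.of R) ⟶ X) [IsOpenImmersion j]
    (K : DCoh.D X) (L : DerivedCategory (ModuleCat.{u} R))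
    (e : (Groth.Agent.PerfA.Restrict.restrictD j).obj K ≅ (DCoh.tildeD R).obj L)
    (p : PrimeSpectrum R) (i : ℤ) :
    Nontrivial ((DCoh.HD K i).presheaf.stalk (j p)) ↔
      Nontrivial (LocalizedModule p.asIdeal.primeCompl
        ((DerivedCategory.homologyFunctor (ModuleCat.{u} R) i).obj L)) := by
  let e1 : (PerfA.Restrict.stalkAb (X := Spec (CommRingCat.of R)) p).obj ((DCoh.HD K i).restrict j) ≅
      (PerfA.Restrict.stalkAb (j p)).obj (DCoh.HD K i) :=
    (PerfA.Restrict.stalkRestrict j p).app (DCoh.HD K i)
  let e2 : (DCoh.HD K i).restrict j ≅ DCoh.HD ((PerfA.Restrict.restrictD j).obj K) i :=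
    (PerfA.Restrict.HDrestrict j K i).symm
  let e3 : DCoh.HD ((PerfA.Restrict.restrictD j).obj K) i ≅
      DCoh.HD ((DCoh.tildeD R).obj L) i :=
    (DerivedCategory.homologyFunctor _ i).mapIso e
  let e5 : (PerfA.Restrict.stalkAb (j p)).obj (DCoh.HD K i) ≅
      (PerfA.Restrict.stalkAb (X := Spec (CommRingCat.of R)) p).obj
        ((tilde.functor R).obj ((DerivedCategory.homologyFunctor (ModuleCat.{u} R) i).obj L)) :=
    e1.symm ≪≫ (PerfA.Restrict.stalkAb _).mapIso (e2 ≪≫ e3 ≪≫ tildeHD R L i)
  have h1 : Nontrivial ((DCoh.HD K i).presheaf.stalk (j p)) ↔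
      Nontrivial (((tilde.functor R).obj
        ((DerivedCategory.homologyFunctor (ModuleCat.{u} R) i).obj L)).presheaf.stalk p) :=
    e5.addCommGroupIsoToAddEquiv.toEquiv.nontrivial_congr
  rw [h1]
  exact nontrivial_stalk_tilde_iff R _ p

theorem nontrivial_stalk_iff [∀ (R : CommRingCat.{u}), PreservesFiniteLimits (tilde.functor R)]
    (A : Type u) [CommRing A] (j : Spec (CommRingCat.of A) ⟶ X) [IsOpenImmersion j]
    (K : DCoh.D X) (L : Dual.D A)
    (e : (Groth.Agent.PerfA.Restrict.restrictD j).obj K ≅ (DCoh.tildeD (CommRingCat.of A)).obj L)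
    (p : PrimeSpectrum A) (i : ℤ) :
    Nontrivial ((DCoh.HD K i).presheaf.stalk (j p)) ↔
      Nontrivial (LocalizedModule p.asIdeal.primeCompl (Dual.HD A L i)) :=
  nontrivial_stalk_iff' (CommRingCat.of A) j K L e p i

end Sch

end Groth.Agent.LoccohB.CMSch
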