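import Groth.Agent.LoccohB.DivisorSnake
import Groth.Prelude.Def_DDual2
import Mathlib.Algebra.Homology.HomologicalComplexAbelian
import Mathlib.Algebra.Homology.DerivedCategory.ShortExact
import Mathlib.Algebra.Category.ModuleCat.Injective
import Mathlib.Algebra.Homology.HomologySequenceLemmas

/-!
# The snake map for complexes and the resulting isomorphism in the derived category
-/

universe u

open CategoryTheory CategoryTheory.Limits ModuleCat

namespace Groth.Agent.LoccohB.DivisorCx

open DivisorSnake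

variable {C C' : Type u} [CommRing C] [CommRing C'] {π : C →+* C'} {f : C}

instance additive_coextendScalars {C C' : Type u} [CommRing C] [CommRing C'] (π : C →+* C') :
    (ModuleCat.coextendScalars.{u, u, u} π).Additive where
  map_add {X Y f g} := by
    ext x
    rfl

/-- termwise `Hom_C(C', -)` -/
noncomputable abbrev coextCx (π : C →+* C') : CochainComplex (ModuleCat.{u} C) ℤ ⥤ CochainComplex (ModuleCat.{u} C') ℤ :=
  (coextendScalars.{u, u, u} π).mapHomologicalComplex (ComplexShape.up ℤ)

/-- termwise `C' ⊗ -` -/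
noncomputable abbrev extCx (π : C →+* C') : CochainComplex (ModuleCat.{u} C) ℤ ⥤ CochainComplex (ModuleCat.{u} C') ℤ :=
  (extendScalars.{u, u, u} π).mapHomologicalComplex (ComplexShape.up ℤ)

variable (S : ShortComplex (CochainComplex (ModuleCat.{u} C) ℤ))

theorem shortExact_eval {S : ShortComplex (CochainComplex (ModuleCat.{u} C) ℤ)} (hS : S.ShortExact) (i : ℤ) :
    (S.map (HomologicalComplex.eval (ModuleCat.{u} C) (ComplexShape.up ℤ) i)).ShortExact :=
  (HomologicalComplex.shortExact_iff_degreewise_shortExact S).1 hS i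

/-- The snake map of complexes. -/
noncomputable def snakeCx (hS : S.ShortExact) (hf : π f = 0) (hπ : Function.Surjective π) :
    (coextCx π).obj S.X₃ ⟶ (extCx π).obj S.X₁ where
  f i := snake (S.map (HomologicalComplex.eval _ _ i)) (shortExact_eval hS i) hf hπ
  comm' i j _ := by
    let φ : S.map (HomologicalComplex.eval (ModuleCat.{u} C) (ComplexShape.up ℤ) i) ⟶
        S.map (HomologicalComplex.eval (ModuleCat.{u} C) (ComplexShape.up ℤ) j) :=
      { τ₁ := S.X₁.d i j
        τ₂ := S.X₂.d i j
        τ₃ := S.X₃.d i j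
        comm₁₂ := (S.f.comm i j).symm
        comm₂₃ := (S.g.comm i j).symm }
    exact (snake_naturality _ (shortExact_eval hS i) (shortExact_eval hS j) φ hf hπ).symm

theorem coext_comp_snakeCx (hS : S.ShortExact) (hf : π f = 0) (hπ : Function.Surjective π) :
    (coextCx π).map S.g ≫ snakeCx S hS hf hπ = 0 := by
  ext i : 1
  exact coext_comp_snake _ (shortExact_eval hS i) hf hπ

/-- `0 → Hom(C', J) → Hom(C', T) → C' ⊗ P → 0` as complexes. -/
noncomputable abbrev snakeSC (hS : S.ShortExact) (hf : π f = 0) (hπ : Function.Surjective π) :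
    ShortComplex (CochainComplex (ModuleCat.{u} C') ℤ) :=
  ShortComplex.mk _ _ (coext_comp_snakeCx S hS hf hπ)

theorem snakeSC_shortExact (hS : S.ShortExact) (hf : π f = 0) (hπ : Function.Surjective π)
    (hker : RingHom.ker π = Ideal.span {f})
    (hP : ∀ (i : ℤ) (p : S.X₁.X i), f • p = 0 → p = 0)
    (hJ : ∀ (i : ℤ) (j : S.X₂.X i), ∃ j' : S.X₂.X i, f • j' = j) :
    (snakeSC S hS hf hπ).ShortExact := by
  refine HomologicalComplex.shortExact_of_degreewise_shortExact _ fun i => ?_
  exact shortExact _ (shortExact_eval hS i) hπ hker hf (hP i) (hJ i)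

theorem acyclic_coextCx (hπ : Function.Surjective π) (hker : RingHom.ker π = Ideal.span {f}) (hf : π f = 0)
    (T : CochainComplex (ModuleCat.{u} C) ℤ) (hT : T.Acyclic)
    (hsurj : ∀ (i : ℤ) (j : T.X i), ∃ j' : T.X i, f • j' = j) : ((coextCx π).obj T).Acyclic := by
  have key : ∀ (i : ℤ) (t : T.X i), T.d i (i + 1) t = 0 → ∃ t' : T.X (i - 1), T.d (i - 1) i t' = t := by
    intro i t ht
    have h := hT i
    rw [HomologicalComplex.exactAt_iff' _ (i - 1) i (i + 1) (by simp) (by simp),
      ShortComplex.moduleCat_exact_iff] at h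
    exact h t ht
  intro i
  rw [HomologicalComplex.exactAt_iff' _ (i - 1) i (i + 1) (by simp) (by simp),
    ShortComplex.moduleCat_exact_iff]
  intro g hg
  have h1 : T.d i (i + 1) (ev π _ g) = 0 := (congrArg (ev π (T.X (i + 1))) hg)
  obtain ⟨t', ht'⟩ := key i _ h1
  have h2 : T.d (i - 1) i (f • t') = 0 := by rw [map_smul, ht', smul_ev _ _ hf]
  have key2 : ∃ t'' : T.X (i - 2), T.d (i - 2) (i - 1) t'' = f • t' := by
    have h := hT (i - 1)
    rw [HomologicalComplex.exactAt_iff' _ (i - 2) (i - 1) i (by simp; ring) (by simp),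
      ShortComplex.moduleCat_exact_iff] at h
    exact h _ h2
  obtain ⟨t'', ht''⟩ := key2
  obtain ⟨t3, ht3⟩ := hsurj (i - 2) t''
  have h4 : f • (t' - T.d (i - 2) (i - 1) t3) = 0 := by
    rw [smul_sub, ← map_smul, ht3, ht'', sub_self]
  obtain ⟨g', hg'⟩ := exists_ev_eq π f hπ hker _ _ h4
  refine ⟨g', ?_⟩
  apply ev_injective π hπ
  refine (ev_map π (T.d (i - 1) i) g').trans ?_
  rw [hg', map_sub, ht']
  have h5 : T.d (i - 1) i (T.d (i - 2) (i - 1) t3) = 0 := by
    have := congrArg (fun h => h.hom t3) (T.d_comp_d (i - 2) (i - 1) i)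
    exact this
  rw [h5, sub_zero]

attribute [local instance] HasDerivedCategory.standard

theorem isZero_Q_of_acyclic {A : Type u} [CommRing A] (K : CochainComplex (ModuleCat.{u} A) ℤ) (hK : K.Acyclic) :
    IsZero (DerivedCategory.Q.obj K) := by
  obtain ⟨Z, hz⟩ := HasZeroObject.zero (C := CochainComplex (ModuleCat.{u} A) ℤ)
  have h0 : QuasiIso (0 : K ⟶ Z) := by
    rw [quasiIso_iff]
    intro n
    rw [quasiIsoAt_iff_exactAt _ _ (hK n), HomologicalComplex.exactAt_iff_isZero_homology]
    exact (HomologicalComplex.homologyFunctor _ _ n).map_isZero hz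
  have h1 : IsIso (DerivedCategory.Q.map (0 : K ⟶ Z)) := inferInstance
  exact (DerivedCategory.Q.map_isZero hz).of_iso (asIso (DerivedCategory.Q.map (0 : K ⟶ Z)))

/-- Main statement at the level of complexes: if `P → J` is a monomorphism and a quasi-isomorphism, `f` is
injective on the terms of `P` and surjective on the terms of `J`, then `C' ⊗ P` is isomorphic to
`Hom_C(C', J)[1]` in `D(C')`. -/
theorem nonempty_iso (hπ : Function.Surjective π) (hker : RingHom.ker π = Ideal.span {f})
    {P J : CochainComplex (ModuleCat.{u} C) ℤ} (i : P ⟶ J) [Mono i] (hi : QuasiIso i)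
    (hP : ∀ (n : ℤ) (p : P.X n), f • p = 0 → p = 0)
    (hJ : ∀ (n : ℤ) (j : J.X n), ∃ j' : J.X n, f • j' = j) :
    Nonempty ((DerivedCategory.Q.obj ((coextCx π).obj J))⟦(1 : ℤ)⟧ ≅
      DerivedCategory.Q.obj ((extCx π).obj P)) := by
  have hf : π f = 0 := by
    have : f ∈ RingHom.ker π := by rw [hker]; exact Ideal.mem_span_singleton_self f
    exact this
  let S : ShortComplex (CochainComplex (ModuleCat.{u} C) ℤ) := ShortComplex.mk i (cokernel.π i) (by simp)
  have hS : S.ShortExact :=
    { exact := ShortComplex.exact_cokernel i }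
  have hT : S.X₃.Acyclic := hS.acyclic_X₃ hi
  have hTs : ∀ (n : ℤ) (j : S.X₃.X n), ∃ j' : S.X₃.X n, f • j' = j := by
    intro n j
    have hn := (shortExact_eval hS n).epi_g
    obtain ⟨j₁, hj₁⟩ := (ModuleCat.epi_iff_surjective _).1 hn j
    obtain ⟨j₂, hj₂⟩ := hJ n j₁
    refine ⟨S.g.f n j₂, ?_⟩
    rw [← map_smul, hj₂]
    exact hj₁
  have hSE := snakeSC_shortExact S hS hf hπ hker hP hJ
  have hdist := DerivedCategory.triangleOfSES_distinguished hSE
  have hac := acyclic_coextCx hπ hker hf S.X₃ hT hTs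
  have hz : IsZero (DerivedCategory.triangleOfSES hSE).obj₂ := isZero_Q_of_acyclic _ hac
  have hiso := (Pretriangulated.Triangle.isZero₂_iff_isIso₃ _ hdist).1 hz
  exact ⟨(@asIso _ _ _ _ _ hiso).symm⟩

end Groth.Agent.LoccohB.DivisorCx
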