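import Groth.Agent.LoccohB.BidualD
import Groth.Agent.LoccohB.DivisorCx

/-!
# Coextension of scalars of a model of a dualizing complex (chain level)

`A → B` a ring map, `I` a complex of `A`-modules.  For `b : B` the map `evB b`,
`f ↦ f(b)`, from the restriction to `A` of `Hom_A(B, I)` to `I`; if `I` is a model of a dualizing
complex and `B` is finite over `A`, then `b ↦ Q (evB b)` is bijective onto `Hom(Q res Hom_A(B, I), Q I)`
and `Hom(Q res Hom_A(B, I), Q I⟦i⟧) = 0` for `i ≠ 0`.
-/

set_option autoImplicit false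

universe u

open CategoryTheory Limits CochainComplex CochainComplex.HomComplex

attribute [local instance] HasDerivedCategory.standard

namespace Groth.Agent.LoccohB.CoextDual

open HomCx

variable {A B : Type u} [CommRing A] [CommRing B] [Algebra A B]

variable (A B) in
/-- `B` as an `A`-module. -/
noncomputable abbrev RB : ModuleCat.{u} A :=
  (ModuleCat.restrictScalars.{u} (algebraMap A B)).obj (ModuleCat.of B B)

variable (B) in
/-- `Hom_A(B, M)` as an `A`-module. -/
noncomputable abbrev RC (M : ModuleCat.{u} A) : ModuleCat.{u} A :=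
  (ModuleCat.restrictScalars.{u} (algebraMap A B)).obj
    ((ModuleCat.coextendScalars.{u, u, u} (algebraMap A B)).obj M)

/-- An `A`-linear map `B → M` as an element of `RC B M`. -/
noncomputable def toRC (M : ModuleCat.{u} A) : (RB A B →ₗ[A] M) →ₗ[A] RC B M where
  toFun f := (ModuleCat.CoextendScalars.equiv (algebraMap A B) M).symm f
  map_add' f g := rfl
  map_smul' a f := by
    refine ModuleCat.CoextendScalars.ext (LinearMap.ext fun (b : B) => ?_)
    change a • f b = f (b * algebraMap A B a : B)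
    rw [mul_comm]
    exact (f.map_smul a b).symm

/-- Evaluation of an element of `Hom_A(B, M)` at `b`. -/
noncomputable def evM (b : B) (M : ModuleCat.{u} A) : RC B M →ₗ[A] M where
  toFun f := ModuleCat.CoextendScalars.equiv (algebraMap A B) M f b
  map_add' f g := rfl
  map_smul' a f := by
    change (ModuleCat.CoextendScalars.equiv (algebraMap A B) M) f (b * algebraMap A B a : B) =
      a • (ModuleCat.CoextendScalars.equiv (algebraMap A B) M) f b
    rw [mul_comm]
    exact ((ModuleCat.CoextendScalars.equiv (algebraMap A B) M) f).map_smul a b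

lemma evM_toRC (b : B) (M : ModuleCat.{u} A) (f : RB A B →ₗ[A] M) :
    evM b M (toRC M f) = f b := rfl

lemma RC_ext {M : ModuleCat.{u} A} {x y : RC B M} (h : ∀ b : B, evM b M x = evM b M y) : x = y :=
  ModuleCat.CoextendScalars.ext (LinearMap.ext fun (b : B) => h b)

lemma toRC_bijective (M : ModuleCat.{u} A) : Function.Bijective (toRC (B := B) M) :=
  (ModuleCat.CoextendScalars.equiv (algebraMap A B) M).symm.bijective

variable (A B) in
/-- The complex of `A`-modules `B[0]`. -/
noncomputable abbrev SB : DRing.Cx A :=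
  (CochainComplex.singleFunctor (ModuleCat.{u} A) 0).obj (RB A B)

variable (A B) in
/-- The identification of `B` with the term of degree `0` of `B[0]`. -/
noncomputable def sIso : (SB A B).X 0 ≅ RB A B :=
  HomologicalComplex.singleObjXSelf (ComplexShape.up ℤ) 0 (RB A B)

variable (A) in
/-- The element of `B[0]` in degree 0. -/
noncomputable def s {B : Type u} [CommRing B] [Algebra A B] (b : B) : (SB A B).X 0 :=
  (sIso A B).inv b

variable (A) in
/-- The element of `B` corresponding to an element of degree `0` of `B[0]`. -/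
noncomputable def t {B : Type u} [CommRing B] [Algebra A B] (x : (SB A B).X 0) : B :=
  (sIso A B).hom x

lemma s_t (x : (SB A B).X 0) : s A (t A x) = x := by
  change ((sIso A B).hom ≫ (sIso A B).inv) x = x
  simp

lemma t_s (b : B) : t A (s A b) = b := by
  change ((sIso A B).inv ≫ (sIso A B).hom) b = b
  simp

lemma isZero_SB_X (p : ℤ) (hp : p ≠ 0) : IsZero ((SB A B).X p) :=
  HomologicalComplex.isZero_single_obj_X _ _ _ _ hp

variable (B) in
/-- The restriction to `A` of `Hom_A(B, I)`. -/
noncomputable abbrev resCoext (I : DRing.Cx A) : DRing.Cx A :=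
  ((ModuleCat.restrictScalars.{u} (algebraMap A B)).mapHomologicalComplex (ComplexShape.up ℤ)).obj
    ((DivisorCx.coextCx (algebraMap A B)).obj I)

variable (B) in
/-- The restriction of a cochain to `B`, as a linear map. -/
noncomputable def thetaAux (I : DRing.Cx A) (i : ℤ) :
    (DRing.homCx (SB A B) I).X i →ₗ[A] (RB A B →ₗ[A] I.X i) where
  toFun := fun (z : Cochain (SB A B) I i) => ((sIso A B).inv ≫ z.v 0 i (zero_add i)).hom
  map_add' := fun (z z' : Cochain (SB A B) I i) => by
    change ((sIso A B).inv ≫ (z.v 0 i (zero_add i) + z'.v 0 i (zero_add i))).hom = _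
    rw [Preadditive.comp_add]
    rfl
  map_smul' := fun a (z : Cochain (SB A B) I i) => by
    change ((sIso A B).inv ≫ (a • z.v 0 i (zero_add i))).hom = _
    rw [Linear.comp_smul]
    rfl

variable (B) in
/-- The map `Hom•(B[0], I) ⟶ res Hom_A(B, I)` in degree `i`. -/
noncomputable def thetaf (I : DRing.Cx A) (i : ℤ) : (DRing.homCx (SB A B) I).X i →ₗ[A] RC B (I.X i) :=
  (toRC (I.X i)).comp (thetaAux B I i)

lemma evM_thetaf (I : DRing.Cx A) (i : ℤ) (z : (DRing.homCx (SB A B) I).X i) (b : B) :
    evM b (I.X i) (thetaf B I i z) = ((asCochain z).v 0 i (zero_add i)) (s A b) := rfl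

variable (B) in
/-- The map `Hom•(B[0], I) ⟶ res Hom_A(B, I)`. -/
noncomputable def theta (I : DRing.Cx A) : DRing.homCx (SB A B) I ⟶ resCoext B I where
  f i := ModuleCat.ofHom (Y := RC B (I.X i)) (thetaf B I i)
  comm' i j hij := by
    obtain rfl : i + 1 = j := hij
    refine ModuleCat.hom_ext (LinearMap.ext fun (z : Cochain (SB A B) I i) => ?_)
    refine RC_ext fun b => ?_
    change (I.d i (i + 1)) ((z.v 0 i (zero_add i)) (s A b)) =
      ((δ i (i + 1) z).v 0 (i + 1) (zero_add _)) (s A b)
    rw [δ_v i (i + 1) rfl z 0 (i + 1) (zero_add _) i 1 (by lia) rfl]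
    have : (SB A B).d 0 1 = 0 := rfl
    rw [this, zero_comp, smul_zero, add_zero]
    rfl

lemma evM_theta (I : DRing.Cx A) (i : ℤ) (z : (DRing.homCx (SB A B) I).X i) (b : B) :
    evM b (I.X i) ((theta B I).f i z) = ((asCochain z).v 0 i (zero_add i)) (s A b) := rfl

lemma theta_bijective (I : DRing.Cx A) (i : ℤ) : Function.Bijective ((theta B I).f i) := by
  constructor
  · intro z z' h
    refine Cochain.ext (asCochain z) (asCochain z') fun p q hpq => ?_
    by_cases hp : p = 0
    · subst hp
      obtain rfl : i = q := by lia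
      refine ModuleCat.hom_ext (LinearMap.ext fun x => ?_)
      rw [← s_t x]
      have := congrArg (evM (t A x) (I.X i)) h
      rw [evM_theta, evM_theta] at this
      exact this
    · exact (isZero_SB_X p hp).eq_of_src _ _
  · intro y
    obtain ⟨f, hf⟩ := (toRC_bijective (I.X i)).2 y
    let g : (SB A B).X 0 ⟶ I.X i := (sIso A B).hom ≫ ModuleCat.ofHom (X := RB A B) f
    refine ⟨(Cochain.single g i : Cochain (SB A B) I i), ?_⟩
    refine RC_ext fun b => ?_
    have h : (asCochain (Cochain.single g i : Cochain (SB A B) I i)).v 0 i (zero_add i) = g :=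
      Cochain.single_v g i (zero_add i)
    refine (evM_theta I i _ b).trans ?_
    rw [h, ← hf, evM_toRC]
    have h2 : t (B := B) A (s A b) = b := t_s b
    exact congrArg (fun b : B => f b) h2

instance (I : DRing.Cx A) (i : ℤ) : IsIso ((theta B I).f i) :=
  (ConcreteCategory.isIso_iff_bijective _).2 (theta_bijective I i)

instance (I : DRing.Cx A) : IsIso (theta B I) := HomologicalComplex.Hom.isIso_of_components _

/-- Evaluation at `b`, `res Hom_A(B, I) ⟶ I`. -/
noncomputable def evB (I : DRing.Cx A) (b : B) : resCoext B I ⟶ I where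
  f i := ModuleCat.ofHom (X := RC B (I.X i)) (evM b (I.X i))
  comm' i j hij := by
    refine ModuleCat.hom_ext (LinearMap.ext fun z => ?_)
    rfl

lemma ev_eq (I : DRing.Cx A) (b : B) :
    evCochain (SB A B) I 0 (s A b) = Cochain.ofHom (theta B I ≫ evB I b) := by
  refine cochain_homCx_ext fun q r hqr φ => ?_
  obtain rfl : q = r := by lia
  rw [Cochain.ofHom_v]
  change (0 * q).negOnePow • ((asCochain φ).v 0 q _) (s A b) = ((asCochain φ).v 0 q _) (s A b)
  rw [zero_mul, Int.negOnePow_zero, one_smul]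

lemma evB_sub (I : DRing.Cx A) (b b' : B) : evB I (b - b') = evB I b - evB I b' := by
  refine HomologicalComplex.hom_ext _ _ fun i => ?_
  refine ModuleCat.hom_ext (LinearMap.ext fun (z : RC B (I.X i)) => ?_)
  exact map_sub ((ModuleCat.CoextendScalars.equiv (algebraMap A B) (I.X i)) z) b b'

lemma evB_zero (I : DRing.Cx A) : evB I (0 : B) = 0 := by
  have := evB_sub I (0 : B) 0
  rwa [sub_self, sub_self] at this

variable {I : DRing.Cx A} [I.IsKInjective] (h : QuasiIso (ev (SB A B) I))

include h

lemma eq_zero_of_Q_evB (b : B) (hb : DerivedCategory.Q.map (evB I b) = 0) : b = 0 := by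
  have h0 : QuasiIsoAt (ev (SB A B) I) 0 := h.quasiIsoAt 0
  rw [ModHom.quasiIsoAt_iff'] at h0
  have h1 : DerivedCategory.Q.map (theta B I ≫ evB I b) = 0 := by
    rw [Functor.map_comp, hb, comp_zero]
  obtain ⟨y, hy⟩ := (exists_δ_eq_ofHom_iff (theta B I ≫ evB I b) (0 - 1) (by lia)).2 h1
  rw [← ev_eq] at hy
  obtain ⟨x, hx⟩ := h0.1 (s A b) (by
    have : (SB A B).d 0 (0 + 1) = 0 := rfl
    rw [this]
    rfl) ⟨y, hy⟩
  have h2 : (SB A B).d (0 - 1) 0 = 0 := rfl
  rw [h2] at hx
  have h3 : s A b = 0 := hx.symm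
  rw [← t_s (A := A) b, h3]
  exact map_zero (sIso A B).hom.hom

/-- `b ↦ Q (evB b)` is bijective. -/
theorem evB_bijective : Function.Bijective (fun b : B => DerivedCategory.Q.map (evB I b)) := by
  constructor
  · intro b b' hbb
    rw [← sub_eq_zero]
    apply eq_zero_of_Q_evB h
    rw [evB_sub, Functor.map_sub, sub_eq_zero]
    exact hbb
  · intro g
    obtain ⟨f, rfl⟩ := exists_Q_map_eq g
    have h0 : QuasiIsoAt (ev (SB A B) I) 0 := h.quasiIsoAt 0
    rw [ModHom.quasiIsoAt_iff'] at h0
    obtain ⟨x, z, -, hz⟩ := h0.2 (Cochain.ofHom (theta B I ≫ f) : Cochain (DRing.homCx (SB A B) I) I 0)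
      (δ_ofHom (theta B I ≫ f))
    refine ⟨t A x, ?_⟩
    have h1 : (ev (SB A B) I).f 0 x = Cochain.ofHom (theta B I ≫ evB I (t A x)) := by
      rw [← ev_eq, s_t]
      rfl
    rw [h1] at hz
    have h2 : δ (0 - 1) 0 (z : Cochain (DRing.homCx (SB A B) I) I (0 - 1)) =
        Cochain.ofHom (theta B I ≫ evB I (t A x) - theta B I ≫ f) := by
      rw [Cochain.ofHom_sub]
      exact hz
    have h3 := (exists_δ_eq_ofHom_iff _ (0 - 1) (by lia)).1 ⟨z, h2⟩
    rw [← Preadditive.comp_sub, Functor.map_comp, Functor.map_sub,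
      ← cancel_epi (inv (DerivedCategory.Q.map (theta B I))), IsIso.inv_hom_id_assoc, comp_zero,
      sub_eq_zero] at h3
    exact h3

/-- `Hom(Q res Hom_A(B, I), Q I⟦i⟧) = 0` for `i ≠ 0`. -/
theorem subsingleton_hom (i : ℤ) (hi : i ≠ 0) :
    Subsingleton (DerivedCategory.Q.obj (resCoext B I) ⟶ (DerivedCategory.Q.obj I)⟦i⟧) := by
  have hex : (SB A B).ExactAt i := by
    rw [HomologicalComplex.exactAt_iff]
    exact ShortComplex.exact_of_isZero_X₂ _ (isZero_SB_X i hi)
  have h0 : QuasiIsoAt (ev (SB A B) I) i := h.quasiIsoAt i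
  rw [quasiIsoAt_iff_exactAt _ _ hex, ModHom.exactAt_iff''] at h0
  have key : ∀ g : DerivedCategory.Q.obj (resCoext B I) ⟶ (DerivedCategory.Q.obj I)⟦i⟧, g = 0 := by
    intro g
    let g' : DerivedCategory.Q.obj (DRing.homCx (SB A B) I) ⟶ DerivedCategory.Q.obj (I⟦i⟧) :=
      DerivedCategory.Q.map (theta B I) ≫ g ≫ (DerivedCategory.Q.commShiftIso i).inv.app I
    obtain ⟨f, hf⟩ := exists_Q_map_eq g'
    let y' : Cocycle (DRing.homCx (SB A B) I) I i := Cocycle.equivHomShift f
    obtain ⟨z, hz⟩ := h0 (y' : Cochain (DRing.homCx (SB A B) I) I i) (y'.δ_eq_zero _)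
    have h3 : y' ∈ coboundaries _ _ i := by
      rw [mem_coboundaries_iff _ (i - 1) (by simp)]
      exact ⟨z, hz⟩
    rw [mem_coboundaries_iff_Q] at h3
    have h4 : Cocycle.equivHomShift.symm y' = f := by simp [y']
    rw [h4, hf] at h3
    have h5 : g ≫ (DerivedCategory.Q.commShiftIso i).inv.app I = 0 := by
      rw [← cancel_epi (DerivedCategory.Q.map (theta B I)), comp_zero]
      exact h3
    rw [← cancel_mono ((DerivedCategory.Q.commShiftIso i).inv.app I), h5, zero_comp]
  exact ⟨fun x y => by rw [key x, key y]⟩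

end Groth.Agent.LoccohB.CoextDual
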