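import Groth.Agent.LoccohB.FInv

/-!
# A criterion for derived completeness
-/

set_option autoImplicit false
set_option backward.isDefEq.respectTransparency false

universe u

open CategoryTheory Limits Pretriangulated

attribute [local instance] HasDerivedCategory.standard

namespace Groth.Agent.LoccohB.DCompCrit

variable {A : Type u} [CommRing A]

section Tel

variable (f : A)

/-- `e_k ↦ e_k - f e_{k+1}` on `⊕_ℕ A`. -/
noncomputable def tel : (ℕ →₀ A) →ₗ[A] (ℕ →₀ A) :=
  Finsupp.linearCombination A (fun k : ℕ => Finsupp.single k (1 : A) - Finsupp.single (k + 1) f)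

/-- `e_k ↦ 1 / f^k`. -/
noncomputable def telP : (ℕ →₀ A) →ₗ[A] Localization.Away f :=
  Finsupp.linearCombination A (fun k : ℕ => IsLocalization.mk' (Localization.Away f) (1 : A) (⟨f ^ k, k, rfl⟩ : Submonoid.powers f))

lemma tel_single (k : ℕ) (a : A) : tel f (Finsupp.single k a) = Finsupp.single k a - Finsupp.single (k + 1) (f * a) := by
  simp [tel, smul_sub, Finsupp.smul_single, mul_comm]

lemma telP_single (k : ℕ) (a : A) : telP f (Finsupp.single k a) =
    IsLocalization.mk' (Localization.Away f) a (⟨f ^ k, k, rfl⟩ : Submonoid.powers f) := by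
  simp [telP, IsLocalization.smul_mk']

lemma tel_apply_zero (x : ℕ →₀ A) : tel f x 0 = x 0 := by
  induction x using Finsupp.induction_linear with
  | zero => simp
  | add x y hx hy => simp [hx, hy]
  | single k a =>
    rw [tel_single]
    simp

lemma tel_apply_succ (x : ℕ →₀ A) (n : ℕ) : tel f x (n + 1) = x (n + 1) - f * x n := by
  induction x using Finsupp.induction_linear with
  | zero => simp
  | add x y hx hy => simp [hx, hy]; ring
  | single k a =>
    rw [tel_single]
    by_cases h : k = n
    · subst h; simp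
    · have : k + 1 ≠ n + 1 := by omega
      simp [Finsupp.single_apply, h]

lemma tel_injective : Function.Injective (tel f) := by
  refine (injective_iff_map_eq_zero (tel f)).2 fun x hx => ?_
  ext n
  induction n with
  | zero =>
    have := tel_apply_zero f x
    rw [hx] at this
    exact this.symm
  | succ n ih =>
    have := tel_apply_succ f x n
    rw [hx, ih] at this
    simpa using this.symm

lemma telP_surjective : Function.Surjective (telP f) := by
  intro y
  obtain ⟨a, ⟨b, n, rfl⟩, rfl⟩ := IsLocalization.exists_mk'_eq (Submonoid.powers f) y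
  exact ⟨Finsupp.single n a, telP_single f n a⟩

lemma telP_tel (x : ℕ →₀ A) : telP f (tel f x) = 0 := by
  induction x using Finsupp.induction_linear with
  | zero => simp
  | add x y hx hy => simp [hx, hy]
  | single k a =>
    rw [tel_single, map_sub, telP_single, telP_single, sub_eq_zero, IsLocalization.mk'_eq_iff_eq]
    congr 1
    simp only [pow_succ]
    ring

/-- modulo the image of `tel`, every element is `b e_N`. -/
lemma exists_rep (x : ℕ →₀ A) : ∃ N₀ : ℕ, ∀ N ≥ N₀, ∃ (b : A) (y : ℕ →₀ A), x = Finsupp.single N b + tel f y := by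
  have hstep : ∀ (k : ℕ) (a : A) (j : ℕ), ∃ y : ℕ →₀ A, Finsupp.single k a = Finsupp.single (k + j) (f ^ j * a) + tel f y := by
    intro k a j
    induction j with
    | zero => exact ⟨0, by simp⟩
    | succ j ih =>
      obtain ⟨y, hy⟩ := ih
      refine ⟨y + Finsupp.single (k + j) (f ^ j * a), ?_⟩
      rw [hy, map_add, tel_single, pow_succ']
      simp only [mul_assoc, add_assoc]
      abel
  induction x using Finsupp.induction_linear with
  | zero => exact ⟨0, fun N _ => ⟨0, 0, by simp⟩⟩
  | add x y hx hy =>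
    obtain ⟨N₁, h₁⟩ := hx
    obtain ⟨N₂, h₂⟩ := hy
    refine ⟨max N₁ N₂, fun N hN => ?_⟩
    obtain ⟨b, y₁, e₁⟩ := h₁ N (le_trans (le_max_left _ _) hN)
    obtain ⟨c, y₂, e₂⟩ := h₂ N (le_trans (le_max_right _ _) hN)
    refine ⟨b + c, y₁ + y₂, ?_⟩
    rw [e₁, e₂, map_add, Finsupp.single_add]
    abel
  | single k a =>
    refine ⟨k, fun N hN => ?_⟩
    obtain ⟨j, rfl⟩ := Nat.exists_eq_add_of_le hN
    obtain ⟨y, hy⟩ := hstep k a j
    exact ⟨_, y, hy⟩

lemma tel_exact : Function.Exact (tel f) (telP f) := by
  intro x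
  constructor
  · intro hx
    obtain ⟨N, hN⟩ := exists_rep f x
    obtain ⟨b, y, hy⟩ := hN N le_rfl
    have h1 : telP f (Finsupp.single N b) = 0 := by
      rw [hy, map_add, telP_tel, add_zero] at hx
      exact hx
    rw [telP_single, IsLocalization.mk'_eq_zero_iff] at h1
    obtain ⟨⟨c, M, rfl⟩, hc⟩ := h1
    have hstep : ∀ j : ℕ, ∃ y : ℕ →₀ A, Finsupp.single N b = Finsupp.single (N + j) (f ^ j * b) + tel f y := by
      intro j
      induction j with
      | zero => exact ⟨0, by simp⟩
      | succ j ih =>
        obtain ⟨y, hy⟩ := ih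
        refine ⟨y + Finsupp.single (N + j) (f ^ j * b), ?_⟩
        rw [hy, map_add, tel_single, pow_succ']
        simp only [mul_assoc, add_assoc]
        abel
    obtain ⟨z, hz⟩ := hstep M
    refine ⟨z + y, ?_⟩
    have hc' : f ^ M * b = 0 := hc
    rw [hy, hz, hc', Finsupp.single_zero, zero_add, map_add]
  · rintro ⟨y, rfl⟩
    exact telP_tel f y

end Tel

section Crit

/-- `(y_k) ↦ (y_k - f y_{k+1})`. -/
def seqMap {M : Type*} [AddCommGroup M] [Module A M] (f : A) (y : ℕ → M) : ℕ → M :=
  fun k => y k - f • y (k + 1)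

lemma seqMap_bijective_of_equiv {M N : Type*} [AddCommGroup M] [Module A M] [AddCommGroup N] [Module A N]
    (f : A) (e : M ≃ₗ[A] N) (h : Function.Bijective (seqMap (M := M) f)) :
    Function.Bijective (seqMap (M := N) f) := by
  let E : (ℕ → M) ≃ (ℕ → N) := Equiv.piCongrRight fun _ => e.toEquiv
  have : seqMap (M := N) f = E ∘ seqMap (M := M) f ∘ E.symm := by
    funext y k
    change y k - f • y (k + 1) = e (e.symm (y k) - f • e.symm (y (k + 1)))
    simp
  rw [this]
  exact E.bijective.comp (h.comp E.symm.bijective)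

/-- The telescope presentation of `A_f`. -/
noncomputable def telSES (f : A) : ShortComplex (ModuleCat.{u} A) where
  X₁ := ModuleCat.of A (ℕ →₀ A)
  X₂ := ModuleCat.of A (ℕ →₀ A)
  X₃ := ModuleCat.of A (Localization.Away f)
  f := ModuleCat.ofHom (tel f)
  g := ModuleCat.ofHom (telP f)
  zero := ModuleCat.hom_ext (LinearMap.ext fun x => telP_tel f x)

lemma telSES_shortExact (f : A) : (telSES f).ShortExact where
  exact := (CategoryTheory.ShortComplex.ShortExact.moduleCat_exact_iff_function_exact _).2 (tel_exact f)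
  mono_f := (ModuleCat.mono_iff_injective _).2 (tel_injective f)
  epi_g := (ModuleCat.epi_iff_surjective _).2 (telP_surjective f)

instance : Projective (ModuleCat.of A (ℕ →₀ A)) := by
  rw [← IsProjective.iff_projective]
  infer_instance

/-- A morphism `(⊕ A)[-n] ⟶ Z` as a sequence of elements of `H^n(Z)`. -/
noncomputable def homSeq (n : ℤ) (Z : Dual.D A)
    (g : (DerivedCategory.singleFunctor (ModuleCat.{u} A) n).obj (ModuleCat.of A (ℕ →₀ A)) ⟶ Z) (k : ℕ) :
    Dual.HD A Z n :=
  (DBase.homToH n g).hom (Finsupp.single k (1 : A))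

lemma homSeq_bijective (n : ℤ) (Z : Dual.D A) : Function.Bijective (homSeq n Z) := by
  have h1 := DBase.homToH_bijective n (ModuleCat.of A (ℕ →₀ A)) Z
  have h2 : Function.Bijective (fun (g : ModuleCat.of A (ℕ →₀ A) ⟶
      (DerivedCategory.homologyFunctor (ModuleCat.{u} A) n).obj Z) (k : ℕ) => g.hom (Finsupp.single k (1 : A))) := by
    constructor
    · intro g g' h
      apply ModuleCat.hom_ext
      apply Finsupp.lhom_ext
      intro k a
      have h3 := congrFun h k
      dsimp only at h3
      have h4 : Finsupp.single k a = a • Finsupp.single k (1 : A) := by simp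
      rw [h4, map_smul, map_smul, h3]
    · intro y
      refine ⟨ModuleCat.ofHom (Finsupp.linearCombination A y), ?_⟩
      funext k
      simp
  exact h2.comp h1

lemma homSeq_tel (n : ℤ) (Z : Dual.D A) (f : A)
    (g : (DerivedCategory.singleFunctor (ModuleCat.{u} A) n).obj (ModuleCat.of A (ℕ →₀ A)) ⟶ Z) :
    homSeq n Z ((DerivedCategory.singleFunctor (ModuleCat.{u} A) n).map (telSES f).f ≫ g) =
      seqMap f (homSeq n Z g) := by
  funext k
  change (DBase.homToH n ((DerivedCategory.singleFunctor (ModuleCat.{u} A) n).map (telSES f).f ≫ g)).hom _ = _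
  rw [DBase.homToH_precomp]
  change (DBase.homToH n g).hom (tel f (Finsupp.single k (1 : A))) = _
  rw [tel_single, map_sub]
  have h4 : Finsupp.single (k + 1) (f * 1) = f • Finsupp.single (k + 1) (1 : A) := by simp
  rw [h4, map_smul]
  rfl

lemma bij_precomp_tel (n : ℤ) (Z : Dual.D A) (f : A)
    (h : Function.Bijective (seqMap (M := Dual.HD A Z n) f)) :
    Function.Bijective (fun g : (DerivedCategory.singleFunctor (ModuleCat.{u} A) n).obj
      (ModuleCat.of A (ℕ →₀ A)) ⟶ Z => (DerivedCategory.singleFunctor (ModuleCat.{u} A) n).map (telSES f).f ≫ g) := by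
  have h1 := homSeq_bijective n Z
  have h2 : homSeq n Z ∘ (fun g => (DerivedCategory.singleFunctor (ModuleCat.{u} A) n).map (telSES f).f ≫ g) =
      seqMap f ∘ homSeq n Z := by
    funext g
    exact homSeq_tel n Z f g
  have h3 : Function.Bijective (homSeq n Z ∘
      (fun g => (DerivedCategory.singleFunctor (ModuleCat.{u} A) n).map (telSES f).f ≫ g)) := by
    rw [h2]
    exact h.comp h1
  exact (Function.Bijective.of_comp_iff' h1 _).1 h3

theorem subsingleton_of_seq (f : A) (Z : Dual.D A)
    (h : ∀ n : ℤ, Function.Bijective (seqMap (M := Dual.HD A Z n) f)) :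
    Subsingleton (Dual.inD A (Localization.Away f) ⟶ Z) := by
  have hT := (telSES_shortExact f).singleTriangle_distinguished
  have key : ∀ g : (DerivedCategory.singleFunctor (ModuleCat.{u} A) 0).obj (telSES f).X₃ ⟶ Z, g = 0 := by
    intro g
    have h1 : (DerivedCategory.singleFunctor (ModuleCat.{u} A) 0).map (telSES f).g ≫ g = 0 := by
      apply (bij_precomp_tel 0 Z f (h 0)).1
      dsimp only
      rw [← Category.assoc]
      rw [← Functor.map_comp]
      rw [(telSES f).zero]
      simp
    obtain ⟨g', hg'⟩ := Triangle.yoneda_exact₃ _ hT g h1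
    let e := ((DerivedCategory.singleFunctors (ModuleCat.{u} A)).shiftIso 1 (-1) 0 (by simp)).app
      (ModuleCat.of A (ℕ →₀ A))
    obtain ⟨g'', hg''⟩ := (bij_precomp_tel (-1) Z f (h (-1))).2 (e.inv ≫ g')
    have hnat := ((DerivedCategory.singleFunctors (ModuleCat.{u} A)).shiftIso 1 (-1) 0 (by simp)).hom.naturality (telSES f).f
    have h5 : g' = ((DerivedCategory.singleFunctor (ModuleCat.{u} A) 0).map (telSES f).f)⟦(1 : ℤ)⟧' ≫ e.hom ≫ g'' := by
      rw [Iso.eq_inv_comp] at hg''
      rw [← hg'', ← Category.assoc, ← Category.assoc]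
      congr 1
      exact hnat.symm
    have h6 := comp_distTriang_mor_zero₃₁ _ hT
    rw [hg', h5]
    rw [← Category.assoc]
    erw [h6]
    simp
  exact ⟨fun a b => (key a).trans (key b).symm⟩

/-- A criterion for derived completeness. -/
theorem isDerivedComplete_of_seq (I : Ideal A) (Y : Dual.D A)
    (h : ∀ f ∈ I, ∀ n : ℤ, Function.Bijective (seqMap (M := Dual.HD A Y n) f)) :
    DRing.IsDerivedComplete I Y := by
  intro f hf n
  apply subsingleton_of_seq f
  intro i
  exact seqMap_bijective_of_equiv f (DualShift.shiftHD Y n i (n + i) rfl).symm.toLinearEquiv (h f hf (n + i))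

end Crit

end Groth.Agent.LoccohB.DCompCrit
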