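import Groth.Agent.LoccohB.DBase3
import Groth.Agent.LoccohB.HomCls
import Groth.Agent.LoccohB.RAdj
import Groth.Agent.LoccohB.RpushTri
import Groth.Agent.LoccohB.Univ
import Groth.Agent.CohtopA.DModRing
import Groth.Agent.CohtopA.BrownW
import Groth.Agent.CohtopB.BrownCore
import Groth.Agent.PerfB.CoprodDerived
import Groth.Agent.PerfB.BoundedInd
import Groth.Prelude.Def_DRing2

/-!
# Compact objects and dévissage in `D(A)` (standard universe levels)

* `isCompactW_sg`, `isCompactW_of_isPerfect`: `A[-n]` and perfect objects are compact with respect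
  to `u`-small coproducts;
* `prop_of_localizing`: a property of objects of `D(A)` closed under isomorphisms, `u`-small
  coproducts and cones which contains all `A[n]` contains every object.
-/

set_option autoImplicit false

universe u

open CategoryTheory Limits Pretriangulated DerivedCategory ZeroObject

attribute [local instance] HasDerivedCategory.standard

namespace Groth.Agent.LoccohB.DDev

open DBase Groth.Agent.CohtopA.Compact Groth.Agent.CohtopA.BrownW Groth.Agent.CohtopA.DModRing
  Groth.Agent.PerfB.CoprodDerived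

variable {A : Type u} [CommRing A]

instance hasCoproducts : HasCoproducts.{u} (Dual.D A) :=
  fun _ => inferInstance

instance locallySmall : LocallySmall.{u} (Dual.D A) :=
  RpushTri.locallySmall_derivedCategory RpushTri.hasKInj

/-- The chosen coproduct cofan of a family in `D(A)`. -/
theorem exists_cofan_isFiniteSum (n : ℤ) (ι : Type u) (X : ι → Dual.D A) :
    ∃ (c : Cofan X) (_ : IsColimit c), ∀ (f : sg A n A ⟶ c.pt), IsFiniteSum c f := by
  classical
  let M : ι → CochainComplex (ModuleCat.{u} A) ℤ := fun j => Q.objPreimage (X j)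
  let e : ∀ j, Q.obj (M j) ≅ X j := fun j => Q.objObjPreimageIso (X j)
  let c : Cofan X := Cofan.mk (Q.obj (∐ M)) (fun j => (e j).inv ≫ Q.map (Sigma.ι M j))
  have hc : IsColimit c := by
    refine Cofan.IsColimit.mk _
      (fun s => Cofan.IsColimit.desc (isColimitQCofan M) (fun j => (e j).hom ≫ s.inj j)) ?_ ?_
    · intro s j
      have := Cofan.IsColimit.fac (isColimitQCofan M) (fun j => (e j).hom ≫ s.inj j) j
      simp only [Cofan.inj, Cofan.mk_ι_app] at this ⊢
      simp only [c, Cofan.mk_ι_app, Category.assoc]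
      rw [this]
      simp
    · intro s m hm
      refine Cofan.IsColimit.hom_ext (isColimitQCofan M) _ _ (fun j => ?_)
      rw [Cofan.IsColimit.fac]
      have := hm j
      simp only [Cofan.inj, Cofan.mk_ι_app, c] at this ⊢
      rw [← this]
      simp
  refine ⟨c, hc, fun f => ?_⟩
  let e0 : sg A n A ≅ Q.obj ((CochainComplex.singleFunctor (ModuleCat.{u} A) n).obj
      (ModuleCat.of A A)) := (singleFunctorIsoCompQ (ModuleCat.{u} A) n).app _
  obtain ⟨g, hg⟩ := LoccohB.HomCls.Q_map_surjective_of_kProj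
    ((CochainComplex.singleFunctor (ModuleCat.{u} A) n).obj (ModuleCat.of A A)) (∐ M)
    (e0.inv ≫ f)
  obtain ⟨s, hs⟩ := exists_finset_eq_sum A M n g
  refine ⟨s, fun j => e0.hom ≫ Q.map (g ≫ Sigma.π M j) ≫ (e j).hom, ?_⟩
  have h2 : Q.map g = ∑ j ∈ s, Q.map (g ≫ Sigma.π M j) ≫ Q.map (Sigma.ι M j) := by
    conv_lhs => rw [hs]
    rw [Functor.map_sum]
    exact Finset.sum_congr rfl (fun j _ => Functor.map_comp _ _ _)
  have h3 : f = e0.hom ≫ Q.map g := by rw [hg, Iso.hom_inv_id_assoc]
  rw [h3, h2, Preadditive.comp_sum]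
  refine Finset.sum_congr rfl (fun j _ => ?_)
  simp [c, Cofan.inj]

/-- `A[-n]` is compact. -/
theorem isCompactW_sg (n : ℤ) : IsCompactW.{u} (sg A n A) :=
  isCompactW_of_exists (exists_cofan_isFiniteSum n)

lemma isCompactW_of_retract {D : Type*} [Category* D] [Preadditive D] {K L : D} (i : K ⟶ L)
    (r : L ⟶ K) (hir : i ≫ r = 𝟙 K) (hL : IsCompactW.{u} L) : IsCompactW.{u} K := by
  intro ι X c hc f
  have := (hL ι X c hc (r ≫ f)).precomp i
  rwa [reassoc_of% hir] at this

variable (A) in
/-- The compact objects of `D(A)`. -/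
def compW : ObjectProperty (Dual.D A) := fun K => IsCompactW.{u} K

instance : (compW A).IsTriangulated :=
  isTriangulated_isCompactW

instance : (compW A).IsClosedUnderIsomorphisms where
  of_iso e h := isCompactW_of_iso e h

lemma isCompactW_finset_sum {D : Type*} [Category* D] [Preadditive D] {K : D} {κ : Type*}
    (s : Finset κ) {ι : Type u} {X : ι → D} {c : Cofan X} (f : κ → (K ⟶ c.pt))
    (h : ∀ k ∈ s, IsFiniteSum c (f k)) : IsFiniteSum c (∑ k ∈ s, f k) := by
  classical
  induction s using Finset.induction_on with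
  | empty => simpa using IsFiniteSum.zero c
  | insert a s ha ih =>
    rw [Finset.sum_insert ha]
    exact (h a (Finset.mem_insert_self a s)).add (ih fun k hk => h k (Finset.mem_insert_of_mem hk))

lemma isCompactW_projective (P : ModuleCat.{u} A) (n : ℤ) (hf : Module.Finite A P)
    (hp : Module.Projective A P) :
    IsCompactW.{u} ((singleFunctor (ModuleCat.{u} A) n).obj P) := by
  classical
  obtain ⟨r, f, hf'⟩ := Module.Finite.exists_fin' A P
  obtain ⟨s, hs⟩ := Module.projective_lifting_property f LinearMap.id hf'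
  intro ι X c hc g
  let F := singleFunctor (ModuleCat.{u} A) n
  have h1 : (𝟙 P : P ⟶ P) = ∑ k : Fin r,
      (ModuleCat.ofHom ((LinearMap.proj k).comp s) : P ⟶ ModuleCat.of A A) ≫
        (ModuleCat.ofHom (f.comp (LinearMap.single A (fun _ : Fin r => A) k)) :
          ModuleCat.of A A ⟶ P) := by
    apply ModuleCat.hom_ext
    rw [ModuleCat.hom_sum]
    ext x
    rw [LinearMap.sum_apply]
    have h2 : ∀ k : Fin r, ((ModuleCat.ofHom ((LinearMap.proj k).comp s) : P ⟶ ModuleCat.of A A) ≫
        (ModuleCat.ofHom (f.comp (LinearMap.single A (fun _ : Fin r => A) k)) :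
          ModuleCat.of A A ⟶ P)).hom x = f (Pi.single k (s x k)) := fun k => rfl
    simp only [h2]
    rw [← map_sum, LinearMap.sum_single_apply]
    exact (LinearMap.congr_fun hs x).symm
  have h3 : g = ∑ k : Fin r, F.map (ModuleCat.ofHom ((LinearMap.proj k).comp s) :
      P ⟶ ModuleCat.of A A) ≫ (F.map (ModuleCat.ofHom (f.comp
        (LinearMap.single A (fun _ : Fin r => A) k)) : ModuleCat.of A A ⟶ P) ≫ g) := by
    have h4 : F.map (𝟙 P) ≫ g = g := by rw [F.map_id, Category.id_comp]
    rw [h1, Functor.map_sum, Preadditive.sum_comp] at h4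
    rw [← h4]
    refine Finset.sum_congr rfl (fun k _ => ?_)
    rw [Functor.map_comp, Category.assoc]
    rw [h4]
  rw [h3]
  exact isCompactW_finset_sum _ _ (fun k _ =>
    (isCompactW_sg n ι X c hc _).precomp _)

/-- Perfect objects of `D(A)` are compact. -/
theorem isCompactW_of_isPerfect {K : Dual.D A} (hK : DRing.IsPerfect A K) :
    IsCompactW.{u} K := by
  obtain ⟨E, a, b, h1, h2, ⟨e⟩⟩ := hK
  exact isCompactW_of_iso e (PerfB.BoundedInd.bounded_induction
    (compW A) E a b h1
    (fun i => isCompactW_projective (E.X i) 0 (h2 i).1 (h2 i).2))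

/-- **Dévissage in `D(A)`**: a localizing property containing the `A[n]` contains everything. -/
theorem prop_of_localizing (P : ObjectProperty (Dual.D A))
    (hiso : ∀ {Y Y' : Dual.D A}, (Y ≅ Y') → P Y → P Y')
    (hcop : ∀ (κ : Type u) (Y : κ → Dual.D A), (∀ k, P (Y k)) → P (∐ Y))
    (hcone : ∀ T ∈ distTriang (Dual.D A), P T.obj₁ → P T.obj₂ → P T.obj₃)
    (hsg : ∀ n : ℤ, P (sg A n A)) (K : Dual.D A) : P K := by
  classical
  have : HasColimitsOfShape (Discrete ℕ) (Dual.D A) :=
    hasColimitsOfShape_of_equivalence (Discrete.equivalence (Equiv.ulift.{u} : ULift.{u} ℕ ≃ ℕ))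
  let E : ULift.{u} ℤ → Dual.D A := fun i => sg A i.down A
  refine CohtopB.BrownCore.mem_of_isLoc E ?_ ?_ ?_ P ?_ K
  · intro X hX
    by_contra h
    push Not at h
    apply hX
    have h0 : IsIso (0 : X ⟶ 0) := by
      refine Univ.isIso_of_sg _ (fun n => ⟨fun f g _ => ?_, fun f => ⟨0, ?_⟩⟩)
      · rw [h ⟨n⟩ f, h ⟨n⟩ g]
      · exact (isZero_zero (Dual.D A)).eq_of_tgt _ _
    exact (isZero_zero (Dual.D A)).of_iso (asIso (0 : X ⟶ 0))
  · intro X i α
    obtain ⟨s, g, hg⟩ := isFiniteSum_of_isCompactW (isCompactW_sg (A := A) i.down)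
      (coproductIsCoproduct X) α
    refine ⟨fun _ => i, fun n => if n ∈ s then g n else 0, ∑ k ∈ s, Sigma.ι (fun _ => E i) k, ?_⟩
    rw [hg, Preadditive.sum_comp]
    refine Finset.sum_congr rfl (fun k hk => ?_)
    simp [hk, Cofan.inj]
  · intro i
    exact ⟨⟨i.down + 1⟩, ⟨((singleFunctors (ModuleCat.{u} A)).shiftIso 1 i.down (i.down + 1)
      (by ring)).app (ModuleCat.of A A)⟩⟩
  · exact {
      iso := hiso
      coprod := hcop
      coprodNat := fun Y hY => by
        let e : ULift.{u} ℕ ≃ ℕ := Equiv.ulift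
        exact hiso (Sigma.reindex e Y) (hcop _ _ (fun k => hY _))
      cone := hcone
      mem := fun i => hsg i.down }

end Groth.Agent.LoccohB.DDev
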