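import Mathlib.CategoryTheory.Functor.Derived.PointwiseLeftDerived
import Mathlib.CategoryTheory.Functor.Derived.PointwiseRightDerived

/-!
# A criterion for total derived functors (left and right)

`L : C ⥤ D` a localization functor for `W`, `F : C ⥤ H` any functor, `P` a class of objects
of `C` ("projective-like") such that
(1a) `L.map : (X ⟶ Y) → (L.obj X ⟶ L.obj Y)` is surjective for `X` in the class,
(1b) `F` identifies maps out of such `X` that `L` identifies,
(2) every object `Y` has a map `X ⟶ Y` in `W` with `X` in the class.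
Then `F` has a pointwise left derived functor, the counit is an isomorphism on the class, and
`(G, α : L ⋙ G ⟶ F)` is a left derived functor iff `α` is an isomorphism on the class; in particular
left derived functors are absolute.  Dually for right derived functors.
-/

set_option autoImplicit false

namespace Groth.Agent.LoccohB.DerCrit

open CategoryTheory Category Limits Functor

set_option backward.isDefEq.respectTransparency false

universe v₁ v₂ v₃ v₄ u₁ u₂ u₃ u₄

variable {C : Type u₁} {D : Type u₂} {H : Type u₃} {H' : Type u₄}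
  [Category.{v₁} C] [Category.{v₂} D] [Category.{v₃} H] [Category.{v₄} H']

/-- `X` is projective-like for `L` and `F`. -/
structure IsLeftGood (L : C ⥤ D) (F : C ⥤ H) (X : C) : Prop where
  surj : ∀ Y : C, Function.Surjective (fun f : X ⟶ Y => L.map f)
  compat : ∀ (Y : C) (f g : X ⟶ Y), L.map f = L.map g → F.map f = F.map g

/-- `X` is injective-like for `L` and `F`. -/
structure IsRightGood (L : C ⥤ D) (F : C ⥤ H) (X : C) : Prop where
  surj : ∀ Y : C, Function.Surjective (fun f : Y ⟶ X => L.map f)
  compat : ∀ (Y : C) (f g : Y ⟶ X), L.map f = L.map g → F.map f = F.map g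

lemma IsLeftGood.of_bijective {L : C ⥤ D} {F : C ⥤ H} {X : C}
    (h : ∀ Y : C, Function.Bijective (fun f : X ⟶ Y => L.map f)) : IsLeftGood L F X :=
  ⟨fun Y => (h Y).2, fun Y f g hfg => by rw [(h Y).1 hfg]⟩

lemma IsRightGood.of_bijective {L : C ⥤ D} {F : C ⥤ H} {X : C}
    (h : ∀ Y : C, Function.Bijective (fun f : Y ⟶ X => L.map f)) : IsRightGood L F X :=
  ⟨fun Y => (h Y).2, fun Y f g hfg => by rw [(h Y).1 hfg]⟩

lemma IsLeftGood.comp {L : C ⥤ D} {F : C ⥤ H} {X : C} (h : IsLeftGood L F X) (G : H ⥤ H') :
    IsLeftGood L (F ⋙ G) X :=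
  ⟨h.surj, fun Y f g hfg => by simp [h.compat Y f g hfg]⟩

lemma IsRightGood.comp {L : C ⥤ D} {F : C ⥤ H} {X : C} (h : IsRightGood L F X) (G : H ⥤ H') :
    IsRightGood L (F ⋙ G) X :=
  ⟨h.surj, fun Y f g hfg => by simp [h.compat Y f g hfg]⟩

section Left

variable {L : C ⥤ D} {F : C ⥤ H}

/-- the cone with apex `F.obj X` over the structured arrow category of `L.obj X`. -/
noncomputable def coneOf {X : C} (hX : IsLeftGood L F X) :
    Cone (StructuredArrow.proj (L.obj X) L ⋙ F) where
  pt := F.obj X
  π :=
    { app := fun j => F.map (hX.surj j.right j.hom).choose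
      naturality := by
        intro j j' φ
        have h1 : L.map (hX.surj j'.right j'.hom).choose = j'.hom :=
          (hX.surj j'.right j'.hom).choose_spec
        have h2 : L.map (hX.surj j.right j.hom).choose = j.hom :=
          (hX.surj j.right j.hom).choose_spec
        have h3 : j.hom ≫ L.map φ.right = j'.hom := StructuredArrow.w φ
        have h4 : F.map (hX.surj j'.right j'.hom).choose =
            F.map ((hX.surj j.right j.hom).choose ≫ φ.right) := by
          apply hX.compat
          rw [L.map_comp, h1, h2, h3]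
        have h5 : 𝟙 (F.obj X) ≫ F.map (hX.surj j'.right j'.hom).choose =
            F.map (hX.surj j.right j.hom).choose ≫ F.map φ.right := by
          rw [h4, F.map_comp, Category.id_comp]
        exact h5 }

lemma coneOf_π_app {X : C} (hX : IsLeftGood L F X) {Y : C} (g : X ⟶ Y) :
    (coneOf hX).π.app (StructuredArrow.mk (L.map g)) = F.map g :=
  hX.compat _ _ _ (hX.surj Y (L.map g)).choose_spec

lemma cone_fac {X : C} (s : Cone (StructuredArrow.proj (L.obj X) L ⋙ F)) {Y : C} (g : X ⟶ Y) :
    s.π.app (StructuredArrow.mk (𝟙 (L.obj X))) ≫ F.map g = s.π.app (StructuredArrow.mk (L.map g)) := by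
  have e := s.π.naturality (StructuredArrow.homMk (f := StructuredArrow.mk (𝟙 (L.obj X)))
      (f' := StructuredArrow.mk (L.map g)) g (by simp))
  have e' : 𝟙 s.pt ≫ s.π.app (StructuredArrow.mk (L.map g)) =
    s.π.app (StructuredArrow.mk (𝟙 (L.obj X))) ≫ F.map g := e
  rw [← e', Category.id_comp]

/-- `coneOf` is a limit cone. -/
noncomputable def isLimitConeOf {X : C} (hX : IsLeftGood L F X) : IsLimit (coneOf hX) where
  lift s := s.π.app (StructuredArrow.mk (𝟙 (L.obj X)))
  fac s j := by
    obtain ⟨⟨⟨⟩⟩, Y, f⟩ := j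
    obtain ⟨g, rfl⟩ := hX.surj Y f
    have h1 := coneOf_π_app hX g
    have h2 := cone_fac s g
    change s.π.app (StructuredArrow.mk (𝟙 (L.obj X))) ≫
      (coneOf hX).π.app (StructuredArrow.mk (L.map g)) = s.π.app (StructuredArrow.mk (L.map g))
    rw [h1, h2]
  uniq s m hm := by
    have h1 := hm (StructuredArrow.mk (L.map (𝟙 X)))
    have h2 := cone_fac s (𝟙 X)
    have h0 : (coneOf hX).π.app (StructuredArrow.mk (L.map (𝟙 X))) = 𝟙 (F.obj X) :=
      (coneOf_π_app hX (𝟙 X)).trans (F.map_id X)
    have h4 : s.π.app (StructuredArrow.mk (𝟙 (L.obj X))) ≫ F.map (𝟙 X) =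
        s.π.app (StructuredArrow.mk (𝟙 (L.obj X))) :=
      (congrArg (fun t => s.π.app (StructuredArrow.mk (𝟙 (L.obj X))) ≫ t) (F.map_id X)).trans
        (Category.comp_id _)
    have h5 : m ≫ (coneOf hX).π.app (StructuredArrow.mk (L.map (𝟙 X))) = m :=
      (congrArg (fun t => m ≫ t) h0).trans (Category.comp_id _)
    exact h5.symm.trans (h1.trans (h2.symm.trans h4))

lemma coneAt_π_app (G : D ⥤ H) (α : L ⋙ G ⟶ F) {X Y : C} (g : X ⟶ Y) :
    ((RightExtension.mk G α).coneAt (L.obj X)).π.app (StructuredArrow.mk (L.map g)) =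
      α.app X ≫ F.map g :=
  α.naturality g

/-- If `α` is an isomorphism at a projective-like `X`, then `(G, α)` is a pointwise right Kan
extension at `L.obj X`. -/
noncomputable def isPointwiseAt {X : C} (hX : IsLeftGood L F X) (G : D ⥤ H) (α : L ⋙ G ⟶ F)
    [IsIso (α.app X)] : (RightExtension.mk G α).IsPointwiseRightKanExtensionAt (L.obj X) :=
  IsLimit.ofIsoLimit (isLimitConeOf hX) (Cone.ext (asIso (α.app X)).symm (by
    intro j
    obtain ⟨⟨⟨⟩⟩, Y, f⟩ := j
    obtain ⟨g, rfl⟩ := hX.surj Y f
    have h1 := coneOf_π_app hX g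
    have h2 := coneAt_π_app G α g
    change (coneOf hX).π.app (StructuredArrow.mk (L.map g)) = CategoryTheory.inv (α.app X) ≫
      ((RightExtension.mk G α).coneAt (L.obj X)).π.app (StructuredArrow.mk (L.map g))
    rw [h1, h2, IsIso.inv_hom_id_assoc]))

lemma isIso_of_isPointwiseAt {X : C} (hX : IsLeftGood L F X) (G : D ⥤ H) (α : L ⋙ G ⟶ F)
    (h : (RightExtension.mk G α).IsPointwiseRightKanExtensionAt (L.obj X)) :
    IsIso (α.app X) := by
  have h' : IsLimit ((RightExtension.mk G α).coneAt (L.obj X)) := h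
  have e : (IsLimit.conePointUniqueUpToIso h' (isLimitConeOf hX)).hom = α.app X := by
    have h1 := IsLimit.conePointUniqueUpToIso_hom_comp h' (isLimitConeOf hX)
      (StructuredArrow.mk (L.map (𝟙 X)))
    have h2 : (h'.conePointUniqueUpToIso (isLimitConeOf hX)).hom ≫
        (coneOf hX).π.app (StructuredArrow.mk (L.map (𝟙 X))) =
        (h'.conePointUniqueUpToIso (isLimitConeOf hX)).hom :=
      (congrArg (fun t => (h'.conePointUniqueUpToIso (isLimitConeOf hX)).hom ≫ t)
        ((coneOf_π_app hX (𝟙 X)).trans (F.map_id X))).trans (Category.comp_id _)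
    have h3 : ((RightExtension.mk G α).coneAt (L.obj X)).π.app
        (StructuredArrow.mk (L.map (𝟙 X))) = α.app X :=
      (coneAt_π_app G α (𝟙 X)).trans ((congrArg (fun t => α.app X ≫ t) (F.map_id X)).trans
        (Category.comp_id _))
    exact h2.symm.trans (h1.trans h3)
  rw [← e]
  infer_instance

lemma hasPointwiseAt {X : C} (hX : IsLeftGood L F X) : HasPointwiseRightKanExtensionAt L F (L.obj X) :=
  ⟨_, isLimitConeOf hX⟩

variable (L) (W : MorphismProperty C) [L.IsLocalization W] (P : ObjectProperty C)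

include L in
/-- Existence of (pointwise) left derived functors. -/
theorem hasPointwiseLeftDerivedFunctor (hP : ∀ X, P X → IsLeftGood L F X)
    (res : ∀ Y : C, ∃ (X : C) (_ : P X) (f : X ⟶ Y), W f) :
    F.HasPointwiseLeftDerivedFunctor W := by
  intro Y
  obtain ⟨X, hX, f, hf⟩ := res Y
  rw [← F.hasPointwiseLeftDerivedFunctorAt_iff_of_mem W f hf,
    F.hasPointwiseLeftDerivedFunctorAt_iff L W X]
  exact hasPointwiseAt (hP X hX)

include L in
theorem hasLeftDerivedFunctor (hP : ∀ X, P X → IsLeftGood L F X)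
    (res : ∀ Y : C, ∃ (X : C) (_ : P X) (f : X ⟶ Y), W f) :
    F.HasLeftDerivedFunctor W :=
  have := hasPointwiseLeftDerivedFunctor L W P hP res
  inferInstance

variable {L}

/-- A left derived functor is computed by projective-like objects. -/
theorem isIso_app_of_isLeftDerivedFunctor (hP : ∀ X, P X → IsLeftGood L F X)
    (res : ∀ Y : C, ∃ (X : C) (_ : P X) (f : X ⟶ Y), W f)
    (G : D ⥤ H) (α : L ⋙ G ⟶ F) [G.IsLeftDerivedFunctor α W] (X : C) (hX : P X) :
    IsIso (α.app X) := by
  have := hasPointwiseLeftDerivedFunctor L W P hP res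
  exact isIso_of_isPointwiseAt (hP X hX) G α
    (isPointwiseRightKanExtensionOfHasPointwiseLeftDerivedFunctor G α W (L.obj X))

/-- `α` iso on the class implies `G` is the left derived functor. -/
theorem isLeftDerivedFunctor_of_isIso_app (hP : ∀ X, P X → IsLeftGood L F X)
    (res : ∀ Y : C, ∃ (X : C) (_ : P X) (f : X ⟶ Y), W f)
    (G : D ⥤ H) (α : L ⋙ G ⟶ F) (hα : ∀ X, P X → IsIso (α.app X)) :
    G.IsLeftDerivedFunctor α W where
  isRightKanExtension := by
    have : ∀ Y, Nonempty ((RightExtension.mk G α).IsPointwiseRightKanExtensionAt Y) := fun Y => by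
      have := Localization.essSurj L W
      obtain ⟨X, hX, f, hf⟩ := res (L.objPreimage Y)
      have := hα X hX
      exact ⟨(RightExtension.mk G α).isPointwiseRightKanExtensionAtOfIso'
        (isPointwiseAt (hP X hX) G α)
        (Localization.isoOfHom L W f hf ≪≫ L.objObjPreimageIso Y)⟩
    have h : (RightExtension.mk G α).IsPointwiseRightKanExtension := fun Y => (this Y).some
    exact h.isRightKanExtension

/-- Left derived functors computed on projective-like objects are absolute. -/
theorem isLeftDerivedFunctor_comp (hP : ∀ X, P X → IsLeftGood L F X)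
    (res : ∀ Y : C, ∃ (X : C) (_ : P X) (f : X ⟶ Y), W f)
    (G : D ⥤ H) (α : L ⋙ G ⟶ F) [G.IsLeftDerivedFunctor α W] (T : H ⥤ H') :
    (G ⋙ T).IsLeftDerivedFunctor ((Functor.associator L G T).inv ≫ whiskerRight α T) W :=
  isLeftDerivedFunctor_of_isIso_app W P (fun X hX => (hP X hX).comp T) res _ _ (fun X hX => by
    have := isIso_app_of_isLeftDerivedFunctor W P hP res G α X hX
    have h : ((Functor.associator L G T).inv ≫ whiskerRight α T).app X = T.map (α.app X) := by
      simp
    rw [h]
    infer_instance)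

end Left

section Right

variable {L : C ⥤ D} {F : C ⥤ H}

/-- the cocone with apex `F.obj X` over the costructured arrow category of `L.obj X`. -/
noncomputable def coconeOf {X : C} (hX : IsRightGood L F X) :
    Cocone (CostructuredArrow.proj L (L.obj X) ⋙ F) where
  pt := F.obj X
  ι :=
    { app := fun j => F.map (hX.surj j.left j.hom).choose
      naturality := by
        intro j j' φ
        have h1 : L.map (hX.surj j'.left j'.hom).choose = j'.hom :=
          (hX.surj j'.left j'.hom).choose_spec
        have h2 : L.map (hX.surj j.left j.hom).choose = j.hom :=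
          (hX.surj j.left j.hom).choose_spec
        have h3 : L.map φ.left ≫ j'.hom = j.hom := CostructuredArrow.w φ
        have h4 : F.map (hX.surj j.left j.hom).choose =
            F.map (φ.left ≫ (hX.surj j'.left j'.hom).choose) := by
          apply hX.compat
          rw [L.map_comp, h1, h2, h3]
        have h5 : F.map φ.left ≫ F.map (hX.surj j'.left j'.hom).choose =
            F.map (hX.surj j.left j.hom).choose ≫ 𝟙 (F.obj X) := by
          rw [h4, F.map_comp, Category.comp_id]
        exact h5 }

lemma coconeOf_ι_app {X : C} (hX : IsRightGood L F X) {Y : C} (g : Y ⟶ X) :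
    (coconeOf hX).ι.app (CostructuredArrow.mk (L.map g)) = F.map g :=
  hX.compat _ _ _ (hX.surj Y (L.map g)).choose_spec

lemma cocone_fac {X : C} (s : Cocone (CostructuredArrow.proj L (L.obj X) ⋙ F)) {Y : C} (g : Y ⟶ X) :
    F.map g ≫ s.ι.app (CostructuredArrow.mk (𝟙 (L.obj X))) =
      s.ι.app (CostructuredArrow.mk (L.map g)) := by
  have e := s.ι.naturality (CostructuredArrow.homMk (f' := CostructuredArrow.mk (𝟙 (L.obj X)))
      (f := CostructuredArrow.mk (L.map g)) g (by simp))
  have e' : F.map g ≫ s.ι.app (CostructuredArrow.mk (𝟙 (L.obj X))) =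
    s.ι.app (CostructuredArrow.mk (L.map g)) ≫ 𝟙 s.pt := e
  exact e'.trans (Category.comp_id _)

/-- `coconeOf` is a colimit cocone. -/
noncomputable def isColimitCoconeOf {X : C} (hX : IsRightGood L F X) : IsColimit (coconeOf hX) where
  desc s := s.ι.app (CostructuredArrow.mk (𝟙 (L.obj X)))
  fac s j := by
    obtain ⟨Y, ⟨⟨⟩⟩, f⟩ := j
    obtain ⟨g, rfl⟩ := hX.surj Y f
    have h1 := coconeOf_ι_app hX g
    have h2 := cocone_fac s g
    change (coconeOf hX).ι.app (CostructuredArrow.mk (L.map g)) ≫
      s.ι.app (CostructuredArrow.mk (𝟙 (L.obj X))) = s.ι.app (CostructuredArrow.mk (L.map g))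
    rw [h1, h2]
  uniq s m hm := by
    have h1 := hm (CostructuredArrow.mk (L.map (𝟙 X)))
    have h2 := cocone_fac s (𝟙 X)
    have h0 : (coconeOf hX).ι.app (CostructuredArrow.mk (L.map (𝟙 X))) = 𝟙 (F.obj X) :=
      (coconeOf_ι_app hX (𝟙 X)).trans (F.map_id X)
    have h4 : F.map (𝟙 X) ≫ s.ι.app (CostructuredArrow.mk (𝟙 (L.obj X))) =
        s.ι.app (CostructuredArrow.mk (𝟙 (L.obj X))) :=
      (congrArg (fun t => t ≫ s.ι.app (CostructuredArrow.mk (𝟙 (L.obj X)))) (F.map_id X)).trans
        (Category.id_comp _)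
    have h5 : (coconeOf hX).ι.app (CostructuredArrow.mk (L.map (𝟙 X))) ≫ m = m :=
      (congrArg (fun t => t ≫ m) h0).trans (Category.id_comp _)
    exact h5.symm.trans (h1.trans (h2.symm.trans h4))

lemma coconeAt_ι_app (G : D ⥤ H) (α : F ⟶ L ⋙ G) {X Y : C} (g : Y ⟶ X) :
    ((LeftExtension.mk G α).coconeAt (L.obj X)).ι.app (CostructuredArrow.mk (L.map g)) =
      F.map g ≫ α.app X :=
  (α.naturality g).symm

/-- If `α` is an isomorphism at an injective-like `X`, then `(G, α)` is a pointwise left Kan
extension at `L.obj X`. -/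
noncomputable def isPointwiseAtR {X : C} (hX : IsRightGood L F X) (G : D ⥤ H) (α : F ⟶ L ⋙ G)
    [IsIso (α.app X)] : (LeftExtension.mk G α).IsPointwiseLeftKanExtensionAt (L.obj X) :=
  IsColimit.ofIsoColimit (isColimitCoconeOf hX) (Cocone.ext (asIso (α.app X)) (by
    intro j
    obtain ⟨Y, ⟨⟨⟩⟩, f⟩ := j
    obtain ⟨g, rfl⟩ := hX.surj Y f
    have h1 := coconeOf_ι_app hX g
    have h2 := coconeAt_ι_app G α g
    change (coconeOf hX).ι.app (CostructuredArrow.mk (L.map g)) ≫ α.app X =
      ((LeftExtension.mk G α).coconeAt (L.obj X)).ι.app (CostructuredArrow.mk (L.map g))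
    rw [h1, h2]))

lemma isIso_of_isPointwiseAtR {X : C} (hX : IsRightGood L F X) (G : D ⥤ H) (α : F ⟶ L ⋙ G)
    (h : (LeftExtension.mk G α).IsPointwiseLeftKanExtensionAt (L.obj X)) :
    IsIso (α.app X) := by
  have h' : IsColimit ((LeftExtension.mk G α).coconeAt (L.obj X)) := h
  have e : (IsColimit.coconePointUniqueUpToIso (isColimitCoconeOf hX) h').hom = α.app X := by
    have h1 := IsColimit.comp_coconePointUniqueUpToIso_hom (isColimitCoconeOf hX) h'
      (CostructuredArrow.mk (L.map (𝟙 X)))
    have h2 : (coconeOf hX).ι.app (CostructuredArrow.mk (L.map (𝟙 X))) ≫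
        ((isColimitCoconeOf hX).coconePointUniqueUpToIso h').hom =
        ((isColimitCoconeOf hX).coconePointUniqueUpToIso h').hom :=
      (congrArg (fun t => t ≫ ((isColimitCoconeOf hX).coconePointUniqueUpToIso h').hom)
        ((coconeOf_ι_app hX (𝟙 X)).trans (F.map_id X))).trans (Category.id_comp _)
    have h3 : ((LeftExtension.mk G α).coconeAt (L.obj X)).ι.app
        (CostructuredArrow.mk (L.map (𝟙 X))) = α.app X :=
      (coconeAt_ι_app G α (𝟙 X)).trans ((congrArg (fun t => t ≫ α.app X) (F.map_id X)).trans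
        (Category.id_comp _))
    exact h2.symm.trans (h1.trans h3)
  rw [← e]
  infer_instance

lemma hasPointwiseAtR {X : C} (hX : IsRightGood L F X) :
    HasPointwiseLeftKanExtensionAt L F (L.obj X) :=
  ⟨_, isColimitCoconeOf hX⟩

variable (L) (W : MorphismProperty C) [L.IsLocalization W] (P : ObjectProperty C)

include L in
/-- Existence of (pointwise) right derived functors. -/
theorem hasPointwiseRightDerivedFunctor (hP : ∀ X, P X → IsRightGood L F X)
    (res : ∀ Y : C, ∃ (X : C) (_ : P X) (f : Y ⟶ X), W f) :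
    F.HasPointwiseRightDerivedFunctor W := by
  intro Y
  obtain ⟨X, hX, f, hf⟩ := res Y
  rw [F.hasPointwiseRightDerivedFunctorAt_iff_of_mem W f hf,
    F.hasPointwiseRightDerivedFunctorAt_iff L W X]
  exact hasPointwiseAtR (hP X hX)

include L in
theorem hasRightDerivedFunctor (hP : ∀ X, P X → IsRightGood L F X)
    (res : ∀ Y : C, ∃ (X : C) (_ : P X) (f : Y ⟶ X), W f) :
    F.HasRightDerivedFunctor W :=
  have := hasPointwiseRightDerivedFunctor L W P hP res
  inferInstance

variable {L}

/-- A right derived functor is computed by injective-like objects. -/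
theorem isIso_app_of_isRightDerivedFunctor (hP : ∀ X, P X → IsRightGood L F X)
    (res : ∀ Y : C, ∃ (X : C) (_ : P X) (f : Y ⟶ X), W f)
    (G : D ⥤ H) (α : F ⟶ L ⋙ G) [G.IsRightDerivedFunctor α W] (X : C) (hX : P X) :
    IsIso (α.app X) := by
  have := hasPointwiseRightDerivedFunctor L W P hP res
  exact isIso_of_isPointwiseAtR (hP X hX) G α
    (isPointwiseLeftKanExtensionOfHasPointwiseRightDerivedFunctor G α W (L.obj X))

/-- `α` iso on the class implies `G` is the right derived functor. -/
theorem isRightDerivedFunctor_of_isIso_app (hP : ∀ X, P X → IsRightGood L F X)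
    (res : ∀ Y : C, ∃ (X : C) (_ : P X) (f : Y ⟶ X), W f)
    (G : D ⥤ H) (α : F ⟶ L ⋙ G) (hα : ∀ X, P X → IsIso (α.app X)) :
    G.IsRightDerivedFunctor α W where
  isLeftKanExtension := by
    have : ∀ Y, Nonempty ((LeftExtension.mk G α).IsPointwiseLeftKanExtensionAt Y) := fun Y => by
      have := Localization.essSurj L W
      obtain ⟨X, hX, f, hf⟩ := res (L.objPreimage Y)
      have := hα X hX
      exact ⟨(LeftExtension.mk G α).isPointwiseLeftKanExtensionAtOfIso'
        (isPointwiseAtR (hP X hX) G α)
        ((Localization.isoOfHom L W f hf).symm ≪≫ L.objObjPreimageIso Y)⟩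
    have h : (LeftExtension.mk G α).IsPointwiseLeftKanExtension := fun Y => (this Y).some
    exact h.isLeftKanExtension

/-- Right derived functors computed on injective-like objects are absolute. -/
theorem isRightDerivedFunctor_comp (hP : ∀ X, P X → IsRightGood L F X)
    (res : ∀ Y : C, ∃ (X : C) (_ : P X) (f : Y ⟶ X), W f)
    (G : D ⥤ H) (α : F ⟶ L ⋙ G) [G.IsRightDerivedFunctor α W] (T : H ⥤ H') :
    (G ⋙ T).IsRightDerivedFunctor (whiskerRight α T ≫ (Functor.associator L G T).hom) W :=
  isRightDerivedFunctor_of_isIso_app W P (fun X hX => (hP X hX).comp T) res _ _ (fun X hX => by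
    have := isIso_app_of_isRightDerivedFunctor W P hP res G α X hX
    have h : (whiskerRight α T ≫ (Functor.associator L G T).hom).app X = T.map (α.app X) := by
      simp
    rw [h]
    infer_instance)

end Right

end Groth.Agent.LoccohB.DerCrit
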