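import Groth.Agent.LoccohB.RAdj
import Mathlib.RingTheory.Flat.TorsionFree
import Mathlib.Algebra.Category.ModuleCat.Projective

/-!
# Effective Cartier divisors: `RHom_C(C/f, N)[1] ≅ N ⊗^L_C C/f`

For a surjection `π : C → C'` with kernel generated by a non-zero-divisor `f`, any right adjoint `R` of
`restrictD π` and every `N ∈ D(C)` (unbounded), `R(N)[1] ≅ LBaseChange π N`.

`IsGood π m` : for all `R ⊣`-right adjoints, all `N`: `R(N)[m] ≅ LBaseChange π N`.  Good surjections compose;
isomorphisms are `0`-good; quotients by a non-zero-divisor are `1`-good; evaluation maps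
`C[y_1, …, y_m] → C` are `m`-good.
-/

set_option autoImplicit false

universe u v w

open CategoryTheory CategoryTheory.Limits CategoryTheory.Functor

attribute [local instance] HasDerivedCategory.standard

namespace Groth.Agent.LoccohB.Divisor

open DerivedCategory

section Values

variable {A B : Type u} [CommRing A] [CommRing B] (φ : A →+* B) [DRing.HasLBaseChange φ]

/-- Value of the derived base change on a K-projective complex. -/
noncomputable def lbcObjIso (P : CochainComplex (ModuleCat.{u} A) ℤ) [P.IsKProjective] :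
    (DRing.LBaseChange φ).obj (Q.obj P) ≅ Q.obj ((DivisorCx.extCx φ).obj P) :=
  (DRing.LBaseChange φ).mapIso ((quotientCompQhIso _).symm.app P) ≪≫
    (asIso ((LBC.lbcCounit φ).app ((HomotopyCategory.quotient _ _).obj P))) ≪≫
    (quotientCompQhIso _).app ((DivisorCx.extCx φ).obj P)

end Values

theorem smul_injective_of_projective {C : Type u} [CommRing C] {f : C} (hf : f ∈ nonZeroDivisors C)
    (P : ModuleCat.{u} C) [Projective P] (p : P) (hp : f • p = 0) : p = 0 := by
  have h1 : Module.Projective C P := (IsProjective.iff_projective (R := C) P).2 inferInstance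
  have h2 : Module.Flat C P := inferInstance
  have h3 : IsSMulRegular P f := Module.Flat.isSMulRegular_of_nonZeroDivisors hf
  exact h3 (by simpa using hp)

theorem smul_surjective_of_injective {C : Type u} [CommRing C] {f : C} (hf : f ∈ nonZeroDivisors C)
    (J : ModuleCat.{u} C) [Injective J] (j : J) : ∃ j' : J, f • j' = j := by
  let m : ModuleCat.of C C ⟶ ModuleCat.of C C := ModuleCat.ofHom (LinearMap.mulLeft C f)
  have hm : Mono m := by
    rw [ModuleCat.mono_iff_injective]
    intro a b hab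
    have : f * a = f * b := hab
    exact (mul_cancel_left_mem_nonZeroDivisors hf).1 this
  let g : ModuleCat.of C C ⟶ J := ModuleCat.ofHom (LinearMap.toSpanSingleton C J j)
  refine ⟨Injective.factorThru g m (1 : C), ?_⟩
  have h1 : (m ≫ Injective.factorThru g m) (1 : C) = g (1 : C) := by rw [Injective.comp_factorThru]
  rw [ModuleCat.comp_apply] at h1
  have h2 : m (1 : C) = f • (1 : C) := rfl
  rw [h2, _root_.map_smul] at h1
  rw [h1]
  exact one_smul C j

section Main

variable {C C' : Type u} [CommRing C] [CommRing C']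

/-- `R(N)[1] ≅ N ⊗^L C/f` for all `N` in `D(C)`. -/
theorem divisor_iso (π : C →+* C') [DRing.HasLBaseChange π] (f : C) (hπ : Function.Surjective π)
    (hker : RingHom.ker π = Ideal.span {f}) (hf : f ∈ nonZeroDivisors C)
    {R : Dual.D C ⥤ Dual.D C'} (adj : DRing.restrictD π ⊣ R) (N : Dual.D C) :
    Nonempty ((R.obj N)⟦(1 : ℤ)⟧ ≅ (DRing.LBaseChange π).obj N) := by
  obtain ⟨P, p, hP, hp, hPp, -⟩ := KProj.exists_kprojective (Q.objPreimage N)
  obtain ⟨J, j, hJ, hj, hmono, hJi⟩ := RAdj.exists_kinjective C P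
  let eN : Q.obj P ≅ N := asIso (Q.map p) ≪≫ Q.objObjPreimageIso N
  let eJ : Q.obj P ≅ Q.obj J := asIso (Q.map j)
  obtain ⟨e⟩ := DivisorCx.nonempty_iso (π := π) (f := f) hπ hker j hj
    (fun n p hp => smul_injective_of_projective hf (P.X n) p hp)
    (fun n x => smul_surjective_of_injective hf (J.X n) x)
  exact ⟨(shiftFunctor _ (1 : ℤ)).mapIso (R.mapIso (eN.symm ≪≫ eJ) ≪≫ RAdj.objIso adj J) ≪≫ e ≪≫
    (lbcObjIso π P).symm ≪≫ (DRing.LBaseChange π).mapIso eN⟩

/-- `π : C → C'` is `m`-good: `RHom_C(C', N)[m] ≅ N ⊗^L_C C'` for all `N` (for one, equivalently any, right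
adjoint of restriction). -/
def IsGood (π : C →+* C') (m : ℤ) : Prop :=
  ∀ (_ : DRing.HasLBaseChange π) (R : Dual.D C ⥤ Dual.D C') (_ : DRing.restrictD π ⊣ R) (N : Dual.D C),
    Nonempty ((R.obj N)⟦m⟧ ≅ (DRing.LBaseChange π).obj N)

theorem isGood_of_nonZeroDivisor (π : C →+* C') (f : C) (hπ : Function.Surjective π)
    (hker : RingHom.ker π = Ideal.span {f}) (hf : f ∈ nonZeroDivisors C) : IsGood π 1 :=
  fun _ _ adj N => divisor_iso π f hπ hker hf adj N

theorem IsGood.comp {C'' : Type u} [CommRing C''] {π : C →+* C'} {π' : C' →+* C''} {m m' : ℤ}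
    (h : IsGood π m) (h' : IsGood π' m') : IsGood (π'.comp π) (m + m') := by
  intro _ R adj N
  have := LBC.hasLBaseChange π
  have := LBC.hasLBaseChange π'
  obtain ⟨e⟩ := h inferInstance _ (RAdj.coextAdj π) N
  obtain ⟨e'⟩ := h' inferInstance _ (RAdj.coextAdj π') ((DRing.LBaseChange π).obj N)
  let c := RAdj.compIso (RAdj.coextAdj π) (RAdj.coextAdj π') adj
  refine ⟨(shiftFunctor _ (m + m')).mapIso (c.app N) ≪≫ (shiftFunctorAdd' (Dual.D C'') m m' (m + m') rfl).app _ ≪≫
    (shiftFunctor _ m').mapIso ((RAdj.shiftIso (RAdj.coextAdj π') _ m).symm ≪≫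
      (RAdj.RCoext π').mapIso e) ≪≫ e' ≪≫ ((RAdj.lbcComp π π').app N).symm⟩

end Main

end Groth.Agent.LoccohB.Divisor
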