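import Mathlib.Algebra.Category.ModuleCat.ChangeOfRings
import Mathlib.Algebra.Category.ModuleCat.Abelian
import Mathlib.LinearAlgebra.TensorProduct.RightExactness
import Mathlib.Algebra.Homology.ShortComplex.ModuleCat
import Mathlib.Algebra.Homology.ShortComplex.ShortExact

/-!
# The snake map for a non-zero-divisor

`π : C → C'` surjective with kernel generated by `f`; for a short exact sequence `0 → P → J → T → 0` of
`C`-modules the multiplication by `f` gives a `C'`-linear map `Hom_C(C', T) → C' ⊗ P`; if `f` is injective on `P`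
and surjective on `J` the sequence `0 → Hom_C(C', J) → Hom_C(C', T) → C' ⊗ P → 0` is exact.
-/

universe u

open CategoryTheory CategoryTheory.Limits ModuleCat ChangeOfRings

namespace Groth.Agent.LoccohB.DivisorSnake

variable {C C' : Type u} [CommRing C] [CommRing C'] (π : C →+* C') (f : C)

/-- The canonical map `P → C' ⊗ P` on elements. -/
noncomputable def tm (P : ModuleCat.{u} C) (p : P) : (extendScalars π).obj P := (1 : C') ⊗ₜ[C,π] p

theorem tm_add (P : ModuleCat.{u} C) (p q : P) : tm π P (p + q) = tm π P p + tm π P q := by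
  let : Module C C' := Module.compHom C' π
  exact TensorProduct.tmul_add _ _ _

theorem tm_zero (P : ModuleCat.{u} C) : tm π P 0 = 0 := by
  let : Module C C' := Module.compHom C' π
  exact TensorProduct.tmul_zero _ _

theorem tm_smul (P : ModuleCat.{u} C) (c : C) (p : P) : tm π P (c • p) = π c • tm π P p := by
  let : Module C C' := Module.compHom C' π
  have h := TensorProduct.smul_tmul (R := C) c (1 : C') p
  exact h.symm.trans (ExtendScalars.smul_tmul π (π c) (1 : C') p).symm

theorem map_tm {P Q : ModuleCat.{u} C} (g : P ⟶ Q) (p : P) :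
    (extendScalars π).map g (tm π P p) = tm π Q (g p) := rfl

theorem exists_eq_tm (hπ : Function.Surjective π) (P : ModuleCat.{u} C) (x : (extendScalars π).obj P) :
    ∃ p : P, x = tm π P p := by
  let : Module C C' := Module.compHom C' π
  refine TensorProduct.induction_on (motive := fun x => ∃ p : P, x = ((1 : C') ⊗ₜ[C] p : TensorProduct C C' P)) x
    ⟨0, by rw [TensorProduct.tmul_zero]⟩ ?_ ?_
  · intro s p
    obtain ⟨c, rfl⟩ := hπ s
    refine ⟨c • p, ?_⟩
    have := TensorProduct.smul_tmul (R := C) c (1 : C') p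
    rw [← this]
    congr 1
    change π c = π c * 1
    rw [mul_one]
  · rintro _ _ ⟨p, rfl⟩ ⟨q, rfl⟩
    exact ⟨p + q, by rw [TensorProduct.tmul_add]⟩

/-- If `1 ⊗ p = 0` in `C' ⊗ P` then `p ∈ f P`. -/
theorem exists_of_tm_eq_zero (hπ : Function.Surjective π) (hker : RingHom.ker π = Ideal.span {f})
    (P : ModuleCat.{u} C) (p : P) (hp : tm π P p = 0) : ∃ p' : P, p = f • p' := by
  let : Module C C' := Module.compHom C' π
  let g : C →ₗ[C] C' :=
    { toFun := π
      map_add' := map_add π
      map_smul' := fun a b => by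
        change π (a * b) = π a * π b
        exact map_mul π a b }
  let m : C →ₗ[C] C := LinearMap.mulLeft C f
  have hex : Function.Exact m g := by
    intro c
    constructor
    · intro hc
      have : c ∈ RingHom.ker π := hc
      rw [hker, Ideal.mem_span_singleton] at this
      obtain ⟨d, rfl⟩ := this
      exact ⟨d, rfl⟩
    · rintro ⟨d, rfl⟩
      have : f * d ∈ RingHom.ker π := by
        rw [hker]; exact Ideal.mul_mem_right _ _ (Ideal.mem_span_singleton_self f)
      exact this
  have h2 := rTensor_exact P hex hπ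
  have h3 : (LinearMap.rTensor P g) ((1 : C) ⊗ₜ[C] p) = 0 := by
    rw [LinearMap.rTensor_tmul]
    have : g 1 = (1 : C') := map_one π
    rw [this]
    exact hp
  obtain ⟨z, hz⟩ := (h2 _).1 h3
  refine ⟨TensorProduct.lid C P z, ?_⟩
  have h4 := congrArg (TensorProduct.lid C P) hz
  rw [TensorProduct.lid_tmul, one_smul] at h4
  rw [← h4]
  clear h4 hz h3
  induction z using TensorProduct.induction_on with
  | zero => simp
  | tmul x y =>
    rw [LinearMap.rTensor_tmul, TensorProduct.lid_tmul, TensorProduct.lid_tmul]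
    change (f * x) • y = f • x • y
    rw [mul_smul]
  | add x y hx hy => rw [map_add, map_add, hx, hy, map_add, smul_add]

/-- Evaluation at `1` on `Hom_C(C', T)`. -/
noncomputable def ev (T : ModuleCat.{u} C) (g : (coextendScalars π).obj T) : T := CoextendScalars.equiv π T g (1 : C')

theorem ev_add (T : ModuleCat.{u} C) (g h : (coextendScalars π).obj T) : ev π T (g + h) = ev π T g + ev π T h := rfl

theorem ev_smul (T : ModuleCat.{u} C) (c : C) (g : (coextendScalars π).obj T) :
    ev π T (π c • g) = c • ev π T g := by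
  unfold ev
  rw [← map_smul]
  change CoextendScalars.equiv π T g ((1 : C') * π c) = CoextendScalars.equiv π T g (π c • (1 : C'))
  rw [smul_eq_mul, mul_comm]

theorem ev_map {T T' : ModuleCat.{u} C} (h : T ⟶ T') (g : (coextendScalars π).obj T) :
    ev π T' ((coextendScalars π).map h g) = h (ev π T g) := rfl

theorem ev_injective (hπ : Function.Surjective π) (T : ModuleCat.{u} C) : Function.Injective (ev π T) := by
  intro g h hgh
  apply CoextendScalars.ext
  refine LinearMap.ext fun (s : C') => ?_
  obtain ⟨c, rfl⟩ := hπ s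
  have h1 : ∀ g : (coextendScalars π).obj T, CoextendScalars.equiv π T g (π c) = c • ev π T g := by
    intro g
    unfold ev
    rw [← map_smul]
    change CoextendScalars.equiv π T g (π c) = CoextendScalars.equiv π T g (π c • (1 : C'))
    rw [smul_eq_mul, mul_one]
  exact (h1 g).trans ((congrArg (c • ·) hgh).trans (h1 h).symm)

theorem smul_ev (hf : π f = 0) (T : ModuleCat.{u} C) (g : (coextendScalars π).obj T) :
    f • ev π T g = 0 := by
  rw [← ev_smul, hf, zero_smul]
  rfl

theorem exists_ev_eq (hπ : Function.Surjective π) (hker : RingHom.ker π = Ideal.span {f})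
    (T : ModuleCat.{u} C) (t : T) (ht : f • t = 0) : ∃ g : (coextendScalars π).obj T, ev π T g = t := by
  let : Module C C' := Module.compHom C' π
  have key : ∀ c d : C, π c = π d → c • t = d • t := by
    intro c d hcd
    have : c - d ∈ RingHom.ker π := by rw [RingHom.mem_ker, map_sub, hcd, sub_self]
    rw [hker, Ideal.mem_span_singleton] at this
    obtain ⟨e, he⟩ := this
    have : (c - d) • t = 0 := by rw [he, mul_comm, mul_smul, ht, smul_zero]
    rwa [sub_smul, sub_eq_zero] at this
  let g : (restrictScalars π).obj (of _ C') →ₗ[C] T :=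
    { toFun := fun s => (hπ s).choose • t
      map_add' := fun s s' => by
        rw [← add_smul]
        refine key _ _ ?_
        refine (hπ (s + s')).choose_spec.trans ?_
        rw [map_add, (hπ s).choose_spec, (hπ s').choose_spec]
        rfl
      map_smul' := fun c s => by
        rw [RingHom.id_apply, ← mul_smul]
        refine key _ _ ?_
        refine (hπ (c • s)).choose_spec.trans ?_
        rw [map_mul, (hπ s).choose_spec]
        rfl }
  refine ⟨(CoextendScalars.equiv π T).symm g, ?_⟩
  change (hπ 1).choose • t = t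
  conv_rhs => rw [← one_smul C t]
  refine key _ _ ?_
  rw [(hπ 1).choose_spec, map_one]

section

variable {π f}
variable (S : ShortComplex (ModuleCat.{u} C)) (hS : S.ShortExact)

/-- The relation defining the snake map. -/
def Rel (g : (coextendScalars π).obj S.X₃) (x : (extendScalars π).obj S.X₁) : Prop :=
  ∃ (j : S.X₂) (q : S.X₁), S.g j = ev π S.X₃ g ∧ S.f q = f • j ∧ x = tm π S.X₁ q

include hS in
theorem exists_rel (hf : π f = 0) (g : (coextendScalars π).obj S.X₃) : ∃ x, Rel (f := f) S g x := by
  have := hS.epi_g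
  have := hS.mono_f
  obtain ⟨j, hj⟩ := (ModuleCat.epi_iff_surjective S.g).1 inferInstance (ev π S.X₃ g)
  have h1 : S.g (f • j) = 0 := by rw [map_smul, hj, smul_ev _ _ hf]
  obtain ⟨q, hq⟩ := (ShortComplex.ShortExact.moduleCat_exact_iff_function_exact S).1 hS.exact (f • j) |>.1 h1
  exact ⟨_, j, q, hj, hq, rfl⟩

include hS in
theorem rel_unique (hf : π f = 0) (g : (coextendScalars π).obj S.X₃) {x y} (hx : Rel (f := f) S g x)
    (hy : Rel (f := f) S g y) : x = y := by
  have := hS.mono_f
  obtain ⟨j, q, hj, hq, rfl⟩ := hx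
  obtain ⟨j', q', hj', hq', rfl⟩ := hy
  have h1 : S.g (j - j') = 0 := by rw [map_sub, hj, hj', sub_self]
  obtain ⟨p, hp⟩ := (ShortComplex.ShortExact.moduleCat_exact_iff_function_exact S).1 hS.exact (j - j') |>.1 h1
  have h2 : q - q' = f • p := by
    apply (ModuleCat.mono_iff_injective S.f).1 inferInstance
    rw [map_sub, map_smul, hq, hq', hp, smul_sub]
  have h3 : q = q' + f • p := by rw [← h2]; abel
  rw [h3, tm_add, tm_smul, hf, zero_smul, add_zero]

/-- The snake map `Hom_C(C', T) → C' ⊗ P`. -/
noncomputable def snake (hf : π f = 0) (hπ : Function.Surjective π) :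
    (coextendScalars π).obj S.X₃ ⟶ (extendScalars π).obj S.X₁ :=
  ofHom (X := (coextendScalars π).obj S.X₃) (Y := (extendScalars π).obj S.X₁)
    { toFun := fun g => (exists_rel S hS hf g).choose
      map_add' := fun g g' => by
        refine rel_unique S hS hf (g + g') (exists_rel S hS hf (g + g')).choose_spec ?_
        obtain ⟨j, q, hj, hq, hx⟩ := (exists_rel S hS hf g).choose_spec
        obtain ⟨j', q', hj', hq', hx'⟩ := (exists_rel S hS hf g').choose_spec
        refine ⟨j + j', q + q', ?_, ?_, ?_⟩
        · rw [map_add, hj, hj', ev_add]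
        · rw [map_add, hq, hq', smul_add]
        · rw [hx, hx', tm_add]
      map_smul' := fun s g => by
        obtain ⟨c, rfl⟩ := hπ s
        refine rel_unique S hS hf (π c • g) (exists_rel S hS hf (π c • g)).choose_spec ?_
        obtain ⟨j, q, hj, hq, hx⟩ := (exists_rel S hS hf g).choose_spec
        refine ⟨c • j, c • q, ?_, ?_, ?_⟩
        · rw [map_smul, hj, ev_smul]
        · rw [map_smul, hq, smul_comm]
        · rw [hx, tm_smul, RingHom.id_apply]
          rfl }

theorem snake_rel (hf : π f = 0) (hπ : Function.Surjective π) (g : (coextendScalars π).obj S.X₃) :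
    Rel (f := f) S g (snake S hS hf hπ g) :=
  (exists_rel S hS hf g).choose_spec

theorem snake_eq (hf : π f = 0) (hπ : Function.Surjective π) (g : (coextendScalars π).obj S.X₃)
    {x} (hx : Rel (f := f) S g x) : snake S hS hf hπ g = x :=
  rel_unique S hS hf g (snake_rel S hS hf hπ g) hx

theorem snake_naturality {S' : ShortComplex (ModuleCat.{u} C)} (hS' : S'.ShortExact) (φ : S ⟶ S')
    (hf : π f = 0) (hπ : Function.Surjective π) :
    (coextendScalars π).map φ.τ₃ ≫ snake S' hS' hf hπ = snake S hS hf hπ ≫ (extendScalars π).map φ.τ₁ := by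
  ext g
  rw [ModuleCat.comp_apply, ModuleCat.comp_apply]
  apply snake_eq
  obtain ⟨j, q, hj, hq, hx⟩ := snake_rel S hS hf hπ g
  refine ⟨φ.τ₂ j, φ.τ₁ q, ?_, ?_, ?_⟩
  · have h1 := congrArg (fun h => h.hom j) φ.comm₂₃
    have h2 := congrArg φ.τ₃ hj
    exact h1.trans h2
  · have h1 := congrArg (fun h => h.hom q) φ.comm₁₂
    have h2 := congrArg φ.τ₂ hq
    rw [map_smul] at h2
    exact h1.trans h2
  · rw [hx]
    rfl

theorem coext_comp_snake (hf : π f = 0) (hπ : Function.Surjective π) :
    (coextendScalars π).map S.g ≫ snake S hS hf hπ = 0 := by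
  ext g
  rw [ModuleCat.comp_apply]
  apply snake_eq
  refine ⟨ev π S.X₂ g, 0, rfl, ?_, ?_⟩
  · rw [map_zero, smul_ev _ _ hf]
  · rw [tm_zero]
    rfl

/-- Exactness of `0 → Hom_C(C', J) → Hom_C(C', T) → C' ⊗ P → 0`. -/
theorem shortExact (hπ : Function.Surjective π) (hker : RingHom.ker π = Ideal.span {f})
    (hf : π f = 0) (hP : ∀ p : S.X₁, f • p = 0 → p = 0) (hJ : ∀ j : S.X₂, ∃ j' : S.X₂, f • j' = j) :
    (ShortComplex.mk _ _ (coext_comp_snake S hS hf hπ)).ShortExact := by
  have := hS.epi_g
  have hmono := hS.mono_f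
  have hexact := (ShortComplex.ShortExact.moduleCat_exact_iff_function_exact S).1 hS.exact
  refine ShortComplex.ShortExact.mk' ?_ ?_ ?_
  · rw [ShortComplex.moduleCat_exact_iff]
    intro g hg
    obtain ⟨j, q, hj, hq, hx⟩ := snake_rel S hS hf hπ g
    have h0 : tm π S.X₁ q = 0 := hx.symm.trans hg
    obtain ⟨q', rfl⟩ := exists_of_tm_eq_zero π f hπ hker _ q h0
    have h1 : f • (j - S.f q') = 0 := by rw [smul_sub, ← map_smul, hq, sub_self]
    obtain ⟨h, hh⟩ := exists_ev_eq π f hπ hker _ _ h1
    refine ⟨h, ?_⟩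
    apply ev_injective π hπ
    refine (ev_map π S.g h).trans ?_
    rw [hh, map_sub, hj]
    have : S.g (S.f q') = 0 := (hexact _).2 ⟨q', rfl⟩
    rw [this, sub_zero]
  · rw [ModuleCat.mono_iff_injective]
    intro g g' hgg'
    apply ev_injective π hπ
    have h1 : S.g (ev π S.X₂ g - ev π S.X₂ g') = 0 := by
      rw [map_sub, sub_eq_zero]
      exact congrArg (ev π S.X₃) hgg'
    obtain ⟨p, hp⟩ := (hexact _).1 h1
    have h2 : f • p = 0 := by
      apply (ModuleCat.mono_iff_injective S.f).1 hmono
      rw [map_smul, hp, smul_sub, smul_ev _ _ hf, smul_ev _ _ hf, sub_zero, map_zero]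
    rw [hP p h2, map_zero] at hp
    exact (sub_eq_zero.1 hp.symm)
  · rw [ModuleCat.epi_iff_surjective]
    intro x
    obtain ⟨p, rfl⟩ := exists_eq_tm π hπ _ x
    obtain ⟨j, hj⟩ := hJ (S.f p)
    have h1 : f • S.g j = 0 := by
      rw [← map_smul, hj]
      exact (hexact _).2 ⟨p, rfl⟩
    obtain ⟨g, hg⟩ := exists_ev_eq π f hπ hker _ _ h1
    exact ⟨g, snake_eq S hS hf hπ g ⟨j, p, hg.symm, hj.symm, rfl⟩⟩

end

end Groth.Agent.LoccohB.DivisorSnake
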