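import Groth.Agent.LoccohB.HomBC2
import Mathlib.RingTheory.Flat.FaithfullyFlat.Basic
import Mathlib.RingTheory.Finiteness.Descent

/-!
# Flat ascent and faithfully flat descent for dualizing complexes
-/

set_option autoImplicit false
universe w v u w₁ v₁ u₁ uA uB v₂ u₂

open CategoryTheory CategoryTheory.Limits Opposite Pretriangulated
open scoped TensorProduct ChangeOfRings

attribute [local instance] HasDerivedCategory.standard

namespace Groth.Agent.LoccohB.DualBC

open DerivedCategory Groth.Agent.LoccohB.DBase Groth.Agent.LoccohB.FlatLBC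
  Groth.Agent.LoccohB.HomBC Groth.Agent.LoccohB.Devissage

variable {A : Type u} (B : Type u) [CommRing A] [CommRing B] [Algebra A B]
  (h : (algebraMap A B).Flat)

/-- The map `a ↦ a • 𝟙`. -/
noncomputable def toEnd (A : Type u) [CommRing A] (K : Dual.D A) : A →ₗ[A] (K ⟶ K) :=
  LinearMap.toSpanSingleton A _ (𝟙 K)

lemma toEnd_apply (K : Dual.D A) (a : A) : toEnd A K a = a • 𝟙 K := rfl

lemma toEnd_bijective_iff (K : Dual.D A)
    (hb : Function.Bijective (bc A B (flatBC (algebraMap A B) h) K K)) :
    Function.Bijective (toEnd B ((flatBC (algebraMap A B) h).obj K)) ↔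
      Function.Bijective ((toEnd A K).lTensor B) := by
  have h1 : (toEnd B ((flatBC (algebraMap A B) h).obj K) : B → _) =
      (bc A B (flatBC (algebraMap A B) h) K K) ∘ ((toEnd A K).lTensor B) ∘
        (TensorProduct.rid A B).symm := by
    ext b
    simp [toEnd_apply]
  rw [h1, Function.Bijective.of_comp_iff' hb]
  exact Function.Bijective.of_comp_iff _ (TensorProduct.rid A B).symm.bijective

/-- All conditions but finite injective dimension ascend along flat ring maps. -/
theorem isDualizing_flatBC [IsNoetherianRing B] {ω : Dual.D A} (hω : Dual.IsDualizing A ω)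
    (hinj : ∃ a b : ℤ, ∀ (M : Type u) [AddCommGroup M] [Module B M] (i : ℤ),
      (i < a ∨ b < i) → Subsingleton (Dual.inD B M ⟶ ((flatBC (algebraMap A B) h).obj ω)⟦i⟧)) :
    Dual.IsDualizing B ((flatBC (algebraMap A B) h).obj ω) := by
  have hA := hω.isNoetherianRing
  obtain ⟨a, b, ha, hb, hab⟩ := exists_bounds_of_isDualizing hω
  refine ⟨inferInstance, hinj, ?_, ?_, ?_⟩
  · intro i
    have := hω.finite_cohomology i
    exact Module.Finite.equiv (flatHDEquiv B h ω i)
  · have h1 := (toEnd_bijective_iff B h ω (bc_bijective_of_bounded B h ω a b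
      hω.finite_cohomology ω a)).2
    apply h1
    exact (TensorProduct.congr (LinearEquiv.refl A B)
      (LinearEquiv.ofBijective (toEnd A ω) hω.toEnd_bijective)).bijective
  · intro i hi
    have := hω.ext_self_subsingleton i hi
    exact (homBCEquiv B h ω a b hω.finite_cohomology ω a i).toEquiv.subsingleton_congr.1
      inferInstance

/-- Faithfully flat descent. -/
theorem isDualizing_of_flatBC [IsNoetherianRing A] [Module.FaithfullyFlat A B] {K : Dual.D A}
    (hK : Dual.IsDualizing B ((flatBC (algebraMap A B) h).obj K))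
    (hinj : ∀ a b : ℤ, K.IsGE a → K.IsLE b → (∀ (M : Type u) [AddCommGroup M] [Module A M]
      [Module.Finite A M] (i : ℤ), (i < a ∨ b < i) → Subsingleton (Dual.inD A M ⟶ K⟦i⟧)) → 
      ∀ (M : Type u) [AddCommGroup M] [Module A M] (i : ℤ),
      (i < a ∨ b < i) → Subsingleton (Dual.inD A M ⟶ K⟦i⟧)) :
    Dual.IsDualizing A K := by
  obtain ⟨a, b, ha, hb, hab⟩ := exists_bounds_of_isDualizing hK
  have hsub : ∀ i, Subsingleton (Dual.HD B ((flatBC (algebraMap A B) h).obj K) i) →
      Subsingleton (Dual.HD A K i) := by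
    intro i hi
    have : Subsingleton (B ⊗[A] Dual.HD A K i) :=
      (flatHDEquiv B h K i).toEquiv.subsingleton_congr.2 hi
    exact Module.FaithfullyFlat.lTensor_reflects_triviality A B _
  have hGE : K.IsGE a := by
    rw [isGE_iff]
    intro i hi
    rw [isZero_homology_iff]
    exact hsub i ((isZero_homology_iff _ _).1
      (((flatBC (algebraMap A B) h).obj K).isZero_of_isGE a i hi))
  have hLE : K.IsLE b := by
    rw [isLE_iff]
    intro i hi
    rw [isZero_homology_iff]
    exact hsub i ((isZero_homology_iff _ _).1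
      (((flatBC (algebraMap A B) h).obj K).isZero_of_isLE b i hi))
  have hfin : ∀ i, Module.Finite A (Dual.HD A K i) := by
    intro i
    have := hK.finite_cohomology i
    have : Module.Finite B (B ⊗[A] Dual.HD A K i) := Module.Finite.equiv (flatHDEquiv B h K i).symm
    exact Module.Finite.of_finite_tensorProduct_of_faithfullyFlat B
  refine ⟨inferInstance, ?_, hfin, ?_, ?_⟩
  · refine ⟨a, b, hinj a b hGE hLE ?_⟩
    intro M _ _ _ i hi
    have hM := hab ((ModuleCat.extendScalars.{u, u, u} (algebraMap A B)).obj (ModuleCat.of A M)) i hi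
    have : Subsingleton (B ⊗[A] (Dual.inD A M ⟶ K⟦i⟧)) :=
      (homBCModuleEquiv B h (ModuleCat.of A M) K a i).toEquiv.subsingleton_congr.2 hM
    exact Module.FaithfullyFlat.lTensor_reflects_triviality A B _
  · have h1 := (toEnd_bijective_iff B h K (bc_bijective_of_bounded B h K a b
      hfin K a)).1 hK.toEnd_bijective
    exact (Module.FaithfullyFlat.lTensor_bijective_iff_bijective A B _).1 h1
  · intro i hi
    have := hK.ext_self_subsingleton i hi
    have : Subsingleton (B ⊗[A] (K ⟶ K⟦i⟧)) :=
      (homBCEquiv B h K a b hfin K a i).toEquiv.subsingleton_congr.2 this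
    exact Module.FaithfullyFlat.lTensor_reflects_triviality A B _

end Groth.Agent.LoccohB.DualBC
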