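import Mathlib.Algebra.Homology.HomologicalComplexAbelian
import Mathlib.Algebra.Homology.ShortComplex.ModuleCat
import Mathlib.Algebra.Homology.HomologySequenceLemmas
import Mathlib.Algebra.Homology.Embedding.CochainComplex
import Mathlib.Algebra.Category.ModuleCat.Abelian

/-!
# Homology of complexes of modules, elementwise

For `K : CochainComplex (ModuleCat A) ℤ`: `hcls K i : ker (K.d i (i+1)) →ₗ[A] K.homology i` is surjective with kernel
the coboundaries, natural in `K`; elementwise criteria for `QuasiIsoAt`.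
-/

universe v u

open CategoryTheory CategoryTheory.Limits

namespace Groth.Agent.LoccohB.ModHom

variable {A : Type u} [Ring A] (K : CochainComplex (ModuleCat.{v} A) ℤ)

/-- The map from cocycles (kernel of the differential) to `cycles`. -/
noncomputable def liftZ (i : ℤ) :
    ModuleCat.of A (LinearMap.ker (K.d i (i + 1)).hom) ⟶ K.cycles i :=
  K.liftCycles (ModuleCat.ofHom (LinearMap.ker (K.d i (i + 1)).hom).subtype) (i + 1) (by simp)
    (by ext x; exact x.2)

lemma iCycles_liftZ (i : ℤ) (x : LinearMap.ker (K.d i (i + 1)).hom) :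
    K.iCycles i (liftZ K i x) = x.1 := by
  change (liftZ K i ≫ K.iCycles i) x = _
  rw [liftZ, K.liftCycles_i]
  rfl

lemma iCycles_injective (i : ℤ) : Function.Injective (K.iCycles i) :=
  (ModuleCat.mono_iff_injective (K.iCycles i)).1 inferInstance

/-- The map from cocycles (kernel of the differential) to homology, as a linear map. -/
noncomputable def hcls (i : ℤ) : LinearMap.ker (K.d i (i + 1)).hom →ₗ[A] K.homology i :=
  (liftZ K i ≫ K.homologyπ i).hom

lemma hcls_apply (i : ℤ) (x : LinearMap.ker (K.d i (i + 1)).hom) :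
    hcls K i x = K.homologyπ i (liftZ K i x) := rfl

lemma hcls_surjective (i : ℤ) : Function.Surjective (hcls K i) := by
  intro h
  obtain ⟨z, rfl⟩ := (ModuleCat.epi_iff_surjective (K.homologyπ i)).1 inferInstance h
  refine ⟨⟨K.iCycles i z, ?_⟩, ?_⟩
  · change (K.iCycles i ≫ K.d i (i + 1)) z = 0
    simp
  · rw [hcls_apply]
    congr 1
    apply iCycles_injective
    rw [iCycles_liftZ]

lemma hcls_eq_zero_iff (i : ℤ) (x : LinearMap.ker (K.d i (i + 1)).hom) :
    hcls K i x = 0 ↔ ∃ y : K.X (i - 1), K.d (i - 1) i y = x.1 := by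
  constructor
  · intro h
    have hex : (ShortComplex.mk (K.toCycles (i - 1) i) (K.homologyπ i) (by simp)).Exact :=
      ShortComplex.exact_of_g_is_cokernel _ (K.homologyIsCokernel (i - 1) i (by simp))
    rw [ShortComplex.moduleCat_exact_iff] at hex
    obtain ⟨y, hy⟩ := hex _ h
    refine ⟨y, ?_⟩
    have h2 : K.iCycles i (K.toCycles (i - 1) i y) = K.iCycles i (liftZ K i x) :=
      congrArg _ hy
    rw [iCycles_liftZ] at h2
    rw [← h2]
    change _ = (K.toCycles (i - 1) i ≫ K.iCycles i) y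
    rw [K.toCycles_i]
  · rintro ⟨y, hy⟩
    have h1 : liftZ K i x = K.toCycles (i - 1) i y := by
      apply iCycles_injective
      rw [iCycles_liftZ, ← hy]
      change _ = (K.toCycles (i - 1) i ≫ K.iCycles i) y
      rw [K.toCycles_i]
    rw [hcls_apply, h1]
    change (K.toCycles (i - 1) i ≫ K.homologyπ i) y = 0
    simp

/-- `hcls` on elements. -/
noncomputable def hmk (i : ℤ) (x : K.X i) (hx : K.d i (i + 1) x = 0) : K.homology i :=
  hcls K i ⟨x, hx⟩

lemma exists_hmk (i : ℤ) (h : K.homology i) : ∃ (x : K.X i) (hx : K.d i (i + 1) x = 0),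
    hmk K i x hx = h := by
  obtain ⟨⟨x, hx⟩, rfl⟩ := hcls_surjective K i h
  exact ⟨x, hx, rfl⟩

lemma hmk_eq_zero_iff (i : ℤ) (x : K.X i) (hx : K.d i (i + 1) x = 0) :
    hmk K i x hx = 0 ↔ ∃ y : K.X (i - 1), K.d (i - 1) i y = x :=
  hcls_eq_zero_iff K i ⟨x, hx⟩

lemma hmk_add (i : ℤ) (x y : K.X i) (hx : K.d i (i + 1) x = 0) (hy : K.d i (i + 1) y = 0) :
    hmk K i (x + y) (by rw [map_add, hx, hy, add_zero]) = hmk K i x hx + hmk K i y hy :=
  map_add (hcls K i) (⟨x, hx⟩ : LinearMap.ker (K.d i (i + 1)).hom) ⟨y, hy⟩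

lemma hmk_sub (i : ℤ) (x y : K.X i) (hx : K.d i (i + 1) x = 0) (hy : K.d i (i + 1) y = 0) :
    hmk K i (x - y) (by rw [map_sub, hx, hy, sub_zero]) = hmk K i x hx - hmk K i y hy :=
  map_sub (hcls K i) (⟨x, hx⟩ : LinearMap.ker (K.d i (i + 1)).hom) ⟨y, hy⟩

lemma hmk_smul (i : ℤ) (a : A) (x : K.X i) (hx : K.d i (i + 1) x = 0) :
    hmk K i (a • x) (by rw [map_smul, hx, smul_zero]) = a • hmk K i x hx :=
  map_smul (hcls K i) a (⟨x, hx⟩ : LinearMap.ker (K.d i (i + 1)).hom)

variable {K} {L : CochainComplex (ModuleCat.{v} A) ℤ} (f : K ⟶ L)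

lemma d_hom_f (i j : ℤ) (x : K.X i) : L.d i j (f.f i x) = f.f j (K.d i j x) := by
  change (f.f i ≫ L.d i j) x = (K.d i j ≫ f.f j) x
  rw [f.comm]

lemma homologyMap_hmk (i : ℤ) (x : K.X i) (hx : K.d i (i + 1) x = 0) :
    HomologicalComplex.homologyMap f i (hmk K i x hx) =
      hmk L i (f.f i x) (by rw [d_hom_f, hx, map_zero]) := by
  change (K.homologyπ i ≫ HomologicalComplex.homologyMap f i)
    (liftZ K i (⟨x, hx⟩ : LinearMap.ker (K.d i (i + 1)).hom)) = _
  rw [HomologicalComplex.homologyπ_naturality]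
  change (L.homologyπ i) (HomologicalComplex.cyclesMap f i _) = (L.homologyπ i) (liftZ L i _)
  congr 1
  apply iCycles_injective
  change (HomologicalComplex.cyclesMap f i ≫ L.iCycles i) _ = _
  rw [HomologicalComplex.cyclesMap_i, iCycles_liftZ]
  change f.f i (K.iCycles i _) = _
  rw [iCycles_liftZ]

/-- Elementwise criterion for injectivity on homology. -/
lemma mono_homologyMap_iff (i : ℤ) :
    Mono (HomologicalComplex.homologyMap f i) ↔
      ∀ (x : K.X i), K.d i (i + 1) x = 0 → (∃ y : L.X (i - 1), L.d (i - 1) i y = f.f i x) →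
        ∃ y : K.X (i - 1), K.d (i - 1) i y = x := by
  rw [ModuleCat.mono_iff_injective]
  constructor
  · intro h x hx hy
    rw [← hmk_eq_zero_iff K i x hx]
    apply h
    rw [homologyMap_hmk, (hmk_eq_zero_iff L i _ _).2 hy, map_zero]
  · intro h
    rw [injective_iff_map_eq_zero]
    intro z hz
    obtain ⟨x, hx, rfl⟩ := exists_hmk K i z
    rw [homologyMap_hmk, hmk_eq_zero_iff] at hz
    rw [hmk_eq_zero_iff]
    exact h x hx hz

/-- Elementwise criterion for surjectivity on homology. -/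
lemma epi_homologyMap_iff (i : ℤ) :
    Epi (HomologicalComplex.homologyMap f i) ↔
      ∀ (y : L.X i), L.d i (i + 1) y = 0 → ∃ (x : K.X i) (z : L.X (i - 1)),
        K.d i (i + 1) x = 0 ∧ L.d (i - 1) i z = f.f i x - y := by
  rw [ModuleCat.epi_iff_surjective]
  constructor
  · intro h y hy
    obtain ⟨w, hw⟩ := h (hmk L i y hy)
    obtain ⟨x, hx, rfl⟩ := exists_hmk K i w
    rw [homologyMap_hmk, ← sub_eq_zero, ← hmk_sub, hmk_eq_zero_iff] at hw
    obtain ⟨z, hz⟩ := hw
    exact ⟨x, z, hx, hz⟩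
  · intro h w
    obtain ⟨y, hy, rfl⟩ := exists_hmk L i w
    obtain ⟨x, z, hx, hz⟩ := h y hy
    refine ⟨hmk K i x hx, ?_⟩
    rw [homologyMap_hmk, ← sub_eq_zero, ← hmk_sub, hmk_eq_zero_iff]
    exact ⟨z, hz⟩

/-- Elementwise criterion for being a quasi-isomorphism in a given degree. -/
lemma quasiIsoAt_iff' (i : ℤ) : QuasiIsoAt f i ↔
    (∀ (x : K.X i), K.d i (i + 1) x = 0 → (∃ y : L.X (i - 1), L.d (i - 1) i y = f.f i x) →
        ∃ y : K.X (i - 1), K.d (i - 1) i y = x) ∧
    (∀ (y : L.X i), L.d i (i + 1) y = 0 → ∃ (x : K.X i) (z : L.X (i - 1)),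
        K.d i (i + 1) x = 0 ∧ L.d (i - 1) i z = f.f i x - y) := by
  rw [quasiIsoAt_iff_isIso_homologyMap, ← mono_homologyMap_iff, ← epi_homologyMap_iff]
  constructor
  · intro h
    exact ⟨inferInstance, inferInstance⟩
  · rintro ⟨_, _⟩
    exact isIso_of_mono_of_epi _

lemma exactAt_iff'' (i : ℤ) : K.ExactAt i ↔
    ∀ (x : K.X i), K.d i (i + 1) x = 0 → ∃ y : K.X (i - 1), K.d (i - 1) i y = x := by
  rw [HomologicalComplex.exactAt_iff_isZero_homology]
  constructor
  · intro h x hx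
    rw [← hmk_eq_zero_iff K i x hx]
    have := ModuleCat.subsingleton_of_isZero h
    exact Subsingleton.elim _ _
  · intro h
    have : Subsingleton (K.homology i) := ⟨fun z z' => by
      rw [← sub_eq_zero]
      obtain ⟨x, hx, h'⟩ := exists_hmk K i (z - z')
      rw [← h', hmk_eq_zero_iff]
      exact h x hx⟩
    exact ModuleCat.isZero_of_subsingleton _

end Groth.Agent.LoccohB.ModHom
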