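import Groth.Agent.LoccohB.HomCxHD
import Groth.Agent.LoccohB.ModHom
import Groth.Agent.LoccohB.PerfTri
import Groth.Agent.Flat2C.TorAmpRestr
import Groth.Agent.FlatA.FibreCrit

/-!
# Flatness of cokernels in the dual of a complex of finite projectives

`flat_cok`: `F` a K-projective complex of finite projective `P`-modules, `P` flat over `R`. If
`Hom_{D(P)}(F, (P/IP)[k]) = 0` for all ideals `I` of `R`, then the cokernel of the `k`-th differential
of `Hom•(F, P)` is flat over `R`.
-/

set_option autoImplicit false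

universe u

open CategoryTheory CategoryTheory.Limits CochainComplex CochainComplex.HomComplex

attribute [local instance] HasDerivedCategory.standard

namespace Groth.Agent.LoccohB.DualCok

section Alg

variable {R Y Z : Type*} [CommRing R] [AddCommGroup Y] [Module R Y] [AddCommGroup Z] [Module R Z]

/-- Flatness of a cokernel. -/
theorem flat_quotient (u : Y →ₗ[R] Z) [Module.Flat R Z]
    (h : ∀ I : Ideal R, ∀ y : Y, u y ∈ I • (⊤ : Submodule R Z) →
      ∃ y' ∈ I • (⊤ : Submodule R Y), u y' = u y) :
    Module.Flat R (Z ⧸ LinearMap.range u) := by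
  have h1 := FlatA.FibreCrit.flat_quotient_range_of_comap_smul_le
    (LinearMap.range u).subtype (by
      intro I x hx
      obtain ⟨x, y, rfl⟩ := x
      obtain ⟨y', hy', hyy'⟩ := h I y hx
      have h2 : (⟨u y, ⟨y, rfl⟩⟩ : LinearMap.range u) = u.rangeRestrict y' :=
        Subtype.ext hyy'.symm
      rw [h2]
      have h3 : (I • (⊤ : Submodule R Y)).map u.rangeRestrict ≤
          I • (⊤ : Submodule R (LinearMap.range u)) := by
        rw [Submodule.map_smul'']
        exact Submodule.smul_mono le_rfl le_top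
      exact h3 ⟨y', hy', rfl⟩)
  rw [Submodule.range_subtype] at h1
  exact h1

end Alg

section Restrict

variable {R P : Type u} [CommRing R] [CommRing P] (φ : R →+* P) (I : Ideal R)

/-- Elements of `(IP) M` are in `I M` for the restricted structure. -/
lemma mem_smul_restrict {M : ModuleCat.{u} P} (z : M)
    (hz : z ∈ (I.map φ) • (⊤ : Submodule P M)) :
    (show ((ModuleCat.restrictScalars.{u} φ).obj M) from z) ∈
      I • (⊤ : Submodule R ((ModuleCat.restrictScalars.{u} φ).obj M)) := by
  induction hz using Submodule.smul_induction_on' with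
  | smul r hr n hn =>
    clear hn
    induction hr using Submodule.span_induction generalizing n with
    | mem r hr =>
      obtain ⟨a, ha, rfl⟩ := hr
      exact Submodule.smul_mem_smul (N := (⊤ : Submodule R ((ModuleCat.restrictScalars.{u} φ).obj M)))
        ha (Submodule.mem_top (x := (show ((ModuleCat.restrictScalars.{u} φ).obj M) from n)))
    | zero =>
      rw [zero_smul]
      exact Submodule.zero_mem _
    | add r r' _ _ h h' =>
      rw [add_smul]
      exact Submodule.add_mem _ (h n) (h' n)
    | smul p r _ h =>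
      rw [smul_eq_mul, mul_comm, mul_smul]
      exact h (p • n)
  | add x _ y _ hx hy => exact Submodule.add_mem _ hx hy

/-- Linear maps to modules killed by `I` kill `I M`. -/
lemma eq_zero_of_mem_smul {M N : ModuleCat.{u} P} (f : M ⟶ N)
    (hN : ∀ a ∈ I, ∀ x : N, φ a • x = 0)
    (z : ((ModuleCat.restrictScalars.{u} φ).obj M))
    (hz : z ∈ I • (⊤ : Submodule R ((ModuleCat.restrictScalars.{u} φ).obj M))) :
    f.hom (show M from z) = 0 := by
  let g := ((ModuleCat.restrictScalars.{u} φ).map f).hom
  have h1 : I • (⊤ : Submodule R ((ModuleCat.restrictScalars.{u} φ).obj M)) ≤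
      LinearMap.ker g := by
    rw [Submodule.smul_le]
    intro a ha x _
    rw [LinearMap.mem_ker, map_smul]
    exact hN a ha (g x)
  exact h1 hz

end Restrict

section HomCx

variable {P : Type u} [CommRing P] (F : DRing.Cx P)

/-- The complex `M[0]`. -/
noncomputable abbrev sg (M : Type u) [AddCommGroup M] [Module P M] : DRing.Cx P :=
  (CochainComplex.singleFunctor (ModuleCat.{u} P) 0).obj (ModuleCat.of P M)

/-- `Hom•(F, M[0])` in degree `j` is `Hom(F^{-j}, M)`. -/
noncomputable def toS (M : Type u) [AddCommGroup M] [Module P M] (j : ℤ) :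
    Cochain F (sg M) j ≃ₗ[P] (F.X (-j) →ₗ[P] M) :=
  { (Cochain.toSingleEquiv (K := F) (X := ModuleCat.of P M) (p := -j) (q := 0) (n := j)
      (by omega)).trans ModuleCat.homAddEquiv with
    map_smul' := fun a z => by
      change ModuleCat.Hom.hom ((a • (z : Cochain F (sg M) j).v (-j) 0 (by omega)) ≫
          (HomologicalComplex.singleObjXSelf (ComplexShape.up ℤ) 0 (ModuleCat.of P M)).hom) =
        a • ModuleCat.Hom.hom ((z : Cochain F (sg M) j).v (-j) 0 (by omega) ≫
          (HomologicalComplex.singleObjXSelf (ComplexShape.up ℤ) 0 (ModuleCat.of P M)).hom)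
      rw [Linear.smul_comp]
      rfl }

lemma toS_apply (M : Type u) [AddCommGroup M] [Module P M] (j : ℤ) (z : Cochain F (sg M) j) :
    toS F M j z = (z.v (-j) 0 (by omega) ≫
      (HomologicalComplex.singleObjXSelf (ComplexShape.up ℤ) 0 (ModuleCat.of P M)).hom).hom := rfl

lemma toS_comp {M N : Type u} [AddCommGroup M] [Module P M] [AddCommGroup N] [Module P N]
    (f : M →ₗ[P] N) (j : ℤ) (z : Cochain F (sg M) j) :
    toS F N j (z.comp (Cochain.ofHom
      ((CochainComplex.singleFunctor (ModuleCat.{u} P) 0).map (ModuleCat.ofHom f))) (add_zero j)) =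
      f ∘ₗ toS F M j z := by
  rw [toS_apply, toS_apply, Cochain.comp_v _ _ _ (-j) 0 0 (by omega) (by omega), Cochain.ofHom_v]
  have h : ((CochainComplex.singleFunctor (ModuleCat.{u} P) 0).map (ModuleCat.ofHom f)).f 0 ≫
      (HomologicalComplex.singleObjXSelf (ComplexShape.up ℤ) 0 (ModuleCat.of P N)).hom =
      (HomologicalComplex.singleObjXSelf (ComplexShape.up ℤ) 0 (ModuleCat.of P M)).hom ≫
        ModuleCat.ofHom f := by
    have := HomologicalComplex.single_map_f_self (ComplexShape.up ℤ) (0 : ℤ) (ModuleCat.ofHom f)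
    change (((HomologicalComplex.single _ _ 0).map (ModuleCat.ofHom f)).f 0) ≫ _ = _
    rw [this]
    simp
  rw [Category.assoc, h]
  rfl

/-- Maps from a finite projective module with values in `J` are in `J • Hom`. -/
lemma mem_smul_of_values {V : Type u} [AddCommGroup V] [Module P V] [Module.Finite P V]
    [Module.Projective P V] (J : Ideal P) (f : V →ₗ[P] P) (hf : ∀ v, f v ∈ J) :
    f ∈ J • (⊤ : Submodule P (V →ₗ[P] P)) := by
  obtain ⟨m, g, h, hg, hh, hgh⟩ := Module.Finite.exists_comp_eq_id_of_projective P V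
  have h1 : f = ∑ i, f (g (Pi.single i 1)) • ((LinearMap.proj i) ∘ₗ h) := by
    ext v
    have h2 : v = g (h v) := (LinearMap.congr_fun hgh v).symm
    conv_lhs => rw [h2]
    change (f ∘ₗ g) (h v) = _
    rw [LinearMap.pi_apply_eq_sum_univ (f ∘ₗ g) (h v), LinearMap.sum_apply]
    refine Finset.sum_congr rfl fun i _ => ?_
    have h3 : (fun j => if i = j then (1 : P) else 0) = Pi.single i 1 := by
      ext j
      rw [Pi.single_apply]
      simp only [eq_comm]
    rw [h3]
    change h v i * f (g (Pi.single i 1)) = f (g (Pi.single i 1)) * h v i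
    rw [mul_comm]
  rw [h1]
  exact Submodule.sum_mem _ fun i _ => Submodule.smul_mem_smul (hf _) Submodule.mem_top

/-- Cochains to `N[0]` lift along surjections. -/
lemma exists_lift (hF : DRing.TermwiseFiniteProjective F) {M N : Type u} [AddCommGroup M]
    [Module P M] [AddCommGroup N] [Module P N] (f : M →ₗ[P] N) (hf : Function.Surjective f) (j : ℤ)
    (z : Cochain F (sg N) j) : ∃ w : Cochain F (sg M) j, w.comp (Cochain.ofHom
      ((CochainComplex.singleFunctor (ModuleCat.{u} P) 0).map (ModuleCat.ofHom f))) (add_zero j) =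
      z := by
  have := (hF (-j)).2
  obtain ⟨g, hg⟩ := Module.projective_lifting_property f (toS F N j z) hf
  refine ⟨(toS F M j).symm g, (toS F N j).injective ?_⟩
  rw [toS_comp, LinearEquiv.apply_symm_apply, hg]

/-- Elements of `J` kill `Hom•(F, P/J)`. -/
lemma smul_cochain_eq_zero (J : Ideal P) (j : ℤ) (b : P) (hb : b ∈ J)
    (x : Cochain F (sg (P ⧸ J)) j) : b • x = 0 := by
  apply (toS F (P ⧸ J) j).injective
  rw [map_smul, map_zero]
  ext v
  change b • (toS F (P ⧸ J) j x v) = 0
  obtain ⟨w, hw⟩ := Submodule.Quotient.mk_surjective _ (toS F (P ⧸ J) j x v)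
  rw [← hw, ← Submodule.Quotient.mk_smul, Submodule.Quotient.mk_eq_zero]
  exact Ideal.mul_mem_right _ _ hb

/-- The kernel of `Hom•(F, P) → Hom•(F, P/J)` is `J Hom•(F, P)`. -/
lemma mem_smul_of_comp_eq_zero (hF : DRing.TermwiseFiniteProjective F) (J : Ideal P) (j : ℤ)
    (z : Cochain F (sg P) j) (hz : z.comp (Cochain.ofHom
      ((CochainComplex.singleFunctor (ModuleCat.{u} P) 0).map (ModuleCat.ofHom J.mkQ)))
        (add_zero j) = 0) :
    z ∈ J • (⊤ : Submodule P (Cochain F (sg P) j)) := by
  have := (hF (-j)).1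
  have := (hF (-j)).2
  have h1 : J.mkQ ∘ₗ toS F P j z = 0 := by rw [← toS_comp, hz, map_zero]
  have h2 : toS F P j z ∈ J • (⊤ : Submodule P (F.X (-j) →ₗ[P] P)) := by
    refine mem_smul_of_values J _ fun v => ?_
    have h3 := LinearMap.congr_fun h1 v
    exact (Submodule.Quotient.mk_eq_zero J).1 h3
  have h3 : (J • (⊤ : Submodule P (F.X (-j) →ₗ[P] P))).map (toS F P j).symm.toLinearMap ≤
      J • (⊤ : Submodule P (Cochain F (sg P) j)) := by
    rw [Submodule.map_smul'']
    exact Submodule.smul_mono le_rfl le_top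
  have h4 := h3 ⟨_, h2, rfl⟩
  rw [LinearEquiv.coe_coe, LinearEquiv.symm_apply_apply] at h4
  exact h4

end HomCx

section Main

variable {R P : Type u} [CommRing R] [CommRing P] (φ : R →+* P)

/-- Flat `P`-modules restrict to flat `R`-modules. -/
lemma flat_restrict (hφ : φ.Flat) (M : ModuleCat.{u} P) (hM : Module.Flat P M) :
    Module.Flat R ((ModuleCat.restrictScalars.{u} φ).obj M) := by
  let := φ.toAlgebra
  let : Module R M := Module.compHom M φ
  have : IsScalarTower R P M := IsScalarTower.of_algebraMap_smul fun _ _ => rfl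
  have : Module.Flat R P := hφ
  exact Module.Flat.trans R P M

variable (F : DRing.Cx P) (hF : DRing.TermwiseFiniteProjective F)

include hF in
/-- The terms of `Hom•(F, P)` are flat. -/
lemma flat_homCx_X (j : ℤ) : Module.Flat P ((DRing.homCx F (sg P)).X j) := by
  have := (hF (-j)).1
  have := (hF (-j)).2
  have h1 : Module.Projective P (Module.Dual P (F.X (-j))) := inferInstance
  have h2 : Module.Projective P (Cochain F (sg P) j) :=
    Module.Projective.of_equiv (toS F P j).symm
  have : Module.Flat P (Cochain F (sg P) j) := inferInstance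
  exact this

include hF in
/-- Flatness over `R` of the cokernels of the dual of `F`. -/
theorem flat_cok (hφ : φ.Flat) [F.IsKProjective] (k : ℤ)
    (h : ∀ I : Ideal R, Subsingleton (DRing.toD F ⟶ (DRing.toD (sg (P ⧸ I.map φ)))⟦k⟧)) :
    Module.Flat R (Flat2C.TorAmpCone.Cok ((DRing.restrictCx φ).obj (DRing.homCx F (sg P)))
      k (k + 1)) := by
  let G' := (DRing.restrictCx φ).obj (DRing.homCx F (sg P))
  have hfl : Module.Flat R (G'.X (k + 1)) := flat_restrict φ hφ _ (flat_homCx_X F hF (k + 1))
  refine flat_quotient (G'.d k (k + 1)).hom fun I (y : Cochain F (sg P) k) hy => ?_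
  let J := I.map φ
  let p : sg P ⟶ sg (P ⧸ J) :=
    (CochainComplex.singleFunctor (ModuleCat.{u} P) 0).map (ModuleCat.ofHom J.mkQ)
  let y' : Cochain F (sg (P ⧸ J)) k := y.comp (Cochain.ofHom p) (add_zero k)
  -- y' is a cocycle
  have h1 : δ k (k + 1) y' = 0 := by
    have h2 := eq_zero_of_mem_smul φ I ((DRing.homCxMap F p).f (k + 1)) (by
      exact fun a ha x => smul_cochain_eq_zero F J (k + 1) _ (Ideal.mem_map_of_mem φ ha) x) _ hy
    change δ k (k + 1) (y.comp (Cochain.ofHom p) (add_zero k)) = 0
    rw [δ_comp_ofHom]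
    exact h2
  -- hence a coboundary
  obtain ⟨x', hx'⟩ : ∃ x' : Cochain F (sg (P ⧸ J)) (k - 1), δ (k - 1) k x' = y' := by
    let c : Cocycle F (sg (P ⧸ J)) k := Cocycle.mk y' (k + 1) rfl h1
    have h3 := (HomCxHD.computes_of_isKProjective (K := F) (L := sg (P ⧸ J))).zero_iff k c
    have h4 : c ∈ coboundaries F (sg (P ⧸ J)) k := h3.1 (@Subsingleton.elim _ (h I) _ _)
    rw [mem_coboundaries_iff c (k - 1) (by simp)] at h4
    exact h4
  obtain ⟨x, hx⟩ := exists_lift F hF J.mkQ (Submodule.mkQ_surjective J) (k - 1) x'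
  refine ⟨y - δ (k - 1) k x, ?_, ?_⟩
  · refine mem_smul_restrict φ I (M := (DRing.homCx F (sg P)).X k) _ ?_
    refine mem_smul_of_comp_eq_zero F hF J k _ ?_
    change (y - δ (k - 1) k x).comp (Cochain.ofHom p) (add_zero k) = 0
    rw [Cochain.sub_comp, ← δ_comp_ofHom]
    have : x.comp (Cochain.ofHom p) (add_zero (k - 1)) = x' := hx
    rw [this, hx', sub_self]
  · change δ k (k + 1) (y - δ (k - 1) k x) = δ k (k + 1) y
    rw [δ_sub, δ_δ, sub_zero]

end Main

end Groth.Agent.LoccohB.DualCok
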