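import Groth.Agent.LoccohB.HomBC2
import Groth.Agent.LoccohB.FinInj

/-!
# Base change of dualizing complexes along flat maps (Stacks 0AWD, 0DWC)

A → B flat, Noetherian. `Hom(B/mB, (ω ⊗ B)[i]) = B ⊗ Hom(A/m, ω[i])`, `End(ω ⊗ B) = B ⊗ End(ω)`.
If every maximal ideal of B is extended from a maximal ideal of A, then ω ⊗ B is dualizing.
-/

set_option autoImplicit false
universe u

open CategoryTheory CategoryTheory.Limits
open scoped TensorProduct

attribute [local instance] HasDerivedCategory.standard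

namespace Groth.Agent.LoccohB.DualFlatBC

open DerivedCategory Groth.Agent.LoccohB.DBase Groth.Agent.LoccohB.FlatLBC
  Groth.Agent.LoccohB.HomBC Groth.Agent.LoccohB.FinInj

variable {A : Type u} (B : Type u) [CommRing A] [CommRing B] [Algebra A B]
  (h : (algebraMap A B).Flat)

/-- `H^i(K ⊗ B)` is finite if `H^i(K)` is. -/
lemma finite_HD_flatBC (K : Dual.D A) (i : ℤ) [Module.Finite A (Dual.HD A K i)] :
    Module.Finite B (Dual.HD B ((flatBC (algebraMap A B) h).obj K) i) :=
  Module.Finite.equiv (flatHDEquiv B h K i)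

/-- `K ⊗ B` is bounded below if `K` is. -/
lemma isGE_flatBC (K : Dual.D A) (a : ℤ) [K.IsGE a] :
    ((flatBC (algebraMap A B) h).obj K).IsGE a := by
  rw [isGE_iff]
  intro i hi
  rw [isZero_homology_iff]
  have h1 := (isZero_homology_iff K i).1 ((isGE_iff K a).1 inferInstance i hi)
  have : Subsingleton (B ⊗[A] (Dual.HD A K i)) := inferInstance
  exact (flatHDEquiv B h K i).toEquiv.subsingleton_congr.1 this

lemma isLE_flatBC (K : Dual.D A) (a : ℤ) [K.IsLE a] :
    ((flatBC (algebraMap A B) h).obj K).IsLE a := by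
  rw [isLE_iff]
  intro i hi
  rw [isZero_homology_iff]
  have h1 := (isZero_homology_iff K i).1 ((isLE_iff K a).1 inferInstance i hi)
  have : Subsingleton (B ⊗[A] (Dual.HD A K i)) := inferInstance
  exact (flatHDEquiv B h K i).toEquiv.subsingleton_congr.1 this

/-- If `N ≃ B ⊗ M` with `M` finite over Noetherian `A`, then vanishing of `Hom(M, K[i])` implies
vanishing of `Hom(N, (K ⊗ B)[i])`. -/
lemma subsingleton_hom_of_equiv [IsNoetherianRing A] {M : Type u} [AddCommGroup M] [Module A M]
    [Module.Finite A M] {N : Type u} [AddCommGroup N] [Module B N] (e : B ⊗[A] M ≃ₗ[B] N)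
    (K : Dual.D A) (k : ℤ) [K.IsGE k] (i : ℤ) (hs : Subsingleton (Dual.inD A M ⟶ K⟦i⟧)) :
    Subsingleton (Dual.inD B N ⟶ ((flatBC (algebraMap A B) h).obj K)⟦i⟧) := by
  have h1 : Subsingleton (B ⊗[A] (Dual.inD A M ⟶ K⟦i⟧)) := inferInstance
  have h2 := (homBCModuleEquiv B h (ModuleCat.of A M) K k i).toEquiv.subsingleton_congr.1 h1
  let e' : (ModuleCat.extendScalars.{u, u, u} (algebraMap A B)).obj (ModuleCat.of A M) ≅
      ModuleCat.of B N := ((extEquiv A B (ModuleCat.of A M)).symm ≪≫ₗ e).toModuleIso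
  exact (Linear.homCongr B ((singleFunctor (ModuleCat.{u} B) 0).mapIso e')
    (Iso.refl _)).toEquiv.subsingleton_congr.1 h2

/-- `B ⊗ A/m = B/mB`. -/
noncomputable def quotEquiv (m : Ideal A) (n : Ideal B) (hmn : m.map (algebraMap A B) = n) :
    B ⊗[A] (A ⧸ m) ≃ₗ[B] B ⧸ n :=
  (Algebra.TensorProduct.quotIdealMapEquivTensorQuot B m).symm.toLinearEquiv ≪≫ₗ
    Submodule.quotEquivOfEq _ _ hmn

/-- The endomorphisms of `ω ⊗ B`. -/
lemma toEnd_flatBC_bijective [IsNoetherianRing A] (ω : Dual.D A) (hω : Dual.IsDualizing A ω) :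
    Function.Bijective (fun b : B => b • 𝟙 ((flatBC (algebraMap A B) h).obj ω)) := by
  obtain ⟨a, b, _, _, -⟩ := exists_bounds_of_isDualizing hω
  -- `A ≃ End ω`
  let e₁ : A ≃ₗ[A] (ω ⟶ ω) :=
    LinearEquiv.ofBijective (LinearMap.toSpanSingleton A (ω ⟶ ω) (𝟙 ω)) hω.toEnd_bijective
  have h1 := bc_bijective_of_bounded B h ω a b hω.finite_cohomology ω a
  let e₂ : B ≃ₗ[B] B ⊗[A] A := (TensorProduct.AlgebraTensorModule.rid A B B).symm
  have h2 : (fun b : B => b • 𝟙 ((flatBC (algebraMap A B) h).obj ω)) =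
      (bc A B (flatBC (algebraMap A B) h) ω ω) ∘ (e₁.lTensor B) ∘ e₂ := by
    ext b
    simp only [Function.comp_apply, e₂]
    rw [show (TensorProduct.AlgebraTensorModule.rid A B B).symm b = b ⊗ₜ[A] (1 : A) from rfl]
    rw [LinearEquiv.lTensor_tmul, bc_tmul]
    have : e₁ (1 : A) = 𝟙 ω := by
      simp [e₁]
    rw [this, CategoryTheory.Functor.map_id]
  rw [h2]
  exact h1.comp ((e₁.lTensor B).bijective.comp e₂.bijective)

/-- **Base change of dualizing complexes**: `B` flat over `A`, every maximal ideal of `B` extended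
from a maximal ideal of `A`. -/
theorem isDualizing_flatBC [IsNoetherianRing A] [IsNoetherianRing B]
    (hmax : ∀ n : Ideal B, n.IsMaximal → (n.comap (algebraMap A B)).map (algebraMap A B) = n ∧
      (n.comap (algebraMap A B)).IsMaximal)
    (ω : Dual.D A) (hω : Dual.IsDualizing A ω) :
    Dual.IsDualizing B ((flatBC (algebraMap A B) h).obj ω) where
  isNoetherianRing := inferInstance
  finite_injective_dimension := by
    obtain ⟨a, b, _, _, hab⟩ := exists_bounds_of_isDualizing hω
    have := isGE_flatBC B h ω a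
    have hfin : ∀ i, Module.Finite B (Dual.HD B ((flatBC (algebraMap A B) h).obj ω) i) := by
      intro i
      have := hω.finite_cohomology i
      exact finite_HD_flatBC B h ω i
    refine ⟨a, b, fun M _ _ i hi => ?_⟩
    refine finite_injective_dimension_of_maximal _ a b hfin ?_ M i hi
    intro n hn i hi
    obtain ⟨h1, h2⟩ := hmax n hn
    exact subsingleton_hom_of_equiv B h (quotEquiv B _ n h1) ω a i (hab _ i (Or.inr hi))
  finite_cohomology i := by
    have := hω.finite_cohomology i
    exact finite_HD_flatBC B h ω i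
  toEnd_bijective := toEnd_flatBC_bijective B h ω hω
  ext_self_subsingleton i hi := by
    obtain ⟨a, b, _, _, -⟩ := exists_bounds_of_isDualizing hω
    have h1 := hω.ext_self_subsingleton i hi
    have h2 : Subsingleton (B ⊗[A] (ω ⟶ ω⟦i⟧)) := inferInstance
    exact (homBCEquiv B h ω a b hω.finite_cohomology ω a i).toEquiv.subsingleton_congr.1 h2

/-- The same for `DRing.LBaseChange`. -/
theorem isDualizing_LBaseChange [Module.Flat A B] [IsNoetherianRing A] [IsNoetherianRing B]
    (hmax : ∀ n : Ideal B, n.IsMaximal → (n.comap (algebraMap A B)).map (algebraMap A B) = n ∧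
      (n.comap (algebraMap A B)).IsMaximal)
    [DRing.HasLBaseChange (algebraMap A B)]
    (ω : Dual.D A) (hω : Dual.IsDualizing A ω) :
    Dual.IsDualizing B ((DRing.LBaseChange (algebraMap A B)).obj ω) :=
  have h : (algebraMap A B).Flat := (RingHom.flat_algebraMap_iff).2 inferInstance
  isDualizing_of_iso ((LBaseChangeIso (algebraMap A B) h).symm.app ω)
    (isDualizing_flatBC B h hmax ω hω)

section Local

variable [IsLocalRing A] [IsLocalRing B] [IsLocalHom (algebraMap A B)]

omit [IsLocalHom (algebraMap A B)] in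
lemma isNormalized_of_iso {ω ω' : Dual.D B} (e : ω ≅ ω') (hω : Dual.IsNormalized B ω) :
    Dual.IsNormalized B ω' := by
  intro i hi
  have := hω i hi
  exact (Linear.homCongr B (Iso.refl _)
    ((shiftFunctor _ i).mapIso e)).toEquiv.subsingleton_congr.1 this

lemma hmax_of_local (hm : (IsLocalRing.maximalIdeal A).map (algebraMap A B) =
    IsLocalRing.maximalIdeal B) (n : Ideal B) (hn : n.IsMaximal) :
    (n.comap (algebraMap A B)).map (algebraMap A B) = n ∧
      (n.comap (algebraMap A B)).IsMaximal := by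
  obtain rfl := IsLocalRing.eq_maximalIdeal hn
  have h1 : (IsLocalRing.maximalIdeal B).comap (algebraMap A B) = IsLocalRing.maximalIdeal A :=
    IsLocalRing.maximalIdeal_comap _
  rw [h1]
  exact ⟨hm, inferInstance⟩

omit [IsLocalHom (algebraMap A B)] in
theorem isNormalized_flatBC [IsNoetherianRing A]
    (hm : (IsLocalRing.maximalIdeal A).map (algebraMap A B) = IsLocalRing.maximalIdeal B)
    (ω : Dual.D A) (k : ℤ) [ω.IsGE k] (hn : Dual.IsNormalized A ω) :
    Dual.IsNormalized B ((flatBC (algebraMap A B) h).obj ω) := by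
  intro i hi
  exact subsingleton_hom_of_equiv B h (quotEquiv B _ _ hm) ω k i (hn i hi)

theorem isDualizing_isNormalized_LBaseChange [Module.Flat A B] [IsNoetherianRing A]
    [IsNoetherianRing B]
    (hm : (IsLocalRing.maximalIdeal A).map (algebraMap A B) = IsLocalRing.maximalIdeal B)
    [DRing.HasLBaseChange (algebraMap A B)]
    (ω : Dual.D A) (hω : Dual.IsDualizing A ω) (hn : Dual.IsNormalized A ω) :
    Dual.IsDualizing B ((DRing.LBaseChange (algebraMap A B)).obj ω) ∧
      Dual.IsNormalized B ((DRing.LBaseChange (algebraMap A B)).obj ω) := by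
  have h : (algebraMap A B).Flat := (RingHom.flat_algebraMap_iff).2 inferInstance
  refine ⟨isDualizing_LBaseChange B (hmax_of_local B hm) ω hω, ?_⟩
  obtain ⟨a, b, _, _, -⟩ := exists_bounds_of_isDualizing hω
  exact isNormalized_of_iso B ((LBaseChangeIso (algebraMap A B) h).symm.app ω)
    (isNormalized_flatBC B h hm ω a hn)

end Local

section Quot

/-- The hypothesis of Stacks 0DWC on maximal ideals. -/
lemma hmax_of_quotient (I : Ideal A)
    (hs : Function.Surjective ((Ideal.Quotient.mk (I.map (algebraMap A B))).comp (algebraMap A B)))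
    (hJ : I.map (algebraMap A B) ≤ (⊥ : Ideal B).jacobson) (n : Ideal B) (hn : n.IsMaximal) :
    (n.comap (algebraMap A B)).map (algebraMap A B) = n ∧
      (n.comap (algebraMap A B)).IsMaximal := by
  have hIn : I.map (algebraMap A B) ≤ n := hJ.trans (sInf_le ⟨bot_le, hn⟩)
  have hI : I ≤ n.comap (algebraMap A B) := Ideal.map_le_iff_le_comap.1 hIn
  refine ⟨le_antisymm Ideal.map_comap_le ?_, ?_⟩
  · intro b hb
    obtain ⟨a, ha⟩ := hs (Ideal.Quotient.mk _ b)
    have h1 : algebraMap A B a - b ∈ I.map (algebraMap A B) := (Ideal.Quotient.eq).1 ha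
    have h2 : algebraMap A B a ∈ n := by
      have := n.add_mem (hIn h1) hb
      simpa using this
    have h3 : b = algebraMap A B a - (algebraMap A B a - b) := by ring
    rw [h3]
    exact sub_mem (Ideal.mem_map_of_mem _ h2) (Ideal.map_mono hI h1)
  · have h1 : Function.Surjective ((Ideal.Quotient.mk n).comp (algebraMap A B)) := by
      intro x
      obtain ⟨b, rfl⟩ := Ideal.Quotient.mk_surjective x
      obtain ⟨a, ha⟩ := hs (Ideal.Quotient.mk _ b)
      exact ⟨a, Ideal.Quotient.eq.2 (hIn (Ideal.Quotient.eq.1 ha))⟩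
    have h2 : n.comap (algebraMap A B) =
        (⊥ : Ideal (B ⧸ n)).comap ((Ideal.Quotient.mk n).comp (algebraMap A B)) := by
      rw [← Ideal.comap_comap, ← RingHom.ker_eq_comap_bot, Ideal.mk_ker]
    rw [h2]
    have : (⊥ : Ideal (B ⧸ n)).IsMaximal := by
      let _ := Ideal.Quotient.field n
      exact Ideal.bot_isMaximal
    exact Ideal.comap_isMaximal_of_surjective _ h1

end Quot

end Groth.Agent.LoccohB.DualFlatBC
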