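import Groth.Agent.LoccohB.DualBC2
import Mathlib.RingTheory.Localization.BaseChange
import Mathlib.RingTheory.Localization.Finiteness
import Mathlib.RingTheory.LocalProperties.Exactness

/-!
# Descent of dualizing complexes along a finite jointly faithful flat family
-/

set_option autoImplicit false
universe w v u w₁ v₁ u₁ uA uB v₂ u₂

open CategoryTheory CategoryTheory.Limits Opposite Pretriangulated
open scoped TensorProduct ChangeOfRings

attribute [local instance] HasDerivedCategory.standard

namespace Groth.Agent.LoccohB.DualBC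

open DerivedCategory Groth.Agent.LoccohB.DBase Groth.Agent.LoccohB.FlatLBC
  Groth.Agent.LoccohB.HomBC Groth.Agent.LoccohB.Devissage

section

variable {A : Type u} [CommRing A] {ι : Type*} (B : ι → Type u) [∀ i, CommRing (B i)]
  [∀ i, Algebra A (B i)]

/-- The family reflects triviality. -/
def JointlyFaithful : Prop :=
  ∀ (N : Type (u + 1)) [AddCommGroup N] [Module A N],
    (∀ i, Subsingleton (B i ⊗[A] N)) → Subsingleton N

variable {B}

lemma JointlyFaithful.subsingleton (hB : JointlyFaithful (A := A) B) (N : Type u) [AddCommGroup N]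
    [Module A N] (hN : ∀ i, Subsingleton (B i ⊗[A] N)) : Subsingleton N := by
  have : Subsingleton (ULift.{u + 1} N) := by
    apply hB
    intro i
    have := hN i
    exact (TensorProduct.congr (LinearEquiv.refl A (B i))
      (ULift.moduleEquiv (R := A) (M := N))).toEquiv.subsingleton
  exact (ULift.moduleEquiv (R := A) (M := N)).symm.toEquiv.subsingleton

lemma JointlyFaithful.injective (hB : JointlyFaithful (A := A) B) [∀ i, Module.Flat A (B i)]
    {M : Type u} {N : Type (u + 1)} [AddCommGroup M] [AddCommGroup N] [Module A M] [Module A N]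
    (f : M →ₗ[A] N) (hf : ∀ i, Function.Injective (f.lTensor (B i))) : Function.Injective f := by
  rw [← LinearMap.ker_eq_bot, ← Submodule.subsingleton_iff_eq_bot]
  apply hB.subsingleton
  intro i
  have h1 : Function.Injective ((LinearMap.ker f).subtype.lTensor (B i)) :=
    Module.Flat.lTensor_preserves_injective_linearMap _ (Submodule.subtype_injective _)
  have h2 : (f.lTensor (B i)) ∘ₗ ((LinearMap.ker f).subtype.lTensor (B i)) = 0 := by
    rw [← LinearMap.lTensor_comp, LinearMap.comp_ker_subtype, LinearMap.lTensor_zero]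
  refine ⟨fun x y => ?_⟩
  apply h1
  apply hf i
  exact (LinearMap.congr_fun h2 x).trans (LinearMap.congr_fun h2 y).symm

lemma JointlyFaithful.surjective (hB : JointlyFaithful (A := A) B)
    {M : Type u} {N : Type (u + 1)} [AddCommGroup M] [AddCommGroup N] [Module A M] [Module A N]
    (f : M →ₗ[A] N) (hf : ∀ i, Function.Surjective (f.lTensor (B i))) :
    Function.Surjective f := by
  rw [← LinearMap.range_eq_top, ← Submodule.Quotient.subsingleton_iff]
  apply hB
  intro i
  have h1 : Function.Surjective ((LinearMap.range f).mkQ.lTensor (B i)) :=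
    LinearMap.lTensor_surjective _ (Submodule.mkQ_surjective _)
  have h2 : ((LinearMap.range f).mkQ.lTensor (B i)) ∘ₗ (f.lTensor (B i)) = 0 := by
    rw [← LinearMap.lTensor_comp, LinearMap.range_mkQ_comp, LinearMap.lTensor_zero]
  refine ⟨fun x y => ?_⟩
  obtain ⟨x, rfl⟩ := h1 x
  obtain ⟨y, rfl⟩ := h1 y
  obtain ⟨x, rfl⟩ := hf i x
  obtain ⟨y, rfl⟩ := hf i y
  exact (LinearMap.congr_fun h2 x).trans (LinearMap.congr_fun h2 y).symm

lemma JointlyFaithful.bijective (hB : JointlyFaithful (A := A) B) [∀ i, Module.Flat A (B i)]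
    {M : Type u} {N : Type (u + 1)} [AddCommGroup M] [AddCommGroup N] [Module A M] [Module A N]
    (f : M →ₗ[A] N) (hf : ∀ i, Function.Bijective (f.lTensor (B i))) : Function.Bijective f :=
  ⟨hB.injective f (fun i => (hf i).1), hB.surjective f (fun i => (hf i).2)⟩

/-- Descent of dualizing complexes along a finite, jointly faithful flat family. -/
theorem isDualizing_of_family [IsNoetherianRing A] [Finite ι] (hB : JointlyFaithful (A := A) B)
    (h : ∀ i, (algebraMap A (B i)).Flat)
    (hfin : ∀ (N : Type u) [AddCommGroup N] [Module A N],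
      (∀ i, Module.Finite (B i) (B i ⊗[A] N)) → Module.Finite A N) {K : Dual.D A}
    (hK : ∀ i, Dual.IsDualizing (B i) ((flatBC (algebraMap A (B i)) (h i)).obj K)) :
    Dual.IsDualizing A K := by
  have hflat : ∀ i, Module.Flat A (B i) := fun i => (RingHom.flat_algebraMap_iff).1 (h i)
  choose a b ha hb hab using fun i => exists_bounds_of_isDualizing (hK i)
  obtain ⟨a₀, ha₀⟩ : ∃ a₀ : ℤ, ∀ i, a₀ ≤ a i := by
    obtain ⟨x, hx⟩ := (Set.finite_range a).bddBelow
    exact ⟨x, fun i => hx ⟨i, rfl⟩⟩
  obtain ⟨b₀, hb₀⟩ : ∃ b₀ : ℤ, ∀ i, b i ≤ b₀ := by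
    obtain ⟨x, hx⟩ := (Set.finite_range b).bddAbove
    exact ⟨x, fun i => hx ⟨i, rfl⟩⟩
  have hsub : ∀ n, (∀ i, Subsingleton (Dual.HD (B i) ((flatBC (algebraMap A (B i)) (h i)).obj K) n))
      → Subsingleton (Dual.HD A K n) := by
    intro n hn
    apply hB.subsingleton
    intro i
    exact (flatHDEquiv (B i) (h i) K n).toEquiv.subsingleton_congr.2 (hn i)
  have hGE : K.IsGE a₀ := by
    rw [isGE_iff]
    intro n hn
    rw [isZero_homology_iff]
    refine hsub n (fun i => ?_)
    have := ha i
    exact (isZero_homology_iff _ _).1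
      (((flatBC (algebraMap A (B i)) (h i)).obj K).isZero_of_isGE (a i) n (lt_of_lt_of_le hn (ha₀ i)))
  have hLE : K.IsLE b₀ := by
    rw [isLE_iff]
    intro n hn
    rw [isZero_homology_iff]
    refine hsub n (fun i => ?_)
    have := hb i
    exact (isZero_homology_iff _ _).1
      (((flatBC (algebraMap A (B i)) (h i)).obj K).isZero_of_isLE (b i) n (lt_of_le_of_lt (hb₀ i) hn))
  have hfinite : ∀ n, Module.Finite A (Dual.HD A K n) := by
    intro n
    apply hfin
    intro i
    have := (hK i).finite_cohomology n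
    exact Module.Finite.equiv (flatHDEquiv (B i) (h i) K n).symm
  refine ⟨inferInstance, ⟨a₀, b₀, ?_⟩, hfinite, ?_, ?_⟩
  · refine finite_inj_dim_of_ideals K a₀ b₀ hGE hLE (fun J => ?_)
    apply hB
    intro i
    have hM := hab i ((ModuleCat.extendScalars.{u, u, u} (algebraMap A (B i))).obj
      (ModuleCat.of A (A ⧸ J))) (b₀ + 1) (Or.inr (by have := hb₀ i; lia))
    exact (homBCModuleEquiv (B i) (h i) (ModuleCat.of A (A ⧸ J)) K a₀
      (b₀ + 1)).toEquiv.subsingleton_congr.2 hM
  · apply hB.bijective (toEnd A K)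
    intro i
    exact (toEnd_bijective_iff (B i) (h i) K (bc_bijective_of_bounded (B i) (h i) K a₀ b₀
      hfinite K a₀)).1 (hK i).toEnd_bijective
  · intro n hn
    apply hB
    intro i
    have := (hK i).ext_self_subsingleton n hn
    exact (homBCEquiv (B i) (h i) K a₀ b₀ hfinite K a₀ n).toEquiv.subsingleton_congr.2 this

end

section

variable {A : Type u} [CommRing A] {n : ℕ} (f : Fin n → A)

lemma jointlyFaithful_away (hf : Ideal.span (Set.range f) = ⊤) :
    JointlyFaithful (A := A) (fun i => Localization.Away (f i)) := by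
  intro N _ _ hN
  refine ⟨fun x y => ?_⟩
  refine Module.eq_of_isLocalized_span (Set.range f) hf
    (fun r : Set.range f => Localization.Away r.1 ⊗[A] N)
    (fun r => TensorProduct.mk A (Localization.Away r.1) N 1) x y ?_
  rintro ⟨r, ⟨i, rfl⟩⟩
  have := hN i
  exact Subsingleton.elim _ _

lemma finite_of_away (hf : Ideal.span (Set.range f) = ⊤) (N : Type u) [AddCommGroup N] [Module A N]
    (hN : ∀ i, Module.Finite (Localization.Away (f i)) (Localization.Away (f i) ⊗[A] N)) :
    Module.Finite A N := by
  classical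
  refine Module.Finite.of_localizationSpan_finite' (Finset.univ.image f) (by simpa using hf)
    (Mₚ := fun r => Localization.Away r.1 ⊗[A] N)
    (Rₚ := fun r => Localization.Away r.1)
    (fun r => TensorProduct.mk A (Localization.Away r.1) N 1) ?_
  rintro ⟨r, hr⟩
  obtain ⟨i, -, rfl⟩ := Finset.mem_image.1 hr
  exact hN i

end

end Groth.Agent.LoccohB.DualBC
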