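import Groth.Agent.LoccohB.LocAbs

/-!
# The comparison map `T (R_A L) ⟶ R (T L)`, abstractly

`T : DA ⥤ D` fully faithful, `F ⊣ R` on `D`, `FA ⊣ RA` on `DA` and `θ : T ⋙ F ≅ FA ⋙ T`.
-/

set_option autoImplicit false

open CategoryTheory

namespace Groth.Agent.LoccohB.EtaAbs

open LocAbs

universe v₁ v₂ v₃ u₁ u₂ u₃

variable {DA : Type u₁} [Category.{v₁} DA] {D : Type u₂} [Category.{v₂} D]
  (T : DA ⥤ D) {F R : D ⥤ D} (adj : F ⊣ R) {FA RA : DA ⥤ DA} (adjA : FA ⊣ RA) (θ : T ⋙ F ≅ FA ⋙ T)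

/-- The comparison map. -/
def eta (L : DA) : T.obj (RA.obj L) ⟶ R.obj (T.obj L) :=
  adj.homEquiv _ _ (θ.hom.app (RA.obj L) ≫ T.map (adjA.counit.app L))

lemma bijective_comp_eta [T.Full] [T.Faithful] (N L : DA) :
    Function.Bijective (fun y : T.obj N ⟶ T.obj (RA.obj L) => y ≫ eta T adj adjA θ L) := by
  have key : ∀ g : N ⟶ RA.obj L, T.map g ≫ eta T adj adjA θ L =
      adj.homEquiv _ _ (θ.hom.app N ≫ T.map ((adjA.homEquiv _ _).symm g)) := by
    intro g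
    have h1 := θ.hom.naturality g
    dsimp at h1
    rw [eta, ← adj.homEquiv_naturality_left, reassoc_of% h1, ← T.map_comp, adjA.homEquiv_counit]
  constructor
  · intro y y' h
    obtain ⟨g, rfl⟩ := T.map_surjective y
    obtain ⟨g', rfl⟩ := T.map_surjective y'
    change T.map g ≫ _ = T.map g' ≫ _ at h
    rw [key, key] at h
    have h1 := (adj.homEquiv _ _).injective h
    rw [cancel_epi] at h1
    rw [(adjA.homEquiv _ _).symm.injective (T.map_injective h1)]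
  · intro z
    obtain ⟨g, hg⟩ := T.map_surjective (θ.inv.app N ≫ (adj.homEquiv _ _).symm z)
    refine ⟨T.map (adjA.homEquiv _ _ g), ?_⟩
    change T.map (adjA.homEquiv _ _ g) ≫ _ = z
    rw [key, Equiv.symm_apply_apply, hg, Iso.hom_inv_id_app_assoc, Equiv.apply_symm_apply]

variable [Preadditive DA] [Preadditive D] {D' : Type u₃} [Category.{v₃} D'] [Preadditive D']
  {Φ : D ⥤ D'} {Ψ : D' ⥤ D} (adj' : Ψ ⊣ Φ)

/-- `Loc` for `F` applied to the counit. -/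
lemma loc_map_counit [Φ.Additive] (F : D ⥤ D) {O : D} (μ : O ⟶ O) {Z : D}
    (h1 : IsIso (Φ.map (F.map (adj'.counit.app O))))
    (h2 : IsIso (adj'.counit.app (F.obj (Ψ.obj (Φ.obj O)))))
    (h : FLoc Φ (F.obj O) (F.map μ) Z) :
    Loc (F.map (adj'.counit.app O)) (F.map (Ψ.map (Φ.map μ))) (F.map μ) Z := by
  have h0 := h.loc adj'
  have h3 : IsIso (Ψ.map (Φ.map (F.map (adj'.counit.app O)))) := inferInstance
  let a : Ψ.obj (Φ.obj (F.obj O)) ≅ F.obj (Ψ.obj (Φ.obj O)) :=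
    (asIso (Ψ.map (Φ.map (F.map (adj'.counit.app O))))).symm ≪≫
      asIso (adj'.counit.app (F.obj (Ψ.obj (Φ.obj O))))
  refine Loc.of_iso a (Iso.refl _) ?_ ?_ ?_ h0
  · change adj'.counit.app (F.obj O) ≫ 𝟙 _ = (inv (Ψ.map (Φ.map (F.map (adj'.counit.app O)))) ≫
      adj'.counit.app (F.obj (Ψ.obj (Φ.obj O)))) ≫ F.map (adj'.counit.app O)
    rw [Category.comp_id, Category.assoc, IsIso.eq_inv_comp]
    exact adj'.counit.naturality (F.map (adj'.counit.app O))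
  · change Ψ.map (Φ.map (F.map μ)) ≫ inv (Ψ.map (Φ.map (F.map (adj'.counit.app O)))) ≫
      adj'.counit.app (F.obj (Ψ.obj (Φ.obj O))) =
      (inv (Ψ.map (Φ.map (F.map (adj'.counit.app O)))) ≫
      adj'.counit.app (F.obj (Ψ.obj (Φ.obj O)))) ≫ F.map (Ψ.map (Φ.map μ))
    have h4 : Ψ.map (Φ.map μ) ≫ adj'.counit.app O = adj'.counit.app O ≫ μ :=
      adj'.counit.naturality μ
    have h5 : Ψ.map (Φ.map (F.map (Ψ.map (Φ.map μ)))) ≫ Ψ.map (Φ.map (F.map (adj'.counit.app O))) =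
        Ψ.map (Φ.map (F.map (adj'.counit.app O))) ≫ Ψ.map (Φ.map (F.map μ)) := by
      rw [← Ψ.map_comp, ← Φ.map_comp, ← F.map_comp, h4, F.map_comp, Φ.map_comp, Ψ.map_comp]
    have h6 : Ψ.map (Φ.map (F.map (Ψ.map (Φ.map μ)))) ≫ adj'.counit.app (F.obj (Ψ.obj (Φ.obj O))) =
        adj'.counit.app (F.obj (Ψ.obj (Φ.obj O))) ≫ F.map (Ψ.map (Φ.map μ)) :=
      adj'.counit.naturality (F.map (Ψ.map (Φ.map μ)))
    rw [Category.assoc, ← h6, ← Category.assoc, ← Category.assoc]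
    congr 1
    rw [IsIso.comp_inv_eq, Category.assoc, h5, IsIso.inv_hom_id_assoc]
  · change F.map μ ≫ 𝟙 _ = 𝟙 _ ≫ F.map μ
    rw [Category.comp_id, Category.id_comp]

/-- The comparison map is bijective on `Hom(j_! j^* T N, -)`. -/
theorem bijective_shriek [T.Full] [T.Faithful] [F.Additive] [Φ.Additive] {N : DA} (μ : N ⟶ N) {L : DA}
    (h1 : IsIso (Φ.map (F.map (adj'.counit.app (T.obj N)))))
    (h2 : IsIso (adj'.counit.app (F.obj (Ψ.obj (Φ.obj (T.obj N))))))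
    (hZ : FLoc Φ (T.obj N) (T.map μ) (T.obj (RA.obj L)))
    (hH : FLoc Φ (T.obj (FA.obj N)) (T.map (FA.map μ)) (T.obj L)) :
    Function.Bijective (fun x : Ψ.obj (Φ.obj (T.obj N)) ⟶ T.obj (RA.obj L) =>
      x ≫ eta T adj adjA θ L) := by
  have hH' : FLoc Φ (F.obj (T.obj N)) (F.map (T.map μ)) (T.obj L) :=
    FLoc.of_iso (θ.symm.app N) (Iso.refl _) (θ.inv.naturality μ) hH
  exact Loc.bijective (eta T adj adjA θ L) (adj'.counit.naturality (T.map μ)) (hZ.loc adj')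
    (Loc.of_adj adj (loc_map_counit adj' F (T.map μ) h1 h2 hH')) (bijective_comp_eta T adj adjA θ N L)

end Groth.Agent.LoccohB.EtaAbs
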