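import Groth.Agent.LoccohB.HomCxBase
import Groth.Prelude.Def_DRing2
import Mathlib.Algebra.Module.Projective

/-!
# The evaluation map of a bounded complex of finite projective modules
-/

universe v u

open CategoryTheory CategoryTheory.Limits CochainComplex CochainComplex.HomComplex
  HomologicalComplex ZeroObject

attribute [local instance] HasDerivedCategory.standard

namespace Groth.Agent.LoccohB.HomCx

variable {A : Type u} [CommRing A]

section

open CategoryTheory.ComposableArrows CategoryTheory.Abelian HomologicalComplex.HomologySequence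

variable {C ι : Type*} [Category* C] [Abelian C] {c : ComplexShape ι}
  {S₁ S₂ : ShortComplex (HomologicalComplex C c)} (φ : S₁ ⟶ S₂)
  (hS₁ : S₁.ShortExact) (hS₂ : S₂.ShortExact)

include hS₁ hS₂

lemma epi_homologyMap_τ₂ (i j : ι) (hij : c.Rel i j)
    (h₁ : Epi (homologyMap φ.τ₁ i))
    (h₂ : Epi (homologyMap φ.τ₃ i))
    (h₃ : Mono (homologyMap φ.τ₁ j)) :
    Epi (homologyMap φ.τ₂ i) := by
  apply epi_of_epi_of_epi_of_mono
    ((δlastFunctor ⋙ δlastFunctor).map (mapComposableArrows₅ φ hS₁ hS₂ i j hij))
  · exact (composableArrows₅_exact hS₁ i j hij).δlast.δlast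
  · exact (composableArrows₅_exact hS₂ i j hij).δlast.δlast
  · exact h₁
  · exact h₂
  · exact h₃

lemma mono_homologyMap_τ₂ (i j : ι) (hij : c.Rel i j)
    (h₁ : Epi (homologyMap φ.τ₃ i))
    (h₂ : Mono (homologyMap φ.τ₁ j))
    (h₃ : Mono (homologyMap φ.τ₃ j)) :
    Mono (homologyMap φ.τ₂ j) := by
  apply mono_of_epi_of_mono_of_mono
    ((δ₀Functor ⋙ δ₀Functor).map (mapComposableArrows₅ φ hS₁ hS₂ i j hij))
  · exact (composableArrows₅_exact hS₁ i j hij).δ₀.δ₀
  · exact (composableArrows₅_exact hS₂ i j hij).δ₀.δ₀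
  · exact h₁
  · exact h₂
  · exact h₃

end

/-- Two out of three for the middle term of short exact sequences of cochain complexes. -/
lemma quasiIso_τ₂ {C : Type*} [Category* C] [Abelian C]
    {S₁ S₂ : ShortComplex (CochainComplex C ℤ)} (φ : S₁ ⟶ S₂)
    (hS₁ : S₁.ShortExact) (hS₂ : S₂.ShortExact) (h₁ : QuasiIso φ.τ₁) (h₃ : QuasiIso φ.τ₃) :
    QuasiIso φ.τ₂ := by
  rw [quasiIso_iff]
  intro j
  rw [quasiIsoAt_iff_isIso_homologyMap]
  have := epi_homologyMap_τ₂ φ hS₁ hS₂ j (j + 1) (by simp) inferInstance inferInstance inferInstance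
  have := mono_homologyMap_τ₂ φ hS₁ hS₂ (j - 1) j (by simp) inferInstance inferInstance inferInstance
  exact isIso_of_mono_of_epi _

/-- If the evaluation map of `A[0]` is a quasi-isomorphism then so is that of `P[n]` for `P` finite projective. -/
lemma quasiIso_ev_single_projective (I : DRing.Cx A) [I.IsKInjective]
    (hI : ∀ n, Injective (I.X n))
    (h0 : QuasiIso (ev (S0 A) I)) (P : ModuleCat.{u} A) [Module.Finite A P] [Module.Projective A P]
    (n : ℤ) :
    QuasiIso (ev ((CochainComplex.singleFunctor (ModuleCat.{u} A) n).obj P) I) := by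
  obtain ⟨k, f, g, -, -, hfg⟩ := Module.Finite.exists_comp_eq_id_of_projective A P
  refine quasiIso_ev_of_sum I (Finset.univ : Finset (Fin 1))
    (fun _ => (CochainComplex.singleFunctor (ModuleCat.{u} A) n).obj (ModuleCat.of A (Fin k → A)))
    (fun _ => (CochainComplex.singleFunctor (ModuleCat.{u} A) n).map (ModuleCat.ofHom g))
    (fun _ => (CochainComplex.singleFunctor (ModuleCat.{u} A) n).map (ModuleCat.ofHom f)) ?_
    (fun _ => quasiIso_ev_single_free I hI h0 n k)
  simp only [← Functor.map_comp, Finset.univ_unique, Finset.sum_const, Finset.card_singleton,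
    one_smul]
  rw [← (CochainComplex.singleFunctor (ModuleCat.{u} A) n).map_id, ← ModuleCat.ofHom_comp, hfg]
  rfl

/-- The map `K^b[-b] ⟶ K` when `K` vanishes in degree `b + 1`. -/
noncomputable def topHom (K : DRing.Cx A) (b : ℤ) (hb : IsZero (K.X (b + 1))) :
    (CochainComplex.singleFunctor (ModuleCat.{u} A) b).obj (K.X b) ⟶ K :=
  HomologicalComplex.mkHomFromSingle (𝟙 (K.X b)) (by
    intro k hk
    obtain rfl : b + 1 = k := hk
    exact hb.eq_of_tgt _ _)

lemma isIso_topHom_f (K : DRing.Cx A) (b : ℤ) (hb : IsZero (K.X (b + 1))) :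
    IsIso ((topHom K b hb).f b) := by
  rw [topHom, HomologicalComplex.mkHomFromSingle_f, Category.comp_id]
  infer_instance

lemma isZero_top_X (K : DRing.Cx A) (b i : ℤ) (hi : i ≠ b) :
    IsZero (((CochainComplex.singleFunctor (ModuleCat.{u} A) b).obj (K.X b)).X i) :=
  HomologicalComplex.isZero_single_obj_X _ _ _ _ hi

lemma mono_topHom_f (K : DRing.Cx A) (b : ℤ) (hb : IsZero (K.X (b + 1))) (i : ℤ) :
    Mono ((topHom K b hb).f i) := by
  by_cases hi : i = b
  · subst hi
    have := isIso_topHom_f K i hb
    infer_instance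
  · exact ⟨fun _ _ _ => (isZero_top_X K b i hi).eq_of_tgt _ _⟩

instance mono_topHom (K : DRing.Cx A) (b : ℤ) (hb : IsZero (K.X (b + 1))) :
    Mono (topHom K b hb) := by
  have := mono_topHom_f K b hb
  exact HomologicalComplex.mono_of_mono_f _ this

/-- The short complex `0 → K^b[-b] → K → K/K^b → 0`. -/
noncomputable abbrev topSC (K : DRing.Cx A) (b : ℤ) (hb : IsZero (K.X (b + 1))) :
    ShortComplex (DRing.Cx A) :=
  ShortComplex.mk (topHom K b hb) (cokernel.π (topHom K b hb)) (cokernel.condition _)

lemma topSC_shortExact (K : DRing.Cx A) (b : ℤ) (hb : IsZero (K.X (b + 1))) :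
    (topSC K b hb).ShortExact where
  exact := ShortComplex.exact_cokernel _
  mono_f := inferInstanceAs (Mono (topHom K b hb))
  epi_g := inferInstanceAs (Epi (cokernel.π _))

lemma topSC_X₃_isZero (K : DRing.Cx A) (b : ℤ) (hb : IsZero (K.X (b + 1))) :
    IsZero ((topSC K b hb).X₃.X b) := by
  have h1 := (topSC_shortExact K b hb).map_of_exact (HomologicalComplex.eval _ _ b)
  have h2 := isIso_topHom_f K b hb
  have : IsIso ((topSC K b hb).map (HomologicalComplex.eval _ _ b)).f := h2
  exact (h1.isIso_f_iff).1 this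

lemma isIso_topSC_g (K : DRing.Cx A) (b : ℤ) (hb : IsZero (K.X (b + 1))) (i : ℤ) (hi : i ≠ b) :
    IsIso ((topSC K b hb).g.f i) := by
  have h1 := (topSC_shortExact K b hb).map_of_exact (HomologicalComplex.eval _ _ i)
  exact (h1.isIso_g_iff).2 (isZero_top_X K b i hi)

lemma quasiIso_ev_of_projective_aux (I : DRing.Cx A) [I.IsKInjective]
    (hI : ∀ n, Injective (I.X n)) (h0 : QuasiIso (ev (S0 A) I)) (n : ℕ) :
    ∀ (K : DRing.Cx A) (a : ℤ), (∀ i, i < a ∨ a + n ≤ i → IsZero (K.X i)) →
    (∀ i, Module.Finite A (K.X i)) → (∀ i, Module.Projective A (K.X i)) →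
    QuasiIso (ev K I) := by
  induction n with
  | zero =>
    intro K a hK _ _
    exact quasiIso_ev_of_acyclic I (acyclic_of_isZero_X fun p => hK p (by
      simp only [Nat.cast_zero, add_zero]; exact lt_or_ge p a))
  | succ n ih =>
    intro K a hK hf hp
    have hb : IsZero (K.X (a + n + 1)) := hK _ (Or.inr (by push_cast; lia))
    have hS := topSC_shortExact K (a + n) hb
    have h3 : QuasiIso (ev (topSC K (a + n) hb).X₃ I) := by
      have key (i : ℤ) (hi : i ≠ a + n) : K.X i ≅ (topSC K (a + n) hb).X₃.X i := by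
        have := isIso_topSC_g K (a + n) hb i hi
        exact asIso ((topSC K (a + n) hb).g.f i)
      apply ih _ a
      · intro i hi
        by_cases h : i = a + n
        · subst h
          exact topSC_X₃_isZero K (a + n) hb
        · exact (hK i (by rcases hi with hi | hi; exacts [Or.inl hi, Or.inr (by push_cast; lia)])).of_iso
            (key i h).symm
      · intro i
        by_cases h : i = a + n
        · subst h
          have := topSC_X₃_isZero K (a + n) hb
          have := (ModuleCat.isZero_iff_subsingleton).1 this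
          infer_instance
        · have := hf i
          exact Module.Finite.equiv (key i h).toLinearEquiv
      · intro i
        by_cases h : i = a + n
        · subst h
          have := topSC_X₃_isZero K (a + n) hb
          have := (ModuleCat.isZero_iff_subsingleton).1 this
          infer_instance
        · have := hp i
          exact Module.Projective.of_equiv (key i h).toLinearEquiv
    have h1 : QuasiIso (ev (topSC K (a + n) hb).X₁ I) := by
      have := hf (a + n)
      have := hp (a + n)
      exact quasiIso_ev_single_projective I hI h0 (K.X (a + n)) (a + n)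
    exact quasiIso_τ₂ (evSC _ I) hS (ddSC_shortExact hS I hI) h1 h3

/-- The evaluation map of a bounded complex of finite projective modules. -/
theorem quasiIso_ev_of_projective (I : DRing.Cx A) [I.IsKInjective]
    (hI : ∀ n, Injective (I.X n)) (h0 : QuasiIso (ev (S0 A) I)) (K : DRing.Cx A) (a b : ℤ)
    (hK : DRing.VanishesOutside K a b) (hP : DRing.TermwiseFiniteProjective K) :
    QuasiIso (ev K I) := by
  by_cases hab : b < a
  · exact quasiIso_ev_of_acyclic I (acyclic_of_isZero_X fun p => hK p (by
      by_contra h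
      push Not at h
      lia))
  · refine quasiIso_ev_of_projective_aux I hI h0 (b + 1 - a).toNat K a (fun i hi => hK i ?_)
      (fun i => (hP i).1) (fun i => (hP i).2)
    rcases hi with hi | hi
    · exact Or.inl hi
    · right
      have : ((b + 1 - a).toNat : ℤ) = b + 1 - a := Int.toNat_of_nonneg (by lia)
      lia

/-- `ev` only depends on the image of the complex in the derived category. -/
theorem quasiIso_ev_of_nonempty_iso (I : DRing.Cx A) [I.IsKInjective] {K K' : DRing.Cx A}
    (e : DRing.toD K ≅ DRing.toD K') (h : QuasiIso (ev K I)) : QuasiIso (ev K' I) := by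
  obtain ⟨X, s, hs, g, hg⟩ := DerivedCategory.right_fac e.hom
  have h1 : QuasiIso s := (DerivedCategory.isIso_Q_map_iff_quasiIso _ s).1 hs
  have h2 : QuasiIso g := by
    rw [← DerivedCategory.isIso_Q_map_iff_quasiIso]
    have : DerivedCategory.Q.map g = DerivedCategory.Q.map s ≫ e.hom := by
      rw [hg, IsIso.hom_inv_id_assoc]
    rw [this]
    infer_instance
  rw [← quasiIso_ev_iff I g, quasiIso_ev_iff I s]
  exact h

/-- The evaluation map of a complex which is perfect in `D(A)`. -/
theorem quasiIso_ev_of_perfect (I : DRing.Cx A) [I.IsKInjective]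
    (hI : ∀ n, Injective (I.X n)) (h0 : QuasiIso (ev (S0 A) I)) (K : DRing.Cx A)
    (hK : DRing.IsPerfect A (DRing.toD K)) : QuasiIso (ev K I) := by
  obtain ⟨E, a, b, hE, hE', ⟨e⟩⟩ := hK
  exact quasiIso_ev_of_nonempty_iso I e (quasiIso_ev_of_projective I hI h0 E a b hE hE')

end Groth.Agent.LoccohB.HomCx
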