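import Mathlib.Algebra.Category.ModuleCat.Ext.Basic
import Mathlib.Algebra.Homology.DerivedCategory.Ext.ExactSequences
import Mathlib.RingTheory.Regular.RegularSequence
import Mathlib.RingTheory.Regular.Category
import Mathlib.RingTheory.Localization.AtPrime.Basic
import Mathlib.RingTheory.Localization.BaseChange
import Mathlib.RingTheory.Support

/-!
If a sequence `fs` of elements killing `X` is weakly regular on the localization `M_q`, then
`Ext^j(X, M)_q = 0` for `j < length fs`, stated elementwise (no base change of Ext needed).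
-/

set_option autoImplicit false

namespace Groth.Agent.LoccohB.ExtTors

open TensorProduct RingTheory.Sequence Pointwise CategoryTheory Abelian

universe u

variable {P : Type u} [CommRing P] [IsNoetherianRing P]

/-- A finite module all of whose elements are killed by something outside `q` is killed by a single
element outside `q`. -/
theorem exists_annihilator (q : Ideal P) [q.IsPrime] (K : Type*) [AddCommGroup K] [Module P K]
    [Module.Finite P K] (h : ∀ x : K, ∃ s : P, s ∉ q ∧ s • x = 0) :
    ∃ s : P, s ∉ q ∧ ∀ x : K, s • x = 0 := by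
  by_contra hc
  push Not at hc
  have h1 : Module.annihilator P K ≤ q := by
    intro a ha
    by_contra haq
    obtain ⟨x, hx⟩ := hc a haq
    exact hx (Module.mem_annihilator.1 ha x)
  have h2 : (⟨q, inferInstance⟩ : PrimeSpectrum P) ∈ Module.support P K :=
    Module.mem_support_iff_of_finite.2 h1
  obtain ⟨x, hx⟩ := Module.mem_support_iff'.1 h2
  obtain ⟨s, hs, hsx⟩ := h x
  exact hx s hs hsx

theorem ext_torsion (q : Ideal P) [q.IsPrime] (X : ModuleCat.{u} P) (fs : List P) :
    (∀ f ∈ fs, ∀ x : X, f • x = 0) → ∀ (M : ModuleCat.{u} P) [Module.Finite P M],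
      IsWeaklyRegular ((Localization.AtPrime q) ⊗[P] M) fs →
      ∀ (j : ℕ), j < fs.length → ∀ x : Ext.{u} X M j, ∃ s : P, s ∉ q ∧ s • x = 0 := by
  induction fs with
  | nil => intro _ M _ _ j hj; exact absurd hj (Nat.not_lt_zero _)
  | cons f fs ih =>
    intro hX M _ h j hj x
    rw [isWeaklyRegular_cons_iff] at h
    obtain ⟨hf, h⟩ := h
    replace ih := ih (fun g hg => hX g (List.mem_cons_of_mem _ hg))
      (ModuleCat.of P (QuotSMulTop f M))
      ((LinearEquiv.isWeaklyRegular_congr
        (QuotSMulTop.tensorQuotSMulTopEquivQuotSMulTop f (Localization.AtPrime q) M) fs).2 h)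
    -- the two short exact sequences
    let K : Submodule P M := LinearMap.ker (LinearMap.lsmul P M f)
    let L : Submodule P M := f • (⊤ : Submodule P M)
    let π : M →ₗ[P] L := LinearMap.codRestrict L (LinearMap.lsmul P M f)
      (fun m => Submodule.smul_mem_pointwise_smul m f ⊤ trivial)
    let S1 : ShortComplex (ModuleCat.{u} P) := ShortComplex.mk
      (ModuleCat.ofHom K.subtype) (ModuleCat.ofHom π) (by
        ext k
        exact k.2)
    have hS1 : S1.ShortExact := by
      refine ShortComplex.ShortExact.mk' ?_ ?_ ?_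
      · rw [ShortComplex.moduleCat_exact_iff]
        intro y hy
        exact ⟨⟨y, congrArg Subtype.val hy⟩, rfl⟩
      · exact (ModuleCat.mono_iff_injective _).2 K.subtype_injective
      · refine (ModuleCat.epi_iff_surjective _).2 ?_
        rintro ⟨y, hy⟩
        obtain ⟨z, -, hz⟩ := (Submodule.mem_smul_pointwise_iff_exists _ _ _).1 hy
        exact ⟨z, Subtype.ext hz⟩
    let S2 : ShortComplex (ModuleCat.{u} P) := ShortComplex.mk
      (ModuleCat.ofHom L.subtype) (ModuleCat.ofHom L.mkQ) (by
        ext k
        exact (Submodule.Quotient.mk_eq_zero _).2 k.2)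
    have hS2 : S2.ShortExact := by
      refine ShortComplex.ShortExact.mk' ?_ ?_ ?_
      · rw [ShortComplex.moduleCat_exact_iff]
        intro y hy
        exact ⟨⟨y, (Submodule.Quotient.mk_eq_zero L).1 hy⟩, rfl⟩
      · exact (ModuleCat.mono_iff_injective _).2 L.subtype_injective
      · exact (ModuleCat.epi_iff_surjective _).2 L.mkQ_surjective
    -- `K` is killed by some `t ∉ q`
    obtain ⟨t, htq, ht⟩ : ∃ t : P, t ∉ q ∧ ∀ x : K, t • x = 0 := by
      refine exists_annihilator q K fun k => ?_
      have h1 : (1 : Localization.AtPrime q) ⊗ₜ[P] (k : M) = 0 := by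
        apply hf
        change f • _ = f • _
        rw [smul_zero, ← TensorProduct.tmul_smul]
        have : f • (k : M) = 0 := k.2
        rw [this, TensorProduct.tmul_zero]
      have h2 : IsLocalizedModule q.primeCompl (TensorProduct.mk P (Localization.AtPrime q) M 1) :=
        (isLocalizedModule_iff_isBaseChange q.primeCompl (Localization.AtPrime q) _).2
          (TensorProduct.isBaseChange P M (Localization.AtPrime q))
      obtain ⟨s, hs⟩ := (IsLocalizedModule.eq_zero_iff q.primeCompl
        (TensorProduct.mk P (Localization.AtPrime q) M 1)).1 h1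
      exact ⟨s, s.2, Subtype.ext hs⟩
    let y : Ext.{u} X S1.X₃ j := x.comp (Ext.mk₀ S1.g) (add_zero j)
    -- `f` kills `Ext`
    have hfx : f • x = 0 := by
      have h1 : (f • 𝟙 X : X ⟶ X) = 0 := by
        ext m
        exact hX f (List.mem_cons_self ..) m
      have h2 : f • x = (Ext.mk₀ (f • 𝟙 X)).comp x (zero_add j) := by
        rw [Ext.mk₀_smul, Ext.smul_comp, Ext.mk₀_id_comp]
      rw [h2, h1, Ext.mk₀_zero, Ext.zero_comp]
    have hy0 : y.comp (Ext.mk₀ S2.f) (add_zero j) = 0 := by
      have h3 : S1.g ≫ S2.f = f • 𝟙 M := by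
        ext m
        rfl
      rw [← hfx, Ext.smul_eq_comp_mk₀, ← h3]
      change (x.comp (Ext.mk₀ S1.g) (add_zero j)).comp (Ext.mk₀ S2.f) (add_zero j) = _
      rw [Ext.comp_assoc_of_third_deg_zero, Ext.mk₀_comp_mk₀]
    obtain ⟨s, hsq, hs⟩ : ∃ s : P, s ∉ q ∧ s • y = 0 := by
      rcases j with _ | j
      · refine ⟨1, fun h => (Ideal.IsPrime.ne_top inferInstance) ((Ideal.eq_top_iff_one q).2 h), ?_⟩
        rw [one_smul]
        have : Mono S2.f := hS2.mono_f
        apply Ext.postcomp_mk₀_injective_of_mono X S2.f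
        change y.comp (Ext.mk₀ S2.f) (add_zero 0) = (0 : Ext.{u} X S2.X₁ 0).comp (Ext.mk₀ S2.f) (add_zero 0)
        rw [hy0, Ext.zero_comp]
      · obtain ⟨z, hz⟩ := Ext.covariant_sequence_exact₁ X hS2 y hy0 rfl
        obtain ⟨s, hsq, hs⟩ := ih j (by simpa using hj) z
        refine ⟨s, hsq, ?_⟩
        rw [← hz, ← Ext.smul_comp, hs, Ext.zero_comp]
    have h4 : (s • x).comp (Ext.mk₀ S1.g) (add_zero j) = 0 := by
      rw [Ext.smul_comp]
      exact hs
    obtain ⟨w, hw⟩ := Ext.covariant_sequence_exact₂ X hS1 (s • x) h4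
    have htw : t • w = 0 := by
      rw [Ext.smul_eq_comp_mk₀]
      have h1 : (t • 𝟙 S1.X₁ : S1.X₁ ⟶ S1.X₁) = 0 := by
        ext m
        exact congrArg Subtype.val (ht m)
      rw [h1, Ext.mk₀_zero, Ext.comp_zero]
    refine ⟨t * s, fun h => ?_, ?_⟩
    · rcases (inferInstance : q.IsPrime).mem_or_mem h with h | h
      · exact htq h
      · exact hsq h
    · rw [mul_smul, ← hw, ← Ext.smul_comp, htw, Ext.zero_comp]

end Groth.Agent.LoccohB.ExtTors
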