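import Groth.Agent.LoccohB.LocTri
import Groth.Agent.LoccohB.HDIBasic
import Groth.Agent.LoccohB.FlatLBC
import Groth.Agent.LoccohB.RAdj
import Groth.Agent.LoccohB.LBC2
import Groth.Agent.LoccohB.DCalc
import Groth.Agent.LoccohB.DualShift
import Groth.Prelude.Def_DRing3

/-!
# Objects of `D(A)` on which `f : A` acts invertibly
-/

set_option autoImplicit false
set_option backward.isDefEq.respectTransparency false

universe u

open CategoryTheory Limits Pretriangulated

attribute [local instance] HasDerivedCategory.standard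

namespace Groth.Agent.LoccohB.FInv

open Groth.Agent.LoccohB.LocTri

variable {A : Type u} [CommRing A]

/-- `M ↦ M_f` as a functor to `A_f`-modules. -/
noncomputable def locM' (f : A) : ModuleCat.{u} A ⥤ ModuleCat.{u} (Localization.Away f) where
  obj M := ModuleCat.of _ (LocalizedModule (Submonoid.powers f) M)
  map {M N} g := ModuleCat.ofHom (LinearMap.extendScalarsOfIsLocalization (Submonoid.powers f) (Localization.Away f)
    (IsLocalizedModule.map (Submonoid.powers f)
    (LocalizedModule.mkLinearMap (Submonoid.powers f) M) (LocalizedModule.mkLinearMap (Submonoid.powers f) N) g.hom))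
  map_id M := by
    ext x
    exact ConcreteCategory.congr_hom ((locM f).map_id M) x
  map_comp {M N P} g h := by
    ext x
    exact ConcreteCategory.congr_hom ((locM f).map_comp g h) x

instance (f : A) : (locM' f).Additive where
  map_add {M N g h} := by
    ext x
    exact ConcreteCategory.congr_hom ((locM f).map_add (f := g) (g := h)) x

/-- `M_f` as an `A`-module, objectwise. -/
noncomputable def locMEquiv (f : A) (M : ModuleCat.{u} A) :
    ((ModuleCat.restrictScalars.{u} (algebraMap A (Localization.Away f))).obj ((locM' f).obj M)) ≃ₗ[A]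
      ((locM f).obj M) where
  toFun := fun x => x
  invFun := fun x => x
  left_inv := fun _ => rfl
  right_inv := fun _ => rfl
  map_add' := fun _ _ => rfl
  map_smul' := fun a x => algebraMap_smul (Localization.Away f) a (show LocalizedModule (Submonoid.powers f) M from x)

/-- `M_f` as an `A`-module. -/
noncomputable def locMIso (f : A) : locM' f ⋙ ModuleCat.restrictScalars.{u} (algebraMap A (Localization.Away f)) ≅ locM f :=
  NatIso.ofComponents (fun M => (locMEquiv f M).toModuleIso) (fun g => by ext x; rfl)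

lemma pow_smul_injective {f : A} {M : Type u} [AddCommGroup M] [Module A M]
    (h : Function.Injective (fun x : M => f • x)) (n : ℕ) {x : M} (hx : f ^ n • x = 0) : x = 0 := by
  induction n with
  | zero => simpa using hx
  | succ n ih =>
    apply ih
    apply h
    change f • (f ^ n • x) = f • (0 : M)
    rw [smul_smul, ← pow_succ', hx, smul_zero]

lemma pow_smul_surjective {f : A} {M : Type u} [AddCommGroup M] [Module A M]
    (h : Function.Surjective (fun x : M => f • x)) (n : ℕ) (y : M) : ∃ x : M, f ^ n • x = y := by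
  induction n generalizing y with
  | zero => exact ⟨y, by simp⟩
  | succ n ih =>
    obtain ⟨x, hx⟩ := ih y
    obtain ⟨x', rfl⟩ := h x
    refine ⟨x', ?_⟩
    rw [pow_succ, mul_smul]
    exact hx

lemma isIso_of_fIso {f : A} {M N : ModuleCat.{u} A} {φ : M ⟶ N} (h : FIso f φ)
    (hM : IsIso (f • 𝟙 M)) (hN : IsIso (f • 𝟙 N)) : IsIso φ := by
  rw [ConcreteCategory.isIso_iff_bijective] at hM hN ⊢
  refine ⟨?_, fun y => ?_⟩
  · refine (injective_iff_map_eq_zero φ.hom).2 fun x hx => ?_
    obtain ⟨n, hn⟩ := h.1 x hx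
    exact pow_smul_injective hM.1 n hn
  · obtain ⟨n, m, hm⟩ := h.2 y
    obtain ⟨m', rfl⟩ := pow_smul_surjective hM.2 n m
    refine ⟨m', ?_⟩
    rw [map_smul] at hm
    rw [← sub_eq_zero]
    apply pow_smul_injective hN.1 n
    rw [smul_sub, sub_eq_zero]
    exact hm

lemma smul_homology (f : A) (C : Dual.D A) (i : ℤ) :
    f • 𝟙 ((DerivedCategory.homologyFunctor (ModuleCat.{u} A) i).obj C) =
      (DerivedCategory.homologyFunctor (ModuleCat.{u} A) i).map (f • 𝟙 C) := by
  rw [Functor.map_smul, CategoryTheory.Functor.map_id]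

lemma isIso_smul_homology (f : A) (C : Dual.D A) (hC : IsIso (f • 𝟙 C)) (i : ℤ) :
    IsIso (f • 𝟙 ((DerivedCategory.homologyFunctor (ModuleCat.{u} A) i).obj C)) := by
  rw [smul_homology]
  infer_instance

lemma isIso_smul_of_iso {f : A} {C D : Dual.D A} (e : C ≅ D) (hC : IsIso (f • 𝟙 C)) : IsIso (f • 𝟙 D) := by
  have : f • 𝟙 D = e.inv ≫ (f • 𝟙 C) ≫ e.hom := by simp
  rw [this]
  infer_instance

lemma isIso_smul_of_homology {f : A} {C : Dual.D A}
    (h : ∀ i, IsIso (f • 𝟙 ((DerivedCategory.homologyFunctor (ModuleCat.{u} A) i).obj C))) : IsIso (f • 𝟙 C) := by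
  rw [DerivedCategory.isIso_iff]
  intro i
  rw [← smul_homology]
  exact h i

lemma isIso_smul_locC (f : A) (K : CochainComplex (ModuleCat.{u} A) ℤ) : IsIso (f • 𝟙 (locC f K)) := by
  have : ∀ i, IsIso ((f • 𝟙 (locC f K)).f i) := fun i => isIso_smul_locM f _
  exact HomologicalComplex.Hom.isIso_of_components _

lemma isIso_smul_Q_locC (f : A) (K : CochainComplex (ModuleCat.{u} A) ℤ) :
    IsIso (f • 𝟙 (DerivedCategory.Q.obj (locC f K))) := by
  have h2 : f • 𝟙 (DerivedCategory.Q.obj (locC f K)) = DerivedCategory.Q.map (f • 𝟙 (locC f K)) := by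
    rw [Functor.map_smul, CategoryTheory.Functor.map_id]
  have := isIso_smul_locC f K
  rw [h2]
  infer_instance

/-- `f` acts invertibly on `C` in `D(A)`: then `C` comes from `D(A_f)`. -/
theorem exists_restrictD (f : A) (C : Dual.D A) (hC : IsIso (f • 𝟙 C)) :
    ∃ C' : Dual.D (Localization.Away f), Nonempty (C ≅ (DRing.restrictD (algebraMap A (Localization.Away f))).obj C') := by
  let K := DerivedCategory.Q.objPreimage C
  let e : DerivedCategory.Q.obj K ≅ C := DerivedCategory.Q.objObjPreimageIso C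
  let K' := ((locM' f).mapHomologicalComplex (ComplexShape.up ℤ)).obj K
  have h1 : IsIso (DerivedCategory.Q.map (locCη f K)) := by
    rw [DerivedCategory.isIso_iff]
    intro i
    exact isIso_of_fIso (fIso_homologyFunctor_locCη f K i)
      (isIso_smul_homology f _ (isIso_smul_of_iso e.symm hC) i) (isIso_smul_homology f _ (isIso_smul_Q_locC f K) i)
  exact ⟨DerivedCategory.Q.obj K', ⟨e.symm ≪≫ asIso (DerivedCategory.Q.map (locCη f K)) ≪≫
    DerivedCategory.Q.mapIso ((Functor.mapHomologicalComplexCompIso (locMIso f) (ComplexShape.up ℤ)).symm.app K) ≪≫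
    ((ModuleCat.restrictScalars.{u} (algebraMap A (Localization.Away f))).mapDerivedCategoryFactors.symm.app K')⟩⟩

open scoped TensorProduct in
lemma subsingleton_tensor (f : A) (M : Type u) [AddCommGroup M] [Module A M] (hM : ElTor f M) :
    Subsingleton (Localization.Away f ⊗[A] M) := by
  refine subsingleton_of_forall_eq 0 fun t => ?_
  induction t using TensorProduct.induction_on with
  | zero => rfl
  | add x y hx hy => rw [hx, hy, add_zero]
  | tmul b m =>
    obtain ⟨n, hn⟩ := hM m
    have hu : IsUnit (algebraMap A (Localization.Away f) (f ^ n)) :=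
      IsLocalization.map_units (Localization.Away f) (⟨f ^ n, n, rfl⟩ : Submonoid.powers f)
    obtain ⟨c, hc⟩ := hu.exists_left_inv
    have hb : b = (f ^ n) • (c * b) := by
      rw [Algebra.smul_def, ← mul_assoc, mul_comm _ c, hc, one_mul]
    rw [hb, TensorProduct.smul_tmul, hn, TensorProduct.tmul_zero]

/-- Flatness of localization. -/
lemma flat_away (f : A) : (algebraMap A (Localization.Away f)).Flat := by
  rw [RingHom.flat_algebraMap_iff]
  exact IsLocalization.flat (Localization.Away f) (Submonoid.powers f)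

lemma isZero_flatBC (f : A) (T : Dual.D A) (hT : ∀ i, ElTor f (Dual.HD A T i)) :
    IsZero ((FlatLBC.flatBC (algebraMap A (Localization.Away f)) (flat_away f)).obj T) := by
  rw [DCalc.isZero_iff]
  intro i
  refine IsZero.of_iso ?_ ((FlatLBC.flatBCHomology (algebraMap A (Localization.Away f)) (flat_away f) i).app T)
  have := subsingleton_tensor f (Dual.HD A T i) (hT i)
  have h2 : Subsingleton (((ModuleCat.extendScalars.{u, u, u} (algebraMap A (Localization.Away f))).obj
      ((DerivedCategory.homologyFunctor (ModuleCat.{u} A) i).obj T) : ModuleCat.{u} (Localization.Away f))) :=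
    (FlatLBC.extEquiv A (Localization.Away f) _).symm.toEquiv.subsingleton
  exact @ModuleCat.isZero_of_subsingleton _ _ _ h2

/-- No maps from an `f`-power torsion object to an object on which `f` acts invertibly. -/
theorem subsingleton_of_elTor (f : A) (T C : Dual.D A) (hT : ∀ i, ElTor f (Dual.HD A T i))
    (hC : IsIso (f • 𝟙 C)) : Subsingleton (T ⟶ C) := by
  obtain ⟨C', ⟨e⟩⟩ := exists_restrictD f C hC
  have := LBC.hasLBaseChange (algebraMap A (Localization.Away f))
  have hZ : IsZero ((DRing.LBaseChange (algebraMap A (Localization.Away f))).obj T) :=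
    (isZero_flatBC f T hT).of_iso ((FlatLBC.LBaseChangeIso _ (flat_away f)).app T)
  refine ⟨fun a b => ?_⟩
  rw [← cancel_mono e.hom]
  apply ((LBC.lbcAdj (algebraMap A (Localization.Away f))).homEquiv _ _).symm.injective
  exact hZ.eq_of_src _ _

/-- `A_f` as an `A`-module. -/
noncomputable def restrictSelfEquiv (f : A) :
    ((ModuleCat.restrictScalars.{u} (algebraMap A (Localization.Away f))).obj
      (ModuleCat.of (Localization.Away f) (Localization.Away f))) ≃ₗ[A] (ModuleCat.of A (Localization.Away f)) where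
  toFun := fun x => x
  invFun := fun x => x
  left_inv := fun _ => rfl
  right_inv := fun _ => rfl
  map_add' := fun _ _ => rfl
  map_smul' := fun a x => algebraMap_smul (Localization.Away f) a (show Localization.Away f from x)

/-- `A_f` as an `A`-module. -/
noncomputable def restrictSelf (f : A) :
    (ModuleCat.restrictScalars.{u} (algebraMap A (Localization.Away f))).obj
      (ModuleCat.of (Localization.Away f) (Localization.Away f)) ≅ ModuleCat.of A (Localization.Away f) :=
  (restrictSelfEquiv f).toModuleIso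

lemma subsingleton_single (f : A) (X : Dual.D A)
    (hX : ∀ n : ℤ, Subsingleton (Dual.inD A (Localization.Away f) ⟶ X⟦n⟧)) (i : ℤ) :
    Subsingleton ((DerivedCategory.singleFunctor (ModuleCat.{u} A) i).obj
      (ModuleCat.of A (Localization.Away f)) ⟶ X) := by
  let e := ((DerivedCategory.singleFunctors (ModuleCat.{u} A)).shiftIso i 0 i (by simp)).app
    (ModuleCat.of A (Localization.Away f))
  have := hX i
  refine ⟨fun a b => ?_⟩
  apply (shiftFunctor (Dual.D A) i).map_injective
  rw [← cancel_epi e.inv]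
  exact Subsingleton.elim (α := (Dual.inD A (Localization.Away f) ⟶ X⟦i⟧)) _ _

/-- No maps from an object on which `f ∈ I` acts invertibly to a derived `I`-complete object. -/
theorem subsingleton_of_isDerivedComplete (I : Ideal A) (f : A) (hf : f ∈ I) (Y X : Dual.D A)
    (hY : IsIso (f • 𝟙 Y)) (hX : DRing.IsDerivedComplete I X) : Subsingleton (Y ⟶ X) := by
  obtain ⟨Y', ⟨e⟩⟩ := exists_restrictD f Y hY
  let φ := algebraMap A (Localization.Away f)
  have hZ : IsZero ((RAdj.RCoext φ).obj X) := by
    rw [DCalc.isZero_iff]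
    intro i
    have h1 : Subsingleton (DBase.sg (Localization.Away f) i (Localization.Away f) ⟶ (RAdj.RCoext φ).obj X) := by
      have h2 := subsingleton_single f X (hX f hf) i
      refine ⟨fun a b => ?_⟩
      apply ((RAdj.coextAdj φ).homEquiv _ _).symm.injective
      let e : (DRing.restrictD φ).obj (DBase.sg (Localization.Away f) i (Localization.Away f)) ≅
          (DerivedCategory.singleFunctor (ModuleCat.{u} A) i).obj (ModuleCat.of A (Localization.Away f)) :=
        ((ModuleCat.restrictScalars.{u} φ).mapDerivedCategorySingleFunctor i).app _ ≪≫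
          (DerivedCategory.singleFunctor (ModuleCat.{u} A) i).mapIso (restrictSelf f)
      rw [← cancel_epi e.inv]
      exact Subsingleton.elim _ _
    have h3 : Subsingleton (Dual.HD (Localization.Away f) ((RAdj.RCoext φ).obj X) i) :=
      (DBase.homEquivHD i ((RAdj.RCoext φ).obj X)).symm.toEquiv.subsingleton
    exact @ModuleCat.isZero_of_subsingleton _ _ _ h3
  refine ⟨fun a b => ?_⟩
  rw [← cancel_epi e.inv]
  apply ((RAdj.coextAdj φ).homEquiv _ _).injective
  exact hZ.eq_of_tgt _ _

section Torsion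

/-- All cohomology modules are `I`-power torsion. -/
def IsTors (I : Ideal A) (L : Dual.D A) : Prop := ∀ i : ℤ, LocCoh.IsPowerTorsion I (Dual.HD A L i)

lemma IsTors.elTor {I : Ideal A} {L : Dual.D A} (h : IsTors I L) {f : A} (hf : f ∈ I) (i : ℤ) :
    ElTor f (Dual.HD A L i) := HDIBasic.elTor_of_isPowerTorsion I f hf _ (h i)

lemma isPowerTorsion_of_equiv {I : Ideal A} {M N : Type u} [AddCommGroup M] [Module A M] [AddCommGroup N]
    [Module A N] (e : M ≃ₗ[A] N) (h : LocCoh.IsPowerTorsion I M) : LocCoh.IsPowerTorsion I N := by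
  intro y
  obtain ⟨n, hn⟩ := h (e.symm y)
  refine ⟨n, fun a ha => ?_⟩
  have h1 := hn a ha
  rw [← map_smul] at h1
  exact (LinearEquiv.map_eq_zero_iff e.symm).1 h1

lemma IsTors.of_iso {I : Ideal A} {L L' : Dual.D A} (h : IsTors I L) (e : L ≅ L') : IsTors I L' := fun i =>
  isPowerTorsion_of_equiv ((DerivedCategory.homologyFunctor (ModuleCat.{u} A) i).mapIso e).toLinearEquiv (h i)

lemma IsTors.shift {I : Ideal A} {L : Dual.D A} (h : IsTors I L) (n : ℤ) : IsTors I (L⟦n⟧) := fun i =>
  isPowerTorsion_of_equiv (DualShift.shiftHD L n i (n + i) rfl).symm.toLinearEquiv (h (n + i))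

/-- Torsion approximation, with the induction principle. -/
theorem exists_tors (I : Ideal A) (hI : I.FG) (K : Dual.D A) :
    ∃ G : Dual.D A, IsTors I G ∧
      ∀ P : Dual.D A → Prop, P K →
        (∀ (f : A), f ∈ I → ∀ (G K C : Dual.D A) (α : G ⟶ K) (β : K ⟶ C) (γ : C ⟶ G⟦(1 : ℤ)⟧),
          Triangle.mk α β γ ∈ distTriang (Dual.D A) → IsIso (f • 𝟙 C) → P K → P G) → P G := by
  obtain ⟨s, hs⟩ := hI
  have hs' : I = Ideal.span {x | x ∈ s.toList} := by
    rw [← hs]
    congr 1
    ext x
    simp
  obtain ⟨G, h1, -, h3⟩ := HDIBasic.exists_torsion s.toList K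
  refine ⟨G, fun i => HDIBasic.isPowerTorsion_of_elTor s.toList I hs' _ fun f hf => h1 f hf i, fun P hK hP =>
    h3 P hK fun f hf => hP f ?_⟩
  rw [hs']
  exact Ideal.subset_span hf

lemma bij_comp_hom {C : Type*} [Category* C] (X : C) {Y Z : C} (e : Y ≅ Z) :
    Function.Bijective (fun φ : X ⟶ Y => φ ≫ e.hom) :=
  ⟨fun a b h => by simpa using h, fun ψ => ⟨ψ ≫ e.inv, by simp⟩⟩

lemma bij_comp_inv {C : Type*} [Category* C] (X : C) {Y Z : C} (e : Y ≅ Z) :
    Function.Bijective (fun φ : X ⟶ Z => φ ≫ e.inv) := bij_comp_hom X e.symm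

/-- `α : G ⟶ K` is a torsion approximation: `G` is torsion and `Hom(T, G[i]) = Hom(T, K[i])` for `T` torsion. -/
structure IsApprox (I : Ideal A) {G K : Dual.D A} (α : G ⟶ K) : Prop where
  isTors : IsTors I G
  bij : ∀ T : Dual.D A, IsTors I T → Function.Bijective (fun φ : T ⟶ G => φ ≫ α)

/-- Existence of torsion approximations, with an additional property. -/
theorem exists_isApprox (I : Ideal A) (hI : I.FG) (K : Dual.D A) (P : Dual.D A → Prop) (hK : P K)
    (hP : ∀ (f : A), f ∈ I → ∀ (G K C : Dual.D A) (α : G ⟶ K) (β : K ⟶ C) (γ : C ⟶ G⟦(1 : ℤ)⟧),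
          Triangle.mk α β γ ∈ distTriang (Dual.D A) → IsIso (f • 𝟙 C) → P K → P G) :
    ∃ (G : Dual.D A) (α : G ⟶ K), IsApprox I α ∧ P G := by
  obtain ⟨G, h1, h2⟩ := exists_tors I hI K
  have key := h2 (fun L => (∃ α : L ⟶ K, ∀ T : Dual.D A, IsTors I T →
      Function.Bijective (fun φ : T ⟶ L => φ ≫ α)) ∧ P L) ⟨⟨𝟙 K, fun T _ => bij_comp_hom T (Iso.refl K)⟩, hK⟩ ?_
  · obtain ⟨⟨α, hα⟩, hG⟩ := key
    exact ⟨G, α, ⟨h1, hα⟩, hG⟩
  · rintro f hf G L C α β γ hT hC ⟨⟨ε, hε⟩, hL⟩
    refine ⟨⟨α ≫ ε, fun T hTt => ?_⟩, hP f hf G L C α β γ hT hC hL⟩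
    have h3 : ∀ j : ℤ, Subsingleton (T ⟶ C⟦j⟧) := fun j => by
      refine subsingleton_of_elTor f T _ (fun i => hTt.elTor hf i) ?_
      have : f • 𝟙 (C⟦j⟧) = (f • 𝟙 C)⟦j⟧' := by
        rw [Functor.map_smul, CategoryTheory.Functor.map_id]
      rw [this]
      infer_instance
    have h4 := HDIBasic.bijective_comp_shift hT T h3 0
    have h5 : Function.Bijective (fun φ : T ⟶ G => φ ≫ α) := by
      let eG := (shiftFunctorZero (Dual.D A) ℤ).app G
      let eL := (shiftFunctorZero (Dual.D A) ℤ).app L
      have h6 : (fun φ : T ⟶ G => φ ≫ α) = (fun φ : T ⟶ L⟦(0 : ℤ)⟧ => φ ≫ eL.hom) ∘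
          (fun φ : T ⟶ G⟦(0 : ℤ)⟧ => φ ≫ α⟦(0 : ℤ)⟧') ∘ (fun φ : T ⟶ G => φ ≫ eG.inv) := by
        funext φ
        simp only [Function.comp, Category.assoc]
        congr 1
        have := (shiftFunctorZero (Dual.D A) ℤ).hom.naturality α
        simp only [Functor.id_map] at this
        rw [eq_comm, Iso.inv_comp_eq]
        exact this
      rw [h6]
      exact (bij_comp_hom T eL).comp (h4.comp (bij_comp_inv T eG))
    have h7 : (fun φ : T ⟶ G => φ ≫ α ≫ ε) = (fun φ : T ⟶ L => φ ≫ ε) ∘ (fun φ : T ⟶ G => φ ≫ α) := by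
      funext φ
      simp
    rw [h7]
    exact (hε T hTt).comp h5

/-- Torsion approximations are unique. -/
theorem IsApprox.nonempty_iso {I : Ideal A} {G G' K : Dual.D A} {α : G ⟶ K} {α' : G' ⟶ K}
    (h : IsApprox I α) (h' : IsApprox I α') : Nonempty (G ≅ G') := by
  obtain ⟨a, ha⟩ := (h'.bij G h.isTors).2 α
  obtain ⟨b, hb⟩ := (h.bij G' h'.isTors).2 α'
  dsimp only at ha hb
  refine ⟨⟨a, b, (h.bij G h.isTors).1 ?_, (h'.bij G' h'.isTors).1 ?_⟩⟩
  · simp [hb, ha]
  · simp [hb, ha]

end Torsion

end Groth.Agent.LoccohB.FInv
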