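import Groth.Agent.Flat2H.FPInf2
import Groth.Agent.Flat2H.TorDim
import Mathlib.RingTheory.Flat.Equalizer
import Mathlib.RingTheory.IsTensorProduct

/-!
# Base change of `FP_n` modules which are flat over the base

`R → S`, `A` a flat `R`-algebra, `B = S ⊗_R A`, `M` an `A`-module flat over `R`. If `M` is `FP_n` over `A` then
`B ⊗_A M` is `FP_n` over `B` (no flatness of `R → S` is needed).
-/

set_option autoImplicit false

universe u

open TensorProduct

namespace Groth.Agent.LoccohB.FPBaseChange

open Flat2H Flat2H.TorDim

variable (R S A B : Type u) [CommRing R] [CommRing S] [CommRing A] [CommRing B]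
  [Algebra R S] [Algebra R A] [Algebra R B] [Algebra S B] [Algebra A B]
  [IsScalarTower R S B] [IsScalarTower R A B] [Algebra.IsPushout R S A B]

/-- Naturality of `B ⊗_A M = S ⊗_R M`. -/
lemma cancelBaseChange_symm_naturality {M N : Type u} [AddCommGroup M] [Module A M] [Module R M]
    [IsScalarTower R A M] [AddCommGroup N] [Module A N] [Module R N] [IsScalarTower R A N]
    (f : M →ₗ[A] N) (x : S ⊗[R] M) :
    f.baseChange B ((Algebra.IsPushout.cancelBaseChange R S A B M).symm x) =
      (Algebra.IsPushout.cancelBaseChange R S A B N).symm ((f.restrictScalars R).lTensor S x) := by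
  induction x with
  | zero => simp
  | add x y hx hy => simp only [map_add, hx, hy]
  | tmul s m => simp

include S in
/-- If `0 → K → F → M → 0` is an exact sequence of `A`-modules with `M` flat over `R` then
`B ⊗_A K → B ⊗_A F` is injective. -/
lemma baseChange_injective {K F M : Type u} [AddCommGroup K] [Module A K] [Module R K]
    [IsScalarTower R A K] [AddCommGroup F] [Module A F] [Module R F] [IsScalarTower R A F]
    [AddCommGroup M] [Module A M] [Module R M] [IsScalarTower R A M] [Module.Flat R M]
    (g : K →ₗ[A] F) (f : F →ₗ[A] M) (hf : Function.Surjective f) (hg : Function.Injective g)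
    (H : Function.Exact g f) : Function.Injective (g.baseChange B) := by
  have h1 : Function.Injective ((g.restrictScalars R).lTensor S) :=
    LinearMap.lTensor_injective_of_exact_of_flat (f.restrictScalars R) hf (g.restrictScalars R) hg
      H S
  have h2 : ((g.baseChange B : B ⊗[A] K → B ⊗[A] F) ∘
      (Algebra.IsPushout.cancelBaseChange R S A B K).symm) =
      (Algebra.IsPushout.cancelBaseChange R S A B F).symm ∘ (g.restrictScalars R).lTensor S := by
    ext x
    exact cancelBaseChange_symm_naturality R S A B g x
  have h3 : Function.Injective ((g.baseChange B : B ⊗[A] K → B ⊗[A] F) ∘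
      (Algebra.IsPushout.cancelBaseChange R S A B K).symm) := by
    rw [h2]
    exact (LinearEquiv.injective _).comp h1
  intro x y hxy
  obtain ⟨x, rfl⟩ := (Algebra.IsPushout.cancelBaseChange R S A B K).symm.surjective x
  obtain ⟨y, rfl⟩ := (Algebra.IsPushout.cancelBaseChange R S A B K).symm.surjective y
  rw [h3 hxy]

/-- Kernel of a surjection of flat modules is flat. -/
lemma flat_ker {F M : Type u} [AddCommGroup F] [Module A F] [Module R F] [IsScalarTower R A F]
    [AddCommGroup M] [Module A M] [Module R M] [IsScalarTower R A M] [Module.Flat R M]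
    [Module.Flat R F] (f : F →ₗ[A] M) (hf : Function.Surjective f) :
    Module.Flat R (LinearMap.ker f) := by
  rw [← hasTorDimLE_zero_iff]
  exact HasTorDimLE.left (A := R) ((LinearMap.ker f).subtype.restrictScalars R)
    (f.restrictScalars R) (Submodule.subtype_injective _) hf (by intro x; simp)
    (HasTorDimLE.of_flat 0) (HasTorDimLE.of_flat 1)

include S in
theorem FPn.pushout [Module.Flat R A] {n : ℕ} :
    ∀ {M : Type u} [AddCommGroup M] [Module A M] [Module R M] [IsScalarTower R A M]
      [Module.Flat R M], FPn A n M → FPn B n (B ⊗[A] M) := by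
  induction n with
  | zero =>
    intro M _ _ _ _ _ h
    have : Module.Finite A M := h
    exact (inferInstance : Module.Finite B (B ⊗[A] M))
  | succ n ih =>
    intro M _ _ _ _ _ h
    obtain ⟨k, f, hf, hk⟩ := h
    have : Module.Flat R (Fin k → A) := Module.Flat.trans R A (Fin k → A)
    have : Module.Flat R (LinearMap.ker f) := flat_ker R A f hf
    have h1 := baseChange_injective R S A B (LinearMap.ker f).subtype f hf
      (Submodule.subtype_injective _) (by intro x; simp)
    exact FPn.right _ (f.baseChange B) h1 (LinearMap.lTensor_surjective B hf)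
      (lTensor_exact B (LinearMap.exact_subtype_ker_map f) hf) (ih hk)
      (FPn.of_equiv_pi (n + 1) (TensorProduct.piScalarRight A B B (Fin k)))

include S in
theorem FPInf.pushout [Module.Flat R A] {M : Type u} [AddCommGroup M] [Module A M] [Module R M]
    [IsScalarTower R A M] [Module.Flat R M] (h : FPInf A M) : FPInf B (B ⊗[A] M) :=
  fun n => FPn.pushout R S A B (h n)

end Groth.Agent.LoccohB.FPBaseChange
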