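import Groth.Prelude.Def_DualLC
import Mathlib.Algebra.Homology.DerivedCategory.TStructure
import Mathlib.Algebra.Homology.DerivedCategory.FullyFaithful
import Mathlib.CategoryTheory.Triangulated.TStructure.TruncLEGT

/-!
Elementwise calculus for morphisms `A/I → K` in the derived category of modules: truncation triangles,
evaluation at `1`, and comparison with `H^0` for objects in `D^{≥ 0}`.
-/

universe u

open CategoryTheory CategoryTheory.Limits CategoryTheory.Pretriangulated CategoryTheory.Triangulated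

attribute [local instance] HasDerivedCategory.standard

namespace Groth.Agent.LoccohB.FaltA

variable {A : Type u} [CommRing A]

/-- Shorthand for the homology functor. -/
noncomputable abbrev hF (A : Type u) [CommRing A] (i : ℤ) : Dual.D A ⥤ ModuleCat.{u} A :=
  DerivedCategory.homologyFunctor (ModuleCat.{u} A) i

/-- The canonical truncation triangle, with its effect on cohomology. -/
lemma exists_trunc (K : Dual.D A) (n : ℤ) :
    ∃ (X Y : Dual.D A) (f : X ⟶ K) (g : K ⟶ Y) (h : Y ⟶ X⟦(1 : ℤ)⟧),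
      Triangle.mk f g h ∈ distTriang (Dual.D A) ∧ X.IsLE n ∧ Y.IsGE (n + 1) ∧
      (∀ i, i ≤ n → IsIso ((hF A i).map f)) ∧ (∀ i, n < i → IsIso ((hF A i).map g)) := by
  obtain ⟨X, Y, hX, hY, f, g, h, hT⟩ :=
    (DerivedCategory.TStructure.t (C := ModuleCat.{u} A)).exists_triangle K n (n + 1) rfl
  have hX' : X.IsLE n := ⟨hX⟩
  have hY' : Y.IsGE (n + 1) := ⟨hY⟩
  refine ⟨X, Y, f, g, h, hT, hX', hY', ?_, ?_⟩
  · intro i hi
    have h1 : Mono ((hF A i).map f) := by
      refine (DerivedCategory.HomologySequence.mono_homologyMap_mor₁_iff _ hT (i - 1) i (by lia)).2 ?_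
      exact (Y.isZero_of_isGE (n + 1) (i - 1) (by lia)).eq_of_src _ _
    have h2 : Epi ((hF A i).map f) := by
      refine (DerivedCategory.HomologySequence.epi_homologyMap_mor₁_iff _ hT i).2 ?_
      exact (Y.isZero_of_isGE (n + 1) i (by lia)).eq_of_tgt _ _
    exact isIso_of_mono_of_epi _
  · intro i hi
    have h1 : Mono ((hF A i).map g) := by
      refine (DerivedCategory.HomologySequence.mono_homologyMap_mor₂_iff _ hT i).2 ?_
      exact (X.isZero_of_isLE n i hi).eq_of_src _ _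
    have h2 : Epi ((hF A i).map g) := by
      refine (DerivedCategory.HomologySequence.epi_homologyMap_mor₂_iff _ hT i (i + 1) (by lia)).2 ?_
      exact (X.isZero_of_isLE n (i + 1) (by lia)).eq_of_tgt _ _
    exact isIso_of_mono_of_epi _

lemma isGE_iff_subsingleton (K : Dual.D A) (n : ℤ) :
    K.IsGE n ↔ ∀ i : ℤ, i < n → Subsingleton (Dual.HD A K i) := by
  rw [DerivedCategory.isGE_iff]
  exact forall₂_congr fun i _ => ModuleCat.isZero_iff_subsingleton

lemma isLE_iff_subsingleton (K : Dual.D A) (n : ℤ) :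
    K.IsLE n ↔ ∀ i : ℤ, n < i → Subsingleton (Dual.HD A K i) := by
  rw [DerivedCategory.isLE_iff]
  exact forall₂_congr fun i _ => ModuleCat.isZero_iff_subsingleton

section triangle

variable {X Y Z : Dual.D A} {f : X ⟶ Y} {g : Y ⟶ Z} {h : Z ⟶ X⟦(1 : ℤ)⟧}

lemma lift₂ (hT : Triangle.mk f g h ∈ distTriang (Dual.D A)) {W : Dual.D A} (x : W ⟶ Y)
    (hx : x ≫ g = 0) : ∃ y : W ⟶ X, x = y ≫ f :=
  Triangle.coyoneda_exact₂ _ hT x hx

lemma lift₃ (hT : Triangle.mk f g h ∈ distTriang (Dual.D A)) {W : Dual.D A} (x : W ⟶ Z)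
    (hx : x ≫ h = 0) : ∃ y : W ⟶ Y, x = y ≫ g :=
  Triangle.coyoneda_exact₃ _ hT x hx

lemma lift₁ (hT : Triangle.mk f g h ∈ distTriang (Dual.D A)) {W : Dual.D A} (x : W ⟶ X⟦(1 : ℤ)⟧)
    (hx : x ≫ f⟦(1 : ℤ)⟧' = 0) : ∃ y : W ⟶ Z, x = y ≫ h :=
  Triangle.coyoneda_exact₁ _ hT x hx

end triangle

/-- The projection `A/J → A/I` in the derived category. -/
noncomputable def tr {I J : Ideal A} (h : J ≤ I) : Dual.inD A (A ⧸ J) ⟶ Dual.inD A (A ⧸ I) :=
  (DerivedCategory.singleFunctor (ModuleCat.{u} A) 0).map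
    (ModuleCat.ofHom (Submodule.mapQ J I LinearMap.id h))

lemma tr_comp {I J K : Ideal A} (h : J ≤ I) (h' : K ≤ J) : tr h' ≫ tr h = tr (h'.trans h) := by
  rw [tr, tr, tr, ← Functor.map_comp]
  congr 1
  ext
  rfl

lemma tr_comp_assoc {I J K : Ideal A} (h : J ≤ I) (h' : K ≤ J) {Z : Dual.D A}
    (x : Dual.inD A (A ⧸ I) ⟶ Z) : tr h' ≫ tr h ≫ x = tr (h'.trans h) ≫ x := by
  rw [← Category.assoc, tr_comp]

/-- The class of `m` in `H^0` of `M[0]`. -/
noncomputable def cls (M : Type u) [AddCommGroup M] [Module A M] (m : M) :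
    Dual.HD A (Dual.inD A M) 0 :=
  ((DerivedCategory.singleFunctorCompHomologyFunctorIso (ModuleCat.{u} A) 0).inv.app
    (ModuleCat.of A M)).hom m

lemma map_cls {M N : Type u} [AddCommGroup M] [Module A M] [AddCommGroup N] [Module A N]
    (φ : M →ₗ[A] N) (m : M) :
    ((hF A 0).map ((DerivedCategory.singleFunctor (ModuleCat.{u} A) 0).map
      (ModuleCat.ofHom φ))).hom (cls (A := A) M m) = cls (A := A) N (φ m) := by
  have h := (DerivedCategory.singleFunctorCompHomologyFunctorIso (ModuleCat.{u} A) 0).inv.naturality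
    (ModuleCat.ofHom φ)
  have h2 := congrArg (fun f => f.hom m) h
  exact h2.symm

lemma cls_smul {M : Type u} [AddCommGroup M] [Module A M] (a : A) (m : M) :
    cls (A := A) M (a • m) = a • cls (A := A) M m := by
  simp only [cls]
  exact LinearMap.map_smul _ a m

lemma cls_injective {M : Type u} [AddCommGroup M] [Module A M] :
    Function.Injective (cls (A := A) M) := by
  intro x y h
  have := congrArg (fun z => ((DerivedCategory.singleFunctorCompHomologyFunctorIso
    (ModuleCat.{u} A) 0).hom.app (ModuleCat.of A M)).hom z) h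
  simpa [cls] using this

lemma cls_surjective {M : Type u} [AddCommGroup M] [Module A M] :
    Function.Surjective (cls (A := A) M) := by
  intro z
  refine ⟨((DerivedCategory.singleFunctorCompHomologyFunctorIso
    (ModuleCat.{u} A) 0).hom.app (ModuleCat.of A M)).hom z, ?_⟩
  simp [cls]

/-- Evaluation at `1` of a morphism `A/I → K` on `H^0`. -/
noncomputable def ev {I : Ideal A} {K : Dual.D A} (x : Dual.inD A (A ⧸ I) ⟶ K) : Dual.HD A K 0 :=
  ((hF A 0).map x).hom (cls (A := A) (A ⧸ I) 1)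

lemma ev_comp {I : Ideal A} {K L : Dual.D A} (x : Dual.inD A (A ⧸ I) ⟶ K) (f : K ⟶ L) :
    ev (x ≫ f) = ((hF A 0).map f).hom (ev x) := by
  simp [ev]

lemma ev_add {I : Ideal A} {K : Dual.D A} (x y : Dual.inD A (A ⧸ I) ⟶ K) :
    ev (x + y) = ev x + ev y := by
  simp [ev, Functor.map_add]

lemma smul_id_inD {M : Type u} [AddCommGroup M] [Module A M] (a : A) :
    a • 𝟙 (Dual.inD A M) = (DerivedCategory.singleFunctor (ModuleCat.{u} A) 0).map
      (ModuleCat.ofHom (a • (LinearMap.id : M →ₗ[A] M))) := by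
  have h : ModuleCat.ofHom (a • (LinearMap.id : M →ₗ[A] M)) = a • 𝟙 (ModuleCat.of A M) := rfl
  rw [h, Functor.map_smul]
  congr 1
  exact ((DerivedCategory.singleFunctor (ModuleCat.{u} A) 0).map_id _).symm

lemma ev_smul {I : Ideal A} {K : Dual.D A} (a : A) (x : Dual.inD A (A ⧸ I) ⟶ K) :
    ev (a • x) = a • ev x := by
  have h : a • x = (a • 𝟙 (Dual.inD A (A ⧸ I))) ≫ x := by
    rw [Linear.smul_comp, Category.id_comp]
  rw [h, smul_id_inD, ev, Functor.map_comp, ModuleCat.hom_comp, LinearMap.comp_apply, map_cls,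
    LinearMap.smul_apply, LinearMap.id_apply, cls_smul, LinearMap.map_smul]
  rfl

lemma ev_tr {I J : Ideal A} (h : J ≤ I) {K : Dual.D A} (x : Dual.inD A (A ⧸ I) ⟶ K) :
    ev (tr h ≫ x) = ev x := by
  rw [ev, Functor.map_comp, ModuleCat.hom_comp, LinearMap.comp_apply, tr, map_cls]
  rfl

/-- Elements of the ideal kill morphisms out of `A/I`. -/
lemma smul_eq_zero_of_mem {I : Ideal A} {K : Dual.D A} {a : A} (ha : a ∈ I)
    (x : Dual.inD A (A ⧸ I) ⟶ K) : a • x = 0 := by
  have h : a • x = (a • 𝟙 (Dual.inD A (A ⧸ I))) ≫ x := by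
    rw [Linear.smul_comp, Category.id_comp]
  have h2 : (a • (LinearMap.id : (A ⧸ I) →ₗ[A] (A ⧸ I))) = 0 := by
    ext
    simp only [LinearMap.coe_comp, Function.comp_apply, LinearMap.smul_apply, LinearMap.id_coe,
      id_eq, LinearMap.zero_apply]
    exact (Ideal.Quotient.eq_zero_iff_mem).2 (by simpa using ha)
  rw [h, smul_id_inD, h2, ModuleCat.ofHom_zero, Functor.map_zero, Limits.zero_comp]

/-- Elements killing a module kill morphisms into its shifts. -/
lemma smul_eq_zero_of_target {M : Type u} [AddCommGroup M] [Module A M] {N : Dual.D A} {a : A}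
    (ha : ∀ m : M, a • m = 0) (k : ℤ) (x : N ⟶ (Dual.inD A M)⟦k⟧) : a • x = 0 := by
  have h : a • x = x ≫ (a • 𝟙 (Dual.inD A M))⟦k⟧' := by
    rw [Functor.map_smul, CategoryTheory.Functor.map_id, Linear.comp_smul, Category.comp_id]
  have h2 : (a • (LinearMap.id : M →ₗ[A] M)) = 0 := by
    ext m
    exact ha m
  rw [h, smul_id_inD, h2, ModuleCat.ofHom_zero, Functor.map_zero, Functor.map_zero,
    Limits.comp_zero]

lemma hom_eq_zero_of_isLE_of_isGE {X Y : Dual.D A} (f : X ⟶ Y) (n m : ℤ) (hX : X.IsLE n)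
    (hY : Y.IsGE m) (h : n < m) : f = 0 := by
  exact (DerivedCategory.TStructure.t (C := ModuleCat.{u} A)).zero f n m h

lemma isGE_shift (X : Dual.D A) (n k m : ℤ) (h : k + m = n) (hX : X.IsGE n) : (X⟦k⟧).IsGE m :=
  (DerivedCategory.TStructure.t (C := ModuleCat.{u} A)).isGE_shift X n k m h

lemma isLE_shift (X : Dual.D A) (n k m : ℤ) (h : k + m = n) (hX : X.IsLE n) : (X⟦k⟧).IsLE m :=
  (DerivedCategory.TStructure.t (C := ModuleCat.{u} A)).isLE_shift X n k m h

lemma ev_injective {I : Ideal A} {K : Dual.D A} (hK : K.IsGE 0) (x : Dual.inD A (A ⧸ I) ⟶ K)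
    (hx : ev x = 0) : x = 0 := by
  obtain ⟨X, Y, f, g, h, hT, hX, hY, h1, h2⟩ := exists_trunc K 0
  have hX0 : X.IsGE 0 := by
    rw [isGE_iff_subsingleton] at hK ⊢
    intro i hi
    have := h1 i (by lia)
    have := hK i hi
    exact (asIso ((hF A i).map f)).toLinearEquiv.toEquiv.subsingleton
  obtain ⟨M, ⟨e⟩⟩ := X.exists_iso_singleFunctor_obj_of_isGE_of_isLE 0
  have hxg : x ≫ g = 0 := hom_eq_zero_of_isLE_of_isGE _ 0 1 inferInstance hY (by lia)
  obtain ⟨x', hx'⟩ := lift₂ hT x hxg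
  obtain ⟨φ, hφ⟩ := (DerivedCategory.singleFunctor (ModuleCat.{u} A) 0).map_surjective (x' ≫ e.hom)
  have hx'' : x' = (DerivedCategory.singleFunctor (ModuleCat.{u} A) 0).map φ ≫ e.inv := by
    rw [hφ, Category.assoc, Iso.hom_inv_id, Category.comp_id]
  have h3 : ev x = ((hF A 0).map (e.inv ≫ f)).hom (cls (A := A) M (φ.hom 1)) := by
    rw [hx', hx'', Category.assoc, ev, Functor.map_comp, ModuleCat.hom_comp, LinearMap.comp_apply]
    congr 1
    exact map_cls φ.hom 1
  have := h1 0 le_rfl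
  have h4 : IsIso ((hF A 0).map (e.inv ≫ f)) := by
    rw [Functor.map_comp]; infer_instance
  have h5 : φ.hom 1 = 0 := by
    apply cls_injective (A := A)
    have h6 : Function.Injective ((hF A 0).map (e.inv ≫ f)).hom :=
      (asIso ((hF A 0).map (e.inv ≫ f))).toLinearEquiv.injective
    apply h6
    rw [← h3, hx]
    have : cls (A := A) M 0 = 0 := by simp [cls]
    rw [this, map_zero]
  have h7 : φ = 0 := by
    ext
    simpa using h5
  rw [hx', hx'', h7, Functor.map_zero, Limits.zero_comp, Limits.zero_comp]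

lemma ev_surjective {I : Ideal A} {K : Dual.D A} (hK : K.IsGE 0) (z : Dual.HD A K 0)
    (hz : ∀ a ∈ I, a • z = 0) : ∃ x : Dual.inD A (A ⧸ I) ⟶ K, ev x = z := by
  obtain ⟨X, Y, f, g, h, hT, hX, hY, h1, h2⟩ := exists_trunc K 0
  have hX0 : X.IsGE 0 := by
    rw [isGE_iff_subsingleton] at hK ⊢
    intro i hi
    have := h1 i (by lia)
    have := hK i hi
    exact (asIso ((hF A i).map f)).toLinearEquiv.toEquiv.subsingleton
  obtain ⟨M, ⟨e⟩⟩ := X.exists_iso_singleFunctor_obj_of_isGE_of_isLE 0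
  have := h1 0 le_rfl
  have h4 : IsIso ((hF A 0).map (e.inv ≫ f)) := by
    rw [Functor.map_comp]; infer_instance
  have h6 : Function.Bijective ((hF A 0).map (e.inv ≫ f)).hom :=
      (asIso ((hF A 0).map (e.inv ≫ f))).toLinearEquiv.bijective
  obtain ⟨w, hw⟩ := h6.2 z
  obtain ⟨m, rfl⟩ := cls_surjective (A := A) (M := M) w
  have hm : ∀ a ∈ I, a • m = 0 := by
    intro a ha
    apply cls_injective (A := A)
    apply h6.1
    rw [cls_smul, map_smul, hw, hz a ha]
    have : cls (A := A) M 0 = 0 := by simp [cls]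
    rw [this, map_zero]
  let φ : (A ⧸ I) →ₗ[A] M := Submodule.liftQ I (LinearMap.toSpanSingleton A M m) (by
    intro a ha
    simpa using hm a ha)
  refine ⟨(DerivedCategory.singleFunctor (ModuleCat.{u} A) 0).map (ModuleCat.ofHom φ) ≫
    e.inv ≫ f, ?_⟩
  rw [ev, Functor.map_comp, ModuleCat.hom_comp, LinearMap.comp_apply, map_cls, ← hw]
  congr 2
  change φ (Submodule.Quotient.mk 1) = m
  simp only [φ]
  erw [Submodule.liftQ_apply]
  simp

end Groth.Agent.LoccohB.FaltA
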