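import Mathlib.RingTheory.Ideal.AssociatedPrime.Localization
import Mathlib.RingTheory.Ideal.AssociatedPrime.Finiteness
import Mathlib.RingTheory.Ideal.MinimalPrime.Localization
import Mathlib.RingTheory.Ideal.MinimalPrime.Noetherian
import Mathlib.RingTheory.Spectrum.Prime.Topology
import Mathlib.RingTheory.Localization.AtPrime.Basic
import Mathlib.RingTheory.Noetherian.Basic
import Mathlib.Order.Interval.Finset.Basic
import Mathlib.Data.Int.Interval

/-!
Pure algebra for Faltings' annihilator theorem: annihilators of torsion modules through localizations.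
-/

universe u v

namespace Groth.Agent.LoccohB.FaltC

variable {A : Type u} [CommRing A]

/-- Clearing denominators for a finitely generated ideal. -/
lemma exists_mul_mem_of_fg (q : Ideal A) [hq : q.IsPrime] (P I : Ideal A) (hP : P.FG)
    (h : ∀ a ∈ P, ∃ t ∉ q, t * a ∈ I) : ∃ t ∉ q, ∀ a ∈ P, t * a ∈ I := by
  classical
  obtain ⟨S, rfl⟩ := hP
  choose! t ht using fun a (ha : a ∈ S) => h a (Submodule.subset_span ha)
  refine ⟨∏ a ∈ S, t a, ?_, ?_⟩
  · intro hmem
    obtain ⟨a, ha, hta⟩ := (hq.prod_mem_iff).1 hmem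
    exact (ht a ha).1 hta
  · intro a ha
    induction ha using Submodule.span_induction with
    | mem a ha =>
      have ha' : a ∈ S := ha
      rw [← Finset.mul_prod_erase S t ha', mul_comm (t a), mul_assoc]
      exact I.mul_mem_left _ (ht a ha').2
    | zero => simp
    | add a b _ _ ha hb => rw [mul_add]; exact I.add_mem ha hb
    | smul r a _ ha =>
      rw [smul_eq_mul, mul_left_comm]
      exact I.mul_mem_left _ ha

/-- Around a minimal prime `q` of `I`, a power of `q` lies in `I` up to an element outside `q`. -/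
lemma exists_pow_mul_mem_of_mem_minimalPrimes [IsNoetherianRing A] (q I : Ideal A)
    (hq : q ∈ I.minimalPrimes) : ∃ (n : ℕ) (t : A), t ∉ q ∧ ∀ a ∈ q ^ n, t * a ∈ I := by
  have hqp := hq.isPrime
  have h := IsLocalization.AtPrime.radical_map_of_mem_minimalPrimes (A := Localization.AtPrime q) q I hq
  have hfg : (I.map (algebraMap A (Localization.AtPrime q))).radical.FG := by
    rw [h]; exact Ideal.FG.map (IsNoetherian.noetherian q) _
  obtain ⟨n, hn⟩ := Ideal.exists_radical_pow_le_of_fg _ hfg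
  rw [h, ← Ideal.map_pow] at hn
  obtain ⟨t, ht, h2⟩ := exists_mul_mem_of_fg q (q ^ n) I (IsNoetherian.noetherian _) (by
    intro a ha
    have := hn (Ideal.mem_map_of_mem _ ha)
    rw [IsLocalization.mem_map_algebraMap_iff (M := q.primeCompl)] at this
    obtain ⟨⟨x, s⟩, hx⟩ := this
    rw [← map_mul, IsLocalization.eq_iff_exists q.primeCompl] at hx
    obtain ⟨c, hc⟩ := hx
    refine ⟨c * s, (c * s).2, ?_⟩
    have : (c : A) * (a * s) = c * x := by simpa using hc
    have e : (c : A) * s * a = c * x := by rw [← this]; ring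
    rw [e]
    exact I.mul_mem_left _ x.2)
  exact ⟨n, t, ht, h2⟩

/-- Let `X` be a module such that every `q`-power torsion element of `X` is killed by `J` up to an element
outside `q`, for all primes `q` in `T`, and all annihilators of elements of `X` have zero locus in `T`.
If `δ` is strictly decreasing along specializations with values in `[c, c + N]`, then
`J^(N+1)` kills `X`. -/
theorem pow_smul_eq_zero_of_local [IsNoetherianRing A] {X : Type v} [AddCommGroup X] [Module A X]
    (J : Ideal A) (T : Set (PrimeSpectrum A))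
    (htors : ∀ (x : X) (q : PrimeSpectrum A), (∀ a : A, a • x = 0 → a ∈ q.asIdeal) → q ∈ T)
    (δ : PrimeSpectrum A → ℤ) (hδ : ∀ p q, p < q → δ q < δ p) (c : ℤ) (N : ℕ)
    (hb : ∀ p, c ≤ δ p ∧ δ p ≤ c + N)
    (h : ∀ q ∈ T, ∀ x : X, (∃ n : ℕ, ∀ a ∈ q.asIdeal ^ n, a • x = 0) → ∀ b ∈ J,
      ∃ t : A, t ∉ q.asIdeal ∧ t • b • x = 0) :
    ∀ b ∈ J ^ (N + 1), ∀ x : X, b • x = 0 := by
  classical
  intro b hb' x
  -- the submodules `J^k M`
  let M : Submodule A X := Submodule.span A {x}
  let Y : ℕ → Submodule A X := fun k => J ^ k • M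
  have hMfg : M.FG := Submodule.fg_span_singleton x
  have hYfg : ∀ k, (Y k).FG := fun k => Submodule.FG.smul (IsNoetherian.noetherian _) hMfg
  have hYsucc : ∀ k, Y (k + 1) = J • Y k := fun k => by
    change J ^ (k + 1) • M = J • J ^ k • M
    rw [pow_succ', Submodule.mul_smul]
  have key : ∀ (k : ℕ) (q : PrimeSpectrum A) (z : X), z ∈ Y k →
      (∀ a : A, a • z = 0 ↔ a ∈ q.asIdeal) → δ q ≤ c + N - k := by
    intro k
    induction k with
    | zero => intro q z _ _; simpa using (hb q).2
    | succ k ih =>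
      intro q z hz hq
      have hzk : z ∈ Y k := by
        rw [hYsucc] at hz
        exact Submodule.smul_le_right hz
      have hann : (Y k).annihilator ≤ q.asIdeal := by
        intro a ha
        rw [← hq a]
        exact (Submodule.mem_annihilator.1 ha) z hzk
      obtain ⟨q', hq', hle⟩ := Ideal.exists_minimalPrimes_le hann
      have hfin : Module.Finite A (Y k) := Module.Finite.iff_fg.2 (hYfg k)
      -- `q'` is associated to `Y k`
      have hass : q' ∈ associatedPrimes A (Y k) :=
        Module.associatedPrimes.minimalPrimes_annihilator_subset_associatedPrimes A (Y k) hq'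
      obtain ⟨hq'p, w, hw⟩ := isAssociatedPrime_iff.1 hass
      have hw' : ∀ a : A, a • (w : X) = 0 ↔ a ∈ q' := by
        intro a
        rw [hw, Submodule.mem_colon_singleton, Submodule.mem_bot, ← Submodule.coe_smul,
          Submodule.coe_eq_zero]
      have h1 := ih ⟨q', hq'p⟩ w w.2 hw'
      by_cases hne : q' = q.asIdeal
      · -- then `q` is minimal over the annihilator: contradiction
        exfalso
        subst hne
        obtain ⟨n, t, ht, htn⟩ := exists_pow_mul_mem_of_mem_minimalPrimes _ _ hq'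
        have hqT : q ∈ T := htors z q fun a ha => (hq a).1 ha
        have hkill : ∀ y ∈ J • Y k, ∃ t : A, t ∉ q.asIdeal ∧ t • y = 0 := by
          intro y hy
          refine Submodule.smul_induction_on hy ?_ ?_
          · intro b hb y hy
            have hty : ∃ n : ℕ, ∀ a ∈ q.asIdeal ^ n, a • (t • y) = 0 := by
              refine ⟨n, fun a ha => ?_⟩
              rw [← mul_smul, mul_comm]
              exact Submodule.mem_annihilator.1 (htn a ha) y hy
            obtain ⟨t', ht', e⟩ := h q hqT (t • y) hty b hb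
            refine ⟨t' * t, fun hh => (q.2.mem_or_mem hh).elim ht' ht, ?_⟩
            rw [mul_smul, smul_comm t b, e]
          · rintro y y' ⟨t1, ht1, e1⟩ ⟨t2, ht2, e2⟩
            refine ⟨t1 * t2, fun hh => (q.2.mem_or_mem hh).elim ht1 ht2, ?_⟩
            rw [smul_add, mul_smul t1 t2 y', e2, mul_comm, mul_smul, e1]
            simp
        rw [hYsucc] at hz
        obtain ⟨t', ht', e⟩ := hkill z hz
        exact ht' ((hq t').1 e)
      · have hlt : (⟨q', hq'p⟩ : PrimeSpectrum A) < q :=
          lt_of_le_of_ne hle fun e => hne (congrArg PrimeSpectrum.asIdeal e)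
        have := hδ _ _ hlt
        push_cast
        omega
  -- conclude
  have hbot : Y (N + 1) = ⊥ := by
    by_contra hne
    have : Nontrivial (Y (N + 1)) := (Submodule.nontrivial_iff_ne_bot).2 hne
    obtain ⟨q', hass⟩ := associatedPrimes.nonempty A (Y (N + 1))
    obtain ⟨hq'p, w, hw⟩ := isAssociatedPrime_iff.1 hass
    have hw' : ∀ a : A, a • (w : X) = 0 ↔ a ∈ q' := by
      intro a
      rw [hw, Submodule.mem_colon_singleton, Submodule.mem_bot, ← Submodule.coe_smul,
        Submodule.coe_eq_zero]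
    have h1 := key (N + 1) ⟨q', hq'p⟩ w w.2 hw'
    have h2 := (hb ⟨q', hq'p⟩).1
    push_cast at h1
    omega
  have : b • x ∈ Y (N + 1) := Submodule.smul_mem_smul hb' (Submodule.mem_span_singleton_self x)
  rw [hbot] at this
  simpa using this

/-- Clearing denominators: if every element of a finitely generated submodule is killed by an element
outside `q`, a single element does it. -/
lemma exists_smul_eq_zero_of_fg {E : Type v} [AddCommGroup E] [Module A E] (q : Ideal A) [hq : q.IsPrime]
    (P : Submodule A E) (hP : P.FG) (h : ∀ y ∈ P, ∃ t ∉ q, t • y = 0) :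
    ∃ t ∉ q, ∀ y ∈ P, t • y = 0 := by
  classical
  obtain ⟨S, rfl⟩ := hP
  choose! t ht using fun a (ha : a ∈ S) => h a (Submodule.subset_span ha)
  refine ⟨∏ a ∈ S, t a, ?_, ?_⟩
  · intro hmem
    obtain ⟨a, ha, hta⟩ := (hq.prod_mem_iff).1 hmem
    exact (ht a ha).1 hta
  · intro a ha
    induction ha using Submodule.span_induction with
    | mem a ha =>
      have ha' : a ∈ S := ha
      rw [← Finset.prod_erase_mul S t ha', mul_smul, (ht a ha').2, smul_zero]
    | zero => simp
    | add a b _ _ ha hb => rw [smul_add, ha, hb, add_zero]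
    | smul r a _ ha => rw [smul_comm, ha, smul_zero]

/-- A single ideal with zero locus in `T'` which kills the localizations of `E` at all primes of a set
`S`, provided that the support of `E` meets `Spec A_q` inside `T'` for each `q ∈ S`. -/
theorem exists_ideal_of_support [IsNoetherianRing A] {E : Type v} [AddCommGroup E] [Module A E]
    [Module.Finite A E] (T' : Set (PrimeSpectrum A)) (hT' : StableUnderSpecialization T')
    (S : Set (PrimeSpectrum A))
    (h : ∀ q ∈ S, ∀ p : PrimeSpectrum A, p ≤ q → p ∉ T' → ∀ y : E, ∃ t : A, t ∉ p.asIdeal ∧ t • y = 0) :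
    ∃ J : Ideal A, PrimeSpectrum.zeroLocus (J : Set A) ⊆ T' ∧
      ∀ q ∈ S, ∀ a ∈ J, ∀ y : E, ∃ t : A, t ∉ q.asIdeal ∧ t • a • y = 0 := by
  classical
  -- the annihilator of `E` localized at `q`
  let I : PrimeSpectrum A → Ideal A := fun q =>
    { carrier := {a | ∀ y : E, ∃ t : A, t ∉ q.asIdeal ∧ t • a • y = 0}
      add_mem' := by
        intro a b ha hb y
        obtain ⟨t1, ht1, e1⟩ := ha y
        obtain ⟨t2, ht2, e2⟩ := hb y
        refine ⟨t1 * t2, fun hh => (q.2.mem_or_mem hh).elim ht1 ht2, ?_⟩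
        rw [add_smul, smul_add, mul_smul t1 t2 (b • y), e2, mul_comm, mul_smul, e1]
        simp
      zero_mem' := fun y => ⟨1, fun h1 => q.2.ne_top ((Ideal.eq_top_iff_one _).2 h1), by simp⟩
      smul_mem' := by
        intro c a ha y
        obtain ⟨t, ht, e⟩ := ha y
        refine ⟨t, ht, ?_⟩
        rw [smul_eq_mul, mul_smul, smul_comm t c, e, smul_zero] }
  have hmemI : ∀ q a, a ∈ I q ↔ ∀ y : E, ∃ t : A, t ∉ q.asIdeal ∧ t • a • y = 0 := fun q a => Iff.rfl
  -- zero locus of `I q`
  have hzl : ∀ q ∈ S, PrimeSpectrum.zeroLocus (I q : Set A) ⊆ T' := by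
    intro q hq p0 hp0
    have hle0 : I q ≤ p0.asIdeal := hp0
    obtain ⟨p1, hp1, hle⟩ := Ideal.exists_minimalPrimes_le hle0
    have hp1p := hp1.isPrime
    -- `p1 ≤ q`
    have hp1q : p1 ≤ q.asIdeal := by
      intro x hx
      by_contra hxq
      obtain ⟨n, t, ht, hn⟩ := exists_pow_mul_mem_of_mem_minimalPrimes _ _ hp1
      have h1 := hn (x ^ n) (Ideal.pow_mem_pow hx n)
      apply ht
      apply hp1.le
      rw [hmemI] at h1 ⊢
      intro y
      obtain ⟨u, hu, e⟩ := h1 y
      refine ⟨u * x ^ n, fun hh => (q.2.mem_or_mem hh).elim hu fun h2 =>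
        hxq (q.2.mem_of_pow_mem n h2), ?_⟩
      rw [mul_comm t, mul_smul] at e
      rw [mul_smul]
      exact e
    by_cases hmem : (⟨p1, hp1p⟩ : PrimeSpectrum A) ∈ T'
    · exact hT' ((PrimeSpectrum.le_iff_specializes ⟨p1, hp1p⟩ p0).1 hle) hmem
    · exfalso
      obtain ⟨t, ht, e⟩ := exists_smul_eq_zero_of_fg p1 (⊤ : Submodule A E) Module.Finite.fg_top
        (fun y _ => h q hq ⟨p1, hp1p⟩ hp1q hmem y)
      apply ht
      apply hp1.le
      rw [hmemI]
      intro y
      exact ⟨1, fun h1 => q.2.ne_top ((Ideal.eq_top_iff_one _).2 h1), by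
        rw [e y trivial, smul_zero]⟩
  -- choose `J` with maximal annihilator of `J E`
  let F : Set (Ideal A) := {J | PrimeSpectrum.zeroLocus (J : Set A) ⊆ T'}
  let ann : Ideal A → Ideal A := fun J => (J • (⊤ : Submodule A E)).annihilator
  have hne : (ann '' F).Nonempty := ⟨_, ⊤, by
    change PrimeSpectrum.zeroLocus ((⊤ : Ideal A) : Set A) ⊆ T'
    simp, rfl⟩
  obtain ⟨K, ⟨J, hJ, rfl⟩, hmax⟩ := set_has_maximal_iff_noetherian.2
    (inferInstance : IsNoetherian A A) (ann '' F) hne
  refine ⟨J, hJ, ?_⟩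
  intro q hq a ha y
  have hF : J * I q ∈ F := by
    change PrimeSpectrum.zeroLocus ((J * I q : Ideal A) : Set A) ⊆ T'
    rw [PrimeSpectrum.zeroLocus_mul]
    exact Set.union_subset hJ (hzl q hq)
  have hle : ann J ≤ ann (J * I q) :=
    Submodule.annihilator_mono (Submodule.smul_mono_left Ideal.mul_le_left)
  have heq : ann J = ann (J * I q) := by
    by_contra hne'
    exact hmax _ ⟨_, hF, rfl⟩ (lt_of_le_of_ne hle hne')
  have hle2 : ann (I q) ≤ ann (J * I q) :=
    Submodule.annihilator_mono (Submodule.smul_mono_left Ideal.mul_le_right)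
  obtain ⟨t, ht, e⟩ := exists_smul_eq_zero_of_fg q.asIdeal (I q • (⊤ : Submodule A E))
    (Submodule.FG.smul (IsNoetherian.noetherian _) Module.Finite.fg_top) (by
      intro z hz
      refine Submodule.smul_induction_on hz ?_ ?_
      · intro r hr y _
        obtain ⟨t, ht, e⟩ := (hmemI q r).1 hr y
        exact ⟨t, ht, e⟩
      · rintro z z' ⟨t1, ht1, e1⟩ ⟨t2, ht2, e2⟩
        refine ⟨t1 * t2, fun hh => (q.2.mem_or_mem hh).elim ht1 ht2, ?_⟩
        rw [smul_add, mul_smul t1 t2 z', e2, mul_comm, mul_smul, e1]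
        simp)
  have ht' : t ∈ ann J := by
    rw [heq]
    apply hle2
    exact Submodule.mem_annihilator.2 e
  exact ⟨t, ht, Submodule.mem_annihilator.1 ht' _ (Submodule.smul_mem_smul ha trivial)⟩

/-- The equivalence between vanishing at primes outside `T'` and annihilation by one ideal. -/
theorem vanish_iff_exists_ideal [IsNoetherianRing A] (E : ℤ → Type v) [∀ j, AddCommGroup (E j)]
    [∀ j, Module A (E j)] [∀ j, Module.Finite A (E j)]
    (T T' : Set (PrimeSpectrum A)) (hT' : StableUnderSpecialization T') (δ : PrimeSpectrum A → ℤ)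
    (c : ℤ) (hb : ∀ p, δ p ≤ c) (s : ℤ) (jmax : ℤ) (hE : ∀ j, jmax < j → Subsingleton (E j)) :
    (∀ (p q : PrimeSpectrum A), p ≤ q → p ∉ T' → q ∈ T → ∀ j, -s - δ q ≤ j → ∀ y : E j,
      ∃ t : A, t ∉ p.asIdeal ∧ t • y = 0) ↔
    (∃ J : Ideal A, PrimeSpectrum.zeroLocus (J : Set A) ⊆ T' ∧
      ∀ q ∈ T, ∀ j, -s - δ q ≤ j → ∀ a ∈ J, ∀ y : E j, ∃ t : A, t ∉ q.asIdeal ∧ t • a • y = 0) := by
  classical
  constructor
  · intro h
    have hJ : ∀ j : ℤ, ∃ J : Ideal A, PrimeSpectrum.zeroLocus (J : Set A) ⊆ T' ∧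
        ∀ q ∈ {q | q ∈ T ∧ -s - δ q ≤ j}, ∀ a ∈ J, ∀ y : E j,
          ∃ t : A, t ∉ q.asIdeal ∧ t • a • y = 0 := fun j =>
      exists_ideal_of_support T' hT' {q | q ∈ T ∧ -s - δ q ≤ j}
        (fun q hq p hpq hp y => h p q hpq hp hq.1 j hq.2 y)
    choose J hJ1 hJ2 using hJ
    refine ⟨∏ j ∈ Finset.Icc (-s - c) jmax, J j, ?_, ?_⟩
    · intro p hp
      have hp' : ∏ j ∈ Finset.Icc (-s - c) jmax, J j ≤ p.asIdeal := hp
      obtain ⟨j, _, hj⟩ := (Ideal.IsPrime.prod_le p.2).1 hp'
      exact hJ1 j hj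
    · intro q hq j hj a ha y
      by_cases hjm : jmax < j
      · have := hE j hjm
        exact ⟨1, fun h1 => q.2.ne_top ((Ideal.eq_top_iff_one _).2 h1), Subsingleton.elim _ _⟩
      · have hmem : j ∈ Finset.Icc (-s - c) jmax := by
          rw [Finset.mem_Icc]
          have := hb q
          omega
        have ha' : a ∈ J j := (Ideal.prod_le_inf.trans (Finset.inf_le hmem)) ha
        exact hJ2 j q ⟨hq, hj⟩ a ha' y
  · rintro ⟨J, hJ, h⟩ p q hpq hp hq j hj y
    have hJp : ¬ J ≤ p.asIdeal := fun hle => hp (hJ hle)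
    obtain ⟨a, ha, hap⟩ := Set.not_subset.1 hJp
    obtain ⟨t, ht, e⟩ := h q hq j hj a ha y
    refine ⟨t * a, fun hh => (p.2.mem_or_mem hh).elim (fun h1 => ht (hpq h1)) hap, ?_⟩
    rw [mul_smul]
    exact e

end Groth.Agent.LoccohB.FaltC
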