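import Groth.Agent.LoccohB.FaltB
import Groth.Agent.LoccohB.FaltC

/-!
Faltings' annihilator theorem, formal part: for an object `L` of `D^{≥ a₀}(A)` with `T`-torsion cohomology,
one ideal with zero locus in `T'` kills `H^i(L)` for `i ≤ s` iff one such ideal kills all the localized
groups `colim_n Hom(A/q^n, L[i])_q`, `q ∈ T`, `i ≤ s`.
-/

universe u

open CategoryTheory CategoryTheory.Limits CategoryTheory.Pretriangulated CategoryTheory.Triangulated

attribute [local instance] HasDerivedCategory.standard

namespace Groth.Agent.LoccohB.FaltD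

open Groth.Agent.LoccohB.FaltA Groth.Agent.LoccohB.FaltB Groth.Agent.LoccohB.FaltC

variable {A : Type u} [CommRing A]

lemma zeroLocus_pow_subset (J : Ideal A) (n : ℕ) {T' : Set (PrimeSpectrum A)}
    (h : PrimeSpectrum.zeroLocus (J : Set A) ⊆ T') :
    PrimeSpectrum.zeroLocus ((J ^ n : Ideal A) : Set A) ⊆ T' := by
  intro p hp
  have hp' : J ^ n ≤ p.asIdeal := hp
  exact h (p.2.le_of_pow_le hp')

lemma zeroLocus_mul_subset (J J' : Ideal A) {T' : Set (PrimeSpectrum A)}
    (h : PrimeSpectrum.zeroLocus (J : Set A) ⊆ T')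
    (h' : PrimeSpectrum.zeroLocus (J' : Set A) ⊆ T') :
    PrimeSpectrum.zeroLocus ((J * J' : Ideal A) : Set A) ⊆ T' := by
  rw [PrimeSpectrum.zeroLocus_mul]
  exact Set.union_subset h h'

/-- The main formal equivalence. -/
theorem exists_annihilator_iff_kills [IsNoetherianRing A] (T T' : Set (PrimeSpectrum A))
    (L : Dual.D A) (a₀ s : ℤ) (hL : L.IsGE a₀)
    (htors : ∀ (i : ℤ) (z : Dual.HD A L i) (q : PrimeSpectrum A),
      (∀ a : A, a • z = 0 → a ∈ q.asIdeal) → q ∈ T)
    (δ : PrimeSpectrum A → ℤ) (hδ : ∀ p q, p < q → δ q < δ p) (c : ℤ) (N : ℕ)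
    (hb : ∀ p, c ≤ δ p ∧ δ p ≤ c + N) :
    (∃ J : Ideal A, PrimeSpectrum.zeroLocus (J : Set A) ⊆ T' ∧
      ∀ i, i ≤ s → ∀ a ∈ J, ∀ z : Dual.HD A L i, a • z = 0) ↔
    (∃ J : Ideal A, PrimeSpectrum.zeroLocus (J : Set A) ⊆ T' ∧
      ∀ q ∈ T, ∀ i, i ≤ s → Kills q.asIdeal J (L⟦i⟧)) := by
  constructor
  · rintro ⟨J, hJ, h⟩
    exact ⟨J ^ (s + 1 - a₀).toNat, zeroLocus_pow_subset J _ hJ,
      fun q _ i hi => kills_shift_of_annihilates L a₀ s hL h i hi⟩
  · rintro ⟨J, hJ, h⟩
    have key : ∀ n : ℕ, ∃ J' : Ideal A, PrimeSpectrum.zeroLocus (J' : Set A) ⊆ T' ∧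
        ∀ i, i < a₀ + n → i ≤ s → ∀ a ∈ J', ∀ z : Dual.HD A L i, a • z = 0 := by
      intro n
      induction n with
      | zero =>
        refine ⟨⊤, by simp, fun i hi _ a _ z => ?_⟩
        have := (isGE_iff_subsingleton L a₀).1 hL i (by simpa using hi)
        exact Subsingleton.elim _ _
      | succ n ih =>
        obtain ⟨J', hJ', h'⟩ := ih
        by_cases hs : a₀ + n ≤ s
        · let i : ℤ := a₀ + n
          let K : Dual.D A := L⟦i⟧
          have hK : K.IsGE (-n) := isGE_shift L a₀ i (-n) (by simp [i]) hL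
          have hKJ' : ∀ j, j < 0 → ∀ a ∈ J', ∀ z : Dual.HD A K j, a • z = 0 := by
            intro j hj a ha z
            obtain ⟨φ⟩ := nonempty_HD_shift L i j (i + j) rfl
            apply φ.injective
            rw [map_smul, map_zero]
            exact h' _ (by simp only [i]; lia) (by simp only [i]; lia) a ha _
          have hzero := pow_smul_eq_zero_of_local (X := Dual.HD A K 0) (J * J' ^ (n + 2)) T
            (by
              intro x q hq
              obtain ⟨φ⟩ := nonempty_HD_shift L i 0 i (by simp)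
              refine htors i (φ x) q fun a ha => hq a ?_
              apply φ.injective
              rw [map_smul, ha, map_zero])
            δ hδ c N hb
            (by
              rintro q hq x ⟨m, hm⟩ b hb'
              have hqp := q.2
              exact exists_smul_eq_zero_of_kills (q := q.asIdeal) K (-n) (n + 2) (by push_cast; lia) hK
                hKJ' (h q hq i hs) x m hm b hb')
          refine ⟨J' * (J * J' ^ (n + 2)) ^ (N + 1), ?_, ?_⟩
          · exact zeroLocus_mul_subset _ _ hJ' (zeroLocus_pow_subset _ _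
              (zeroLocus_mul_subset _ _ hJ (zeroLocus_pow_subset _ _ hJ')))
          · intro j hj hjs a ha z
            by_cases hji : j = i
            · subst hji
              obtain ⟨φ⟩ := nonempty_HD_shift L i 0 i (by simp)
              apply φ.symm.injective
              rw [map_smul, map_zero]
              exact hzero a (Ideal.mul_le_right ha) _
            · exact h' j (by simp only [i] at hji; push_cast at hj; lia) hjs a
                (Ideal.mul_le_left ha) z
        · exact ⟨J', hJ', fun j hj hjs => h' j (by push_cast at hj; lia) hjs⟩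
    obtain ⟨J', hJ', h'⟩ := key (s + 1 - a₀).toNat
    exact ⟨J', hJ', fun i hi => h' i (by
      by_cases h0 : 0 ≤ s + 1 - a₀
      · rw [Int.toNat_of_nonneg h0]; lia
      · rw [Int.toNat_of_nonpos (by lia)]; push_cast; lia) hi⟩

end Groth.Agent.LoccohB.FaltD
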