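import Groth.Prelude.Def_Flat
import Mathlib.RingTheory.LocalRing.ResidueField.Fiber
import Mathlib.RingTheory.Spectrum.Prime.Jacobson
import Mathlib.RingTheory.Jacobson.Ring
import Mathlib.RingTheory.KrullDimension.Basic
import Mathlib.AlgebraicGeometry.Fiber

/-!
`FlatMor.fibreDimAt` for `Spec A → Spec R`, in algebraic terms:
if the local dimension of the fibre at `q` is at most `d`, there is a prime `m ⊇ q` of `A`, over the
same prime `p` of `R` and maximal in the fibre ring, such that every chain of primes of `A`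
over `p` ending in `m` has length at most `d`.
-/

set_option autoImplicit false

universe u v

namespace Groth.Agent.LoccohB.FibreDim

open TopologicalSpace AlgebraicGeometry CategoryTheory

/-- A strictly monotone map for the specialization order bounds the Krull dimension. -/
theorem krullDim_le_topologicalKrullDim {Y X : Type*} [Preorder Y] [TopologicalSpace X] (g : Y → X)
    (h : ∀ a b, a < b → g a ⤳ g b ∧ ¬ g b ⤳ g a) :
    Order.krullDim Y ≤ topologicalKrullDim X := by
  rw [topologicalKrullDim, ← Order.krullDim_orderDual (α := IrreducibleCloseds X)]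
  let φ : Y → (IrreducibleCloseds X)ᵒᵈ := fun y => OrderDual.toDual
    ⟨closure {g y}, isIrreducible_singleton.closure, isClosed_closure⟩
  refine Order.krullDim_le_of_strictMono φ ?_
  intro a b hab
  obtain ⟨h1, h2⟩ := h a b hab
  rw [specializes_iff_mem_closure] at h1 h2
  change (⟨closure {g b}, _, _⟩ : IrreducibleCloseds X) < ⟨closure {g a}, _, _⟩
  rw [lt_iff_le_not_ge]
  constructor
  · intro z hz
    exact closure_minimal (Set.singleton_subset_iff.2 h1) isClosed_closure hz
  · intro hle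
    exact h2 (hle (subset_closure (Set.mem_singleton (g a))))

/-- Unfolding of `fibreDimAt`. -/
theorem exists_open_of_fibreDimAt_le {X Y : Scheme.{u}} (f : X ⟶ Y) (x : X) (d : ℕ)
    (hd : FlatMor.fibreDimAt f x ≤ d) :
    ∃ U : Set (f ⁻¹' {f x}), IsOpen U ∧ (⟨x, rfl⟩ : f ⁻¹' {f x}) ∈ U ∧
      topologicalKrullDim U ≤ d := by
  have h1 : FlatMor.fibreDimAt f x < ((d + 1 : ℕ) : WithBot ℕ∞) :=
    lt_of_le_of_lt hd (by exact_mod_cast Nat.lt_succ_self d)
  unfold FlatMor.fibreDimAt FlatMor.localDim at h1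
  rw [iInf_lt_iff] at h1
  obtain ⟨⟨U, hxU⟩, hU⟩ := h1
  have hU' : topologicalKrullDim (U : Set (f.fiber (f x))) ≤ d := by
    have : ((d + 1 : ℕ) : WithBot ℕ∞) = (d : WithBot ℕ∞) + 1 := by push_cast; rfl
    rw [this] at hU
    exact ENat.WithBot.lt_add_one_iff.1 hU
  let e := f.fiberHomeo (f x)
  refine ⟨e '' U, e.isOpenMap _ U.2, ⟨_, hxU, ?_⟩, ?_⟩
  · exact e.apply_symm_apply ⟨x, rfl⟩
  · refine le_trans (le_of_eq ?_) hU'
    exact (IsHomeomorph.topologicalKrullDim_eq _ (e.image (U : Set (f.fiber (f x)))).isHomeomorph).symm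

theorem exists_maximal {R A : Type u} [CommRing R] [CommRing A] [Algebra R A]
    [Algebra.FiniteType R A] (q : PrimeSpectrum A) (p : PrimeSpectrum R)
    (hp : PrimeSpectrum.comap (algebraMap R A) q = p) (d : ℕ)
    (hd : FlatMor.fibreDimAt (Spec.map (CommRingCat.ofHom (algebraMap R A))) q ≤ d) :
    ∃ m : PrimeSpectrum (p.asIdeal.Fiber A), m.asIdeal.IsMaximal ∧
      q.asIdeal ≤ m.asIdeal.comap Algebra.TensorProduct.includeRight ∧
      ∀ (Y : Type v) [Preorder Y] (g : Y → PrimeSpectrum A),
        (∀ y, PrimeSpectrum.comap (algebraMap R A) (g y) = p) →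
        (∀ y, (g y).asIdeal ≤ m.asIdeal.comap Algebra.TensorProduct.includeRight) →
        StrictMono g → Order.krullDim Y ≤ d := by
  subst hp
  obtain ⟨U, hUo, hqU, hU⟩ := exists_open_of_fibreDimAt_le _ _ _ hd
  set p : PrimeSpectrum R := PrimeSpectrum.comap (algebraMap R A) q with hp
  change Set ((PrimeSpectrum.comap (algebraMap R A)) ⁻¹' {p}) at U
  change (⟨q, rfl⟩ : (PrimeSpectrum.comap (algebraMap R A)) ⁻¹' {p}) ∈ U at hqU
  let e := PrimeSpectrum.preimageHomeomorphFiber R A p
  let x : PrimeSpectrum (p.asIdeal.Fiber A) := e ⟨q, rfl⟩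
  have hW : IsOpen (e '' U) := e.isOpenMap _ hUo
  have hJ : IsJacobsonRing (p.asIdeal.Fiber A) :=
    isJacobsonRing_of_finiteType (A := p.asIdeal.ResidueField)
  have hJ' : JacobsonSpace (PrimeSpectrum (p.asIdeal.Fiber A)) := by
    infer_instance
  obtain ⟨m, ⟨hmW, hmx⟩, hm⟩ := nonempty_inter_closedPoints
    (X := PrimeSpectrum (p.asIdeal.Fiber A)) (Z := (e '' U) ∩ closure {x})
    ⟨x, ⟨_, hqU, rfl⟩, subset_closure rfl⟩ (hW.isLocallyClosed.inter isClosed_closure.isLocallyClosed)
  rw [mem_closedPoints_iff, PrimeSpectrum.isClosed_singleton_iff_isMaximal] at hm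
  rw [← specializes_iff_mem_closure, ← PrimeSpectrum.le_iff_specializes] at hmx
  have hm2 : (PrimeSpectrum.preimageOrderIsoFiber R A p).symm m ∈ U := by
    obtain ⟨z, hz, rfl⟩ := hmW
    have : (PrimeSpectrum.preimageOrderIsoFiber R A p).symm (e z) = z :=
      e.symm_apply_apply z
    rw [this]
    exact hz
  refine ⟨m, hm, ?_, ?_⟩
  · have h1 : (⟨q, rfl⟩ : (PrimeSpectrum.comap (algebraMap R A)) ⁻¹' {p}) ≤
        (PrimeSpectrum.preimageOrderIsoFiber R A p).symm m := by
      rw [OrderIso.le_symm_apply]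
      exact hmx
    exact h1
  · intro Y _ g hg1 hg2 hg
    refine le_trans (krullDim_le_topologicalKrullDim (X := U)
      (fun y => ⟨⟨g y, hg1 y⟩, ?_⟩) ?_) hU
    · have h2 : (⟨g y, hg1 y⟩ : (PrimeSpectrum.comap (algebraMap R A)) ⁻¹' {p}) ⤳
          (PrimeSpectrum.preimageOrderIsoFiber R A p).symm m := by
        rw [subtype_specializes_iff]
        rw [← PrimeSpectrum.le_iff_specializes]
        exact hg2 y
      exact h2.mem_open hUo hm2
    · intro a b hab
      have h3 := hg hab
      refine ⟨(subtype_specializes_iff _ _).2 ((subtype_specializes_iff _ _).2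
        ((PrimeSpectrum.le_iff_specializes _ _).1 h3.le)), fun hh => ?_⟩
      have h4 := (subtype_specializes_iff _ _).1 ((subtype_specializes_iff _ _).1 hh)
      exact absurd ((PrimeSpectrum.le_iff_specializes _ _).2 h4) (not_le_of_gt h3)

end Groth.Agent.LoccohB.FibreDim
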