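import Mathlib.RingTheory.Regular.RegularSequence
import Mathlib.RingTheory.Flat.Tensor
import Mathlib.RingTheory.Ideal.AssociatedPrime.Finiteness
import Mathlib.LinearAlgebra.TensorProduct.RightExactness
import Mathlib.RingTheory.Nakayama
import Groth.Agent.Ega3A.LocalFlat

/-!
Regular sequences on the closed fibre of a flat module (Stacks 00MF in module form).

`R` Noetherian, `S` a Noetherian local `R`-algebra, `p` the contraction of the maximal ideal of `S`,
`M` a finite `S`-module flat over `R`.  If a sequence of elements of `S` is weakly regular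
on `M ⊗ R/p` then it is weakly regular on `M ⊗ N` for every finite `R`-module `N`.
-/

set_option autoImplicit false

namespace Groth.Agent.LoccohB.FlatReg

open TensorProduct RingTheory.Sequence Pointwise

universe u v w

variable {R : Type u} {S : Type w} [CommRing R] [CommRing S] [Algebra R S]

section Single

variable [IsNoetherianRing R] [IsNoetherianRing S] [IsLocalRing S]
  {M : Type v} [AddCommGroup M] [Module R M] [Module S M] [IsScalarTower R S M]

omit [IsNoetherianRing R] [IsNoetherianRing S] [IsLocalRing S] in
theorem isSMulRegular_tensor_congr (f : S) {N N' : Type u} [AddCommGroup N] [Module R N]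
    [AddCommGroup N'] [Module R N'] (e : N ≃ₗ[R] N') (h : IsSMulRegular (M ⊗[R] N') f) :
    IsSMulRegular (M ⊗[R] N) f :=
  ((AlgebraTensorModule.congr (LinearEquiv.refl S M) e).isSMulRegular_congr f).2 h

theorem isSMulRegular_tensor [Module.Finite S M] [Module.Flat R M]
    (p : Ideal R) (hp : (IsLocalRing.maximalIdeal S).comap (algebraMap R S) = p)
    (f : S) (hf : IsSMulRegular (M ⊗[R] (R ⧸ p)) f) (J : Ideal R) :
    ∀ (N : Type u) [AddCommGroup N] [Module R N] [Module.Finite R N],
      (∀ a ∈ J, ∀ x : N, a • x = 0) → IsSMulRegular (M ⊗[R] N) f := by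
  induction J using WellFoundedGT.induction with
  | _ J ih =>
  intro N _ _ hN
  induction hN using IsNoetherianRing.induction_on_isQuotientEquivQuotientPrime R with
  | subsingleton N =>
    intro _ a b _
    exact Subsingleton.elim _ _
  | quotient N q e =>
    intro hJN
    have hJq : J ≤ q.1 := by
      intro a ha
      have h1 := hJN a ha (e.symm (Ideal.Quotient.mk q.1 1))
      rw [← map_smul, LinearEquiv.map_eq_zero_iff, ← Ideal.Quotient.mk_eq_mk,
        ← Submodule.Quotient.mk_smul, smul_eq_mul, mul_one, Ideal.Quotient.mk_eq_mk,
        Ideal.Quotient.eq_zero_iff_mem] at h1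
      exact h1
    rcases hJq.lt_or_eq with hlt | heq
    · refine ih q.1 hlt N fun a ha x => ?_
      have h1 : a • e x = 0 := by
        obtain ⟨y, hy⟩ := Ideal.Quotient.mk_surjective (e x)
        rw [← hy, ← Ideal.Quotient.mk_eq_mk, ← Submodule.Quotient.mk_smul, smul_eq_mul,
          Ideal.Quotient.mk_eq_mk, Ideal.Quotient.eq_zero_iff_mem]
        exact Ideal.mul_mem_right _ _ ha
      rwa [← map_smul, LinearEquiv.map_eq_zero_iff] at h1
    · by_cases hqp : q.1 ≤ p
      · rcases hqp.lt_or_eq with hlt | heq'
        · obtain ⟨x, hxp, hxq⟩ := SetLike.exists_of_lt hlt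
          -- multiplication by `x` is injective on `N`
          have hxN : Function.Injective (LinearMap.lsmul R N x) := by
            intro a b hab
            have hab' : e (x • a) = e (x • b) := congrArg e hab
            rw [map_smul, map_smul] at hab'
            apply e.injective
            obtain ⟨a', ha'⟩ := Ideal.Quotient.mk_surjective (e a)
            obtain ⟨b', hb'⟩ := Ideal.Quotient.mk_surjective (e b)
            rw [← ha', ← hb', ← Ideal.Quotient.mk_eq_mk, ← Ideal.Quotient.mk_eq_mk,
              ← Submodule.Quotient.mk_smul, ← Submodule.Quotient.mk_smul,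
              Ideal.Quotient.mk_eq_mk, Ideal.Quotient.mk_eq_mk, Ideal.Quotient.eq,
              smul_eq_mul, smul_eq_mul, ← mul_sub] at hab'
            rw [← ha', ← hb', Ideal.Quotient.eq]
            exact (q.2.mem_or_mem hab').resolve_left hxq
          have hxL : ∀ z : M ⊗[R] N, x • z = 0 → z = 0 := by
            have h1 := Module.Flat.lTensor_preserves_injective_linearMap (M := M) _ hxN
            intro z hz
            apply h1
            rw [map_zero, ← hz]
            clear hz h1
            induction z using TensorProduct.induction_on with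
            | zero => simp
            | tmul m n => simp
            | add a b ha hb => rw [map_add, smul_add, ha, hb]
          have hfin : Module.Finite S (M ⊗[R] N) := Groth.Agent.Ega3A.LocalFlat.finite_tensor N
          have : IsNoetherian S (M ⊗[R] N) := isNoetherian_of_isNoetherianRing_of_finite _ _
          -- the kernel of `f`
          let K : Submodule S (M ⊗[R] N) := LinearMap.ker (LinearMap.lsmul S (M ⊗[R] N) f)
          suffices hK : K = ⊥ by
            rw [isSMulRegular_iff_ker_lsmul_eq_bot]
            exact hK
          refine Submodule.eq_bot_of_le_smul_of_le_jacobson_bot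
            (Ideal.span {algebraMap R S x}) K (IsNoetherian.noetherian _) ?_ ?_
          · intro z hz
            have hz : f • z = 0 := hz
            -- the quotient `N / xN`
            let N' := N ⧸ LinearMap.range (LinearMap.lsmul R N x)
            let π : N →ₗ[R] N' := (LinearMap.range (LinearMap.lsmul R N x)).mkQ
            have hreg : IsSMulRegular (M ⊗[R] N') f := by
              refine ih (J ⊔ Ideal.span {x}) ?_ N' ?_
              · refine lt_of_le_of_ne le_sup_left fun h => hxq ?_
                rw [← heq, h]
                exact Ideal.mem_sup_right (Ideal.mem_span_singleton_self x)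
              · intro a ha y
                obtain ⟨y, rfl⟩ := Submodule.mkQ_surjective _ y
                obtain ⟨b, hb, c, hc, rfl⟩ := Submodule.mem_sup.1 ha
                obtain ⟨c, rfl⟩ := Ideal.mem_span_singleton'.1 hc
                rw [← map_smul, add_smul, hJN b hb, zero_add, mul_comm, mul_smul]
                rw [Submodule.mkQ_apply, Submodule.Quotient.mk_eq_zero]
                exact ⟨c • y, rfl⟩
            have hex := lTensor_exact M (f := LinearMap.lsmul R N x) (g := π)
              (by
                intro y
                change (Submodule.Quotient.mk y : N') = 0 ↔ _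
                rw [Submodule.Quotient.mk_eq_zero]
                rfl) (Submodule.mkQ_surjective _)
            have hπz : (π.lTensor M) z = 0 := by
              apply hreg
              change f • _ = f • _
              rw [smul_zero]
              have : f • (π.lTensor M) z = (AlgebraTensorModule.lTensor S M π) (f • z) := by
                rw [map_smul]; rfl
              rw [this, hz, map_zero]
            obtain ⟨z', hz'⟩ := (hex z).1 hπz
            have hz'' : x • z' = z := by
              rw [← hz']
              clear hz' hπz hz
              induction z' using TensorProduct.induction_on with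
              | zero => simp
              | tmul m n => simp
              | add a b ha hb => rw [map_add, smul_add, ha, hb]
            have hz3 : z' ∈ K := by
              change f • z' = 0
              apply hxL
              have : x • f • z' = f • x • z' := by
                rw [← algebraMap_smul S x, ← algebraMap_smul S x, smul_smul, smul_smul, mul_comm]
              rw [this, hz'', hz]
            rw [← hz'', ← algebraMap_smul S x]
            exact Submodule.smul_mem_smul (Ideal.mem_span_singleton_self _) hz3
          · rw [Ideal.span_singleton_le_iff_mem, IsLocalRing.jacobson_eq_maximalIdeal _ bot_ne_top]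
            rw [← hp] at hxp
            exact hxp
        · have e2 : (R ⧸ q.1) ≃ₗ[R] (R ⧸ p) := Submodule.quotEquivOfEq q.1 p heq'
          exact isSMulRegular_tensor_congr f (e.trans e2) hf
      · obtain ⟨x, hxq, hxp⟩ := SetLike.not_le_iff_exists.1 hqp
        have hu : IsUnit (algebraMap R S x) := by
          by_contra h
          apply hxp
          rw [← hp]
          exact h
        have hsub : Subsingleton (M ⊗[R] N) := by
          refine subsingleton_of_forall_eq 0 fun z => ?_
          obtain ⟨u, hu⟩ := hu
          have h1 : x • z = 0 := by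
            induction z using TensorProduct.induction_on with
            | zero => simp
            | tmul m n => rw [← TensorProduct.tmul_smul, hJN x (heq ▸ hxq), TensorProduct.tmul_zero]
            | add a b ha hb => rw [smul_add, ha, hb, add_zero]
          rw [← algebraMap_smul S x, ← hu] at h1
          have h2 : (↑u⁻¹ : S) • (u : S) • z = z := by rw [smul_smul, Units.inv_mul, one_smul]
          rw [← h2, h1, smul_zero]
        intro a b _
        exact Subsingleton.elim _ _
  | exact N₁ N₂ N₃ i g hi hg hig h1 h3 =>
    intro hJN
    have h1' := h1 fun a ha x => hi (by rw [map_smul, hJN a ha, map_zero])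
    have h3' := h3 fun a ha x => by
      obtain ⟨y, rfl⟩ := hg x
      rw [← map_smul, hJN a ha, map_zero]
    have e1 : LinearMap.range (AlgebraTensorModule.lTensor S M i) =
        LinearMap.ker (AlgebraTensorModule.lTensor S M g) := by
      ext y
      exact ((lTensor_exact M hig hg) y).symm
    exact isSMulRegular_of_range_eq_ker
      (f := AlgebraTensorModule.lTensor S M i) (g := AlgebraTensorModule.lTensor S M g)
      (Module.Flat.lTensor_preserves_injective_linearMap (M := M) _ hi) e1 h1' h3'

end Single

section Quot

variable {M : Type v} [AddCommGroup M] [Module R M] [Module S M] [IsScalarTower R S M]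

noncomputable def piR (f : S) : M →ₗ[R] QuotSMulTop f M :=
  (Submodule.mkQ (f • (⊤ : Submodule S M))).restrictScalars R

noncomputable def quotMap (f : S) (N : Type*) [AddCommGroup N] [Module R N] :
    M ⊗[R] N →ₗ[S] (QuotSMulTop f M) ⊗[R] N :=
  AlgebraTensorModule.map (Submodule.mkQ (f • (⊤ : Submodule S M))) (LinearMap.id : N →ₗ[R] N)

theorem quotMap_eq (f : S) (N : Type*) [AddCommGroup N] [Module R N] (z : M ⊗[R] N) :
    quotMap f N z = (piR (R := R) (M := M) f).rTensor N z := by
  induction z using TensorProduct.induction_on with
  | zero => rw [map_zero, map_zero]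
  | tmul m n => rfl
  | add a b ha hb => rw [map_add, map_add, ha, hb]

theorem piR_surjective (f : S) : Function.Surjective (piR (R := R) (M := M) f) := by
  intro y
  obtain ⟨x, hx⟩ := Submodule.mkQ_surjective (f • (⊤ : Submodule S M)) y
  exact ⟨x, hx⟩

theorem quotMap_surjective (f : S) (N : Type*) [AddCommGroup N] [Module R N] :
    Function.Surjective (quotMap (M := M) (R := R) f N) := by
  intro y
  obtain ⟨z, hz⟩ := LinearMap.rTensor_surjective N (piR_surjective f) y
  exact ⟨z, by rw [quotMap_eq, hz]⟩

theorem piR_exact (f : S) :
    Function.Exact ((LinearMap.lsmul S M f).restrictScalars R) (piR (R := R) (M := M) f) := by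
  intro y
  change (Submodule.Quotient.mk y : QuotSMulTop f M) = 0 ↔ _
  rw [Submodule.Quotient.mk_eq_zero, Submodule.mem_smul_pointwise_iff_exists]
  constructor
  · rintro ⟨b, -, rfl⟩
    exact ⟨b, rfl⟩
  · rintro ⟨b, rfl⟩
    exact ⟨b, trivial, rfl⟩

theorem ker_quotMap (f : S) (N : Type*) [AddCommGroup N] [Module R N] :
    LinearMap.ker (quotMap (M := M) (R := R) f N) = f • (⊤ : Submodule S (M ⊗[R] N)) := by
  have h := rTensor_exact N (piR_exact (R := R) (M := M) f) (piR_surjective f)
  ext y
  rw [Submodule.mem_smul_pointwise_iff_exists, LinearMap.mem_ker, quotMap_eq, h y]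
  have hsm : ∀ z : M ⊗[R] N,
      ((LinearMap.lsmul S M f).restrictScalars R).rTensor N z = f • z := by
    intro z
    induction z using TensorProduct.induction_on with
    | zero => rw [map_zero, smul_zero]
    | tmul m n => rfl
    | add a b ha hb => rw [map_add, smul_add, ha, hb]
  constructor
  · rintro ⟨z, hz⟩
    exact ⟨z, trivial, by rw [← hz, hsm]⟩
  · rintro ⟨z, -, rfl⟩
    exact ⟨z, hsm z⟩

/-- `(M ⊗ N)/f ≃ (M/fM) ⊗ N`. -/
noncomputable def quotEquiv (f : S) (N : Type*) [AddCommGroup N] [Module R N] :
    QuotSMulTop f (M ⊗[R] N) ≃ₗ[S] (QuotSMulTop f M) ⊗[R] N :=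
  (Submodule.quotEquivOfEq _ _ (ker_quotMap (M := M) (R := R) f N).symm).trans
    (LinearMap.quotKerEquivOfSurjective _ (quotMap_surjective f N))

theorem flat_quotSMulTop [IsNoetherianRing R] [Module.Flat R M] (f : S)
    (h : ∀ I : Ideal R, IsSMulRegular (M ⊗[R] (R ⧸ I)) f) :
    Module.Flat R (QuotSMulTop f M) := by
  rw [Module.Flat.iff_lTensor_injective]
  intro I hI
  rw [injective_iff_map_eq_zero]
  intro t ht
  obtain ⟨t', rfl⟩ := quotMap_surjective (M := M) (R := R) f I t
  have h1 : quotMap (M := M) (R := R) f R ((I.subtype.lTensor M) t') = 0 := by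
    rw [← ht, quotMap_eq, quotMap_eq]
    rw [← LinearMap.comp_apply, ← LinearMap.comp_apply, LinearMap.rTensor_comp_lTensor,
      LinearMap.lTensor_comp_rTensor]
  have h2 : (I.subtype.lTensor M) t' ∈ f • (⊤ : Submodule S (M ⊗[R] R)) := by
    rw [← ker_quotMap]; exact h1
  obtain ⟨v, -, hv⟩ := (Submodule.mem_smul_pointwise_iff_exists _ _ _).1 h2
  have hex := lTensor_exact M (LinearMap.exact_subtype_mkQ I) (Submodule.mkQ_surjective I)
  have h3 : (I.mkQ.lTensor M) v = 0 := by
    apply h I
    change f • _ = f • _
    rw [smul_zero]
    have : f • (I.mkQ.lTensor M) v = (AlgebraTensorModule.lTensor S M I.mkQ) (f • v) := by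
      rw [map_smul]; rfl
    rw [this, hv]
    exact (hex _).2 ⟨t', rfl⟩
  obtain ⟨v', hv'⟩ := (hex v).1 h3
  have h4 : t' = f • v' := by
    apply Module.Flat.lTensor_preserves_injective_linearMap (M := M) _ I.subtype_injective
    have : (I.subtype.lTensor M) (f • v') = f • (I.subtype.lTensor M) v' := by
      change (AlgebraTensorModule.lTensor S M I.subtype) (f • v') = _
      rw [map_smul]; rfl
    rw [this, hv', hv]
  have h5 : t' ∈ LinearMap.ker (quotMap (M := M) (R := R) f I) := by
    rw [ker_quotMap, Submodule.mem_smul_pointwise_iff_exists]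
    exact ⟨v', trivial, h4.symm⟩
  exact h5

end Quot

section Lists

variable [IsNoetherianRing R] [IsNoetherianRing S] [IsLocalRing S]

/-- Stacks 00MF for sequences, in module form. -/
theorem isWeaklyRegular_tensor (p : Ideal R)
    (hp : (IsLocalRing.maximalIdeal S).comap (algebraMap R S) = p) (fs : List S) :
    ∀ (M : Type v) [AddCommGroup M] [Module R M] [Module S M] [IsScalarTower R S M]
      [Module.Finite S M] [Module.Flat R M], IsWeaklyRegular (M ⊗[R] (R ⧸ p)) fs →
      ∀ (N : Type u) [AddCommGroup N] [Module R N] [Module.Finite R N],
        IsWeaklyRegular (M ⊗[R] N) fs := by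
  induction fs with
  | nil => intro M _ _ _ _ _ _ _ N _ _ _; exact IsWeaklyRegular.nil _ _
  | cons f fs ih =>
    intro M _ _ _ _ _ _ h N _ _ _
    rw [isWeaklyRegular_cons_iff] at h ⊢
    have hreg : ∀ (N : Type u) [AddCommGroup N] [Module R N] [Module.Finite R N],
        IsSMulRegular (M ⊗[R] N) f := fun N _ _ _ =>
      isSMulRegular_tensor p hp f h.1 ⊥ N (fun a ha x => by rw [Ideal.mem_bot.1 ha, zero_smul])
    have : Module.Flat R (QuotSMulTop f M) := flat_quotSMulTop f fun I => hreg _
    refine ⟨hreg N, ?_⟩
    have h2 := (LinearEquiv.isWeaklyRegular_congr (quotEquiv (M := M) f (R ⧸ p)) fs).1 h.2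
    exact (LinearEquiv.isWeaklyRegular_congr (quotEquiv (M := M) f N) fs).2
      (ih (QuotSMulTop f M) h2 N)

end Lists

end Groth.Agent.LoccohB.FlatReg
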