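import Groth.Agent.LoccohB.FibreDim
import Groth.Agent.LoccohB.FlatReg
import Groth.Agent.Ega4A.RegCM
import Groth.Agent.Ega4B.DimFT
import Groth.Agent.Ega4B.DepthBasic
import Groth.Agent.S0322
import Mathlib.RingTheory.LocalRing.ResidueField.Fiber
import Mathlib.RingTheory.TensorProduct.Quotient
import Mathlib.RingTheory.TensorProduct.MvPolynomial
import Mathlib.RingTheory.Flat.Localization
import Mathlib.RingTheory.RegularLocalRing.Polynomial

/-!
Presentation `P = R[x_1..x_n] → A` and a prime `q` of `A` at which the fibre over `R` has local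
dimension `≤ d`: the kernel contains a sequence of length `≥ n - d` which is weakly regular on
`(P ⊗ N)_m` for every finite `R`-module `N`, for some prime `m ⊇ ψ⁻¹ q` of `P`.
-/

set_option autoImplicit false

universe u v

namespace Groth.Agent.LoccohB.FibreReg

open TensorProduct RingTheory.Sequence AlgebraicGeometry CategoryTheory Pointwise

/-- Multiplying the members of a weakly regular sequence by units. -/
theorem isWeaklyRegular_of_unit_mul {C : Type*} [CommRing C] (rs rs' : List C)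
    (h : List.Forall₂ (fun r r' => ∃ u : C, IsUnit u ∧ r' = r * u) rs rs') :
    ∀ (M : Type v) [AddCommGroup M] [Module C M], IsWeaklyRegular M rs → IsWeaklyRegular M rs' := by
  induction h with
  | nil => intro M _ _ _; exact IsWeaklyRegular.nil _ _
  | @cons r r' rs rs' hr _ ih =>
    intro M _ _ h
    obtain ⟨u, hu, rfl⟩ := hr
    rw [isWeaklyRegular_cons_iff] at h ⊢
    refine ⟨h.1.mul (hu.isSMulRegular M), ?_⟩
    have e : (r • (⊤ : Submodule C M)) = (r * u) • (⊤ : Submodule C M) := by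
      apply le_antisymm
      · intro x hx
        obtain ⟨y, -, rfl⟩ := (Submodule.mem_smul_pointwise_iff_exists _ _ _).1 hx
        obtain ⟨v, rfl⟩ := hu
        refine (Submodule.mem_smul_pointwise_iff_exists _ _ _).2 ⟨(↑v⁻¹ : C) • y, trivial, ?_⟩
        rw [smul_smul, mul_assoc, Units.mul_inv, mul_one]
      · intro x hx
        obtain ⟨y, -, rfl⟩ := (Submodule.mem_smul_pointwise_iff_exists _ _ _).1 hx
        exact (Submodule.mem_smul_pointwise_iff_exists _ _ _).2 ⟨u • y, trivial, by rw [smul_smul]⟩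
    exact (LinearEquiv.isWeaklyRegular_congr (Submodule.quotEquivOfEq _ _ e) rs').1 (ih _ h.2)

theorem cm_of_ringEquiv_mvPolynomial (k : Type u) [Field k] (n : ℕ) (F : Type u) [CommRing F]
    (e : F ≃+* MvPolynomial (Fin n) k) (m : Ideal F) [hm : m.IsMaximal] :
    LocCoh.IsCohenMacaulayLocalRing (Localization.AtPrime m) ∧
      ringKrullDim (Localization.AtPrime m) = n := by
  let m' : Ideal (MvPolynomial (Fin n) k) := m.comap e.symm
  have : m'.IsMaximal := Ideal.comap_isMaximal_of_equiv e.symm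
  have hreg : IsRegularLocalRing (Localization.AtPrime m') := inferInstance
  have h1 := Groth.Agent.Ega4A.RegCM.isCohenMacaulayLocalRing_of_isRegularLocalRing
    (Localization.AtPrime m')
  let e' : Localization.AtPrime m' ≃+* Localization.AtPrime m :=
    IsLocalization.ringEquivOfRingEquiv (Localization.AtPrime m') (Localization.AtPrime m)
      e.symm (e.symm.map_primeCompl_comap_eq m)
  refine ⟨Groth.Agent.CalgB.CMPoly.isCohenMacaulayLocalRing_of_ringEquiv e', ?_⟩
  rw [← ringKrullDim_eq_of_ringEquiv e', IsLocalization.AtPrime.ringKrullDim_eq_height m',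
    Groth.Agent.Ega4B.DimFT.height_eq_of_isMaximal_mvPolynomial_fin k n m']
  rfl

theorem exists_forall₂ {α β : Type*} (Q : α → β → Prop) (rs : List α)
    (h : ∀ r ∈ rs, ∃ f, Q r f) : ∃ fs : List β, List.Forall₂ Q rs fs := by
  induction rs with
  | nil => exact ⟨[], List.Forall₂.nil⟩
  | cons r rs ih =>
    obtain ⟨fs, hfs⟩ := ih fun r' hr' => h r' (List.mem_cons_of_mem _ hr')
    obtain ⟨f, hf⟩ := h r (List.mem_cons_self ..)
    exact ⟨f :: fs, List.Forall₂.cons hf hfs⟩

theorem forall₂_mem {α β : Type*} (Q : α → β → Prop) (rs : List α) (fs : List β)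
    (h : List.Forall₂ Q rs fs) : ∀ f ∈ fs, ∃ r, Q r f := by
  induction h with
  | nil => intro f hf; simp at hf
  | @cons r f rs fs h1 _ ih =>
    intro g hg
    rcases List.mem_cons.1 hg with rfl | hg
    · exact ⟨r, h1⟩
    · exact ih g hg

section Main

variable {R A : Type u} [CommRing R] [IsNoetherianRing R] [CommRing A] [Algebra R A]

/-- Elements of the closed fibre `D/pD` of a localization, up to units, come from below. -/
theorem exists_unit_mul_mem {P C : Type*} [CommRing P] [CommRing C] [Algebra P C] (m : Ideal P) [m.IsPrime]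
    (D : Type*) [CommRing D] [Algebra P D] [IsLocalization.AtPrime D m] [Algebra D C]
    [IsScalarTower P D C] (hDC : Function.Surjective (algebraMap D C)) (I : Ideal P)
    (r : C) (hr : r ∈ I.map (algebraMap P C)) :
    ∃ f ∈ I, ∃ u : C, IsUnit u ∧ algebraMap P C f = r * u := by
  rw [IsScalarTower.algebraMap_eq P D C, ← Ideal.map_map, Ideal.mem_map_iff_of_surjective _ hDC] at hr
  obtain ⟨r', hr', rfl⟩ := hr
  rw [IsLocalization.mem_map_algebraMap_iff m.primeCompl D] at hr'
  obtain ⟨⟨i, s⟩, hx⟩ := hr'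
  refine ⟨i, i.2, algebraMap P C s, ?_, ?_⟩
  · rw [IsScalarTower.algebraMap_apply P D C]
    exact (IsLocalization.map_units D s).map (algebraMap D C)
  · rw [IsScalarTower.algebraMap_apply P D C, IsScalarTower.algebraMap_apply P D C, ← map_mul, hx]

omit [IsNoetherianRing R] in
theorem ringKrullDim_le {P C : Type u} [CommRing P] [Algebra R P] (ψ : P →ₐ[R] A)
    (hψ : Function.Surjective ψ) [CommRing C] [Algebra P C] [Algebra R C] [IsScalarTower R P C]
    (p : PrimeSpectrum R)
    (mA : Ideal A) (d : ℕ)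
    (hdim : ∀ (Y : Type u) [Preorder Y] (g : Y → PrimeSpectrum A),
        (∀ y, PrimeSpectrum.comap (algebraMap R A) (g y) = p) →
        (∀ y, (g y).asIdeal ≤ mA) →
        StrictMono g → Order.krullDim Y ≤ d)
    (hker : ∀ f ∈ RingHom.ker ψ, algebraMap P C f = 0)
    (hunit : ∀ f : P, ψ f ∉ mA → IsUnit (algebraMap P C f))
    (hunit' : ∀ r : R, r ∉ p.asIdeal → IsUnit (algebraMap R C r))
    (hp : ∀ r : R, r ∈ p.asIdeal → algebraMap R C r = 0)
    (hfrac : ∀ c : C, ∃ s a : P, IsUnit (algebraMap P C s) ∧ c * algebraMap P C s = algebraMap P C a) :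
    ringKrullDim C ≤ d := by
  let θ : A →+* C := (Ideal.Quotient.lift (RingHom.ker ψ) (algebraMap P C) hker).comp
    (Ideal.quotientKerAlgEquivOfSurjective hψ).symm.toRingEquiv.toRingHom
  have hθ : ∀ f, θ (ψ f) = algebraMap P C f := by
    intro f
    have : (Ideal.quotientKerAlgEquivOfSurjective hψ).symm (ψ f) = Ideal.Quotient.mk _ f := by
      rw [AlgEquiv.symm_apply_eq]
      rfl
    change Ideal.Quotient.lift (RingHom.ker ψ) (algebraMap P C) hker
      ((Ideal.quotientKerAlgEquivOfSurjective hψ).symm (ψ f)) = _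
    rw [this, Ideal.Quotient.lift_mk]
  have hθR : ∀ r : R, θ (algebraMap R A r) = algebraMap R C r := by
    intro r
    rw [← ψ.commutes r, hθ, ← IsScalarTower.algebraMap_apply]
  refine hdim (PrimeSpectrum C) (PrimeSpectrum.comap θ) ?_ ?_ ?_
  · intro y
    ext r
    change θ (algebraMap R A r) ∈ y.asIdeal ↔ _
    rw [hθR]
    constructor
    · intro h
      by_contra hr
      exact y.2.ne_top (Ideal.eq_top_of_isUnit_mem _ h (hunit' r hr))
    · intro h
      rw [hp r h]
      exact y.asIdeal.zero_mem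
  · intro y a ha
    obtain ⟨f, rfl⟩ := hψ a
    change θ (ψ f) ∈ y.asIdeal at ha
    rw [hθ] at ha
    by_contra hf
    exact y.2.ne_top (Ideal.eq_top_of_isUnit_mem _ ha (hunit f hf))
  · intro y y' hyy'
    rw [lt_iff_le_not_ge] at hyy' ⊢
    refine ⟨fun a ha => hyy'.1 ha, fun h => hyy'.2 ?_⟩
    intro c hc
    obtain ⟨s, a, hs, hsa⟩ := hfrac c
    have h1 : ψ a ∈ (PrimeSpectrum.comap θ y').asIdeal := by
      change θ (ψ a) ∈ y'.asIdeal
      rw [hθ, ← hsa]
      exact Ideal.mul_mem_right _ _ hc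
    have h2 : θ (ψ a) ∈ y.asIdeal := h h1
    rw [hθ, ← hsa] at h2
    exact (y.2.mem_or_mem h2).resolve_right
      fun h3 => y.2.ne_top (Ideal.eq_top_of_isUnit_mem _ h3 hs)

/-- The map induced on fibre rings. -/
noncomputable def fibreMap {P : Type u} [CommRing P] [Algebra R P]
    (ψ : P →ₐ[R] A) (p : PrimeSpectrum R) :
    p.asIdeal.Fiber P →ₐ[p.asIdeal.ResidueField] p.asIdeal.Fiber A :=
  Algebra.TensorProduct.map (AlgHom.id _ _) ψ

omit [IsNoetherianRing R] in
theorem fibreMap_surjective {P : Type u} [CommRing P] [Algebra R P]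
    (ψ : P →ₐ[R] A) (hψ : Function.Surjective ψ) (p : PrimeSpectrum R) :
    Function.Surjective (fibreMap ψ p) := by
  intro y
  induction y using TensorProduct.induction_on with
  | zero => exact ⟨0, map_zero _⟩
  | tmul a b =>
    obtain ⟨b', rfl⟩ := hψ b
    exact ⟨a ⊗ₜ b', by simp [fibreMap]⟩
  | add a b ha hb =>
    obtain ⟨a', rfl⟩ := ha
    obtain ⟨b', rfl⟩ := hb
    exact ⟨a' + b', map_add _ _ _⟩

omit [IsNoetherianRing R] in
theorem exists_maximal' {P : Type u} [CommRing P] [Algebra R P]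
    (ψ : P →ₐ[R] A) (hψ : Function.Surjective ψ)
    [Algebra.FiniteType R A]
    (q : PrimeSpectrum A) (d : ℕ)
    (hd : FlatMor.fibreDimAt (Spec.map (CommRingCat.ofHom (algebraMap R A))) q ≤ d)
    (p : PrimeSpectrum R) (hp : PrimeSpectrum.comap (algebraMap R A) q = p) :
    ∃ (𝔪 : Ideal (p.asIdeal.Fiber P)) (_ : 𝔪.IsMaximal) (mA : Ideal A) (_ : mA.IsPrime),
      𝔪.comap (Algebra.TensorProduct.includeRight : P →ₐ[R] p.asIdeal.Fiber P) = mA.comap ψ ∧
      q.asIdeal ≤ mA ∧
      ∀ (Y : Type u) [Preorder Y] (g : Y → PrimeSpectrum A),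
        (∀ y, PrimeSpectrum.comap (algebraMap R A) (g y) = p) →
        (∀ y, (g y).asIdeal ≤ mA) →
        StrictMono g → Order.krullDim Y ≤ d := by
  obtain ⟨mA, hmA, hq, hdim⟩ := FibreDim.exists_maximal.{u, u} q p hp d hd
  refine ⟨mA.asIdeal.comap (fibreMap ψ p), Ideal.comap_isMaximal_of_surjective (fibreMap ψ p)
    (fibreMap_surjective ψ hψ p),
    mA.asIdeal.comap (Algebra.TensorProduct.includeRight : A →ₐ[R] p.asIdeal.Fiber A),
    inferInstance, ?_, hq, hdim⟩
  ext x
  change fibreMap ψ p (1 ⊗ₜ x) ∈ mA.asIdeal ↔ (1 ⊗ₜ (ψ x) : p.asIdeal.Fiber A) ∈ mA.asIdeal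
  have : fibreMap ψ p (1 ⊗ₜ x) = (1 ⊗ₜ (ψ x) : p.asIdeal.Fiber A) := by
    simp [fibreMap]
  rw [this]

theorem exists_seq_aux {P : Type u} [CommRing P] [IsNoetherianRing P] [Algebra R P]
    [Module.Flat R P] (n : ℕ)
    (ψ : P →ₐ[R] A) (hψ : Function.Surjective ψ)
    [Algebra.FiniteType R A]
    (q : PrimeSpectrum A) (d : ℕ)
    (hd : FlatMor.fibreDimAt (Spec.map (CommRingCat.ofHom (algebraMap R A))) q ≤ d)
    (p : PrimeSpectrum R) (hp : PrimeSpectrum.comap (algebraMap R A) q = p)
    (hCM : ∀ (𝔪 : Ideal (p.asIdeal.Fiber P)) [𝔪.IsMaximal],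
      LocCoh.IsCohenMacaulayLocalRing (Localization.AtPrime 𝔪) ∧
      ringKrullDim (Localization.AtPrime 𝔪) = n) :
    ∃ (m : Ideal P) (_ : m.IsPrime) (fs : List P),
      q.asIdeal.comap ψ ≤ m ∧ (∀ f ∈ fs, ψ f = 0) ∧ n ≤ fs.length + d ∧
      ∀ (N : Type u) [AddCommGroup N] [Module R N] [Module.Finite R N],
        IsWeaklyRegular ((Localization.AtPrime m) ⊗[P] (P ⊗[R] N)) fs := by
  obtain ⟨𝔪, h𝔪, mA, hmA, h𝔪A, hqm, hdim⟩ := exists_maximal' ψ hψ q d hd p hp
  obtain ⟨hCM1, hdim1⟩ := hCM 𝔪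
  let m : Ideal P := 𝔪.comap (Algebra.TensorProduct.includeRight : P →ₐ[R] p.asIdeal.Fiber P)
  have hmprime : m.IsPrime := inferInstance
  have hmA' : m = mA.comap ψ := h𝔪A
  let D := Localization.AtPrime m
  let pS : Ideal P := p.asIdeal.map (algebraMap R P)
  let C := D ⧸ pS.map (algebraMap P D)
  let e : Localization.AtPrime 𝔪 ≃ₐ[R] C := Ideal.Fiber.algEquivAux₂ p.asIdeal 𝔪
  have hCMC : LocCoh.IsCohenMacaulayLocalRing C :=
    Groth.Agent.CalgB.CMPoly.isCohenMacaulayLocalRing_of_ringEquiv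
      (R := Localization.AtPrime 𝔪) (S := C) e.toRingEquiv
  have hdimC : ringKrullDim C = n := by
    rw [← ringKrullDim_eq_of_ringEquiv e.toRingEquiv, hdim1]
  have hmR : m.comap (algebraMap R P) = p.asIdeal := by
    have h1 : p.asIdeal = 𝔪.under R := Ideal.over_def 𝔪 p.asIdeal
    rw [h1]
    ext r
    change (Algebra.TensorProduct.includeRight : P →ₐ[R] p.asIdeal.Fiber P) (algebraMap R P r) ∈ 𝔪 ↔
      algebraMap R (p.asIdeal.Fiber P) r ∈ 𝔪
    rw [AlgHom.commutes]
  -- units
  have hunitP : ∀ s : P, s ∉ m → IsUnit (algebraMap P C s) := by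
    intro s hs
    rw [IsScalarTower.algebraMap_apply P D C]
    exact (IsLocalization.map_units D (⟨s, hs⟩ : m.primeCompl)).map (algebraMap D C)
  have hDC : Function.Surjective (algebraMap D C) := Ideal.Quotient.mk_surjective
  let I : Ideal P := RingHom.ker ψ
  have hIm : I ≤ m := by
    intro f hf
    rw [hmA']
    change ψ f ∈ mA
    rw [show ψ f = 0 from hf]
    exact mA.zero_mem
  have hJmax : I.map (algebraMap P C) ≤ IsLocalRing.maximalIdeal C := by
    rw [Ideal.map_le_iff_le_comap]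
    intro f hf
    change algebraMap P C f ∈ IsLocalRing.maximalIdeal C
    rw [IsScalarTower.algebraMap_apply P D C]
    have h1 : algebraMap P D f ∈ IsLocalRing.maximalIdeal D :=
      (IsLocalization.AtPrime.to_map_mem_maximal_iff D m f).2 (hIm hf)
    have h2 : IsLocalHom (algebraMap D C) := IsLocalHom.of_surjective _ hDC
    rw [IsLocalRing.mem_maximalIdeal, mem_nonunits_iff] at h1 ⊢
    exact fun h3 => h1 (h2.map_nonunit _ h3)
  have hJ : I.map (algebraMap P C) ≠ ⊤ :=
    fun h => (Ideal.IsPrime.ne_top (inferInstance : (IsLocalRing.maximalIdeal C).IsPrime))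
      (top_le_iff.1 (h ▸ hJmax))
  -- the dimension of `C / J`
  have hpC : ∀ r : R, r ∈ p.asIdeal → algebraMap R C r = 0 := by
    intro r hr
    rw [IsScalarTower.algebraMap_apply R P C, IsScalarTower.algebraMap_apply P D C]
    exact Ideal.Quotient.eq_zero_iff_mem.2
      (Ideal.mem_map_of_mem _ (Ideal.mem_map_of_mem _ hr))
  have hdimJ : ringKrullDim (C ⧸ I.map (algebraMap P C)) ≤ d := by
    refine ringKrullDim_le (C := C ⧸ I.map (algebraMap P C)) ψ hψ p mA d hdim ?_ ?_ ?_ ?_ ?_
    · intro f hf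
      rw [IsScalarTower.algebraMap_apply P C (C ⧸ I.map (algebraMap P C))]
      exact Ideal.Quotient.eq_zero_iff_mem.2 (Ideal.mem_map_of_mem _ hf)
    · intro f hf
      rw [IsScalarTower.algebraMap_apply P C (C ⧸ I.map (algebraMap P C))]
      exact (hunitP f (by rw [hmA']; exact hf)).map _
    · intro r hr
      rw [IsScalarTower.algebraMap_apply R P (C ⧸ I.map (algebraMap P C)),
        IsScalarTower.algebraMap_apply P C (C ⧸ I.map (algebraMap P C))]
      exact (hunitP _ (fun h => hr (by rw [← hmR]; exact h))).map _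
    · intro r hr
      rw [IsScalarTower.algebraMap_apply R C (C ⧸ I.map (algebraMap P C)), hpC r hr, map_zero]
    · intro c
      obtain ⟨c, rfl⟩ := Ideal.Quotient.mk_surjective c
      obtain ⟨c, rfl⟩ := hDC c
      obtain ⟨⟨a, s⟩, hs⟩ := IsLocalization.surj m.primeCompl c
      refine ⟨s, a, ?_, ?_⟩
      · rw [IsScalarTower.algebraMap_apply P C (C ⧸ I.map (algebraMap P C))]
        exact (hunitP s s.2).map _
      · rw [IsScalarTower.algebraMap_apply P C (C ⧸ I.map (algebraMap P C)),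
          IsScalarTower.algebraMap_apply P C (C ⧸ I.map (algebraMap P C)),
          IsScalarTower.algebraMap_apply P D C, IsScalarTower.algebraMap_apply P D C, ← hs,
          map_mul, map_mul]
        rfl
  -- depth
  have hdepth : ((n - d : ℕ) : ℕ∞) ≤ LocCoh.idealDepth (I.map (algebraMap P C)) C := by
    have h1 := Groth.Agent.S0322.result C (I.map (algebraMap P C)) hJ C
      LocCoh.IsCohenMacaulayLocalRing.supportDim_eq_depth
    rw [Module.supportDim_self_eq_ringKrullDim, hdimC] at h1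
    have h2 : Module.supportDim C (C ⧸ (I.map (algebraMap P C) • (⊤ : Submodule C C))) ≤ d := by
      rw [smul_eq_mul, Ideal.mul_top, Module.supportDim_quotient_eq_ringKrullDim]
      exact hdimJ
    have h3 : ((n : ℕ) : WithBot ℕ∞) ≤ (d : WithBot ℕ∞) +
        ((LocCoh.idealDepth (I.map (algebraMap P C)) C : ℕ∞) : WithBot ℕ∞) := by
      rw [h1]
      exact add_le_add_left h2 _
    generalize LocCoh.idealDepth (I.map (algebraMap P C)) C = δ at h3 ⊢
    have h4 : (n : ℕ∞) ≤ d + δ := by exact_mod_cast h3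
    rcases eq_or_ne δ ⊤ with rfl | hδ
    · exact le_top
    · lift δ to ℕ using hδ
      have h5 : n ≤ d + δ := by exact_mod_cast h4
      have : n - d ≤ δ := by omega
      exact_mod_cast this
  have hne : I.map (algebraMap P C) • (⊤ : Submodule C C) ≠ ⊤ := by
    rwa [smul_eq_mul, Ideal.mul_top]
  obtain ⟨rs, hlen, hrsJ, hreg⟩ :=
    (Groth.Agent.Ega4B.DepthBasic.natCast_le_idealDepth_iff hne (n - d)).1 hdepth
  obtain ⟨fs, hfs⟩ := exists_forall₂ (fun (r : C) (f : P) => f ∈ I ∧ ∃ u : C, IsUnit u ∧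
    algebraMap P C f = r * u) rs (fun r hr => by
      obtain ⟨f, hf, u, hu, h⟩ := exists_unit_mul_mem m D hDC I r (hrsJ r hr)
      exact ⟨f, hf, u, hu, h⟩)
  refine ⟨m, hmprime, fs, ?_, ?_, ?_, ?_⟩
  · rw [hmA']
    exact Ideal.comap_mono hqm
  · intro f hf
    obtain ⟨r, hr, -⟩ := forall₂_mem _ rs fs hfs f hf
    exact hr
  · rw [← hfs.length_eq, hlen]
    omega
  · -- regular on `C`
    have h1 : IsWeaklyRegular C (fs.map (algebraMap P C)) := by
      refine isWeaklyRegular_of_unit_mul rs (fs.map (algebraMap P C)) ?_ C hreg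
      rw [List.forall₂_map_right_iff]
      exact hfs.imp fun r f h => h.2
    have h2 : IsWeaklyRegular C fs := (isWeaklyRegular_map_algebraMap_iff C C fs).1 h1
    have h3 : IsWeaklyRegular C (fs.map (algebraMap P D)) :=
      (isWeaklyRegular_map_algebraMap_iff D C fs).2 h2
    have hflat : Module.Flat R D := Module.Flat.trans R P D
    have e2 : C ≃ₗ[D] D ⊗[R] (R ⧸ p.asIdeal) :=
      (Submodule.quotEquivOfEq _ _ (by
        rw [Ideal.map_map, ← IsScalarTower.algebraMap_eq])).trans
        (Algebra.TensorProduct.quotIdealMapEquivTensorQuot D p.asIdeal).toLinearEquiv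
    have h4 : IsWeaklyRegular (D ⊗[R] (R ⧸ p.asIdeal)) (fs.map (algebraMap P D)) :=
      (LinearEquiv.isWeaklyRegular_congr e2 _).1 h3
    have hpD : (IsLocalRing.maximalIdeal D).comap (algebraMap R D) = p.asIdeal := by
      have h7 : (IsLocalRing.maximalIdeal D).comap (algebraMap P D) = m :=
        IsLocalization.AtPrime.under_maximalIdeal D m
      rw [IsScalarTower.algebraMap_eq R P D, ← Ideal.comap_comap, h7, hmR]
    intro N _ _ _
    have h5 := Groth.Agent.LoccohB.FlatReg.isWeaklyRegular_tensor p.asIdeal hpD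
      (fs.map (algebraMap P D)) D h4 N
    have h6 : IsWeaklyRegular (D ⊗[R] N) fs :=
      (isWeaklyRegular_map_algebraMap_iff D (D ⊗[R] N) fs).1 h5
    let e3 : D ⊗[P] (P ⊗[R] N) ≃ₗ[P] D ⊗[R] N :=
      (AlgebraTensorModule.cancelBaseChange R P D D N).restrictScalars P
    exact (LinearEquiv.isWeaklyRegular_congr e3 fs).2 h6

theorem exists_seq (n : ℕ) (ψ : MvPolynomial (Fin n) R →ₐ[R] A) (hψ : Function.Surjective ψ)
    (q : PrimeSpectrum A) (d : ℕ)
    (hd : FlatMor.fibreDimAt (Spec.map (CommRingCat.ofHom (algebraMap R A))) q ≤ d) :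
    ∃ (m : Ideal (MvPolynomial (Fin n) R)) (_ : m.IsPrime) (fs : List (MvPolynomial (Fin n) R)),
      q.asIdeal.comap ψ ≤ m ∧ (∀ f ∈ fs, ψ f = 0) ∧ n ≤ fs.length + d ∧
      ∀ (N : Type u) [AddCommGroup N] [Module R N] [Module.Finite R N],
        IsWeaklyRegular ((Localization.AtPrime m) ⊗[MvPolynomial (Fin n) R]
          ((MvPolynomial (Fin n) R) ⊗[R] N)) fs := by
  have : Algebra.FiniteType R A := Algebra.FiniteType.of_surjective ψ hψ
  refine exists_seq_aux n ψ hψ q d hd _ rfl ?_
  intro 𝔪 h𝔪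
  exact cm_of_ringEquiv_mvPolynomial
    (PrimeSpectrum.comap (algebraMap R A) q).asIdeal.ResidueField n _
    (MvPolynomial.algebraTensorAlgEquiv R
      (PrimeSpectrum.comap (algebraMap R A) q).asIdeal.ResidueField).toRingEquiv 𝔪

end Main

end Groth.Agent.LoccohB.FibreReg
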