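import Groth.Agent.Localalg.DGor
import Mathlib.Algebra.Category.ModuleCat.Injective
import Mathlib.Algebra.Category.ModuleCat.Semi
import Mathlib.RingTheory.SimpleModule.InjectiveProjective
import Mathlib.CategoryTheory.Abelian.Injective.Dimension

/-!
# A field placed in degree 0 is a dualizing complex over itself
-/

set_option autoImplicit false
universe u

open CategoryTheory

attribute [local instance] HasDerivedCategory.standard

namespace Groth.Agent.LoccohB.FieldDual

/-- `k[0]` is dualizing for a field `k`. -/
theorem isDualizing_field (k : Type u) [Field k] : Dual.IsDualizing k (Dual.inD k k) := by
  have h1 : Module.Injective k k := Module.injective_of_isSemisimpleRing k k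
  have h2 : Injective (ModuleCat.of k k) := Module.injective_object_of_injective_module k k
  exact Localalg.DGor.isDualizing_self k 1 inferInstance

end Groth.Agent.LoccohB.FieldDual
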