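import Groth.Agent.LoccohB.FrameExt
import Groth.Prelude.Def_FlatMod2

/-!
# Finite locally free modules have frames
-/

set_option autoImplicit false
universe u

open CategoryTheory AlgebraicGeometry TopologicalSpace Opposite CategoryTheory.Limits
open Groth.Agent.LoccohB.GlueHom Groth.Agent.LoccohB.FrameExt

namespace Groth.Agent.LoccohB.FinLocFreeFrame

variable {X : Scheme.{u}}

/-- The frame of the structure sheaf given by `1`. -/
noncomputable def one (X : Scheme.{u}) (V : X.Opens) : Γ(Coh.structureModule X, V) :=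
  (1 : Γ(X, V))

lemma smul_one (V : X.Opens) (c : Γ(X, V)) : c • one X V = (c : Γ(X, V)) := mul_one c

lemma res_one {V V' : X.Opens} (h : V' ≤ V) : res (Coh.structureModule X) h (one X V) = one X V' :=
  map_one (resO h)

/-- Projections from a finite free module. -/
noncomputable def proj (X : Scheme.{u}) (n : ℕ) (k : Fin n) :
    FlatMod.freeMod X n ⟶ Coh.structureModule X :=
  Sigma.desc (fun j => if j = k then 𝟙 _ else 0)

lemma ι_proj (X : Scheme.{u}) (n : ℕ) (j k : Fin n) :
    Sigma.ι (fun _ : Fin n => Coh.structureModule X) j ≫ proj X n k = if j = k then 𝟙 _ else 0 := by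
  simp [proj]

lemma sum_proj (X : Scheme.{u}) (n : ℕ) :
    ∑ k, proj X n k ≫ Sigma.ι (fun _ : Fin n => Coh.structureModule X) k = 𝟙 _ := by
  apply Sigma.hom_ext
  intro j
  rw [Preadditive.comp_sum, Category.comp_id]
  rw [Finset.sum_eq_single j]
  · rw [← Category.assoc, ι_proj, if_pos rfl, Category.id_comp]
  · intro k _ hk
    rw [← Category.assoc, ι_proj, if_neg (Ne.symm hk), zero_comp]
  · simp

lemma app_sum {M N : X.Modules} {ι : Type*} (s : Finset ι) (φ : ι → (M ⟶ N)) (V : X.Opens)
    (m : Γ(M, V)) : (∑ i ∈ s, φ i).app V m = ∑ i ∈ s, (φ i).app V m := by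
  classical
  induction s using Finset.induction_on with
  | empty => simp
  | insert a s ha ih =>
    rw [Finset.sum_insert ha, Finset.sum_insert ha, Scheme.Modules.Hom.add_app, ← ih]
    rfl

/-- The standard frame of a finite free module. -/
noncomputable def frameFree (X : Scheme.{u}) (n : ℕ) : Frame (FlatMod.freeMod X n) ⊤ n where
  e k := (Sigma.ι (fun _ : Fin n => Coh.structureModule X) k).app ⊤ (one X ⊤)
  bij V h := by
    have h1 : ∀ (k : Fin n) (c : Γ(X, V)), c • res (FlatMod.freeMod X n) h
        ((Sigma.ι (fun _ : Fin n => Coh.structureModule X) k).app ⊤ (one X ⊤)) =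
        (Sigma.ι (fun _ : Fin n => Coh.structureModule X) k).app V (show Γ(Coh.structureModule X, V) from c) := by
      intro k c
      rw [← app_res, res_one, ← Scheme.Modules.Hom.app_smul, smul_one]
    have h2 : ∀ (k : Fin n) (c : Fin n → Γ(X, V)),
        (proj X n k).app V (∑ j, c j • res (FlatMod.freeMod X n) h
        ((Sigma.ι (fun _ : Fin n => Coh.structureModule X) j).app ⊤ (one X ⊤))) = c k := by
      intro k c
      rw [map_sum]
      rw [Finset.sum_eq_single k]
      · rw [h1, ← ConcreteCategory.comp_apply, ← Scheme.Modules.Hom.comp_app, ι_proj, if_pos rfl]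
        rfl
      · intro j _ hj
        rw [h1, ← ConcreteCategory.comp_apply, ← Scheme.Modules.Hom.comp_app, ι_proj, if_neg hj]
        rfl
      · simp
    constructor
    · intro c c' hc
      funext k
      rw [← h2 k c, ← h2 k c']
      exact congrArg _ hc
    · intro s
      refine ⟨fun k => (proj X n k).app V s, ?_⟩
      change ∑ k, _ = s
      conv_rhs => rw [← show (𝟙 (FlatMod.freeMod X n) : _).app V s = s from rfl, ← sum_proj, app_sum]
      refine Finset.sum_congr rfl fun k _ => ?_
      rw [h1]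
      rfl

/-- Transport of a frame along an isomorphism. -/
noncomputable def frameOfIso {F G : X.Modules} {W : X.Opens} {n : ℕ} (fr : Frame F W n) (α : F ≅ G) :
    Frame G W n where
  e k := α.hom.app W (fr.e k)
  bij V h := by
    have h1 : (fun c : Fin n → Γ(X, V) => ∑ k, c k • res G h (α.hom.app W (fr.e k))) =
        α.hom.app V ∘ (fun c : Fin n → Γ(X, V) => ∑ k, c k • res F h (fr.e k)) := by
      funext c
      simp only [Function.comp_apply, map_sum, Scheme.Modules.Hom.app_smul, app_res]
    rw [h1]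
    refine Function.Bijective.comp ?_ (fr.bij V h)
    exact (ConcreteCategory.bijective_of_isIso (α.hom.app V))

lemma restrict_smul (F : X.Modules) (U : X.Opens) (V' : U.toScheme.Opens) (c : Γ(U.toScheme, V'))
    (s : Γ(F.restrict U.ι, V')) :
    c • s = ((show Γ(X, U.ι ''ᵁ V') from c) • (show Γ(F, U.ι ''ᵁ V') from s) : Γ(F, U.ι ''ᵁ V')) := by
  have h1 : c • s = (((U.ι.appIso V').inv c) • (show Γ(F, U.ι ''ᵁ V') from s) : Γ(F, U.ι ''ᵁ V')) := rfl
  rw [h1, Scheme.Opens.ι_appIso]
  rfl

/-- A frame of the restriction gives a frame. -/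
lemma exists_frame_of_restrict (F : X.Modules) (U : X.Opens) (n : ℕ)
    (fr : Frame (F.restrict U.ι) ⊤ n) : Nonempty (Frame F U n) := by
  have hU : U ≤ U.ι ''ᵁ ⊤ := by simp
  refine ⟨⟨fun k => res F hU (fr.e k), fun V hV => ?_⟩⟩
  obtain ⟨V', rfl⟩ : ∃ V' : U.toScheme.Opens, V = U.ι ''ᵁ V' :=
    ⟨U.ι ⁻¹ᵁ V, by rw [Scheme.Hom.image_preimage_eq_opensRange_inf]; simpa using hV⟩
  have := fr.bij V' le_top
  simp only [res_res]
  simp only [restrict_smul] at this
  exact this

theorem exists_frame {F : X.Modules} (hF : FlatMod.IsFinLocFree F) (x : X) :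
    ∃ (U : X.Opens) (n : ℕ), x ∈ U ∧ Nonempty (Frame F U n) := by
  obtain ⟨U, n, hx, ⟨α⟩⟩ := hF x
  exact ⟨U, n, hx, exists_frame_of_restrict F U n (frameOfIso (frameFree _ n) α.symm)⟩

end Groth.Agent.LoccohB.FinLocFreeFrame
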