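import Groth.Agent.Localalg.DepthLC
import Mathlib.Algebra.Category.ModuleCat.Ext.Finite

/-!
# Finiteness of `H^1_I(N)` for `N` embedded in a module of `I`-depth at least two
-/

set_option autoImplicit false
universe u

open CategoryTheory Limits Opposite
open Groth.Agent.Localalg.Depth Groth.Agent.Localalg.DepthLC

namespace Groth.Agent.LoccohB.FiniteH1

variable {R : Type u} [CommRing R]

/-- The projection `R/I^m → R/I^k`. -/
noncomputable abbrev pr (I : Ideal R) {k m : ℕ} (h : k ≤ m) :
    ModuleCat.of R (R ⧸ I ^ m) ⟶ ModuleCat.of R (R ⧸ I ^ k) :=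
  ModuleCat.ofHom (Submodule.mapQ (I ^ m) (I ^ k) LinearMap.id (Ideal.pow_le_pow_right h))

lemma exists_stable [IsNoetherianRing R] (I : Ideal R) (C : Type u) [AddCommGroup C] [Module R C]
    [Module.Finite R C] : ∃ c : ℕ, ∀ k (x : C), (∀ a ∈ I ^ k, a • x = 0) → ∀ a ∈ I ^ c, a • x = 0 := by
  let T : ℕ →o Submodule R C :=
    { toFun := fun k => Submodule.torsionBySet R C (I ^ k : Ideal R)
      monotone' := fun k m h =>
        Submodule.torsionBySet_le_torsionBySet_of_subset (Ideal.pow_le_pow_right h) }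
  obtain ⟨c, hc⟩ := monotone_stabilizes_iff_noetherian.mpr (inferInstance : IsNoetherian R C) T
  refine ⟨c, fun k x hx a ha => ?_⟩
  have h1 : x ∈ T k := by
    change x ∈ Submodule.torsionBySet R C (I ^ k : Ideal R)
    rw [Submodule.mem_torsionBySet_iff]
    exact fun a => hx a a.2
  have h2 : x ∈ T c := by
    rcases le_total c k with h | h
    · rw [hc k h]; exact h1
    · exact T.monotone h h1
  change x ∈ Submodule.torsionBySet R C (I ^ c : Ideal R) at h2
  rw [Submodule.mem_torsionBySet_iff] at h2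
  exact h2 ⟨a, ha⟩

/-- If `N` embeds in a finite module of `I`-depth at least two then `H^1_I(N)` is finite. -/
theorem finite_H_one [IsNoetherianRing R] (I : Ideal R) (N N' : Type u) [AddCommGroup N]
    [Module R N] [Module.Finite R N] [AddCommGroup N'] [Module R N'] [Module.Finite R N']
    (f : N →ₗ[R] N') (hf : Function.Injective f) (h : (1 : ℕ∞) < LocCoh.idealDepth I N') :
    Module.Finite R (LocCoh.H I 1 N) := by
  let C := N' ⧸ LinearMap.range f
  let g : N' →ₗ[R] C := (LinearMap.range f).mkQ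
  have hg : Function.Surjective g := Submodule.mkQ_surjective _
  have hfg : Function.Exact f g := LinearMap.exact_map_mkQ_range f
  have hS := shortExact_of_exact f g hf hg hfg
  obtain ⟨c, hc⟩ := exists_stable I C
  -- every class at stage `k ≥ c` comes from stage `c`
  have key : ∀ (k : ℕ) (hk : c ≤ k)
      (x : Abelian.Ext (ModuleCat.of R (R ⧸ I ^ k)) (ModuleCat.of R N) 1),
      ∃ x' : Abelian.Ext (ModuleCat.of R (R ⧸ I ^ c)) (ModuleCat.of R N) 1,
        (Abelian.Ext.mk₀ (pr I hk)).comp x' (zero_add 1) = x := by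
    intro k hk x
    have hss : Subsingleton (Abelian.Ext (ModuleCat.of R (R ⧸ I ^ k)) (ModuleCat.of R N') 1) :=
      ext_subsingleton_of_lt_idealDepth I _ (support_quotient_pow I k) N' 1 h
    obtain ⟨y, hy⟩ := Abelian.Ext.covariant_sequence_exact₁ (X := ModuleCat.of R (R ⧸ I ^ k)) hS x
      (hss.elim _ _) (n₀ := 0) rfl
    obtain ⟨φ, rfl⟩ := (Abelian.Ext.mk₀_bijective _ _).2 y
    -- factor `φ` through `R/I^c`
    have hφ : ∀ a ∈ I ^ c, a • φ.hom (Submodule.mkQ _ (1 : R)) = 0 := by
      refine hc k _ (fun a ha => ?_)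
      rw [← map_smul, ← map_smul, smul_eq_mul, mul_one]
      have : (Submodule.mkQ (I ^ k)) a = 0 := by
        rw [Submodule.mkQ_apply, Submodule.Quotient.mk_eq_zero]; exact ha
      rw [this, map_zero]
    let ψ : (R ⧸ I ^ c) →ₗ[R] C :=
      Submodule.liftQ (I ^ c) (LinearMap.toSpanSingleton R C (φ.hom (Submodule.mkQ _ (1 : R))))
        (fun a ha => by
          rw [LinearMap.mem_ker, LinearMap.toSpanSingleton_apply]
          exact hφ a ha)
    have hψ : φ = pr I hk ≫ ModuleCat.ofHom ψ := by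
      apply ModuleCat.hom_ext
      apply LinearMap.ext
      intro b
      obtain ⟨a, rfl⟩ := Submodule.mkQ_surjective _ b
      change φ.hom (Submodule.mkQ _ a) = a • φ.hom (Submodule.mkQ _ (1 : R))
      rw [← map_smul, ← map_smul, smul_eq_mul, mul_one]
    refine ⟨(Abelian.Ext.mk₀ (ModuleCat.ofHom ψ)).comp hS.extClass (zero_add 1), ?_⟩
    rw [← hy, hψ, ← Abelian.Ext.mk₀_comp_mk₀]
    exact (Abelian.Ext.comp_assoc_of_second_deg_zero _ _ _ _).symm
  let F := dia I 1 (ModuleCat.of R N)
  have hpres : PreservesFilteredColimitsOfSize.{0, 0} (forget (ModuleCat.{u} R)) :=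
    preservesSmallestFilteredColimits_of_preservesFilteredColimits.{u, u} _
  have hpres' : PreservesColimitsOfShape (ℕᵒᵖ)ᵒᵖ (forget (ModuleCat.{u} R)) :=
    PreservesFilteredColimitsOfSize.preserves_filtered_colimits _
  have hsurj : Function.Surjective (colimit.ι F (op (op c))) := by
    intro z
    obtain ⟨⟨⟨k₀⟩⟩, y₀, rfl⟩ := Concrete.colimit_exists_rep F z
    set k := max k₀ c with hk
    let t : (op (op k₀) : (ℕᵒᵖ)ᵒᵖ) ⟶ op (op k) := (homOfLE (le_max_left k₀ c)).op.op
    have h1 : colimit.ι F (op (op k)) (F.map t y₀) = colimit.ι F (op (op k₀)) y₀ :=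
      ConcreteCategory.congr_hom (colimit.w F t) y₀
    let y := F.map t y₀
    let x := Localalg.OldExt.extEquiv (R := R) (ModuleCat.of R (R ⧸ (I ^ k))) (ModuleCat.of R N) 1 y
    obtain ⟨x', hx'⟩ := key k (le_max_right _ _) x
    let y' : F.obj (op (op c)) := (Localalg.OldExt.extEquiv (R := R) (ModuleCat.of R (R ⧸ (I ^ c)))
      (ModuleCat.of R N) 1).symm x'
    refine ⟨y', ?_⟩
    have h3 := Localalg.OldExt.extEquiv_naturality_left (R := R) (pr I (le_max_right k₀ c))
      (ModuleCat.of R N) 1 y'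
    have h4 : Localalg.OldExt.extEquiv (R := R) (ModuleCat.of R (R ⧸ (I ^ c))) (ModuleCat.of R N) 1 y'
      = x' := LinearEquiv.apply_symm_apply _ _
    rw [h4, hx'] at h3
    have h5 : (((Ext R (ModuleCat.{u} R) 1).map (pr I (le_max_right k₀ c)).op).app
        (ModuleCat.of R N)).hom y' = y :=
      (Localalg.OldExt.extEquiv (R := R) (ModuleCat.of R (R ⧸ (I ^ k))) (ModuleCat.of R N) 1).injective h3
    let t' : (op (op c) : (ℕᵒᵖ)ᵒᵖ) ⟶ op (op k) := (homOfLE (le_max_right k₀ c)).op.op
    have h6 : colimit.ι F (op (op k)) (F.map t' y') = colimit.ι F (op (op c)) y' :=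
      ConcreteCategory.congr_hom (colimit.w F t') y'
    rw [← h6, ← h1]
    congr 1
  have hfin : Module.Finite R (F.obj (op (op c))) :=
    Module.Finite.equiv (Localalg.OldExt.extEquiv (R := R) (ModuleCat.of R (R ⧸ (I ^ c)))
      (ModuleCat.of R N) 1).symm
  have hfin2 : Module.Finite R (colimit F : ModuleCat.{u} R) :=
    Module.Finite.of_surjective (colimit.ι F (op (op c))).hom hsurj
  exact Module.Finite.equiv (isoColimit I 1 (ModuleCat.of R N)).symm.toLinearEquiv

end Groth.Agent.LoccohB.FiniteH1
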