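import Groth.Agent.LoccohB.FlatLBC

/-!
# Flat base change on D(A): cohomology and the comparison map on A[-n]
-/

set_option autoImplicit false
universe w v u w₁ v₁ u₁

open CategoryTheory CategoryTheory.Limits Opposite Pretriangulated
open scoped TensorProduct ChangeOfRings

attribute [local instance] HasDerivedCategory.standard

namespace Groth.Agent.LoccohB.FlatLBC

open DerivedCategory Groth.Agent.LoccohB.DBase Groth.Agent.LoccohB.HomBC

section

variable {C : Type u₁} [Category.{v₁} C] [Abelian C] [HasDerivedCategory.{w₁} C]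

/-- For `X ≅ P[-n]` with `P` projective, `Hom(X, Y) = Hom(H^n X, H^n Y)`. -/
lemma homologyMap_bijective (n : ℤ) (P : C) [Projective P] {X : DerivedCategory C}
    (e : (singleFunctor C n).obj P ≅ X) (Y : DerivedCategory C) :
    Function.Bijective (fun g : X ⟶ Y => (homologyFunctor C n).map g) := by
  have h := homToH_bijective n P Y
  let E : P ≅ (homologyFunctor C n).obj X :=
    (singleFunctorCompHomologyFunctorIso C n).symm.app P ≪≫ (homologyFunctor C n).mapIso e
  have key : ∀ g : X ⟶ Y, homToH n (e.hom ≫ g) = E.hom ≫ (homologyFunctor C n).map g := by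
    intro g
    simp [homToH, E]
  constructor
  · intro g g' hg
    rw [← cancel_epi e.hom]
    apply h.1
    rw [key, key]
    exact congrArg _ hg
  · intro f
    obtain ⟨g, hg⟩ := h.2 (E.hom ≫ f)
    refine ⟨e.inv ≫ g, ?_⟩
    rw [← cancel_epi E.hom, ← hg]
    change E.hom ≫ (homologyFunctor C n).map (e.inv ≫ g) = _
    rw [← key]
    simp

end

variable (A B : Type u) [CommRing A] [CommRing B] [Algebra A B]

/-- `B ⊗_A A ≃ B`. -/
noncomputable def extRid :
    (ModuleCat.extendScalars.{u, u, u} (algebraMap A B)).obj (ModuleCat.of A A) ≃ₗ[B] B :=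
  (extEquiv A B (ModuleCat.of A A)).symm ≪≫ₗ (TensorProduct.AlgebraTensorModule.rid A B B)

/-- `1 ⊗ 1`. -/
noncomputable def oneOne :
    (ModuleCat.extendScalars.{u, u, u} (algebraMap A B)).obj (ModuleCat.of A A) :=
  extEquiv A B (ModuleCat.of A A) ((1 : B) ⊗ₜ[A] (1 : A))

lemma extRid_oneOne : extRid A B (oneOne A B) = 1 := by
  simp [extRid, oneOne]

instance projective_extend :
    Projective ((ModuleCat.extendScalars.{u, u, u} (algebraMap A B)).obj (ModuleCat.of A A)) :=
  Projective.of_iso (P := ModuleCat.of B B) (extRid A B).symm.toModuleIso (by infer_instance)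

/-- evaluation at `1 ⊗ 1` of maps from `B ⊗ A`. -/
lemma eval_bijective (N : ModuleCat.{u} B) :
    Function.Bijective (fun g : (ModuleCat.extendScalars.{u, u, u} (algebraMap A B)).obj
      (ModuleCat.of A A) ⟶ N => g.hom (oneOne A B)) := by
  have h1 : ∀ x, x = extRid A B x • oneOne A B := by
    intro x
    apply (extRid A B).injective
    rw [map_smul, extRid_oneOne, smul_eq_mul, mul_one]
  constructor
  · intro g g' hg
    apply ModuleCat.hom_ext
    apply LinearMap.ext
    intro x
    rw [h1 x, map_smul, map_smul]
    exact congrArg _ hg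
  · intro y
    refine ⟨(extRid A B).toModuleIso.hom ≫ ModuleCat.ofHom (LinearMap.toSpanSingleton B N y), ?_⟩
    change (extRid A B (oneOne A B)) • y = y
    rw [extRid_oneOne, one_smul]

lemma conj_bijective {C : Type*} [Category* C] {X X' Y Y' : C} (α : X' ≅ X) (β : Y ≅ Y') :
    Function.Bijective (fun g : X ⟶ Y => α.hom ≫ g ≫ β.hom) := by
  constructor
  · intro g g' hg
    simpa using hg
  · intro g
    exact ⟨α.inv ≫ g ≫ β.inv, by simp⟩

variable (h : (algebraMap A B).Flat)

/-- The identification `Hom(G(A[-n]), G K) ≃ B ⊗ H^n(K)`. -/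
noncomputable def R (n : ℤ) (K : Dual.D A) (g : (flatBC (algebraMap A B) h).obj (sg A n A) ⟶
      (flatBC (algebraMap A B) h).obj K) :
    (ModuleCat.extendScalars.{u, u, u} (algebraMap A B)).obj
      ((homologyFunctor (ModuleCat.{u} A) n).obj K) :=
  ((ModuleCat.extendScalars.{u, u, u} (algebraMap A B)).map
    ((singleFunctorCompHomologyFunctorIso (ModuleCat.{u} A) n).inv.app (ModuleCat.of A A)) ≫
    (flatBCHomology (algebraMap A B) h n).inv.app (sg A n A) ≫
    (homologyFunctor (ModuleCat.{u} B) n).map g ≫
    (flatBCHomology (algebraMap A B) h n).hom.app K).hom (oneOne A B)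

lemma R_bijective (n : ℤ) (K : Dual.D A) : Function.Bijective (R A B h n K) := by
  have h1 := eval_bijective A B ((ModuleCat.extendScalars.{u, u, u} (algebraMap A B)).obj
      ((homologyFunctor (ModuleCat.{u} A) n).obj K))
  have h2 := homologyMap_bijective n
    ((ModuleCat.extendScalars.{u, u, u} (algebraMap A B)).obj (ModuleCat.of A A))
    ((flatBCSingle (algebraMap A B) h n).symm.app (ModuleCat.of A A))
    ((flatBC (algebraMap A B) h).obj K)
  have h3 := conj_bijective
    ((ModuleCat.extendScalars.{u, u, u} (algebraMap A B)).mapIso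
      ((singleFunctorCompHomologyFunctorIso (ModuleCat.{u} A) n).symm.app (ModuleCat.of A A)) ≪≫
    (flatBCHomology (algebraMap A B) h n).symm.app (sg A n A))
    ((flatBCHomology (algebraMap A B) h n).app K)
  have h4 := h1.comp (h3.comp h2)
  convert h4 using 1
  ext g
  simp [R]

set_option backward.isDefEq.respectTransparency false in
lemma R_bc (n : ℤ) (K : Dual.D A) (t : B ⊗[A] (sg A n A ⟶ K)) :
    R A B h n K (bc A B (flatBC (algebraMap A B) h) (sg A n A) K t) =
      extEquiv A B _ ((homToHD n K).lTensor B t) := by
  induction t using TensorProduct.induction_on with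
  | zero => simp [R]
  | tmul b f =>
    rw [bc_tmul, LinearMap.lTensor_tmul, extEquiv_tmul]
    have key : (flatBCHomology (algebraMap A B) h n).inv.app (sg A n A) ≫
        (homologyFunctor (ModuleCat.{u} B) n).map ((flatBC (algebraMap A B) h).map f) ≫
        (flatBCHomology (algebraMap A B) h n).hom.app K =
        (ModuleCat.extendScalars.{u, u, u} (algebraMap A B)).map
          ((homologyFunctor (ModuleCat.{u} A) n).map f) :=
      NatIso.naturality_1 (flatBCHomology (algebraMap A B) h n) f
    have key2 : R A B h n K (b • (flatBC (algebraMap A B) h).map f) =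
        b • (((ModuleCat.extendScalars.{u, u, u} (algebraMap A B)).map
          (homToH n (P := ModuleCat.of A A) f)).hom (oneOne A B)) := by
      rw [homToH, Functor.map_comp, ← key]
      simp only [R, Functor.map_smul, Linear.smul_comp, Linear.comp_smul]
      rfl
    rw [key2]
    have key3 : (((ModuleCat.extendScalars.{u, u, u} (algebraMap A B)).map
          (homToH n (P := ModuleCat.of A A) f)).hom (oneOne A B)) =
        extEquiv A B _ ((1 : B) ⊗ₜ[A] ((homToH n (P := ModuleCat.of A A) f).hom (1 : A))) := rfl
    rw [key3, ← map_smul, TensorProduct.smul_tmul', smul_eq_mul, mul_one]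
    rfl
  | add x y hx hy =>
    rw [map_add, map_add, map_add, ← hx, ← hy]
    simp only [R]
    rw [Functor.map_add, Preadditive.add_comp, Preadditive.comp_add, Preadditive.comp_add]
    rfl

/-- The comparison map is bijective for `X = A[-n]`. -/
theorem bc_self_bijective (n : ℤ) (K : Dual.D A) :
    Function.Bijective (bc A B (flatBC (algebraMap A B) h) (sg A n A) K) := by
  have h1 := R_bijective A B h n K
  have h2 : Function.Bijective ((homToHD n K).lTensor B) :=
    (TensorProduct.congr (LinearEquiv.refl A B) (homEquivHD n K)).bijective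
  have h3 : R A B h n K ∘ bc A B (flatBC (algebraMap A B) h) (sg A n A) K =
      extEquiv A B _ ∘ ((homToHD n K).lTensor B) := by
    ext t
    exact R_bc A B h n K t
  rw [← Function.Bijective.of_comp_iff' h1, h3]
  exact (extEquiv A B _).bijective.comp h2

end Groth.Agent.LoccohB.FlatLBC
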