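import Groth.Agent.Flat2H.TorDim
import Mathlib.Algebra.Polynomial.Basis
import Mathlib.Algebra.MvPolynomial.Equiv
import Mathlib.LinearAlgebra.TensorProduct.Basis

/-!
# Flat dimension over polynomial rings

`hasTorDimLE_polynomial`: if `B ≃ A[X]` and `N` is a `B`-module of flat dimension `≤ n` over `A`, then `N` has
flat dimension `≤ n + 1` over `B` (characteristic sequence `0 → B ⊗_A N → B ⊗_A N → N → 0`).
`hasTorDimLE_mvPolynomial`: a module over `R[x_1..x_n]` which is flat over `R` has flat dimension `≤ n`.
-/

set_option autoImplicit false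
universe u

open TensorProduct

namespace Groth.Agent.LoccohB.FlatPoly

open Flat2H.TorDim

section Char

variable {A B : Type u} [CommRing A] [CommRing B] [Algebra A B] (e : B ≃ₐ[A] Polynomial A)
  {N : Type u} [AddCommGroup N] [Module A N]

/-- The coefficient map. -/
noncomputable def coeffMap (k : ℕ) : B ⊗[A] N →ₗ[A] N :=
  (TensorProduct.lid A N).toLinearMap ∘ₗ
    LinearMap.rTensor N ((Polynomial.lcoeff A k).comp e.toLinearMap)

lemma coeffMap_tmul (k : ℕ) (p : B) (n : N) :
    coeffMap e k (p ⊗ₜ[A] n) = (e p).coeff k • n := by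
  simp [coeffMap]

/-- The basis of powers of the variable. -/
noncomputable def bas : Module.Basis ℕ A B := (Polynomial.basisMonomials A).map e.symm.toLinearEquiv

lemma equivFinsupp_apply (x : B ⊗[A] N) (k : ℕ) :
    TensorProduct.equivFinsuppOfBasisLeft (bas e) x k = coeffMap e k x := by
  rw [TensorProduct.equivFinsuppOfBasisLeft_apply]
  rfl

lemma eq_zero_of_coeffMap (x : B ⊗[A] N) (h : ∀ k, coeffMap e k x = 0) : x = 0 := by
  apply (TensorProduct.equivFinsuppOfBasisLeft (bas e)).injective
  ext k
  rw [equivFinsupp_apply, h k]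
  simp

lemma exists_coeffMap_eq_zero (x : B ⊗[A] N) : ∃ d : ℕ, ∀ k, d ≤ k → coeffMap e k x = 0 := by
  let y := TensorProduct.equivFinsuppOfBasisLeft (bas e) x
  refine ⟨y.support.sup id + 1, fun k hk => ?_⟩
  rw [← equivFinsupp_apply]
  by_contra h
  have : k ∈ y.support := Finsupp.mem_support_iff.2 h
  have := Finset.le_sup (f := id) this
  simp only [id_eq] at this
  omega

variable [Module B N] [IsScalarTower A B N]

/-- multiplication by `t`, as an `A`-linear endomorphism of `N`. -/
noncomputable def tmul (t : B) : N →ₗ[A] N where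
  toFun n := t • n
  map_add' := smul_add t
  map_smul' a n := by rw [smul_comm]; rfl

/-- `p ⊗ n ↦ t p ⊗ n - p ⊗ t n`. -/
noncomputable def charMap (t : B) : B ⊗[A] N →ₗ[B] B ⊗[A] N :=
  t • LinearMap.id - LinearMap.baseChange B (tmul t)

/-- `p ⊗ n ↦ p n`. -/
noncomputable def actMap : B ⊗[A] N →ₗ[B] N :=
  TensorProduct.AlgebraTensorModule.lift
    ((LinearMap.restrictScalarsₗ A B N N B).comp (LinearMap.toSpanSingleton B (N →ₗ[B] N) LinearMap.id)) 

lemma actMap_tmul (p : B) (n : N) : actMap (A := A) (p ⊗ₜ[A] n) = p • n := by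
  simp [actMap]

lemma charMap_tmul (t p : B) (n : N) :
    charMap (A := A) t (p ⊗ₜ[A] n) = (t * p) ⊗ₜ[A] n - p ⊗ₜ[A] (t • n) := by
  simp [charMap, tmul, TensorProduct.smul_tmul', smul_eq_mul]

lemma actMap_surjective : Function.Surjective (actMap (A := A) (B := B) (N := N)) := fun n =>
  ⟨1 ⊗ₜ n, by rw [actMap_tmul, one_smul]⟩

lemma actMap_charMap (t : B) (x : B ⊗[A] N) : actMap (A := A) (charMap (A := A) t x) = 0 := by
  induction x with
  | zero => simp
  | add x y hx hy => rw [map_add, map_add, hx, hy, add_zero]
  | tmul p n => 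
    rw [charMap_tmul, map_sub, actMap_tmul, actMap_tmul, smul_smul, mul_comm, sub_self]

lemma coeffMap_charMap (k : ℕ) (x : B ⊗[A] N) :
    coeffMap e (k + 1) (charMap (A := A) (e.symm Polynomial.X) x) =
      coeffMap e k x - (e.symm Polynomial.X) • coeffMap e (k + 1) x := by
  induction x with
  | zero => simp
  | add x y hx hy => rw [map_add, map_add, hx, hy, map_add, map_add, smul_add]; abel
  | tmul p n => 
    rw [charMap_tmul, map_sub, coeffMap_tmul, coeffMap_tmul, coeffMap_tmul, coeffMap_tmul, map_mul,
      AlgEquiv.apply_symm_apply, Polynomial.coeff_X_mul, smul_comm]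

lemma charMap_injective : Function.Injective (charMap (A := A) (N := N) (e.symm Polynomial.X)) := by
  rw [injective_iff_map_eq_zero]
  intro x hx
  obtain ⟨d, hd⟩ := exists_coeffMap_eq_zero e x
  have h1 : ∀ k, coeffMap e k x = (e.symm Polynomial.X) • coeffMap e (k + 1) x := by
    intro k
    have := coeffMap_charMap e k x
    rw [hx, map_zero] at this
    exact (sub_eq_zero.1 this.symm)
  apply eq_zero_of_coeffMap e
  have h2 : ∀ j k, d ≤ k + j → coeffMap e k x = 0 := by
    intro j
    induction j with
    | zero => intro k hk; exact hd k (by omega)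
    | succ j ih => intro k hk; rw [h1, ih (k + 1) (by omega), smul_zero]
  intro k
  exact h2 d k (by omega)

lemma exists_charMap (x : B ⊗[A] N) :
    ∃ y, charMap (A := A) (e.symm Polynomial.X) y = x - 1 ⊗ₜ[A] (actMap (A := A) x) := by
  induction x with
  | zero => exact ⟨0, by simp⟩
  | add x y hx hy =>
    obtain ⟨x', hx'⟩ := hx
    obtain ⟨y', hy'⟩ := hy
    exact ⟨x' + y', by rw [map_add, hx', hy', map_add, TensorProduct.tmul_add]; abel⟩
  | tmul p n =>
    rw [actMap_tmul]
    obtain ⟨q, rfl⟩ := e.symm.surjective p
    induction q using Polynomial.induction_on' with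
    | add q r hq hr =>
      obtain ⟨x', hx'⟩ := hq
      obtain ⟨y', hy'⟩ := hr
      exact ⟨x' + y', by rw [map_add, hx', hy', map_add, TensorProduct.add_tmul, add_smul,
        TensorProduct.tmul_add]; abel⟩
    | monomial k a =>
      induction k generalizing n with
      | zero =>
        refine ⟨0, ?_⟩
        have : e.symm (Polynomial.monomial 0 a) = algebraMap A B a := by
          rw [Polynomial.monomial_zero_left, ← Polynomial.algebraMap_eq, AlgEquiv.commutes]
        rw [this, map_zero, Algebra.algebraMap_eq_smul_one, TensorProduct.smul_tmul, smul_assoc,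
          one_smul, sub_self]
      | succ k ih =>
        obtain ⟨y, hy⟩ := ih ((e.symm Polynomial.X) • n)
        refine ⟨(e.symm (Polynomial.monomial k a)) ⊗ₜ n + y, ?_⟩
        have : e.symm (Polynomial.monomial (k + 1) a) =
            e.symm Polynomial.X * e.symm (Polynomial.monomial k a) := by
          rw [← map_mul, Polynomial.X_mul_monomial]
        rw [map_add, hy, charMap_tmul, this, mul_comm, smul_smul, mul_comm]
        abel

lemma charMap_exact :
    Function.Exact (charMap (A := A) (N := N) (e.symm Polynomial.X)) (actMap (A := A)) := by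
  intro x
  constructor
  · intro h
    obtain ⟨y, hy⟩ := exists_charMap e x
    refine ⟨y, ?_⟩
    rw [hy, h, TensorProduct.tmul_zero, sub_zero]
  · rintro ⟨y, rfl⟩
    exact actMap_charMap _ y

include e in
/-- Flat dimension over a polynomial ring in one variable. -/
theorem hasTorDimLE_polynomial {n : ℕ} (h : DRing.HasTorDimLE A n N) :
    DRing.HasTorDimLE B (n + 1) N := by
  have hfree : Module.Free A B := Module.Free.of_basis (bas e)
  have hflat : Module.Flat A B := inferInstance
  have h1 : DRing.HasTorDimLE B n (B ⊗[A] N) := HasTorDimLE.baseChange B h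
  exact HasTorDimLE.right _ _ (charMap_injective e) actMap_surjective (charMap_exact e) h1
    (HasTorDimLE.mono h1 (Nat.le_succ n))

end Char

/-- Flat dimension over a polynomial ring in finitely many variables. -/
theorem hasTorDimLE_mvPolynomial_of_equiv (R : Type u) [CommRing R] (n : ℕ) :
    ∀ (P : Type u) [CommRing P] [Algebra R P] (_ : P ≃ₐ[R] MvPolynomial (Fin n) R)
      (N : Type u) [AddCommGroup N] [Module P N] [Module R N] [IsScalarTower R P N] 
      (k : ℕ) (_ : DRing.HasTorDimLE R k N), DRing.HasTorDimLE P (k + n) N := by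
  induction n with
  | zero =>
    intro P _ _ e N _ _ _ _ k h
    have hs : Function.Surjective (algebraMap R P) := by
      intro p
      obtain ⟨q, rfl⟩ := e.symm.surjective p
      refine ⟨MvPolynomial.isEmptyAlgEquiv R (Fin 0) q, ?_⟩
      rw [← AlgEquiv.commutes e.symm]
      congr 1
      have := (MvPolynomial.isEmptyAlgEquiv R (Fin 0)).symm.commutes
        (MvPolynomial.isEmptyAlgEquiv R (Fin 0) q)
      rw [← this]
      exact (AlgEquiv.symm_apply_apply _ _)
    have hb : Function.Bijective (algebraMap R P) := by
      refine ⟨?_, hs⟩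
      have : (algebraMap R P : R → P) = e.symm ∘ (MvPolynomial.isEmptyAlgEquiv R (Fin 0)).symm := by
        ext r
        simp
      rw [this]
      exact e.symm.injective.comp (MvPolynomial.isEmptyAlgEquiv R (Fin 0)).symm.injective
    have : IsLocalization (⊥ : Submonoid R) P :=
      { map_units := by
          rintro ⟨x, hx⟩
          rw [Submonoid.mem_bot] at hx
          subst hx
          simp
        surj := by
          intro z
          obtain ⟨r, rfl⟩ := hs z
          exact ⟨(r, 1), by simp⟩
        exists_of_eq := by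
          intro x y hxy
          exact ⟨1, by rw [hb.1 hxy]⟩ }
    rw [add_zero]
    exact (hasTorDimLE_localization_iff (⊥ : Submonoid R) P k).1 h
  | succ n ih =>
    intro P _ _ e N _ _ _ _ k h
    let Q := MvPolynomial (Fin n) R
    let e1 : P ≃ₐ[R] Polynomial Q := e.trans (MvPolynomial.finSuccEquiv R n)
    letI : Algebra Q P := ((e1.symm.toAlgHom.toRingHom).comp Polynomial.C).toAlgebra
    have hQP : ∀ q : Q, algebraMap Q P q = e1.symm (Polynomial.C q) := fun q => rfl
    let e2 : P ≃ₐ[Q] Polynomial Q := AlgEquiv.ofRingEquiv (f := e1.toRingEquiv) (by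
      intro q
      rw [hQP]
      exact e1.apply_symm_apply _)
    letI : Module Q N := Module.compHom N (algebraMap Q P)
    haveI : IsScalarTower Q P N := ⟨fun q p x => by
      rw [Algebra.smul_def, mul_smul]; rfl⟩
    haveI : IsScalarTower R Q P := IsScalarTower.of_algebraMap_eq (fun r => by
      rw [hQP]
      have : Polynomial.C (algebraMap R Q r) = algebraMap R (Polynomial Q) r := rfl
      rw [this, AlgEquiv.commutes])
    haveI : IsScalarTower R Q N := ⟨fun r q x => by
      have h1 : (r • q) • x = (algebraMap Q P (r • q)) • x := rfl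
      have h2 : q • x = (algebraMap Q P q) • x := rfl
      rw [h1, h2, Algebra.smul_def, map_mul, mul_smul, ← IsScalarTower.algebraMap_apply, 
        algebraMap_smul]⟩
    have h1 := ih Q AlgEquiv.refl N k h
    exact hasTorDimLE_polynomial e2 h1

/-- A module over `R[x_1..x_n]` which is flat over `R` has flat dimension `≤ n`. -/
theorem hasTorDimLE_mvPolynomial {R : Type u} [CommRing R] {n : ℕ}
    (N : Type u) [AddCommGroup N] [Module (MvPolynomial (Fin n) R) N] [Module R N]
    [IsScalarTower R (MvPolynomial (Fin n) R) N] [Module.Flat R N] :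
    DRing.HasTorDimLE (MvPolynomial (Fin n) R) n N := by
  have := hasTorDimLE_mvPolynomial_of_equiv R n (MvPolynomial (Fin n) R) AlgEquiv.refl N 0
    (HasTorDimLE.of_flat 0)
  rwa [zero_add] at this

end Groth.Agent.LoccohB.FlatPoly
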