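import Groth.Agent.LoccohB.GlueHom
import Mathlib.AlgebraicGeometry.AffineScheme

/-!
# Frames of finite free modules over opens, and extension of morphisms defined over `D(f)`
-/

set_option autoImplicit false
universe u

open CategoryTheory AlgebraicGeometry TopologicalSpace Opposite
open Groth.Agent.LoccohB.GlueHom

namespace Groth.Agent.LoccohB.FrameExt

variable {X : Scheme.{u}}

/-- A frame of `F` over `W`: sections over `W` which are a basis over each smaller open. -/
structure Frame (F : X.Modules) (W : X.Opens) (n : ℕ) where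
  e : Fin n → Γ(F, W)
  bij : ∀ (V : X.Opens) (h : V ≤ W),
    Function.Bijective (fun c : Fin n → Γ(X, V) => ∑ k, c k • res F h (e k))

/-- The linear map `O(V)^n → F(V)` attached to a family of sections. -/
noncomputable def comb {F : X.Modules} {W : X.Opens} {n : ℕ} (e : Fin n → Γ(F, W))
    {V : X.Opens} (h : V ≤ W) : (Fin n → Γ(X, V)) →ₗ[Γ(X, V)] Γ(F, V) where
  toFun c := ∑ k, c k • res F h (e k)
  map_add' a b := by simp [add_smul, Finset.sum_add_distrib]
  map_smul' r a := by simp [mul_smul, Finset.smul_sum]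

lemma comb_apply {F : X.Modules} {W : X.Opens} {n : ℕ} (e : Fin n → Γ(F, W))
    {V : X.Opens} (h : V ≤ W) (c : Fin n → Γ(X, V)) : comb e h c = ∑ k, c k • res F h (e k) := rfl

lemma comb_res {F : X.Modules} {W : X.Opens} {n : ℕ} (e : Fin n → Γ(F, W))
    {V V' : X.Opens} (h : V ≤ W) (h' : V' ≤ V) (c : Fin n → Γ(X, V)) :
    res F h' (comb e h c) = comb e (h'.trans h) (fun k => resO h' (c k)) := by
  rw [comb_apply, comb_apply, map_sum]
  refine Finset.sum_congr rfl fun k _ => ?_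
  rw [res_smul, res_res]

namespace Frame

variable {F : X.Modules} {W : X.Opens} {n : ℕ} (fr : Frame F W n)

/-- The coordinates isomorphism. -/
noncomputable def equiv {V : X.Opens} (h : V ≤ W) :
    (Fin n → Γ(X, V)) ≃ₗ[Γ(X, V)] Γ(F, V) :=
  LinearEquiv.ofBijective (comb fr.e h) (fr.bij V h)

lemma equiv_apply {V : X.Opens} (h : V ≤ W) (c : Fin n → Γ(X, V)) :
    fr.equiv h c = ∑ k, c k • res F h (fr.e k) := rfl

lemma equiv_symm_res {V V' : X.Opens} (h : V ≤ W) (h' : V' ≤ V) (s : Γ(F, V)) :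
    (fr.equiv (h'.trans h)).symm (res F h' s) = fun k => resO h' ((fr.equiv h).symm s k) := by
  rw [LinearEquiv.symm_apply_eq]
  change _ = comb fr.e (h'.trans h) (fun k => resO h' ((fr.equiv h).symm s k))
  rw [← comb_res fr.e h h']
  congr 1
  exact ((fr.equiv h).apply_symm_apply s).symm

lemma sum_symm {V : X.Opens} (h : V ≤ W) (s : Γ(F, V)) :
    ∑ k, (fr.equiv h).symm s k • res F h (fr.e k) = s :=
  (fr.equiv h).apply_symm_apply s

/-- The local morphism with prescribed values on a frame. -/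
noncomputable def hom (G : X.Modules) (t : Fin n → Γ(G, W)) : LHom F G W where
  app V h := (comb t h).comp (fr.equiv h).symm.toLinearMap
  nat V V' h hV s := by
    simp only [LinearMap.comp_apply, LinearEquiv.coe_coe]
    rw [fr.equiv_symm_res hV h, comb_res]

lemma hom_app (G : X.Modules) (t : Fin n → Γ(G, W)) {V : X.Opens} (h : V ≤ W) (s : Γ(F, V)) :
    (fr.hom G t).app V h s = ∑ k, (fr.equiv h).symm s k • res G h (t k) := rfl

lemma equiv_symm_e {V : X.Opens} (h : V ≤ W) (k : Fin n) :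
    (fr.equiv h).symm (res F h (fr.e k)) = Pi.single k 1 := by
  rw [LinearEquiv.symm_apply_eq, equiv_apply]
  rw [Finset.sum_eq_single k]
  · simp
  · intro b _ hb
    simp [Pi.single_eq_of_ne hb]
  · simp

lemma hom_app_e (G : X.Modules) (t : Fin n → Γ(G, W)) {V : X.Opens} (h : V ≤ W) (k : Fin n) :
    (fr.hom G t).app V h (res F h (fr.e k)) = res G h (t k) := by
  rw [hom_app, equiv_symm_e]
  rw [Finset.sum_eq_single k]
  · simp
  · intro b _ hb
    simp [Pi.single_eq_of_ne hb]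
  · simp

/-- Linear maps which agree on a frame are equal. -/
lemma linearMap_ext (G : X.Modules) {V : X.Opens} (h : V ≤ W) (φ ψ : Γ(F, V) →ₗ[Γ(X, V)] Γ(G, V))
    (H : ∀ k, φ (res F h (fr.e k)) = ψ (res F h (fr.e k))) (s : Γ(F, V)) : φ s = ψ s := by
  rw [← fr.sum_symm h s, map_sum, map_sum]
  refine Finset.sum_congr rfl fun k _ => ?_
  rw [map_smul, map_smul, H]

/-- Restriction of a frame. -/
noncomputable def restrict {W' : X.Opens} (h : W' ≤ W) : Frame F W' n where
  e k := res F h (fr.e k)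
  bij V hV := by
    have := fr.bij V (hV.trans h)
    simpa only [res_res] using this

end Frame

/-- `G` is good on `W` with respect to the global function `f`: sections over `W ∩ D(f)` are the
localization at `f` of the sections over `W`. -/
def Good (G : X.Modules) (f : Γ(X, ⊤)) (W : X.Opens) : Prop :=
  (∀ s : Γ(G, W), res G (inf_le_left : W ⊓ X.basicOpen f ≤ W) s = 0 →
    ∃ N : ℕ, resO (le_top : W ≤ ⊤) f ^ N • s = 0) ∧
  (∀ t : Γ(G, W ⊓ X.basicOpen f), ∃ N : ℕ, ∃ s : Γ(G, W),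
    res G (inf_le_left : W ⊓ X.basicOpen f ≤ W) s = resO (le_top : W ⊓ X.basicOpen f ≤ ⊤) f ^ N • t)

lemma exists_resO {f : Γ(X, ⊤)} {W : X.Opens} (hW : IsAffineOpen W) :
    (∀ s : Γ(X, W), resO (inf_le_left : W ⊓ X.basicOpen f ≤ W) s = 0 →
      ∃ N : ℕ, resO (le_top : W ≤ ⊤) f ^ N * s = 0) ∧
    (∀ t : Γ(X, W ⊓ X.basicOpen f), ∃ N : ℕ, ∃ s : Γ(X, W),
      resO (inf_le_left : W ⊓ X.basicOpen f ≤ W) s =
        resO (le_top : W ⊓ X.basicOpen f ≤ ⊤) f ^ N * t) := by
  have e : W ⊓ X.basicOpen f = X.basicOpen (resO (le_top : W ≤ ⊤) f) := by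
    rw [resO_apply, Scheme.basicOpen_res]
  let _ : Algebra Γ(X, W) Γ(X, W ⊓ X.basicOpen f) :=
    (X.presheaf.map (homOfLE (inf_le_left : W ⊓ X.basicOpen f ≤ W)).op).hom.toAlgebra
  have hloc : IsLocalization.Away (resO (le_top : W ≤ ⊤) f) Γ(X, W ⊓ X.basicOpen f) :=
    hW.isLocalization_of_eq_basicOpen (resO (le_top : W ≤ ⊤) f)
      (homOfLE (inf_le_left : W ⊓ X.basicOpen f ≤ W)) e
  constructor
  · intro s hs
    have h0 : algebraMap Γ(X, W) Γ(X, W ⊓ X.basicOpen f) s = 0 := hs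
    rw [← map_zero (algebraMap Γ(X, W) Γ(X, W ⊓ X.basicOpen f)),
      IsLocalization.eq_iff_exists (Submonoid.powers (resO (le_top : W ≤ ⊤) f))] at h0
    obtain ⟨⟨_, N, rfl⟩, hN⟩ := h0
    exact ⟨N, by simpa using hN⟩
  · intro t
    obtain ⟨⟨s, ⟨_, N, rfl⟩⟩, hs⟩ :=
      IsLocalization.surj (Submonoid.powers (resO (le_top : W ≤ ⊤) f)) t
    refine ⟨N, s, ?_⟩
    have hs' : t * resO (inf_le_left : W ⊓ X.basicOpen f ≤ W) (resO (le_top : W ≤ ⊤) f ^ N) =
      resO (inf_le_left : W ⊓ X.basicOpen f ≤ W) s := hs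
    rw [← hs', map_pow, resO_resO, mul_comm]

/-- A module with a frame over an affine open is good there. -/
lemma Frame.good {G : X.Modules} {W : X.Opens} {n : ℕ} (fr : Frame G W n) (hW : IsAffineOpen W)
    (f : Γ(X, ⊤)) : Good G f W := by
  obtain ⟨h1, h2⟩ := exists_resO (f := f) hW
  constructor
  · intro s hs
    have h : ∀ k, resO (inf_le_left : W ⊓ X.basicOpen f ≤ W) ((fr.equiv le_rfl).symm s k) = 0 := by
      intro k
      have := fr.equiv_symm_res le_rfl (inf_le_left : W ⊓ X.basicOpen f ≤ W) s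
      rw [hs, map_zero] at this
      exact (congrFun this k).symm
    choose N hN using fun k => h1 _ (h k)
    refine ⟨∑ k, N k, ?_⟩
    rw [← (fr.equiv le_rfl).symm.map_eq_zero_iff, map_smul]
    ext k
    have hk : N k ≤ ∑ k, N k := Finset.single_le_sum (fun _ _ => Nat.zero_le _) (Finset.mem_univ k)
    obtain ⟨m, hm⟩ := Nat.exists_eq_add_of_le hk
    rw [Pi.smul_apply, smul_eq_mul, hm, pow_add, mul_comm (_ ^ N k), mul_assoc, hN, mul_zero]
    rfl
  · intro t
    choose N s hs using fun k => h2 ((fr.equiv inf_le_left).symm t k)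
    refine ⟨∑ k, N k, fr.equiv le_rfl (fun k => resO (le_top : W ≤ ⊤) f ^ (∑ k, N k - N k) * s k), ?_⟩
    apply (fr.equiv (inf_le_left : W ⊓ X.basicOpen f ≤ W)).symm.injective
    rw [fr.equiv_symm_res le_rfl inf_le_left, LinearEquiv.symm_apply_apply, map_smul]
    ext k
    have hk : N k ≤ ∑ k, N k := Finset.single_le_sum (fun _ _ => Nat.zero_le _) (Finset.mem_univ k)
    rw [Pi.smul_apply, smul_eq_mul, map_mul, map_pow, resO_resO, hs, ← mul_assoc, ← pow_add,
      Nat.sub_add_cancel hk]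

/-- A morphism out of a finite locally free module which vanishes on `D(f)` is killed by a power
of `f`. -/
theorem exists_pow_smul_eq {F G : X.Modules} {f : Γ(X, ⊤)} {ι : Type u} [Finite ι]
    (W : ι → X.Opens) (hW : iSup W = ⊤) (n : ι → ℕ) (fr : ∀ i, Frame F (W i) (n i))
    (hG : ∀ i, Good G f (W i)) (φ ψ : F ⟶ G)
    (h : ∀ V : X.Opens, V ≤ X.basicOpen f → ∀ s : Γ(F, V), φ.app V s = ψ.app V s) :
    ∃ N : ℕ, ∀ (V : X.Opens) (s : Γ(F, V)),
      resO (le_top : V ≤ ⊤) f ^ N • φ.app V s = resO (le_top : V ≤ ⊤) f ^ N • ψ.app V s := by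
  classical
  have := Fintype.ofFinite ι
  have key : ∀ i (k : Fin (n i)), ∃ N : ℕ, resO (le_top : W i ≤ ⊤) f ^ N •
      (φ.app (W i) ((fr i).e k) - ψ.app (W i) ((fr i).e k)) = 0 := by
    intro i k
    apply (hG i).1
    rw [map_sub, ← app_res, ← app_res, h _ inf_le_right, sub_self]
  choose N hN using key
  refine ⟨∑ i, ∑ k, N i k, fun V s => ?_⟩
  set M := ∑ i, ∑ k, N i k with hM
  refine sec_ext G W (hW ▸ le_top) _ _ (fun i => ?_)
  rw [res_smul, res_smul, ← app_res, ← app_res, map_pow, resO_resO]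
  set s' := res F (inf_le_left : V ⊓ W i ≤ V) s
  have hV : V ⊓ W i ≤ W i := inf_le_right
  have h1 : ∀ k, resO (le_top : W i ≤ ⊤) f ^ M • φ.app (W i) ((fr i).e k) =
      resO (le_top : W i ≤ ⊤) f ^ M • ψ.app (W i) ((fr i).e k) := by
    intro k
    have hk : N i k ≤ M := (Finset.single_le_sum (f := fun k => N i k)
      (fun _ _ => Nat.zero_le _) (Finset.mem_univ k)).trans
      (Finset.single_le_sum (f := fun i => ∑ k, N i k)
        (fun _ _ => Nat.zero_le _) (Finset.mem_univ i))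
    obtain ⟨m, hm⟩ := Nat.exists_eq_add_of_le hk
    rw [hm, pow_add, mul_comm, mul_smul, mul_smul, ← sub_eq_zero, ← smul_sub, ← smul_sub, hN,
      smul_zero]
  rw [← (fr i).sum_symm hV s']
  simp only [map_sum, Scheme.Modules.Hom.app_smul, Finset.smul_sum]
  refine Finset.sum_congr rfl fun k _ => ?_
  rw [smul_comm, smul_comm (resO _ f ^ M), app_res, app_res]
  congr 1
  have := congrArg (res G hV) (h1 k)
  rwa [res_smul, res_smul, map_pow, resO_resO] at this

/-- Extension of a morphism defined over `D(f)`, after multiplication by a power of `f`. -/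
theorem exists_extend {F G : X.Modules} {f : Γ(X, ⊤)} {ι : Type u} [Finite ι]
    (W : ι → X.Opens) (hW : iSup W = ⊤) (n : ι → ℕ) (fr : ∀ i, Frame F (W i) (n i))
    (hG : ∀ i, Good G f (W i)) (hG' : ∀ i j, Good G f (W i ⊓ W j))
    (φ : LHom F G (X.basicOpen f)) :
    ∃ (N : ℕ) (ψ : F ⟶ G), ∀ (V : X.Opens) (hV : V ≤ X.basicOpen f) (s : Γ(F, V)),
      ψ.app V s = resO (le_top : V ≤ ⊤) f ^ N • φ.app V hV s := by
  classical
  have := Fintype.ofFinite ι
  have key : ∀ i (k : Fin (n i)), ∃ N : ℕ, ∃ s : Γ(G, W i),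
      res G (inf_le_left : W i ⊓ X.basicOpen f ≤ W i) s =
        resO (le_top : W i ⊓ X.basicOpen f ≤ ⊤) f ^ N •
          φ.app (W i ⊓ X.basicOpen f) inf_le_right (res F inf_le_left ((fr i).e k)) := by
    intro i k
    exact (hG i).2 _
  choose N t ht using key
  set M := ∑ i, ∑ k, N i k with hM
  -- normalized values
  obtain ⟨t', ht'⟩ : ∃ t' : ∀ i, Fin (n i) → Γ(G, W i),
      ∀ i k, res G (inf_le_left : W i ⊓ X.basicOpen f ≤ W i) (t' i k) =
        resO (le_top : W i ⊓ X.basicOpen f ≤ ⊤) f ^ M •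
          φ.app (W i ⊓ X.basicOpen f) inf_le_right (res F inf_le_left ((fr i).e k)) := by
    refine ⟨fun i k => resO (le_top : W i ≤ ⊤) f ^ (M - N i k) • t i k, ?_⟩
    intro i k
    have hk : N i k ≤ M := (Finset.single_le_sum (f := fun k => N i k)
      (fun _ _ => Nat.zero_le _) (Finset.mem_univ k)).trans
      (Finset.single_le_sum (f := fun i => ∑ k, N i k)
        (fun _ _ => Nat.zero_le _) (Finset.mem_univ i))
    change res G _ (resO (le_top : W i ≤ ⊤) f ^ (M - N i k) • t i k) = _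
    rw [res_smul, ht, map_pow, resO_resO, smul_smul, ← pow_add, Nat.sub_add_cancel hk]
  let ψ : ∀ i, LHom F G (W i) := fun i => (fr i).hom G (t' i)
  have hψ : ∀ i (V : X.Opens) (hi : V ≤ W i) (hf : V ≤ X.basicOpen f) (s : Γ(F, V)),
      (ψ i).app V hi s = resO (le_top : V ≤ ⊤) f ^ M • φ.app V hf s := by
    intro i V hi hf s
    refine (fr i).linearMap_ext G hi ((ψ i).app V hi)
      (resO (le_top : V ≤ ⊤) f ^ M • φ.app V hf) (fun k => ?_) s
    change ((fr i).hom G (t' i)).app V hi _ = _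
    rw [Frame.hom_app_e, LinearMap.smul_apply]
    have hV : V ≤ W i ⊓ X.basicOpen f := le_inf hi hf
    have := congrArg (res G hV) (ht' i k)
    rwa [res_res, res_smul, ← φ.nat _ _ hV, res_res, map_pow, resO_resO] at this
  have key2 : ∀ i j (k : Fin (n i)), ∃ m : ℕ, resO (le_top : W i ⊓ W j ≤ ⊤) f ^ m •
      ((ψ i).app (W i ⊓ W j) inf_le_left (res F inf_le_left ((fr i).e k)) -
        (ψ j).app (W i ⊓ W j) inf_le_right (res F inf_le_left ((fr i).e k))) = 0 := by
    intro i j k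
    apply (hG' i j).1
    rw [map_sub, ← (ψ i).nat, ← (ψ j).nat, hψ i _ _ inf_le_right, hψ j _ _ inf_le_right, sub_self]
  choose m hm using key2
  set M' := ∑ i, ∑ j, ∑ k, m i j k with hM'
  have hM'2 : ∀ i j k, m i j k ≤ M' := fun i j k =>
    (Finset.single_le_sum (f := fun k => m i j k)
      (fun _ _ => Nat.zero_le _) (Finset.mem_univ k)).trans
      ((Finset.single_le_sum (f := fun j => ∑ k, m i j k)
        (fun _ _ => Nat.zero_le _) (Finset.mem_univ j)).trans
        (Finset.single_le_sum (f := fun i => ∑ j, ∑ k, m i j k)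
        (fun _ _ => Nat.zero_le _) (Finset.mem_univ i)))
  let ψ' : ∀ i, LHom F G (W i) := fun i =>
    { app := fun V hV => resO (le_top : V ≤ ⊤) f ^ M' • (ψ i).app V hV
      nat := fun V V' h hV s => by
        rw [LinearMap.smul_apply, LinearMap.smul_apply, res_smul, map_pow, resO_resO, (ψ i).nat] }
  have compat : ∀ i j (V : X.Opens) (hi : V ≤ W i) (hj : V ≤ W j) (s : Γ(F, V)),
      (ψ' i).app V hi s = (ψ' j).app V hj s := by
    intro i j V hi hj s
    refine (fr i).linearMap_ext G hi ((ψ' i).app V hi) ((ψ' j).app V hj) (fun k => ?_) s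
    have hV : V ≤ W i ⊓ W j := le_inf hi hj
    obtain ⟨l, hl⟩ := Nat.exists_eq_add_of_le (hM'2 i j k)
    have h1 : resO (le_top : W i ⊓ W j ≤ ⊤) f ^ M' •
      ((ψ i).app (W i ⊓ W j) inf_le_left (res F inf_le_left ((fr i).e k)) -
        (ψ j).app (W i ⊓ W j) inf_le_right (res F inf_le_left ((fr i).e k))) = 0 := by
      rw [hl, pow_add, mul_comm, mul_smul, hm, smul_zero]
    have h2 := congrArg (res G hV) h1
    rw [res_smul, map_sub, ← (ψ i).nat _ _ hV, ← (ψ j).nat _ _ hV, res_res, map_zero, map_pow,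
      resO_resO, smul_sub, sub_eq_zero] at h2
    exact h2
  obtain ⟨Ψ, hΨ⟩ := exists_glue F G W hW ψ' compat
  refine ⟨M' + M, Ψ, fun V hV s => ?_⟩
  refine sec_ext G W (hW ▸ le_top) _ _ (fun i => ?_)
  rw [← app_res, hΨ i _ inf_le_right]
  change resO (le_top : V ⊓ W i ≤ ⊤) f ^ M' • (ψ i).app (V ⊓ W i) inf_le_right _ = _
  rw [hψ i _ _ (inf_le_left.trans hV), res_smul, ← φ.nat _ _ inf_le_left hV, map_pow, resO_resO,
    smul_smul, ← pow_add]

end Groth.Agent.LoccohB.FrameExt
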