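import Groth.Agent.LoccohB.GoodEval
import Groth.Prelude.Def_DualSh

/-!
# Independence of the presentation of the algebraic upper shriek
-/

set_option autoImplicit false

universe u

open CategoryTheory CategoryTheory.Limits CategoryTheory.Functor

attribute [local instance] HasDerivedCategory.standard

namespace Groth.Agent.LoccohB.ShriekIndep

open DerivedCategory Divisor

/-- Comparison of `RHom_P(A, K ⊗ P)` along a good surjection `θ : P₁ → P₂`. -/
theorem compare {R P₁ P₂ A : Type u} [CommRing R] [CommRing P₁] [CommRing P₂] [CommRing A]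
    (i₁ : R →+* P₁) (i₂ : R →+* P₂) (p₁ : P₁ →+* A) (p₂ : P₂ →+* A) (θ : P₁ →+* P₂)
    (hi : θ.comp i₁ = i₂) (hp : p₂.comp θ = p₁) (m : ℤ) (hθ : IsGood θ m)
    [DRing.HasLBaseChange i₁] [DRing.HasLBaseChange i₂]
    {R₁ : Dual.D P₁ ⥤ Dual.D A} (adj₁ : DRing.restrictD p₁ ⊣ R₁)
    {R₂ : Dual.D P₂ ⥤ Dual.D A} (adj₂ : DRing.restrictD p₂ ⊣ R₂) (K : Dual.D R) :
    Nonempty ((R₁.obj ((DRing.LBaseChange i₁).obj K))⟦m⟧ ≅ R₂.obj ((DRing.LBaseChange i₂).obj K)) := by
  subst hi hp
  have := LBC.hasLBaseChange θ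
  obtain ⟨e⟩ := hθ inferInstance _ (RAdj.coextAdj θ) ((DRing.LBaseChange i₁).obj K)
  let c := RAdj.compIso (RAdj.coextAdj θ) adj₂ adj₁
  exact ⟨(shiftFunctor _ m).mapIso (c.app _) ≪≫ (RAdj.shiftIso adj₂ _ m).symm ≪≫ R₂.mapIso e ≪≫
    R₂.mapIso ((RAdj.lbcComp i₁ θ).app K).symm⟩

section Theta

variable (R : Type u) [CommRing R] (n m : ℕ) (g' : Fin n → MvPolynomial (Fin m) R)

/-- `R[x][y] → R[y]`, `x_i ↦ g'_i(y)`, `y_j ↦ y_j`. -/
noncomputable def theta : MvPolynomial (Fin m) (MvPolynomial (Fin n) R) →+* MvPolynomial (Fin m) R :=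
  (MvPolynomial.eval g').comp ((MvPolynomial.commAlgEquiv R (Fin m) (Fin n)).toRingEquiv :
    MvPolynomial (Fin m) (MvPolynomial (Fin n) R) →+* _)

theorem theta_C (p : MvPolynomial (Fin n) R) : theta R n m g' (MvPolynomial.C p) = MvPolynomial.aeval g' p := by
  unfold theta
  have h : MvPolynomial.commAlgEquiv R (Fin m) (Fin n) (MvPolynomial.C p) = MvPolynomial.map MvPolynomial.C p :=
    MvPolynomial.commAlgEquiv_C p
  refine (congrArg (MvPolynomial.eval g') h).trans ?_
  rw [MvPolynomial.eval_map, MvPolynomial.aeval_def]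
  rfl

theorem theta_X (j : Fin m) : theta R n m g' (MvPolynomial.X j) = MvPolynomial.X j := by
  unfold theta
  have h : MvPolynomial.commAlgEquiv R (Fin m) (Fin n) (MvPolynomial.X j) = MvPolynomial.C (MvPolynomial.X j) :=
    MvPolynomial.commAlgEquiv_X j
  refine (congrArg (MvPolynomial.eval g') h).trans ?_
  rw [MvPolynomial.eval_C]

theorem isGood_theta : IsGood (theta R n m g') n :=
  GoodEval.isGood_congr
    ((GoodEval.isGood_equiv (MvPolynomial.commAlgEquiv R (Fin m) (Fin n)).toRingEquiv).comp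
      (GoodEval.isGood_mvPolynomial_eval n g')) rfl (by simp)

end Theta

/-- Two presentations give isomorphic upper shrieks (no Noetherian hypothesis). -/
theorem shriekVia_indep (R A : Type u) [CommRing R] [CommRing A] [Algebra R A]
    (n : ℕ) (ψ : MvPolynomial (Fin n) R →ₐ[R] A) (hψ : Function.Surjective ψ)
    [DRing.HasLBaseChange (algebraMap R (MvPolynomial (Fin n) R))]
    (Rψ : Dual.D (MvPolynomial (Fin n) R) ⥤ Dual.D A) (adj : DRing.restrictD ψ.toRingHom ⊣ Rψ)
    (m : ℕ) (ψ' : MvPolynomial (Fin m) R →ₐ[R] A) (hψ' : Function.Surjective ψ')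
    [DRing.HasLBaseChange (algebraMap R (MvPolynomial (Fin m) R))]
    (Rψ' : Dual.D (MvPolynomial (Fin m) R) ⥤ Dual.D A) (adj' : DRing.restrictD ψ'.toRingHom ⊣ Rψ')
    (K : Dual.D R) : Nonempty (Dual2.shriekVia n Rψ K ≅ Dual2.shriekVia m Rψ' K) := by
  choose g hg using fun j : Fin m => hψ (ψ' (MvPolynomial.X j))
  choose g' hg' using fun i : Fin n => hψ' (ψ (MvPolynomial.X i))
  -- the big polynomial ring
  let PP := MvPolynomial (Fin m) (MvPolynomial (Fin n) R)
  let θ : PP →+* MvPolynomial (Fin n) R := MvPolynomial.eval g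
  let θ' : PP →+* MvPolynomial (Fin m) R := theta R n m g'
  have hθ : IsGood θ m := GoodEval.isGood_mvPolynomial_eval m g
  have hθ' : IsGood θ' n := isGood_theta R n m g'
  let i : R →+* PP := algebraMap R PP
  have := LBC.hasLBaseChange i
  have hχ : ψ'.toRingHom.comp θ' = ψ.toRingHom.comp θ := by
    apply MvPolynomial.ringHom_ext
    · intro p
      change ψ' (theta R n m g' (MvPolynomial.C p)) = ψ (MvPolynomial.eval g (MvPolynomial.C p))
      rw [theta_C, MvPolynomial.eval_C]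
      have h1 : ψ'.comp (MvPolynomial.aeval g') = ψ := MvPolynomial.algHom_ext (fun i => by
        rw [AlgHom.comp_apply, MvPolynomial.aeval_X, hg'])
      exact DFunLike.congr_fun h1 p
    · intro j
      change ψ' (theta R n m g' (MvPolynomial.X j)) = ψ (MvPolynomial.eval g (MvPolynomial.X j))
      rw [theta_X, MvPolynomial.eval_X, hg]
  have hi : θ.comp i = algebraMap R (MvPolynomial (Fin n) R) := by
    ext r : 1
    change MvPolynomial.eval g (MvPolynomial.C (MvPolynomial.C r)) = MvPolynomial.C r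
    rw [MvPolynomial.eval_C]
  have hi' : θ'.comp i = algebraMap R (MvPolynomial (Fin m) R) := by
    ext r : 1
    change theta R n m g' (MvPolynomial.C (MvPolynomial.C r)) = MvPolynomial.C r
    rw [theta_C, MvPolynomial.aeval_C]
    rfl
  obtain ⟨e⟩ := compare i (algebraMap R (MvPolynomial (Fin n) R)) (ψ.toRingHom.comp θ) ψ.toRingHom θ hi rfl m hθ
    (RAdj.coextAdj _) adj K
  obtain ⟨e'⟩ := compare i (algebraMap R (MvPolynomial (Fin m) R)) (ψ.toRingHom.comp θ) ψ'.toRingHom θ' hi' hχ n hθ'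
    (RAdj.coextAdj _) adj' K
  exact ⟨(shiftFunctor _ (n : ℤ)).mapIso e.symm ≪≫ (shiftFunctorAdd' (Dual.D A) (m : ℤ) n (m + n) rfl).symm.app _ ≪≫
    (shiftFunctorAdd' (Dual.D A) (n : ℤ) m (m + n) (add_comm _ _)).app _ ≪≫ (shiftFunctor _ (m : ℤ)).mapIso e'⟩

end Groth.Agent.LoccohB.ShriekIndep
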