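import Groth.Agent.LoccohB.FrobPair
import Groth.Agent.LoccohB.ShriekIndep
import Mathlib.Algebra.Homology.ShortComplex.PreservesHomology

/-!
# Frobenius extensions are `0`-good; finite towers
-/

set_option autoImplicit false

universe u

open CategoryTheory CategoryTheory.Limits CategoryTheory.Functor

attribute [local instance] HasDerivedCategory.standard

namespace Groth.Agent.LoccohB.FrobGood

open DerivedCategory Divisor FrobPair

section Good

variable {C C' : Type u} [CommRing C] [CommRing C'] {f : C →+* C'} (F : FrobHom f)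

include F in
theorem preservesHomology_coext : (ModuleCat.coextendScalars.{u, u, u} f).PreservesHomology := by
  have h1 : PreservesFiniteLimits (ModuleCat.coextendScalars.{u, u, u} f) :=
    ⟨fun _ _ _ => (ModuleCat.restrictCoextendScalarsAdj.{u, u, u} f).rightAdjoint_preservesLimits.preservesLimitsOfShape⟩
  have h2 : PreservesFiniteColimits (ModuleCat.coextendScalars.{u, u, u} f) :=
    ⟨fun J _ _ => by
      have : PreservesColimitsOfShape J (ModuleCat.extendScalars.{u, u, u} f) :=
        (ModuleCat.extendRestrictScalarsAdj.{u, u, u} f).leftAdjoint_preservesColimits.preservesColimitsOfShape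
      exact preservesColimitsOfShape_of_natIso (coIsoExt F).symm⟩
  infer_instance

include F in
/-- Frobenius extensions are `0`-good. -/
theorem isGood_of_frobHom : IsGood f 0 := by
  intro _ R adj N
  obtain ⟨P, p, hP, hp, hPp, -⟩ := KProj.exists_kprojective (Q.objPreimage N)
  obtain ⟨J, j, hJ, hj, hmono, hJi⟩ := RAdj.exists_kinjective C P
  let eN : Q.obj P ≅ N := asIso (Q.map p) ≪≫ Q.objObjPreimageIso N
  let eJ : Q.obj P ≅ Q.obj J := asIso (Q.map j)
  have := preservesHomology_coext F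
  have hq : QuasiIso ((DivisorCx.coextCx f).map j) := inferInstance
  let e1 : Q.obj ((DivisorCx.coextCx f).obj P) ≅ Q.obj ((DivisorCx.coextCx f).obj J) :=
    asIso (Q.map ((DivisorCx.coextCx f).map j))
  let e2 : (DivisorCx.coextCx f).obj P ≅ (DivisorCx.extCx f).obj P :=
    (NatIso.mapHomologicalComplex (coIsoExt F) (ComplexShape.up ℤ)).app P
  exact ⟨(shiftFunctorZero _ ℤ).app _ ≪≫ R.mapIso (eN.symm ≪≫ eJ) ≪≫ RAdj.objIso adj J ≪≫ e1.symm ≪≫
    Q.mapIso e2 ≪≫ (lbcObjIso f P).symm ≪≫ (DRing.LBaseChange f).mapIso eN⟩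

end Good

theorem isGood_adjoinRoot {R : Type u} [CommRing R] (f : Polynomial R) (hf : f.Monic) :
    IsGood (AdjoinRoot.of f) 0 := by
  obtain ⟨F⟩ := nonempty_frob (AdjoinRoot.powerBasis' hf)
  exact isGood_of_frobHom F.toHom

section Tower

open Polynomial

theorem isGood_map_adjoinRoot {R : Type u} [CommRing R] (f : R[X]) (hf : f.Monic) (n : ℕ) :
    IsGood (MvPolynomial.map (σ := Fin n) (AdjoinRoot.mk f)) 1 := by
  refine isGood_of_nonZeroDivisor _ (MvPolynomial.C f) (MvPolynomial.map_surjective _ AdjoinRoot.mk_surjective) ?_ ?_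
  · rw [MvPolynomial.ker_map]
    have : RingHom.ker (AdjoinRoot.mk f) = Ideal.span {f} := by
      ext x
      rw [RingHom.mem_ker, AdjoinRoot.mk_eq_zero, Ideal.mem_span_singleton]
    rw [this, Ideal.map_span, Set.image_singleton]
  · rw [mem_nonZeroDivisors_iff_left]
    intro p hp
    ext m
    have h := congrArg (MvPolynomial.coeff m) hp
    rw [MvPolynomial.coeff_C_mul, MvPolynomial.coeff_zero] at h
    rw [(mul_left_mem_nonZeroDivisors_eq_zero_iff hf.mem_nonZeroDivisors).1 h]
    rfl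

/-- Tower of Frobenius extensions. -/
theorem exists_tower : ∀ (n : ℕ) {R A : Type u} [CommRing R] [CommRing A] (g : R →+* A) (c : Fin n → A)
    (_ : ∀ j, g.IsIntegralElem (c j)),
    ∃ (R₁ : Type u) (_ : CommRing R₁) (i : R →+* R₁) (p : R₁ →+* A) (y : Fin n → R₁),
      p.comp i = g ∧ IsGood i 0 ∧ (∀ j, p (y j) = c j) ∧ IsGood (MvPolynomial.eval₂Hom i y) n
  | 0, R, A, _, _, g, c, _ => by
    refine ⟨R, inferInstance, RingHom.id R, g, Fin.elim0, RingHom.comp_id g, ?_, fun j => Fin.elim0 j, ?_⟩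
    · exact GoodEval.isGood_congr (GoodEval.isGood_equiv (RingEquiv.refl R)) (by ext; rfl) rfl
    · refine GoodEval.isGood_congr (GoodEval.isGood_mvPolynomial_eval 0 (Fin.elim0 : Fin 0 → R)) ?_ rfl
      ext x
      · simp
      · exact Fin.elim0 x
  | n + 1, R, A, _, _, g, c, hc => by
    obtain ⟨f, hf, hfc⟩ := hc 0
    let p₀ : AdjoinRoot f →+* A := AdjoinRoot.lift g (c 0) hfc
    obtain ⟨R₁, _, i, p, y, hpi, hi, hy, hθ⟩ := exists_tower n p₀ (fun j => c j.succ) (fun j => by
      obtain ⟨q, hq, hqc⟩ := hc j.succ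
      refine ⟨q.map (AdjoinRoot.of f), hq.map _, ?_⟩
      rw [Polynomial.eval₂_map, ← hqc]
      congr 1
      ext x
      simp [p₀])
    refine ⟨R₁, inferInstance, i.comp (AdjoinRoot.of f), p, Fin.cons (i (AdjoinRoot.root f)) y, ?_, ?_, ?_, ?_⟩
    · rw [← RingHom.comp_assoc, hpi]
      ext x
      simp [p₀]
    · exact GoodEval.isGood_congr ((isGood_adjoinRoot f hf).comp hi) rfl (by norm_num)
    · intro j
      refine Fin.cases ?_ (fun j => ?_) j
      · have : p (i (AdjoinRoot.root f)) = p₀ (AdjoinRoot.root f) := congrArg (fun h => h (AdjoinRoot.root f)) hpi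
        rw [Fin.cons_zero, this]
        exact AdjoinRoot.lift_root hfc
      · rw [Fin.cons_succ]
        exact hy j
    · let e : MvPolynomial (Fin (n + 1)) R ≃ₐ[R] MvPolynomial (Fin n) R[X] :=
        (MvPolynomial.renameEquiv R (_root_.finSuccEquiv n)).trans (MvPolynomial.optionEquivRight R (Fin n))
      have h1 := GoodEval.isGood_equiv e.toRingEquiv
      have h2 := isGood_map_adjoinRoot f hf n
      refine GoodEval.isGood_congr ((h1.comp h2).comp hθ) ?_ (by push_cast; ring)
      ext x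
      · simp [e]
      · refine Fin.cases ?_ (fun j => ?_) x
        · simp [e]
        · simp [e]

end Tower

section Final

/-- Comparison with `RHom_R(A, -)` for a composite with a good map. -/
theorem compare_zero {R R₁ A : Type u} [CommRing R] [CommRing R₁] [CommRing A] (i : R →+* R₁) (p : R₁ →+* A)
    (g : R →+* A) (hg : p.comp i = g) (hi : IsGood i 0) [DRing.HasLBaseChange i]
    {R' : Dual.D R ⥤ Dual.D A} (adj' : DRing.restrictD g ⊣ R') {R₂ : Dual.D R₁ ⥤ Dual.D A}
    (adj₂ : DRing.restrictD p ⊣ R₂) (K : Dual.D R) :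
    Nonempty (R₂.obj ((DRing.LBaseChange i).obj K) ≅ R'.obj K) := by
  subst hg
  obtain ⟨e⟩ := hi inferInstance _ (RAdj.coextAdj i) K
  exact ⟨R₂.mapIso (e.symm ≪≫ (shiftFunctorZero _ ℤ).app _) ≪≫
    ((RAdj.compIso (RAdj.coextAdj i) adj₂ adj').app K).symm⟩

theorem shriekVia_finite (R A : Type u) [CommRing R] [CommRing A] [Algebra R A] (n : ℕ)
    (ψ : MvPolynomial (Fin n) R →ₐ[R] A) [DRing.HasLBaseChange (algebraMap R (MvPolynomial (Fin n) R))]
    (Rψ : Dual.D (MvPolynomial (Fin n) R) ⥤ Dual.D A) (adj : DRing.restrictD ψ.toRingHom ⊣ Rψ)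
    [Algebra.IsIntegral R A] (R' : Dual.D R ⥤ Dual.D A) (adjR : DRing.restrictD (algebraMap R A) ⊣ R')
    (K : Dual.D R) : Nonempty (Dual2.shriekVia n Rψ K ≅ R'.obj K) := by
  obtain ⟨R₁, _, i, p, y, hpi, hi, hy, hθ⟩ := exists_tower n (algebraMap R A) (fun j => ψ (MvPolynomial.X j))
    (fun j => Algebra.IsIntegral.isIntegral _)
  have := LBC.hasLBaseChange i
  obtain ⟨e⟩ := ShriekIndep.compare (algebraMap R (MvPolynomial (Fin n) R)) i ψ.toRingHom p
    (MvPolynomial.eval₂Hom i y) (by ext x; simp) (by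
      ext x
      · simp [← hpi]
      · simp [hy]) n hθ adj (RAdj.coextAdj p) K
  obtain ⟨e'⟩ := compare_zero i p (algebraMap R A) hpi hi adjR (RAdj.coextAdj p) K
  exact ⟨e ≪≫ e'⟩

end Final

end Groth.Agent.LoccohB.FrobGood
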