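import Mathlib.RingTheory.AdjoinRoot
import Mathlib.RingTheory.PowerBasis
import Mathlib.Algebra.Category.ModuleCat.ChangeOfRings
import Mathlib.Algebra.Category.ModuleCat.Abelian

/-!
# Frobenius pairs: `R → Q` with a power basis, and `Q ⊗_R M ≅ Hom_R(Q, M)`
-/

set_option autoImplicit false

universe u

open CategoryTheory

namespace Groth.Agent.LoccohB.FrobPair

/-- A Frobenius system for the `R`-algebra `Q`. -/
structure Frob (R Q : Type u) [CommRing R] [CommRing Q] [Algebra R Q] where
  d : ℕ
  lam : Q →ₗ[R] R
  e : Fin d → Q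
  e' : Fin d → Q
  h1 : ∀ q : Q, q = ∑ j, lam (q * e j) • e' j
  h2 : ∀ q : Q, q = ∑ j, lam (q * e' j) • e j

section PowerBasis

variable {R Q : Type u} [CommRing R] [CommRing Q] [Algebra R Q] (pb : PowerBasis R Q)

theorem exists_functional (hd : 0 < pb.dim) :
    ∃ lam : Q →ₗ[R] R, (∀ m : ℕ, m < pb.dim - 1 → lam (pb.gen ^ m) = 0) ∧
      lam (pb.gen ^ (pb.dim - 1)) = 1 := by
  refine ⟨pb.basis.coord ⟨pb.dim - 1, by omega⟩, ?_, ?_⟩
  · intro m hm
    have hb := pb.basis_eq_pow ⟨m, by omega⟩
    rw [← hb, Module.Basis.coord_apply, Module.Basis.repr_self, Finsupp.single_apply, if_neg]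
    intro h
    have := congrArg Fin.val h
    simp at this
    omega
  · have hb := pb.basis_eq_pow ⟨pb.dim - 1, by omega⟩
    rw [← hb, Module.Basis.coord_apply, Module.Basis.repr_self, Finsupp.single_eq_same]

theorem exists_repr (lam : Q →ₗ[R] R) (h0 : ∀ m : ℕ, m < pb.dim - 1 → lam (pb.gen ^ m) = 0)
    (h1 : lam (pb.gen ^ (pb.dim - 1)) = 1) (k : ℕ) :
    ∀ φ : Q →ₗ[R] R, (∀ j, j < pb.dim - k → φ (pb.gen ^ j) = 0) → ∃ q : Q, ∀ x, lam (q * x) = φ x := by
  induction k with
  | zero =>
    intro φ hφ
    refine ⟨0, fun x => ?_⟩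
    rw [zero_mul, map_zero]
    have : φ = 0 := by
      refine pb.basis.ext fun i => ?_
      rw [pb.basis_eq_pow, hφ _ (by omega)]
      rfl
    rw [this]
    rfl
  | succ k ih =>
    intro φ hφ
    by_cases hk : k < pb.dim
    · let c := φ (pb.gen ^ (pb.dim - (k + 1)))
      let φ' : Q →ₗ[R] R := φ - c • (lam.comp (LinearMap.mulLeft R (pb.gen ^ k)))
      obtain ⟨q, hq⟩ := ih φ' (fun j hj => by
        change φ (pb.gen ^ j) - c • lam (pb.gen ^ k * pb.gen ^ j) = 0
        rw [← pow_add]
        by_cases hj' : j < pb.dim - (k + 1)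
        · rw [hφ j hj', h0 _ (by omega), smul_zero, sub_zero]
        · have : j = pb.dim - (k + 1) := by omega
          subst this
          have h3 : k + (pb.dim - (k + 1)) = pb.dim - 1 := by omega
          rw [h3, h1, smul_eq_mul, mul_one, sub_self])
      refine ⟨q + c • pb.gen ^ k, fun x => ?_⟩
      rw [add_mul, map_add, hq, smul_mul_assoc, map_smul]
      change φ x - c • lam (pb.gen ^ k * x) + _ = _
      rw [sub_add_cancel]
    · exact ih φ (fun j hj => hφ j (by omega))

include pb in
/-- A power basis gives a Frobenius system. -/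
theorem nonempty_frob : Nonempty (Frob R Q) := by
  by_cases hd : 0 < pb.dim
  · obtain ⟨lam, h0, h1⟩ := exists_functional pb hd
    have hrep : ∀ φ : Q →ₗ[R] R, ∃ q : Q, ∀ x, lam (q * x) = φ x := fun φ =>
      exists_repr pb lam h0 h1 pb.dim φ (fun j hj => by omega)
    choose r hr using hrep
    let e : Fin pb.dim → Q := fun j => pb.basis j
    let e' : Fin pb.dim → Q := fun j => r (pb.basis.coord j)
    have h2 : ∀ q : Q, q = ∑ j, lam (q * e' j) • e j := by
      intro q
      conv_lhs => rw [← pb.basis.sum_repr q]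
      refine Finset.sum_congr rfl fun j _ => ?_
      change _ = lam (q * r (pb.basis.coord j)) • pb.basis j
      rw [mul_comm, hr]
      rfl
    have hnd : ∀ q : Q, (∀ x, lam (q * x) = 0) → q = 0 := by
      intro q hq
      rw [h2 q]
      exact Finset.sum_eq_zero fun j _ => by rw [hq, zero_smul]
    refine ⟨⟨pb.dim, lam, e, e', ?_, h2⟩⟩
    intro q
    rw [← sub_eq_zero]
    apply hnd
    have key : ∀ k, lam ((q - ∑ j, lam (q * e j) • e' j) * e k) = 0 := by
      intro k
      rw [sub_mul, map_sub, Finset.sum_mul, map_sum]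
      have : ∑ j, lam (lam (q * e j) • e' j * e k) = lam (q * e k) := by
        rw [Finset.sum_eq_single k]
        · rw [smul_mul_assoc, map_smul]
          change _ • lam (r (pb.basis.coord k) * pb.basis k) = _
          rw [hr, Module.Basis.coord_apply, Module.Basis.repr_self, Finsupp.single_eq_same, smul_eq_mul, mul_one]
        · intro j _ hj
          rw [smul_mul_assoc, map_smul]
          change _ • lam (r (pb.basis.coord j) * pb.basis k) = _
          rw [hr, Module.Basis.coord_apply, Module.Basis.repr_self, Finsupp.single_apply, if_neg (Ne.symm hj), smul_zero]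
        · intro h
          exact absurd (Finset.mem_univ k) h
      rw [this, sub_self]
    intro x
    rw [← pb.basis.sum_repr x, Finset.mul_sum, map_sum]
    refine Finset.sum_eq_zero fun k _ => ?_
    rw [mul_smul_comm, map_smul]
    change _ • lam (_ * e k) = 0
    rw [key, smul_zero]
  · have h0 : pb.dim = 0 := by omega
    have hz : ∀ q : Q, q = 0 := by
      intro q
      rw [← pb.basis.sum_repr q]
      refine Finset.sum_eq_zero fun k _ => ?_
      exact absurd k.2 (by omega)
    exact ⟨⟨0, 0, fun _ => 0, fun _ => 0, fun q => by rw [hz q]; simp, fun q => by rw [hz q]; simp⟩⟩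

end PowerBasis

/-- A Frobenius system for a ring homomorphism. -/
structure FrobHom {R Q : Type u} [CommRing R] [CommRing Q] (f : R →+* Q) where
  d : ℕ
  lam : Q →+ R
  lam_mul : ∀ (r : R) (q : Q), lam (f r * q) = r * lam q
  e : Fin d → Q
  e' : Fin d → Q
  h1 : ∀ q : Q, q = ∑ j, f (lam (q * e j)) * e' j
  h2 : ∀ q : Q, q = ∑ j, f (lam (q * e' j)) * e j

/-- From an algebra to its structure homomorphism. -/
def Frob.toHom {R Q : Type u} [CommRing R] [CommRing Q] [Algebra R Q] (F : Frob R Q) :
    FrobHom (algebraMap R Q) where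
  d := F.d
  lam := F.lam.toAddMonoidHom
  lam_mul r q := by
    change F.lam (algebraMap R Q r * q) = r * F.lam q
    rw [← Algebra.smul_def, map_smul, smul_eq_mul]
  e := F.e
  e' := F.e'
  h1 q := by
    conv_lhs => rw [F.h1 q]
    refine Finset.sum_congr rfl fun j _ => ?_
    rw [Algebra.smul_def]
    rfl
  h2 q := by
    conv_lhs => rw [F.h2 q]
    refine Finset.sum_congr rfl fun j _ => ?_
    rw [Algebra.smul_def]
    rfl

section NatIso

open ModuleCat ChangeOfRings

variable {R Q : Type u} [CommRing R] [CommRing Q] {f : R →+* Q} (F : FrobHom f)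

/-- `q ⊗ m` in `Q ⊗_R M`. -/
noncomputable def tq (f : R →+* Q) (M : ModuleCat.{u} R) (q : Q) (m : M) : (extendScalars f).obj M := q ⊗ₜ[R,f] m

theorem tq_add_right (M : ModuleCat.{u} R) (q : Q) (m m' : M) : tq f M q (m + m') = tq f M q m + tq f M q m' := by
  let : Module R Q := Module.compHom Q f
  exact TensorProduct.tmul_add _ _ _

theorem tq_add_left (M : ModuleCat.{u} R) (q q' : Q) (m : M) : tq f M (q + q') m = tq f M q m + tq f M q' m := by
  let : Module R Q := Module.compHom Q f
  exact TensorProduct.add_tmul _ _ _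

theorem tq_zero_left (M : ModuleCat.{u} R) (m : M) : tq f M 0 m = 0 := by
  let : Module R Q := Module.compHom Q f
  exact TensorProduct.zero_tmul _ _

theorem tq_zero_right (M : ModuleCat.{u} R) (q : Q) : tq f M q 0 = 0 := by
  let : Module R Q := Module.compHom Q f
  exact TensorProduct.tmul_zero _ _

theorem tq_mul (M : ModuleCat.{u} R) (r : R) (q : Q) (m : M) : tq f M (f r * q) m = tq f M q (r • m) := by
  let : Module R Q := Module.compHom Q f
  exact TensorProduct.smul_tmul (R := R) r q m

theorem smul_tq (M : ModuleCat.{u} R) (s q : Q) (m : M) : s • tq f M q m = tq f M (s * q) m :=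
  ExtendScalars.smul_tmul f s q m

theorem tq_sum_left (M : ModuleCat.{u} R) {ι : Type*} (s : Finset ι) (q : ι → Q) (m : M) :
    tq f M (∑ i ∈ s, q i) m = ∑ i ∈ s, tq f M (q i) m := by
  classical
  induction s using Finset.induction_on with
  | empty => simp [tq_zero_left]
  | insert a s ha ih => rw [Finset.sum_insert ha, Finset.sum_insert ha, tq_add_left, ih]

theorem tq_sum_right (M : ModuleCat.{u} R) {ι : Type*} (s : Finset ι) (q : Q) (m : ι → M) :
    tq f M q (∑ i ∈ s, m i) = ∑ i ∈ s, tq f M q (m i) := by
  classical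
  induction s using Finset.induction_on with
  | empty => simp [tq_zero_right]
  | insert a s ha ih => rw [Finset.sum_insert ha, Finset.sum_insert ha, tq_add_right, ih]

theorem tq_induction (M : ModuleCat.{u} R) {p : (extendScalars f).obj M → Prop} (h0 : p 0)
    (h1 : ∀ q m, p (tq f M q m)) (h2 : ∀ x y, p x → p y → p (x + y)) (x : (extendScalars f).obj M) : p x := by
  let : Module R Q := Module.compHom Q f
  exact TensorProduct.induction_on x h0 h1 h2

/-- `q ⊗ m ↦ lam (q * x) • m`. -/
noncomputable def contract (M : ModuleCat.{u} R) (x : Q) : (extendScalars f).obj M →+ M := by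
  letI : Module R Q := Module.compHom Q f
  exact (TensorProduct.lift (LinearMap.mk₂ R (fun (q : Q) (m : M) => F.lam (q * x) • m)
    (fun q q' m => by rw [add_mul, map_add, add_smul])
    (fun r q m => by
      change F.lam ((f r * q) * x) • m = r • F.lam (q * x) • m
      rw [mul_assoc, F.lam_mul, mul_smul])
    (fun q m m' => by rw [smul_add])
    (fun r q m => by rw [smul_comm]))).toAddMonoidHom

theorem contract_tq (M : ModuleCat.{u} R) (x q : Q) (m : M) :
    contract F M x (tq f M q m) = F.lam (q * x) • m := rfl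

/-- evaluation of an element of `Hom_R(Q, M)` -/
noncomputable def evq (f : R →+* Q) (M : ModuleCat.{u} R) (g : (coextendScalars f).obj M) (q : Q) : M :=
  CoextendScalars.equiv f M g q

theorem evq_add (M : ModuleCat.{u} R) (g : (coextendScalars f).obj M) (q q' : Q) :
    evq f M g (q + q') = evq f M g q + evq f M g q' := map_add (CoextendScalars.equiv f M g) q q'

theorem evq_zero (M : ModuleCat.{u} R) (g : (coextendScalars f).obj M) :
    evq f M g 0 = 0 := map_zero (CoextendScalars.equiv f M g)

theorem evq_mul (M : ModuleCat.{u} R) (g : (coextendScalars f).obj M) (r : R) (q : Q) :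
    evq f M g (f r * q) = r • evq f M g q :=
  (CoextendScalars.equiv f M g).map_smul r (show (restrictScalars f).obj (of Q Q) from q)

theorem evq_sum (M : ModuleCat.{u} R) (g : (coextendScalars f).obj M) {ι : Type*} (s : Finset ι) (q : ι → Q) :
    evq f M g (∑ i ∈ s, q i) = ∑ i ∈ s, evq f M g (q i) := by
  classical
  induction s using Finset.induction_on with
  | empty => simp [evq_zero]
  | insert a s ha ih => rw [Finset.sum_insert ha, Finset.sum_insert ha, evq_add, ih]

theorem evq_add_left (M : ModuleCat.{u} R) (g h : (coextendScalars f).obj M) (q : Q) :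
    evq f M (g + h) q = evq f M g q + evq f M h q := rfl

theorem evq_smul_left (M : ModuleCat.{u} R) (g : (coextendScalars f).obj M) (s q : Q) :
    evq f M (s • g) q = evq f M g (q * s) := rfl

theorem evq_ext (M : ModuleCat.{u} R) (g h : (coextendScalars f).obj M) (hgh : ∀ q, evq f M g q = evq f M h q) :
    g = h := CoextendScalars.ext (LinearMap.ext hgh)

theorem evq_map {M N : ModuleCat.{u} R} (φ : M ⟶ N) (g : (coextendScalars f).obj M) (q : Q) :
    evq f N ((coextendScalars f).map φ g) q = φ (evq f M g q) := rfl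

theorem map_tq {M N : ModuleCat.{u} R} (φ : M ⟶ N) (q : Q) (m : M) :
    (extendScalars f).map φ (tq f M q m) = tq f N q (φ m) := rfl

theorem smul_sum_tq (M : ModuleCat.{u} R) (s : Q) {ι : Type*} (t : Finset ι) (q : ι → Q) (m : ι → M) :
    s • (∑ i ∈ t, tq f M (q i) (m i)) = ∑ i ∈ t, tq f M (s * q i) (m i) := by
  classical
  induction t using Finset.induction_on with
  | empty => simp
  | insert a t ha ih => rw [Finset.sum_insert ha, Finset.sum_insert ha, smul_add, ih, smul_tq]

theorem coToExt_smul (M : ModuleCat.{u} R) (s : Q) (g : (coextendScalars f).obj M) :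
    ∑ j, tq f M (F.e' j) (evq f M (s • g) (F.e j)) = s • ∑ j, tq f M (F.e' j) (evq f M g (F.e j)) := by
  refine Eq.trans ?_ (smul_sum_tq M s Finset.univ F.e' (fun j => evq f M g (F.e j))).symm
  have hL : ∀ j, tq f M (F.e' j) (evq f M (s • g) (F.e j)) =
      ∑ k, tq f M (f (F.lam (F.e j * s * F.e' k)) * F.e' j) (evq f M g (F.e k)) := by
    intro j
    rw [evq_smul_left]
    conv_lhs => rw [F.h2 (F.e j * s)]
    rw [evq_sum, tq_sum_right]
    refine Finset.sum_congr rfl fun k _ => ?_
    rw [evq_mul, tq_mul]
  rw [Finset.sum_congr rfl (fun j _ => hL j), Finset.sum_comm]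
  refine Finset.sum_congr rfl fun k _ => ?_
  rw [← tq_sum_left]
  congr 1
  conv_rhs => rw [F.h1 (s * F.e' k)]
  refine Finset.sum_congr rfl fun j _ => ?_
  congr 3
  ring

/-- the map `Hom_R(Q, M) → Q ⊗ M`, `g ↦ ∑ e'_j ⊗ g(e_j)`. -/
noncomputable def coToExtApp (M : ModuleCat.{u} R) : (coextendScalars f).obj M ⟶ (extendScalars f).obj M :=
  ofHom (X := (coextendScalars f).obj M) (Y := (extendScalars f).obj M)
    { toFun := fun g => ∑ j, tq f M (F.e' j) (evq f M g (F.e j))
      map_add' := fun g h => by
        rw [← Finset.sum_add_distrib]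
        exact Finset.sum_congr rfl fun j _ => by rw [evq_add_left, tq_add_right]
      map_smul' := fun s g => coToExt_smul F M s g }

theorem coToExtApp_apply (M : ModuleCat.{u} R) (g : (coextendScalars f).obj M) :
    coToExtApp F M g = ∑ j, tq f M (F.e' j) (evq f M g (F.e j)) := rfl

theorem bijective_coToExtApp (M : ModuleCat.{u} R) : Function.Bijective (coToExtApp F M) := by
  constructor
  · rw [injective_iff_map_eq_zero]
    intro g hg
    have key : ∀ k, evq f M g (F.e k) = 0 := by
      intro k
      have h := congrArg (contract F M (F.e k)) hg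
      rw [coToExtApp_apply, map_sum, map_zero] at h
      rw [F.h2 (F.e k), evq_sum, ← h]
      refine Finset.sum_congr rfl fun j _ => ?_
      rw [contract_tq, evq_mul, mul_comm]
    refine evq_ext M g 0 fun q => ?_
    rw [F.h2 q, evq_sum, evq_sum]
    refine Finset.sum_congr rfl fun j _ => ?_
    rw [evq_mul, evq_mul, key, smul_zero]
    exact (smul_zero _).symm
  · intro t
    refine tq_induction M (p := fun t => ∃ g, coToExtApp F M g = t) ⟨0, map_zero _⟩ ?_ ?_ t
    · intro q m
      let g : (restrictScalars f).obj (of Q Q) →ₗ[R] M :=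
        { toFun := fun (x : Q) => F.lam (q * x) • m
          map_add' := fun (x y : Q) => by
            change F.lam (q * (x + y)) • m = F.lam (q * x) • m + F.lam (q * y) • m
            rw [mul_add, map_add, add_smul]
          map_smul' := fun r (x : Q) => by
            change F.lam (q * (f r * x)) • m = r • F.lam (q * x) • m
            rw [mul_left_comm, F.lam_mul, mul_smul] }
      refine ⟨(CoextendScalars.equiv f M).symm g, ?_⟩
      rw [coToExtApp_apply]
      conv_rhs => rw [F.h1 q, tq_sum_left]
      refine Finset.sum_congr rfl fun j _ => ?_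
      rw [tq_mul]
      rfl
    · rintro _ _ ⟨g, rfl⟩ ⟨h, rfl⟩
      exact ⟨g + h, map_add _ _ _⟩

/-- `Hom_R(Q, -) ≅ Q ⊗_R -`. -/
noncomputable def coIsoExt : coextendScalars.{u, u, u} f ≅ extendScalars.{u, u, u} f :=
  NatIso.ofComponents (fun M => by
    have : IsIso (coToExtApp F M) := by
      rw [ConcreteCategory.isIso_iff_bijective]
      exact bijective_coToExtApp F M
    exact asIso (coToExtApp F M)) (fun {M N} φ => by
      ext g
      change coToExtApp F N ((coextendScalars f).map φ g) = (extendScalars f).map φ (coToExtApp F M g)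
      rw [coToExtApp_apply, coToExtApp_apply, map_sum]
      refine Finset.sum_congr rfl fun j _ => ?_
      rw [map_tq, evq_map])

end NatIso

end Groth.Agent.LoccohB.FrobPair
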