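import Groth.Agent.CohtopA.BrownW
import Groth.Prelude.Def_PerfAux
import Mathlib.CategoryTheory.Limits.FullSubcategory

/-!
# Full triangulated subcategories closed under coproducts

`P : ObjectProperty D` triangulated and closed under `Type w`-indexed coproducts.

* `isCompactW_fullSubcategory`: an object of `P` which is compact relative to `P`
  (`PerfAux.IsCompactObjRel.{w} P K`) is compact in `P.FullSubcategory`.
* `generates_fullSubcategory`.
* `isLeftAdjoint_lift`: Brown representability for a lifted functor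
  `P.FullSubcategory ⥤ P'.FullSubcategory`.
-/

set_option autoImplicit false

universe w v u v' u' t

open CategoryTheory CategoryTheory.Limits Pretriangulated

namespace Groth.Agent.LoccohB.FullSubTri

open Groth.Agent.CohtopA.BrownW Groth.Agent.CohtopA.Compact

section Basic

variable {D : Type u} [Category.{v} D] [Preadditive D]

lemma isFiniteSum_of_mem_range (K : D) {ι : Type w} (X : ι → D) [HasCoproduct X] (f : K ⟶ ∐ X)
    (hf : f ∈ Set.range (PerfAux.homSumToHomCoprod K X)) :
    IsFiniteSum (Cofan.mk (∐ X) (Sigma.ι X)) f := by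
  classical
  obtain ⟨x, rfl⟩ := hf
  refine ⟨x.support, fun i => x i, ?_⟩
  simp only [PerfAux.homSumToHomCoprod, DirectSum.toAddMonoid, DFinsupp.liftAddHom_apply]
  rw [DFinsupp.sumAddHom_apply]
  simp only [DFinsupp.sum]
  refine Finset.sum_congr (by congr!) (fun i _ => rfl)

lemma isFiniteSum_of_isCompactObjRel (P : D → Prop) {K : D} (hK : PerfAux.IsCompactObjRel.{w} P K)
    {ι : Type w} (X : ι → D) (hX : ∀ i, P (X i)) {c : Cofan X} (hc : IsColimit c)
    (f : K ⟶ c.pt) : IsFiniteSum c f := by
  have : HasCoproduct X := ⟨⟨⟨c, hc⟩⟩⟩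
  exact IsFiniteSum.of_iso (coproductIsCoproduct X) hc
    (fun f => isFiniteSum_of_mem_range K X f ((hK ι X hX).2 f)) f

end Basic

section Full

variable {D : Type u} [Category.{v} D] [Preadditive D] (P : ObjectProperty D)

lemma isFiniteSum_fullSubcategory {K : P.FullSubcategory} {ι : Type w}
    {X : ι → P.FullSubcategory} {c : Cofan X} (f : K ⟶ c.pt)
    (hf : IsFiniteSum (X := fun i => (X i).obj)
      (Cofan.mk c.pt.obj (fun i => (c.inj i).hom)) f.hom) :
    IsFiniteSum c f := by
  obtain ⟨s, g, hg⟩ := hf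
  refine ⟨s, fun i => ObjectProperty.homMk (g i), ?_⟩
  ext
  rw [hg]
  have : ∀ (t : Finset ι), (∑ i ∈ t, (ObjectProperty.homMk (g i) : K ⟶ X i) ≫ c.inj i).hom =
      ∑ i ∈ t, g i ≫ (c.inj i).hom := by
    classical
    intro t
    induction t using Finset.induction_on with
    | empty => rfl
    | insert a t ha ih =>
      rw [Finset.sum_insert ha, Finset.sum_insert ha, ← ih]
      rfl
  exact (this s).symm

variable [∀ ι : Type w, PreservesColimitsOfShape (Discrete ι) P.ι]

/-- Relative compactness gives compactness in the full subcategory. -/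
lemma isCompactW_fullSubcategory (K : P.FullSubcategory)
    (hK : PerfAux.IsCompactObjRel.{w} (fun L => P L) K.obj) : IsCompactW.{w} K := by
  intro ι X c hc f
  have hc' : IsColimit (Cofan.mk (P.ι.obj c.pt) (fun i => P.ι.map (c.inj i))) :=
    isColimitCofanMkObjOfIsColimit P.ι _ _ hc
  refine isFiniteSum_fullSubcategory P f ?_
  exact isFiniteSum_of_isCompactObjRel (fun L => P L) hK (fun i => (X i).obj)
    (fun i => (X i).property) hc' f.hom

end Full

section Tri

variable {D : Type u} [Category.{v} D] [Preadditive D] [HasZeroObject D] [HasShift D ℤ]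
    [∀ n : ℤ, (shiftFunctor D n).Additive] [Pretriangulated D]
    (P : ObjectProperty D) [P.IsTriangulated]

omit [HasZeroObject D] [Pretriangulated D] in
lemma hom_shift_eq_zero {A B : D} (n : ℤ) (h : ∀ f : A ⟶ B⟦-n⟧, f = 0) (φ : A⟦n⟧ ⟶ B) :
    φ = 0 := by
  let adj : shiftFunctor D n ⊣ shiftFunctor D (-n) := (shiftEquiv D n).toAdjunction
  apply (adj.homEquiv A B).injective
  rw [h (adj.homEquiv A B φ), h (adj.homEquiv A B 0)]

lemma generates_fullSubcategory {κ : Type t} (E : κ → P.FullSubcategory)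
    (hE : ∀ L : D, P L → (∀ (k : κ) (n : ℤ) (φ : (E k).obj⟦n⟧ ⟶ L), φ = 0) → IsZero L) :
    CohDer.Generates E := by
  intro K hK
  have h1 : IsZero K.obj := by
    refine hE K.obj K.property (fun k n φ => hom_shift_eq_zero n (fun f => ?_) φ)
    let e : (K⟦-n⟧).obj ≅ (K.obj)⟦-n⟧ := (P.ι.commShiftIso (-n)).app K
    have h2 := hK k (-n) (ObjectProperty.homMk (f ≫ e.inv) : E k ⟶ K⟦-n⟧)
    have h3 : f ≫ e.inv = 0 := congr_arg (fun f => f.hom) h2
    rw [← cancel_mono e.inv, h3, zero_comp]
  exact (IsZero.iff_id_eq_zero K).2 (by ext; exact (IsZero.iff_id_eq_zero K.obj).1 h1)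

variable {D' : Type u'} [Category.{v'} D'] [Preadditive D'] [HasZeroObject D'] [HasShift D' ℤ]
    [∀ n : ℤ, (shiftFunctor D' n).Additive] [Pretriangulated D']
    (P' : ObjectProperty D') [P'.IsTriangulated]

omit [Preadditive D] [HasZeroObject D] [HasShift D ℤ] [∀ n : ℤ, (shiftFunctor D n).Additive]
  [Pretriangulated D] [P.IsTriangulated] [Preadditive D'] [HasZeroObject D'] [HasShift D' ℤ]
  [∀ n : ℤ, (shiftFunctor D' n).Additive] [Pretriangulated D'] [P'.IsTriangulated] in
lemma preservesColimitsOfShape_lift {J : Type t} [SmallCategory J] (F : D ⥤ D')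
    (h : ∀ K : P.FullSubcategory, P' (F.obj K.obj))
    (hF : PreservesColimitsOfShape J (P.ι ⋙ F)) :
    PreservesColimitsOfShape J (P'.lift (P.ι ⋙ F) h) where
  preservesColimit {K} := ⟨fun {c} hc => by
    have h1 : IsColimit ((P.ι ⋙ F).mapCocone c) := isColimitOfPreserves _ hc
    exact ⟨isColimitOfReflects P'.ι h1⟩⟩

/-- Brown representability for the functor induced by `F` on full triangulated subcategories. -/
theorem isLeftAdjoint_lift [HasCoproducts.{w} P.FullSubcategory]
    [LocallySmall.{w} D] [LocallySmall.{w} D'] 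
    {κ : Type t} [Small.{w} κ] (E : κ → P.FullSubcategory) (hE : ∀ k, IsCompactW.{w} (E k))
    (hE' : CohDer.Generates E) (F : D ⥤ D') [F.CommShift ℤ] [F.IsTriangulated]
    (hF : ∀ ι : Type w, PreservesColimitsOfShape (Discrete ι) (P.ι ⋙ F))
    (h : ∀ K : P.FullSubcategory, P' (F.obj K.obj)) :
    (P'.lift (P.ι ⋙ F) h).IsLeftAdjoint := by
  have : ∀ ι : Type w, PreservesColimitsOfShape (Discrete ι) (P'.lift (P.ι ⋙ F) h) :=
    fun ι => preservesColimitsOfShape_lift P P' F h (hF ι)
  have : LocallySmall.{w} P.FullSubcategory := inferInstance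
  have : LocallySmall.{w} P'.FullSubcategory := inferInstance
  exact isLeftAdjoint E hE hE' (P'.lift (P.ι ⋙ F) h)

end Tri

end Groth.Agent.LoccohB.FullSubTri
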