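import Mathlib.CategoryTheory.Triangulated.Pretriangulated
import Mathlib.CategoryTheory.Triangulated.Yoneda
import Mathlib.CategoryTheory.Shift.Linear
import Mathlib.CategoryTheory.Linear.Basic

/-!
# Abstract Greenlees-May duality (torsion and complete objects of a linear triangulated category)
-/

set_option autoImplicit false

universe v u w

open CategoryTheory Limits Pretriangulated

namespace Groth.Agent.LoccohB.GMAbs

section basic

variable {A : Type w} [CommRing A] {T : Type u} [Category.{v} T] [Preadditive T] [Linear A T]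
  [HasZeroObject T] [HasShift T ℤ] [∀ n : ℤ, (shiftFunctor T n).Additive] [Pretriangulated T]

/-- `f` acts nilpotently on `Y`. -/
def Nil (f : A) (Y : T) : Prop := ∃ m : ℕ, (f ^ m : A) • 𝟙 Y = 0

/-- Cone of the multiplication by `f`. -/
theorem exists_cone (f : A) (X : T) : ∃ (Y : T) (i : X ⟶ Y) (δ : Y ⟶ X⟦(1 : ℤ)⟧),
    Triangle.mk (f • 𝟙 X) i δ ∈ distTriang T := by
  obtain ⟨Y, i, δ, h⟩ := distinguished_cocone_triangle (f • 𝟙 X)
  exact ⟨Y, i, δ, h⟩

theorem nil_of_cone (f g : A) (X Y : T) (i : X ⟶ Y) (δ : Y ⟶ X⟦(1 : ℤ)⟧)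
    (h : Triangle.mk (f • 𝟙 X) i δ ∈ distTriang T) (m : ℕ) (hi : (g ^ m : A) • i = 0)
    (hδ : (g ^ m : A) • δ = 0) : Nil g Y := by
  refine ⟨m + m, ?_⟩
  have h1 : i ≫ ((g ^ m : A) • 𝟙 Y) = 0 := by
    rw [Linear.comp_smul, Category.comp_id, hi]
  obtain ⟨u, hu⟩ := Triangle.yoneda_exact₃ _ h ((g ^ m : A) • 𝟙 Y) h1
  change X⟦(1 : ℤ)⟧ ⟶ Y at u
  change (g ^ m : A) • 𝟙 Y = δ ≫ u at hu
  have h2 : ((g ^ m : A) • 𝟙 Y) ≫ ((g ^ m : A) • 𝟙 Y) = 0 := by
    nth_rewrite 2 [hu]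
    rw [Linear.smul_comp, Category.id_comp, ← Linear.smul_comp, hδ, zero_comp]
  rw [Linear.comp_smul, Category.comp_id, smul_smul, ← pow_add] at h2
  exact h2

end basic

section main

variable {A : Type w} [CommRing A] {T : Type u} [Category.{v} T] [Preadditive T] [Linear A T]
  [HasZeroObject T] [HasShift T ℤ] [∀ n : ℤ, (shiftFunctor T n).Additive] [Pretriangulated T]
  [∀ n : ℤ, (shiftFunctor T n).Linear A]

omit [HasZeroObject T] [Pretriangulated T] [∀ n : ℤ, (shiftFunctor T n).Additive] in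
theorem shift_smul_id (a : A) (X : T) (n : ℤ) :
    (shiftFunctor T n).map (a • 𝟙 X) = a • 𝟙 (X⟦n⟧) := by
  rw [Functor.map_smul, CategoryTheory.Functor.map_id]

theorem nil_cone_self (f : A) (X Y : T) (i : X ⟶ Y) (δ : Y ⟶ X⟦(1 : ℤ)⟧)
    (h : Triangle.mk (f • 𝟙 X) i δ ∈ distTriang T) : Nil f Y := by
  refine nil_of_cone f f X Y i δ h 1 ?_ ?_
  · have := comp_distTriang_mor_zero₁₂ _ h
    change (f • 𝟙 X) ≫ i = 0 at this
    rwa [Linear.smul_comp, Category.id_comp, ← pow_one f] at this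
  · have := comp_distTriang_mor_zero₃₁ _ h
    change δ ≫ (shiftFunctor T (1 : ℤ)).map (f • 𝟙 X) = 0 at this
    rwa [shift_smul_id, Linear.comp_smul, Category.comp_id, ← pow_one f] at this

theorem nil_cone_of_nil (f g : A) (X Y : T) (i : X ⟶ Y) (δ : Y ⟶ X⟦(1 : ℤ)⟧)
    (h : Triangle.mk (f • 𝟙 X) i δ ∈ distTriang T) (hX : Nil g X) : Nil g Y := by
  obtain ⟨m, hm⟩ := hX
  refine nil_of_cone f g X Y i δ h m ?_ ?_
  · rw [← Category.id_comp i, ← Linear.smul_comp, hm, zero_comp]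
  · rw [← Category.comp_id δ, ← Linear.comp_smul, ← shift_smul_id, hm, Functor.map_zero,
      comp_zero]

omit [HasZeroObject T] [HasShift T ℤ] [∀ n : ℤ, (shiftFunctor T n).Additive] [Pretriangulated T]
  [∀ n : ℤ, (shiftFunctor T n).Linear A] [Linear A T] in
theorem zero_right {X Y Z : T} {u : X ⟶ Z} {f : X ⟶ Y} {w : Y ⟶ Z} (h : u = f ≫ w)
    (hw : w = 0) : u = 0 := by rw [h, hw, comp_zero]

omit [HasZeroObject T] [HasShift T ℤ] [∀ n : ℤ, (shiftFunctor T n).Additive] [Pretriangulated T]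
  [∀ n : ℤ, (shiftFunctor T n).Linear A] [Linear A T] in
theorem zero_left {X Y Z : T} {u : X ⟶ Z} {w : X ⟶ Y} {f : Y ⟶ Z} (h : u = w ≫ f)
    (hw : w = 0) : u = 0 := by rw [h, hw, zero_comp]

/-- all morphisms from `X` to `Y` vanish -/
def Orth (X Y : T) : Prop := ∀ u : X ⟶ Y, u = 0

omit [HasZeroObject T] [HasShift T ℤ] [∀ n : ℤ, (shiftFunctor T n).Additive] [Pretriangulated T]
  [∀ n : ℤ, (shiftFunctor T n).Linear A] in
theorem Orth.of_iso_left {X X' Y : T} (h : Orth X Y) (e : X ≅ X') : Orth X' Y := by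
  intro u
  have := h (e.hom ≫ u)
  rw [← cancel_epi e.hom, this, comp_zero]

omit [HasZeroObject T] [HasShift T ℤ] [∀ n : ℤ, (shiftFunctor T n).Additive] [Pretriangulated T]
  [∀ n : ℤ, (shiftFunctor T n).Linear A] in
theorem Orth.of_iso_right {X Y Y' : T} (h : Orth X Y) (e : Y ≅ Y') : Orth X Y' := by
  intro u
  have := h (u ≫ e.inv)
  rw [← cancel_mono e.inv, this, zero_comp]

omit [HasZeroObject T] [Pretriangulated T] in
theorem orth_of_shift {X Y : T} (n : ℤ) (h : Orth (X⟦n⟧) (Y⟦n⟧)) : Orth X Y := by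
  intro u
  apply (shiftFunctor T n).map_injective
  rw [Functor.map_zero]
  exact h _

omit [HasZeroObject T] [Pretriangulated T] in
theorem orth_shift_left {X Y : T} (n m : ℤ) (hnm : n + m = 0) (h : Orth X (Y⟦m⟧)) :
    Orth (X⟦n⟧) Y :=
  orth_of_shift m (h.of_iso_left ((shiftFunctorCompIsoId T n m hnm).app X).symm)

omit [HasZeroObject T] [Pretriangulated T] in
theorem orth_shift_right {X Y : T} (n m : ℤ) (hnm : n + m = 0) (h : Orth (X⟦m⟧) Y) :
    Orth X (Y⟦n⟧) :=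
  orth_of_shift m (h.of_iso_right ((shiftFunctorCompIsoId T n m hnm).app Y).symm)

omit [HasZeroObject T] [HasShift T ℤ] [∀ n : ℤ, (shiftFunctor T n).Additive] [Pretriangulated T]
  [∀ n : ℤ, (shiftFunctor T n).Linear A] [Linear A T] in
theorem orth_of_id_eq_zero {X : T} (h : Orth X X) (Y : T) : Orth X Y ∧ Orth Y X := by
  have h1 := h (𝟙 X)
  exact ⟨fun u => by rw [← Category.id_comp u, h1, zero_comp],
    fun u => by rw [← Category.comp_id u, h1, comp_zero]⟩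

/-- `ε : RK ⟶ K` is a coreflection of `K` into the objects satisfying `P`. -/
structure IsCoref (P : T → Prop) {RK K : T} (ε : RK ⟶ K) : Prop where
  mem : P RK
  exists_lift : ∀ Z, P Z → ∀ u : Z ⟶ K, ∃ v : Z ⟶ RK, v ≫ ε = u
  ext : ∀ Z, P Z → ∀ v w : Z ⟶ RK, v ≫ ε = w ≫ ε → v = w

/-- `η : K ⟶ LK` is a reflection of `K` into the objects satisfying `N`. -/
structure IsRefl (N : T → Prop) {K LK : T} (η : K ⟶ LK) : Prop where
  mem : N LK
  exists_desc : ∀ Z, N Z → ∀ u : K ⟶ Z, ∃ v : LK ⟶ Z, η ≫ v = u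
  ext : ∀ Z, N Z → ∀ v w : LK ⟶ Z, η ≫ v = η ≫ w → v = w

/-- If everything in `l` acts nilpotently up to cones, objects left orthogonal to `N` are right
orthogonal to `P`. -/
theorem orth_PX (P N : T → Prop)
    (hNs : ∀ X (n : ℤ), N X → N (X⟦n⟧)) (l₀ : List A)
    (h1 : ∀ Y, (∀ f ∈ l₀, Nil f Y) → N Y)
    (h2 : ∀ Y, P Y → ∀ f ∈ l₀, ∀ v : Y ⟶ Y, f • v = 𝟙 Y → Orth Y Y)
    (R : ∀ K, ∃ (RK : T) (ε : RK ⟶ K), IsCoref P ε) (l : List A) :
    ∀ (_ : ∀ f ∈ l, f ∈ l₀) (X : T) (_ : ∀ f ∈ l₀, f ∈ l ∨ Nil f X)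
      (_ : ∀ Z, N Z → Orth X Z) (Z : T), P Z → Orth Z X := by
  induction l with
  | nil =>
    intro _ X hl hX Z _
    have hN : N X := h1 X fun f hf => by simpa using hl f hf
    exact (orth_of_id_eq_zero (hX X hN) Z).2
  | cons f l ih =>
    intro hsub X hl hX Z hZ
    obtain ⟨Y, i, δ, hT⟩ := exists_cone f X
    have hY : ∀ Z, N Z → Orth Y Z := by
      intro Z hZ u
      obtain ⟨w, hw⟩ := Triangle.yoneda_exact₃ _ hT u (hX Z hZ _)
      have hw0 : w = 0 := orth_shift_left 1 (-1) (by simp) (hX _ (hNs Z (-1) hZ)) w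
      exact zero_right hw hw0
    have hY2 : ∀ Z, P Z → Orth Z Y := by
      refine ih (fun g hg => hsub g (List.mem_cons_of_mem _ hg)) Y ?_ hY
      intro g hg
      rcases hl g hg with h | h
      · rcases List.mem_cons.mp h with rfl | h
        · exact Or.inr (nil_cone_self g X Y i δ hT)
        · exact Or.inl h
      · exact Or.inr (nil_cone_of_nil f g X Y i δ hT h)
    obtain ⟨RX, ε, hε⟩ := R X
    obtain ⟨g, hg⟩ := Triangle.coyoneda_exact₂ _ hT ε (hY2 RX hε.mem _)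
    change RX ⟶ X at g
    change ε = g ≫ (f • 𝟙 X) at hg
    obtain ⟨v, hv⟩ := hε.exists_lift RX hε.mem g
    have h3 : f • v = 𝟙 RX := by
      apply hε.ext RX hε.mem
      rw [Linear.smul_comp, hv, Category.id_comp]
      conv_rhs => rw [hg]
      rw [Linear.comp_smul, Category.comp_id]
    have h4 := h2 RX hε.mem f (hsub f List.mem_cons_self) v h3
    intro u
    obtain ⟨w, hw⟩ := hε.exists_lift Z hZ u
    rw [← hw, (orth_of_id_eq_zero h4 Z).2 w, zero_comp]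

/-- If everything in `l` acts nilpotently up to cones, objects right orthogonal to `P` are left
orthogonal to `N`. -/
theorem orth_CN (P N : T → Prop) (hPs : ∀ X (n : ℤ), P X → P (X⟦n⟧))
    (hNs : ∀ X (n : ℤ), N X → N (X⟦n⟧)) (l₀ : List A)
    (h1 : ∀ Y, (∀ f ∈ l₀, Nil f Y) → P Y)
    (h2 : ∀ Y, N Y → ∀ f ∈ l₀, ∀ v : Y ⟶ Y, f • v = 𝟙 Y → Orth Y Y)
    (L : ∀ K, ∃ (LK : T) (η : K ⟶ LK), IsRefl N η) (l : List A) :
    ∀ (_ : ∀ f ∈ l, f ∈ l₀) (X : T) (_ : ∀ f ∈ l₀, f ∈ l ∨ Nil f X)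
      (_ : ∀ Z, P Z → Orth Z X) (Z : T), N Z → Orth X Z := by
  induction l with
  | nil =>
    intro _ X hl hX Z _
    have hN : P X := h1 X fun f hf => by simpa using hl f hf
    exact (orth_of_id_eq_zero (hX X hN) Z).1
  | cons f l ih =>
    intro hsub X hl hX Z hZ
    obtain ⟨Y, i, δ, hT⟩ := exists_cone f X
    have hY : ∀ Z, P Z → Orth Z Y := by
      intro Z hZ u
      obtain ⟨w, hw⟩ := Triangle.coyoneda_exact₃ _ hT u
        (orth_shift_right 1 (-1) (by simp) (hX _ (hPs Z (-1) hZ)) _)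
      change Z ⟶ X at w
      exact zero_left hw (hX Z hZ w)
    have hY2 : ∀ Z, N Z → Orth Y Z := by
      refine ih (fun g hg => hsub g (List.mem_cons_of_mem _ hg)) Y ?_ hY
      intro g hg
      rcases hl g hg with h | h
      · rcases List.mem_cons.mp h with rfl | h
        · exact Or.inr (nil_cone_self g X Y i δ hT)
        · exact Or.inl h
      · exact Or.inr (nil_cone_of_nil f g X Y i δ hT h)
    obtain ⟨LX, η, hη⟩ := L X
    have hT' := inv_rot_of_distTriang _ hT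
    obtain ⟨g, hg⟩ := Triangle.yoneda_exact₂ _ hT' η
      (orth_shift_left (-1) 1 (by simp) (hY2 _ (hNs _ 1 hη.mem)) _)
    change X ⟶ LX at g
    change η = (f • 𝟙 X) ≫ g at hg
    obtain ⟨v, hv⟩ := hη.exists_desc LX hη.mem g
    have h3 : f • v = 𝟙 LX := by
      apply hη.ext LX hη.mem
      rw [Linear.comp_smul, hv, Category.comp_id]
      conv_rhs => rw [hg]
      rw [Linear.smul_comp, Category.id_comp]
    have h4 := h2 LX hη.mem f (hsub f List.mem_cons_self) v h3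
    intro u
    obtain ⟨w, hw⟩ := hη.exists_desc Z hZ u
    rw [← hw, (orth_of_id_eq_zero h4 Z).1 w, comp_zero]

/-- Postcomposition with a reflection `K ⟶ LK` is bijective on maps from objects in `P`. -/
theorem bijective_comp_refl (P N : T → Prop) (hPs : ∀ X (n : ℤ), P X → P (X⟦n⟧))
    (hNs : ∀ X (n : ℤ), N X → N (X⟦n⟧))
    (h : ∀ X, (∀ Z, N Z → Orth X Z) → ∀ Z, P Z → Orth Z X) {K LK : T} (η : K ⟶ LK)
    (hη : IsRefl N η) (Z : T) (hZ : P Z) : Function.Bijective (fun u : Z ⟶ K => u ≫ η) := by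
  obtain ⟨C, g, δ, hT⟩ := distinguished_cocone_triangle η
  have hC : ∀ Z, N Z → Orth C Z := by
    intro Z hZ u
    have h0 : η ≫ g = 0 := comp_distTriang_mor_zero₁₂ _ hT
    have h1 : g ≫ u = 0 := by
      apply hη.ext Z hZ
      rw [← Category.assoc, h0, zero_comp, comp_zero]
    obtain ⟨w, hw⟩ := Triangle.yoneda_exact₃ _ hT u h1
    change K⟦(1 : ℤ)⟧ ⟶ Z at w
    change u = δ ≫ w at hw
    -- `w` factors through `LK⟦1⟧`
    have h2 : ∃ w' : LK⟦(1 : ℤ)⟧ ⟶ Z, (shiftFunctor T (1 : ℤ)).map η ≫ w' = w := by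
      let e : Z⟦(-1 : ℤ)⟧⟦(1 : ℤ)⟧ ≅ Z := (shiftFunctorCompIsoId T (-1 : ℤ) 1 (by simp)).app Z
      obtain ⟨w₁, hw₁⟩ := (shiftFunctor T (1 : ℤ)).map_surjective (w ≫ e.inv)
      obtain ⟨w₂, hw₂⟩ := hη.exists_desc _ (hNs Z (-1) hZ) w₁
      refine ⟨(shiftFunctor T (1 : ℤ)).map w₂ ≫ e.hom, ?_⟩
      rw [← Category.assoc, ← Functor.map_comp, hw₂, hw₁, Category.assoc, e.inv_hom_id,
        Category.comp_id]
    obtain ⟨w', hw'⟩ := h2
    have h3 : δ ≫ (shiftFunctor T (1 : ℤ)).map η = 0 := comp_distTriang_mor_zero₃₁ _ hT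
    rw [hw, ← hw', ← Category.assoc, h3, zero_comp]
  have hC' := h C hC
  constructor
  · intro u v huv
    rw [← sub_eq_zero]
    have h1 : (u - v) ≫ η = 0 := by
      rw [Preadditive.sub_comp]; exact sub_eq_zero.mpr huv
    have hT' := inv_rot_of_distTriang _ hT
    obtain ⟨w, hw⟩ := Triangle.coyoneda_exact₂ _ hT' (u - v) h1
    have h2 : w = 0 := orth_shift_right (-1) 1 (by simp) (hC' _ (hPs Z 1 hZ)) w
    exact zero_left hw h2
  · intro u
    obtain ⟨w, hw⟩ := Triangle.coyoneda_exact₂ _ hT u (hC' Z hZ _)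
    exact ⟨w, hw.symm⟩

/-- Precomposition with a coreflection `RK ⟶ K` is bijective on maps to objects in `N`. -/
theorem bijective_coref_comp (P N : T → Prop) (hPs : ∀ X (n : ℤ), P X → P (X⟦n⟧))
    (hNs : ∀ X (n : ℤ), N X → N (X⟦n⟧))
    (h : ∀ X, (∀ Z, P Z → Orth Z X) → ∀ Z, N Z → Orth X Z) {RK K : T} (ε : RK ⟶ K)
    (hε : IsCoref P ε) (Z : T) (hZ : N Z) : Function.Bijective (fun u : K ⟶ Z => ε ≫ u) := by
  obtain ⟨C, g, δ, hT⟩ := distinguished_cocone_triangle ε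
  have hC : ∀ Z, P Z → Orth Z C := by
    intro Z hZ u
    have h1 : u ≫ δ = 0 := by
      -- both become zero after composition with `ε⟦1⟧`
      let e : Z⟦(-1 : ℤ)⟧⟦(1 : ℤ)⟧ ≅ Z := (shiftFunctorCompIsoId T (-1 : ℤ) 1 (by simp)).app Z
      obtain ⟨w₁, hw₁⟩ := (shiftFunctor T (1 : ℤ)).map_surjective (e.hom ≫ u ≫ δ)
      have h3 : δ ≫ (shiftFunctor T (1 : ℤ)).map ε = 0 := comp_distTriang_mor_zero₃₁ _ hT
      have h4 : w₁ = 0 := by
        apply hε.ext _ (hPs Z (-1) hZ)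
        rw [zero_comp]
        apply (shiftFunctor T (1 : ℤ)).map_injective
        rw [Functor.map_comp, hw₁, Category.assoc, Category.assoc, h3, comp_zero, comp_zero,
          Functor.map_zero]
      rw [h4, Functor.map_zero] at hw₁
      rw [← cancel_epi e.hom, ← hw₁, comp_zero]
    obtain ⟨w, hw⟩ := Triangle.coyoneda_exact₃ _ hT u h1
    change Z ⟶ K at w
    change u = w ≫ g at hw
    obtain ⟨v, hv⟩ := hε.exists_lift Z hZ w
    have h0 : ε ≫ g = 0 := comp_distTriang_mor_zero₁₂ _ hT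
    rw [hw, ← hv, Category.assoc, h0, comp_zero]
  have hC' := h C hC
  constructor
  · intro u v huv
    rw [← sub_eq_zero]
    have h1 : ε ≫ (u - v) = 0 := by
      rw [Preadditive.comp_sub]; exact sub_eq_zero.mpr huv
    obtain ⟨w, hw⟩ := Triangle.yoneda_exact₂ _ hT (u - v) h1
    change C ⟶ Z at w
    exact zero_right hw (hC' Z hZ w)
  · intro u
    have hT' := inv_rot_of_distTriang _ hT
    obtain ⟨w, hw⟩ := Triangle.yoneda_exact₂ _ hT' u
      (orth_shift_left (-1) 1 (by simp) (hC' _ (hNs Z 1 hZ)) _)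
    exact ⟨w, hw.symm⟩

/-- Coreflections of `K` and of its reflection agree. -/
theorem coref_refl_iso (P N : T → Prop) (hPs : ∀ X (n : ℤ), P X → P (X⟦n⟧))
    (hNs : ∀ X (n : ℤ), N X → N (X⟦n⟧))
    (h : ∀ X, (∀ Z, N Z → Orth X Z) → ∀ Z, P Z → Orth Z X) {K LK RK RLK : T} (η : K ⟶ LK)
    (hη : IsRefl N η) (ε : RK ⟶ K) (hε : IsCoref P ε) (ε' : RLK ⟶ LK) (hε' : IsCoref P ε') :
    Nonempty (RLK ≅ RK) := by
  have hb := bijective_comp_refl P N hPs hNs h η hη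
  obtain ⟨s, hs⟩ := (hb RLK hε'.mem).2 ε'
  simp only at hs
  obtain ⟨a, ha⟩ := hε.exists_lift RLK hε'.mem s
  obtain ⟨b, hb'⟩ := hε'.exists_lift RK hε.mem (ε ≫ η)
  refine ⟨⟨a, b, ?_, ?_⟩⟩
  · apply hε'.ext RLK hε'.mem
    rw [Category.assoc, hb', ← Category.assoc, ha, hs, Category.id_comp]
  · apply hε.ext RK hε.mem
    apply (hb RK hε.mem).1
    simp only
    have h2 : (b ≫ a) ≫ ε = b ≫ s := by rw [Category.assoc, ha]
    rw [h2, Category.assoc, hs, hb', Category.id_comp]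

/-- Reflections of `K` and of its coreflection agree. -/
theorem refl_coref_iso (P N : T → Prop) (hPs : ∀ X (n : ℤ), P X → P (X⟦n⟧))
    (hNs : ∀ X (n : ℤ), N X → N (X⟦n⟧))
    (h : ∀ X, (∀ Z, P Z → Orth Z X) → ∀ Z, N Z → Orth X Z) {K LK RK LRK : T} (η : K ⟶ LK)
    (hη : IsRefl N η) (ε : RK ⟶ K) (hε : IsCoref P ε) (η' : RK ⟶ LRK) (hη' : IsRefl N η') :
    Nonempty (LRK ≅ LK) := by
  have hb := bijective_coref_comp P N hPs hNs h ε hε
  obtain ⟨s, hs⟩ := (hb LRK hη'.mem).2 η'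
  simp only at hs
  obtain ⟨a, ha⟩ := hη'.exists_desc LK hη.mem (ε ≫ η)
  obtain ⟨b, hb'⟩ := hη.exists_desc LRK hη'.mem s
  refine ⟨⟨a, b, ?_, ?_⟩⟩
  · apply hη'.ext LRK hη'.mem
    rw [← Category.assoc, ha, Category.assoc, hb', hs, Category.comp_id]
  · apply hη.ext LK hη.mem
    apply (hb LK hη.mem).1
    simp only
    have h2 : η ≫ (b ≫ a) = s ≫ a := by rw [← Category.assoc, hb']
    rw [h2, ← Category.assoc, hs, ha, Category.comp_id]

end main

end Groth.Agent.LoccohB.GMAbs
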