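import Groth.Prelude.Def_DRing3
import Groth.Agent.Localalg.InjDecomp
import Mathlib.Algebra.Category.ModuleCat.Localization
import Mathlib.RingTheory.Filtration

/-!
# Power torsion in injective modules over a Noetherian ring

* `gam J M` : elements of `M` killed by a power of `J` (as a submodule, for any universe).
* `exists_divide`: for `E` injective over a Noetherian ring, `g : A` and `x ∈ gam J E` there are
  `y ∈ gam J E`, `k` with `g ^ k • (g • y - x) = 0`.
-/

set_option autoImplicit false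
universe u v

namespace Groth.Agent.LoccohB.GamInj

variable {A : Type u} [CommRing A]

/-- elements killed by a power of `J` -/
def gam (J : Ideal A) (M : Type v) [AddCommGroup M] [Module A M] : Submodule A M where
  carrier := {m | ∃ n : ℕ, ∀ a ∈ J ^ n, a • m = 0}
  zero_mem' := ⟨0, fun a _ => smul_zero a⟩
  add_mem' := by
    rintro m m' ⟨n, hn⟩ ⟨n', hn'⟩
    refine ⟨n + n', fun a ha => ?_⟩
    rw [smul_add, hn a (Ideal.pow_le_pow_right (Nat.le_add_right n n') ha),
      hn' a (Ideal.pow_le_pow_right (Nat.le_add_left n' n) ha), add_zero]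
  smul_mem' := by
    rintro c m ⟨n, hn⟩
    exact ⟨n, fun a ha => by rw [smul_comm, hn a ha, smul_zero]⟩

variable {M : Type v} [AddCommGroup M] [Module A M]

lemma mem_gam {J : Ideal A} {m : M} : m ∈ gam J M ↔ ∃ n : ℕ, ∀ a ∈ J ^ n, a • m = 0 := Iff.rfl

lemma gam_antitone {J J' : Ideal A} (h : J ≤ J') : gam J' M ≤ gam J M := by
  rintro m ⟨n, hn⟩
  exact ⟨n, fun a ha => hn a (Ideal.pow_right_mono h n ha)⟩

lemma gam_le_of_pow_le {J J' : Ideal A} {k : ℕ} (h : J' ^ k ≤ J) : gam J M ≤ gam J' M := by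
  rintro m ⟨n, hn⟩
  refine ⟨k * n, fun a ha => hn a (Ideal.pow_right_mono h n ?_)⟩
  rwa [← pow_mul]

lemma gam_le_of_le_radical [IsNoetherianRing A] {J J' : Ideal A} (h : J' ≤ J.radical) :
    gam J M ≤ gam J' M := by
  obtain ⟨k, hk⟩ := Ideal.exists_pow_le_of_le_radical_of_fg h (IsNoetherian.noetherian J')
  exact gam_le_of_pow_le hk

lemma mem_gam_sup_span {J : Ideal A} {g : A} {m : M} (hm : m ∈ gam J M) {k : ℕ}
    (hk : g ^ k • m = 0) : m ∈ gam (J ⊔ Ideal.span {g}) M := by
  obtain ⟨n, hn⟩ := hm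
  have h : (J ⊔ Ideal.span {g}) ^ (n + k) ≤ J ^ n ⊔ (Ideal.span {g}) ^ k :=
    Ideal.sup_pow_add_le_pow_sup_pow
  refine ⟨n + k, fun a ha => ?_⟩
  obtain ⟨b, hb, c, hc, rfl⟩ := Submodule.mem_sup.1 (h ha)
  rw [Ideal.span_singleton_pow, Ideal.mem_span_singleton'] at hc
  obtain ⟨d, rfl⟩ := hc
  rw [add_smul, hn b hb, zero_add, mul_smul, hk, smul_zero]

lemma map_mem_gam {N : Type*} [AddCommGroup N] [Module A N] {J : Ideal A} (f : M →ₗ[A] N) {m : M}
    (hm : m ∈ gam J M) : f m ∈ gam J N := by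
  obtain ⟨n, hn⟩ := hm
  exact ⟨n, fun a ha => by rw [← map_smul, hn a ha, map_zero]⟩

lemma mem_gam_of_injective {N : Type*} [AddCommGroup N] [Module A N] {J : Ideal A} (f : M →ₗ[A] N)
    (hf : Function.Injective f) {m : M} (hm : f m ∈ gam J N) : m ∈ gam J M := by
  obtain ⟨n, hn⟩ := hm
  exact ⟨n, fun a ha => hf (by rw [map_smul, hn a ha, map_zero])⟩

lemma gam_eq_iSup (J : Ideal A) :
    gam J M = ⨆ n : ℕ, Submodule.torsionBySet A M ((J ^ n : Ideal A) : Set A) := by
  have hmono : Monotone (fun n : ℕ => Submodule.torsionBySet A M ((J ^ n : Ideal A) : Set A)) := by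
    intro n m hnm x hx
    rw [Submodule.mem_torsionBySet_iff] at hx ⊢
    rintro ⟨a, ha⟩
    exact hx ⟨a, Ideal.pow_le_pow_right hnm ha⟩
  ext x
  rw [Submodule.mem_iSup_of_directed _ hmono.directed_le]
  constructor
  · rintro ⟨n, hn⟩
    exact ⟨n, (Submodule.mem_torsionBySet_iff _ _).2 fun a => hn a.1 a.2⟩
  · rintro ⟨n, hn⟩
    exact ⟨n, fun a ha => (Submodule.mem_torsionBySet_iff _ _).1 hn ⟨a, ha⟩⟩

/-- Over a Noetherian ring the power torsion of an injective module is injective. -/
theorem injective_gam [IsNoetherianRing A] (E : Type u) [AddCommGroup E] [Module A E]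
    (hE : Module.Injective A E) (J : Ideal A) : Module.Injective A (gam J E) := by
  rw [gam_eq_iSup]
  exact Groth.Agent.Localalg.InjDecomp.injective_powerTorsion E hE J

/-- divisibility in an injective module -/
theorem exists_divide_of_injective [IsNoetherianRing A] (E : Type u) [AddCommGroup E] [Module A E]
    (hE : Module.Injective A E) (g : A) (x : E) :
    ∃ (y : E) (k : ℕ), g ^ k • (g • y - x) = 0 := by
  -- stabilisation of the annihilators of powers of `g`
  let ann : ℕ →o Ideal A :=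
    { toFun := fun k => LinearMap.ker (LinearMap.lsmul A A (g ^ k))
      monotone' := by
        intro n m hnm a ha
        rw [LinearMap.mem_ker] at ha ⊢
        obtain ⟨l, rfl⟩ := Nat.exists_eq_add_of_le hnm
        simp only [LinearMap.lsmul_apply, smul_eq_mul] at ha ⊢
        rw [pow_add, mul_comm (g ^ n), mul_assoc, ha, mul_zero] }
  obtain ⟨k, hk⟩ := monotone_stabilizes_iff_noetherian.2 (inferInstance : IsNoetherian A A) ann
  have hk1 := hk (k + 1) (Nat.le_succ k)
  have key : LinearMap.ker (LinearMap.toSpanSingleton A A (g ^ (k + 1))) ≤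
      LinearMap.ker (LinearMap.toSpanSingleton A E (g ^ k • x)) := by
    intro a ha
    rw [LinearMap.mem_ker, LinearMap.toSpanSingleton_apply] at ha ⊢
    have : a ∈ ann (k + 1) := by
      change (LinearMap.lsmul A A (g ^ (k + 1))) a = 0
      simp only [LinearMap.lsmul_apply, smul_eq_mul] at ha ⊢
      rw [mul_comm]; exact ha
    rw [← hk1] at this
    have h2 : g ^ k * a = 0 := this
    rw [← mul_smul, mul_comm, h2, zero_smul]
  let q : (A ⧸ LinearMap.ker (LinearMap.toSpanSingleton A A (g ^ (k + 1)))) →ₗ[A] A :=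
    Submodule.liftQ _ (LinearMap.toSpanSingleton A A (g ^ (k + 1))) le_rfl
  have hq : Function.Injective q := by
    rw [← LinearMap.ker_eq_bot]
    exact Submodule.ker_liftQ_eq_bot _ _ _ le_rfl
  let f : (A ⧸ LinearMap.ker (LinearMap.toSpanSingleton A A (g ^ (k + 1)))) →ₗ[A] E :=
    Submodule.liftQ _ (LinearMap.toSpanSingleton A E (g ^ k • x)) key
  obtain ⟨h, hh⟩ := hE.out q hq f
  refine ⟨h 1, k, ?_⟩
  have h1 := hh (Submodule.Quotient.mk 1)
  have h2 : q (Submodule.Quotient.mk 1) = g ^ (k + 1) := by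
    change (LinearMap.toSpanSingleton A A (g ^ (k + 1))) 1 = _
    rw [LinearMap.toSpanSingleton_apply, one_smul]
  have h3 : f (Submodule.Quotient.mk 1) = g ^ k • x := by
    change (LinearMap.toSpanSingleton A E (g ^ k • x)) 1 = _
    rw [LinearMap.toSpanSingleton_apply, one_smul]
  rw [h2, h3] at h1
  have h4 : h (g ^ (k + 1)) = g ^ (k + 1) • h 1 := by
    rw [← map_smul, smul_eq_mul, mul_one]
  rw [h4] at h1
  rw [smul_sub, ← mul_smul, ← pow_succ, h1, sub_self]

/-- divisibility inside the power torsion of an injective module -/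
theorem exists_divide [IsNoetherianRing A] (E : Type u) [AddCommGroup E] [Module A E]
    (hE : Module.Injective A E) (J : Ideal A) (g : A) (x : E) (hx : x ∈ gam J E) :
    ∃ (y : E) (k : ℕ), y ∈ gam J E ∧ g ^ k • (g • y - x) = 0 := by
  obtain ⟨y, k, h⟩ := exists_divide_of_injective (gam J E) (injective_gam E hE J) g ⟨x, hx⟩
  exact ⟨y.1, k, y.2, congr_arg Subtype.val h⟩

end Groth.Agent.LoccohB.GamInj
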