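import Groth.Prelude.Def_DCoh2
import Groth.Agent.CohqA.ExtCompare
import Groth.Agent.PerfA.AffVan
import Groth.Agent.CohtopA.Flasque
import Groth.Agent.Dcoh.Restrict
import Groth.Agent.LoccohB.HHmap

/-!
# `Hom_{D(O_X)}(O_X, M[n]) = H^n(X, M)`, naturally in `M`

* `extEquiv : Ext^n(O_X, M) ≃+ H^n(X, M)` (any `O_X`-module `M`, any scheme `X`), `extEquiv_comp_mk₀`;
* `homEquiv : (O_X ⟶ M[n]) ≃+ H^n(X, M)` in `D(O_X)`, `homEquiv_naturality`;
* `hom_eq_zero_of_neg`: `Hom(O_X, M[k]) = 0` for `k < 0`;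
* `central_ext`: natural endomorphisms of the identity functor are central for `Ext`;
* `homEquiv_smul`: compatibility with the action of the global functions.
-/

set_option autoImplicit false
universe w v' u' u
open CategoryTheory CategoryTheory.Limits AlgebraicGeometry Opposite TopologicalSpace
attribute [local instance] HasDerivedCategory.standard

namespace Groth.Agent.LoccohB.GammaD

open Groth.Agent.CohqB.DevSupport Groth.Agent.CohqA.ExtCompare Groth.Agent.Dcoh.Restrict

section Ab

variable {T : TopCat.{u}}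

variable (T) in
/-- The constant sheaf `ℤ` on the opens of `T`. -/
noncomputable abbrev cst : Sheaf (Opens.grothendieckTopology T) AddCommGrpCat.{u} :=
  (constantSheaf (Opens.grothendieckTopology T) AddCommGrpCat.{u}).obj (AddCommGrpCat.of (ULift ℤ))

/-- `⊤` is terminal in the category of opens. -/
def isTerminalTop (T : TopCat.{u}) : IsTerminal (⊤ : Opens T) :=
  IsTerminal.ofUniqueHom (fun _ => homOfLE le_top) (fun _ _ => Subsingleton.elim _ _)

theorem hasExt_ab : HasExt.{u} (Sheaf (Opens.grothendieckTopology T) AddCommGrpCat.{u}) :=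
  have : IsGrothendieckAbelian.{u} (Sheaf (Opens.grothendieckTopology T) AddCommGrpCat.{u}) :=
    Sheaf.isGrothendieckAbelian_of_essentiallySmall _ _
  inferInstance

attribute [local instance] hasExt_ab

/-- The map `ℤ ⟶ F` attached to a global section. -/
noncomputable def secHom (F : Sheaf (Opens.grothendieckTopology T) AddCommGrpCat.{u})
    (s : F.obj.obj (op ⊤)) : cst T ⟶ F :=
  Abelian.Ext.homEquiv₀ ((Sheaf.H.equiv₀ F (isTerminalTop T)).symm s)

lemma equiv₀_secHom {F G : Sheaf (Opens.grothendieckTopology T) AddCommGrpCat.{u}}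
    (s : F.obj.obj (op ⊤)) (φ : F ⟶ G) :
    Sheaf.H.equiv₀ G (isTerminalTop T) (Abelian.Ext.mk₀ (secHom F s ≫ φ)) = φ.hom.app (op ⊤) s := by
  have h := Sheaf.H.equiv₀_naturality (isTerminalTop T) φ (Abelian.Ext.mk₀ (secHom F s))
  have h2 : Sheaf.H.map φ 0 (Abelian.Ext.mk₀ (secHom F s)) =
      Abelian.Ext.mk₀ (secHom F s ≫ φ) := by
    rw [Sheaf.H.map_apply, Abelian.Ext.mk₀_comp_mk₀]
  rw [h2] at h
  refine h.symm.trans ?_
  rw [secHom, Abelian.Ext.mk₀_homEquiv₀_apply, AddEquiv.apply_symm_apply]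

/-- Morphisms `ℤ ⟶ F` are global sections. -/
lemma bijective_equiv₀ (F : Sheaf (Opens.grothendieckTopology T) AddCommGrpCat.{u}) :
    Function.Bijective (fun a : cst T ⟶ F =>
      Sheaf.H.equiv₀ F (isTerminalTop T) (Abelian.Ext.mk₀ a)) :=
  (Sheaf.H.equiv₀ F (isTerminalTop T)).bijective.comp (Abelian.Ext.mk₀_bijective _ _)

end Ab

attribute [local instance] hasExt_ab

variable {X : Scheme.{u}}

variable (X) in
/-- The forgetful functor from `O_X`-modules to abelian sheaves. -/
noncomputable def abF :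
    X.Modules ⥤ Sheaf (Opens.grothendieckTopology X.toTopCat) AddCommGrpCat.{u} :=
  SheafOfModules.toSheaf.{u} X.ringCatSheaf

instance : (abF X).Additive := inferInstanceAs (SheafOfModules.toSheaf.{u} X.ringCatSheaf).Additive

instance : PreservesFiniteLimits (abF X) :=
  inferInstanceAs (PreservesFiniteLimits (toAbF X))

instance : PreservesFiniteColimits (abF X) :=
  inferInstanceAs (PreservesFiniteColimits (toAbF X))

variable (X) in
/-- The canonical map `ℤ_X ⟶ O_X`. -/
noncomputable def can : cst X.toTopCat ⟶ (abF X).obj (Coh.structureModule X) :=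
  secHom _ (one ⊤)

lemma can_bijective (M : X.Modules) :
    Function.Bijective (fun g : Coh.structureModule X ⟶ M => can X ≫ (abF X).map g) := by
  have h : (fun g : Coh.structureModule X ⟶ M => Sheaf.H.equiv₀ ((abF X).obj M)
      (isTerminalTop X.toTopCat) (Abelian.Ext.mk₀ (can X ≫ (abF X).map g))) =
      unitEquiv M := by
    ext g
    exact equiv₀_secHom _ _
  have h1 : Function.Bijective (fun g : Coh.structureModule X ⟶ M => Sheaf.H.equiv₀ ((abF X).obj M)
      (isTerminalTop X.toTopCat) (Abelian.Ext.mk₀ (can X ≫ (abF X).map g))) := by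
    rw [h]
    exact (unitEquiv M).bijective
  exact (Function.Bijective.of_comp_iff' (bijective_equiv₀ ((abF X).obj M)) _).1 h1

theorem subsingleton_ext_injective (I : X.Modules) [Injective I] (n : ℕ) :
    Subsingleton (Abelian.Ext.{u} (cst X.toTopCat) ((abF X).obj I) (n + 1)) := by
  have := Groth.Agent.Ega3B.InjMod.isFlasque_of_injective I
  exact Groth.Agent.CohtopA.Flasque.subsingleton_H_succ (X := X.toTopCat) (Coh.toAb I) n

/-- `Ext^n(O_X, M) = H^n(X, M)` for any `O_X`-module `M`. -/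
noncomputable def extEquiv' [HasExt.{w} X.Modules] (M : X.Modules) (n : ℕ) :
    Abelian.Ext.{w} (Coh.structureModule X) M n ≃+
      Abelian.Ext.{u} (cst X.toTopCat) ((abF X).obj M) n :=
  haveI := Groth.Agent.PerfA.AffVan.enoughInjectives X
  compareEquiv (abF X) (can X) can_bijective
    (fun I _ n => subsingleton_ext_injective I n) M n

lemma extEquiv'_comp_mk₀ [HasExt.{w} X.Modules] {M N : X.Modules} {n : ℕ}
    (x : Abelian.Ext.{w} (Coh.structureModule X) M n) (φ : M ⟶ N) :
    extEquiv' N n (x.comp (Abelian.Ext.mk₀ φ) (add_zero n)) =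
      (extEquiv' M n x).comp (Abelian.Ext.mk₀ ((abF X).map φ)) (add_zero n) :=
  compare_comp_mk₀ (abF X) (can X) x φ

/-- `Ext^n(O_X, M) = H^n(X, M)` for any `O_X`-module `M`. -/
noncomputable def extEquiv [HasExt.{w} X.Modules] (M : X.Modules) (n : ℕ) :
    Abelian.Ext.{w} (Coh.structureModule X) M n ≃+ Coh.HH X M n :=
  extEquiv' M n

lemma extEquiv_comp_mk₀ [HasExt.{w} X.Modules] {M N : X.Modules} {n : ℕ}
    (x : Abelian.Ext.{w} (Coh.structureModule X) M n) (φ : M ⟶ N) :
    extEquiv N n (x.comp (Abelian.Ext.mk₀ φ) (add_zero n)) = HHmap.map φ n (extEquiv M n x) :=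
  extEquiv'_comp_mk₀ x φ

/-- `Hom_{D(O_X)}(O_X, M[n]) = H^n(X, M)`. -/
noncomputable def homEquiv (M : X.Modules) (n : ℕ) :
    (DCoh.inD X (Coh.structureModule X) ⟶ (DCoh.inD X M)⟦(n : ℤ)⟧) ≃+ Coh.HH X M n :=
  haveI := HasExt.standard X.Modules
  (Abelian.Ext.homAddEquiv (X := Coh.structureModule X) (Y := M) (n := n)).symm.trans (extEquiv M n)

lemma homEquiv_naturality {M N : X.Modules} {n : ℕ}
    (x : DCoh.inD X (Coh.structureModule X) ⟶ (DCoh.inD X M)⟦(n : ℤ)⟧) (φ : M ⟶ N) :
    homEquiv N n (x ≫ ((DerivedCategory.singleFunctor X.Modules 0).map φ)⟦(n : ℤ)⟧') =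
      HHmap.map φ n (homEquiv M n x) := by
  have := HasExt.standard X.Modules
  obtain ⟨y, rfl⟩ := (Abelian.Ext.homAddEquiv (X := Coh.structureModule X) (Y := M)
    (n := n)).surjective x
  have h1 : homEquiv M n (Abelian.Ext.homAddEquiv y) = extEquiv M n y := by
    change extEquiv M n (Abelian.Ext.homAddEquiv.symm (Abelian.Ext.homAddEquiv y)) = _
    rw [AddEquiv.symm_apply_apply]
  have h2 : (Abelian.Ext.homAddEquiv (X := Coh.structureModule X) (Y := M) (n := n) y) ≫
      ((DerivedCategory.singleFunctor X.Modules 0).map φ)⟦(n : ℤ)⟧' =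
      Abelian.Ext.homAddEquiv (y.comp (Abelian.Ext.mk₀ φ) (add_zero n)) := by
    change y.hom ≫ _ = (y.comp (Abelian.Ext.mk₀ φ) (add_zero n)).hom
    rw [Abelian.Ext.comp_hom, Abelian.Ext.mk₀_hom, ShiftedHom.comp_mk₀]
  rw [h2, h1]
  change extEquiv N n (Abelian.Ext.homAddEquiv.symm (Abelian.Ext.homAddEquiv
    (y.comp (Abelian.Ext.mk₀ φ) (add_zero n)))) = _
  rw [AddEquiv.symm_apply_apply, extEquiv_comp_mk₀]

section Central

variable {C : Type u'} [Category.{v'} C] [Abelian C] [HasExt.{w} C] [EnoughInjectives C]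

/-- Natural endomorphisms of the identity functor are central for `Ext`. -/
theorem central_ext (θ : 𝟭 C ⟶ 𝟭 C) (n : ℕ) (A B : C) (y : Abelian.Ext.{w} A B n) :
    (Abelian.Ext.mk₀ (θ.app A)).comp y (zero_add n) =
      y.comp (Abelian.Ext.mk₀ (θ.app B)) (add_zero n) := by
  induction n generalizing B with
  | zero =>
    obtain ⟨f, rfl⟩ := (Abelian.Ext.mk₀_bijective _ _).2 y
    rw [Abelian.Ext.mk₀_comp_mk₀, Abelian.Ext.mk₀_comp_mk₀]
    exact congrArg _ (θ.naturality f).symm
  | succ n hn =>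
    let I : InjectivePresentation B := Classical.arbitrary _
    let S := ShortComplex.mk _ _ (cokernel.condition I.f)
    have hI' : Injective S.X₂ := I.injective
    have hS : S.ShortExact := { exact := ShortComplex.exact_cokernel I.f }
    obtain ⟨z, hz⟩ := Abelian.Ext.covariant_sequence_exact₁ A hS (n₁ := n + 1) (n₀ := n) y
      (Abelian.Ext.eq_zero_of_injective _) rfl
    let φ : S ⟶ S := { τ₁ := θ.app _, τ₂ := θ.app _, τ₃ := θ.app _
                       comm₁₂ := (θ.naturality S.f).symm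
                       comm₂₃ := (θ.naturality S.g).symm }
    have h1 := ShortComplex.ShortExact.extClass_naturality hS hS φ
    rw [← hz]
    rw [← Abelian.Ext.comp_assoc _ _ _ (zero_add n) rfl (by omega), hn,
      Abelian.Ext.comp_assoc _ _ _ (add_zero n) (zero_add 1) (by omega),
      Abelian.Ext.comp_assoc _ _ _ rfl (add_zero 1) (by omega)]
    exact congrArg (fun t => z.comp t rfl) h1.symm

end Central

variable (X) in
/-- Multiplication by a global function, as a natural endomorphism of the identity. -/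
noncomputable def smulNat (r : Γ(X, ⊤)) : 𝟭 X.Modules ⟶ 𝟭 X.Modules where
  app M := HHmap.smulHom M r
  naturality _ _ φ := (HHmap.smulHom_comp φ r).symm

/-- Multiplication by a global function is central. -/
lemma smulHom_comp_eq (r : Γ(X, ⊤)) {A B : X.Modules} {n : ℕ}
    (x : DCoh.inD X A ⟶ (DCoh.inD X B)⟦(n : ℤ)⟧) :
    (DerivedCategory.singleFunctor X.Modules 0).map (HHmap.smulHom A r) ≫ x =
      x ≫ ((DerivedCategory.singleFunctor X.Modules 0).map (HHmap.smulHom B r))⟦(n : ℤ)⟧' := by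
  have := HasExt.standard X.Modules
  have := Groth.Agent.PerfA.AffVan.enoughInjectives X
  obtain ⟨y, rfl⟩ := (Abelian.Ext.homAddEquiv (X := A) (Y := B) (n := n)).surjective x
  have h1 := congrArg Abelian.Ext.hom (central_ext (smulNat X r) n A B y)
  rw [Abelian.Ext.comp_hom, Abelian.Ext.comp_hom, Abelian.Ext.mk₀_hom, Abelian.Ext.mk₀_hom,
    ShiftedHom.comp_mk₀, ShiftedHom.mk₀_comp] at h1
  exact h1

/-- Compatibility of `homEquiv` with the action of the global functions. -/
lemma homEquiv_smul {M : X.Modules} {n : ℕ} (r : Γ(X, ⊤))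
    (x : DCoh.inD X (Coh.structureModule X) ⟶ (DCoh.inD X M)⟦(n : ℤ)⟧) :
    homEquiv M n ((DerivedCategory.singleFunctor X.Modules 0).map
      (HHmap.smulHom (Coh.structureModule X) r) ≫ x) =
      (show Coh.Γtop X from r) • homEquiv M n x := by
  rw [smulHom_comp_eq, homEquiv_naturality, HHmap.map_smulHom]

/-- Vanishing of `Hom(O_X, M[n])` from vanishing of `H^n(X, M)`. -/
theorem hom_eq_zero_of_subsingleton (M : X.Modules) (n : ℕ) (h : Subsingleton (Coh.HH X M n))
    (x : DCoh.inD X (Coh.structureModule X) ⟶ (DCoh.inD X M)⟦(n : ℤ)⟧) : x = 0 :=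
  (homEquiv M n).injective (Subsingleton.elim _ _)

/-- Vanishing of `Hom(A, B[k])` for `k < 0`. -/
theorem hom_eq_zero_of_neg (A B : X.Modules) (k : ℤ) (hk : k < 0)
    (x : DCoh.inD X A ⟶ (DCoh.inD X B)⟦k⟧) : x = 0 := by
  have h1 : (DCoh.inD X A).IsLE 0 := inferInstance
  have h2 : ((DCoh.inD X B)⟦k⟧).IsGE (-k) :=
    DerivedCategory.TStructure.t.isGE_shift _ 0 k (-k) (by omega)
  exact DerivedCategory.TStructure.t.zero x 0 (-k) (by omega)

/-- `Hom(O_X, M[k]) = 0` if all relevant cohomology groups vanish. -/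
theorem hom_eq_zero (M : X.Modules) (k : ℤ)
    (h : ∀ n : ℕ, (n : ℤ) = k → Subsingleton (Coh.HH X M n))
    (x : DCoh.inD X (Coh.structureModule X) ⟶ (DCoh.inD X M)⟦k⟧) : x = 0 := by
  rcases lt_or_ge k 0 with hk | hk
  · exact hom_eq_zero_of_neg _ _ k hk x
  · obtain ⟨n, rfl⟩ := Int.eq_ofNat_of_zero_le hk
    exact hom_eq_zero_of_subsingleton M n (h n rfl) x

end Groth.Agent.LoccohB.GammaD
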