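import Groth.Agent.LoccohB.AdjIso

/-!
# Shifts and Hom: `Hom(G⟦m⟧, N) = Hom(G, N⟦k⟧)`, `m + k = 0`
-/

set_option autoImplicit false
universe w v u v' u'
open CategoryTheory CategoryTheory.Limits CategoryTheory.Pretriangulated

namespace Groth.Agent.LoccohB.ShiftHom

section

variable {D : Type u} [Category.{v} D] [HasShift D ℤ]

/-- `Hom(G⟦m⟧, N) = Hom(G, N⟦k⟧)` for `m + k = 0`. -/
noncomputable def tr (G N : D) (m k : ℤ) (h : m + k = 0) : (G⟦m⟧ ⟶ N) ≃ (G ⟶ N⟦k⟧) :=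
  (shiftEquiv' D m k h).toAdjunction.homEquiv G N

lemma tr_comp {G N N' : D} (m k : ℤ) (h : m + k = 0) (u : G⟦m⟧ ⟶ N) (g : N ⟶ N') :
    tr G N' m k h (u ≫ g) = tr G N m k h u ≫ g⟦k⟧' :=
  (shiftEquiv' D m k h).toAdjunction.homEquiv_naturality_right u g

lemma bijective_iff {G N N' : D} (m k : ℤ) (h : m + k = 0) (g : N ⟶ N') :
    Function.Bijective (fun u : G⟦m⟧ ⟶ N => u ≫ g) ↔
      Function.Bijective (fun u : G ⟶ N⟦k⟧ => u ≫ g⟦k⟧') := by
  have h1 : (fun u : G⟦m⟧ ⟶ N => tr G N' m k h (u ≫ g)) =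
      (fun u : G ⟶ N⟦k⟧ => u ≫ g⟦k⟧') ∘ (tr G N m k h) := by
    funext u
    exact tr_comp m k h u g
  rw [← (tr G N m k h).bijective.of_comp_iff, ← h1,
    ← (tr G N' m k h).bijective.of_comp_iff']
  rfl

end

section

variable {D : Type u} [Category.{v} D] [Preadditive D] [HasZeroObject D] [HasShift D ℤ]
  [∀ n : ℤ, (shiftFunctor D n).Additive] [Pretriangulated D]

omit [HasZeroObject D] [∀ n : ℤ, (shiftFunctor D n).Additive] [Pretriangulated D] in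
lemma eq_zero_of_tr {G N : D} (m k : ℤ) (h : m + k = 0) (h0 : ∀ u : G ⟶ N⟦k⟧, u = 0)
    (u : G⟦m⟧ ⟶ N) : u = 0 :=
  (tr G N m k h).injective ((h0 _).trans (h0 _).symm)

omit [HasZeroObject D] [∀ n : ℤ, (shiftFunctor D n).Additive] [Pretriangulated D] in
lemma eq_zero_of_tr' {G N : D} (m k : ℤ) (h : m + k = 0) (h0 : ∀ u : G⟦m⟧ ⟶ N, u = 0)
    (u : G ⟶ N⟦k⟧) : u = 0 :=
  (tr G N m k h).symm.injective ((h0 _).trans (h0 _).symm)

/-- Version of `isIso_of_generators` with the shifts on the target. -/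
theorem isIso_of_generators {ι : Type*} (G : ι → D) {N M : D} (φ : N ⟶ M)
    (hgen : ∀ (Z : D) (g : M ⟶ Z) (h : Z ⟶ N⟦(1 : ℤ)⟧), Triangle.mk φ g h ∈ distTriang D →
      (∀ (j : ι) (k : ℤ) (u : G j ⟶ Z⟦k⟧), u = 0) → IsZero Z)
    (hbij : ∀ (j : ι) (k : ℤ), Function.Bijective (fun u : G j ⟶ N⟦k⟧ => u ≫ φ⟦k⟧')) :
    IsIso φ :=
  AdjIso.isIso_of_generators G φ
    (fun Z g h hT h0 => hgen Z g h hT fun j k u => eq_zero_of_tr' (-k) k (by lia) (h0 j (-k)) u)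
    (fun j m => (bijective_iff m (-m) (by lia) φ).2 (hbij j (-m)))

end

section

variable {D₁ : Type u} [Category.{v} D₁] [HasShift D₁ ℤ]
  {D₂ : Type u'} [Category.{v'} D₂] [HasShift D₂ ℤ] (T : D₁ ⥤ D₂) [T.CommShift ℤ]

/-- If `T` is bijective on `Hom(G, N⟦k⟧)` then it is bijective on `Hom(G⟦m⟧, N)`, `m + k = 0`. -/
lemma bijective_map {G N : D₁} (m k : ℤ) (h : m + k = 0)
    (hb : Function.Bijective (fun u : G ⟶ N⟦k⟧ => T.map u)) :
    Function.Bijective (fun u : G⟦m⟧ ⟶ N => T.map u) := by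
  -- shift by `k`: compare `u` with `u⟦k⟧'`
  let e : (G⟦m⟧)⟦k⟧ ≅ G := (shiftFunctorCompIsoId D₁ m k h).app G
  -- `T` bijective on `Hom(G⟦m⟧⟦k⟧, N⟦k⟧)`
  have h1 : Function.Bijective (fun u : (G⟦m⟧)⟦k⟧ ⟶ N⟦k⟧ => T.map u) :=
    AdjIso.bijective_map_of_iso e.symm hb
  have h2 : Function.Bijective (fun u : G⟦m⟧ ⟶ N => (T.map (u⟦k⟧'))) :=
    h1.comp ⟨(shiftFunctor D₁ k).map_injective, (shiftFunctor D₁ k).map_surjective⟩
  have h3 : ∀ u : G⟦m⟧ ⟶ N, T.map (u⟦k⟧') =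
      (T.commShiftIso k).hom.app _ ≫ (T.map u)⟦k⟧' ≫ (T.commShiftIso k).inv.app _ := by
    intro u
    have := (T.commShiftIso k).hom.naturality u
    dsimp at this
    rw [← Category.assoc, ← this, Category.assoc, Iso.hom_inv_id_app]
    exact (Category.comp_id _).symm
  constructor
  · intro u v huv
    apply h2.1
    dsimp only at huv ⊢
    rw [h3, h3, huv]
  · intro w
    obtain ⟨u, hu⟩ := h2.2 ((T.commShiftIso k).hom.app _ ≫ w⟦k⟧' ≫ (T.commShiftIso k).inv.app _)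
    refine ⟨u, (shiftFunctor D₂ k).map_injective ?_⟩
    dsimp only at hu
    rw [h3] at hu
    exact (cancel_mono ((T.commShiftIso k).inv.app N)).1
      ((cancel_epi ((T.commShiftIso k).hom.app (G⟦m⟧))).1 hu)

end

end Groth.Agent.LoccohB.ShiftHom
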