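import Groth.Agent.Dcoh.DerSch
import Groth.Agent.PerfC.PullRestrict
import Groth.Agent.LoccohB.GammaD
import Groth.Agent.LoccohB.ShiftHom

/-!
# The adjunction `Lf^* ⊣ Rf_*` on the structure sheaf, exact pullback
-/

set_option autoImplicit false
universe w v' u' u
open CategoryTheory CategoryTheory.Limits AlgebraicGeometry Opposite TopologicalSpace
attribute [local instance] HasDerivedCategory.standard

namespace Groth.Agent.LoccohB.GammaAdj

open Groth.Agent.Dcoh.Restrict Groth.Agent.Dcoh.DerSch Groth.Agent.Dcoh.DerComp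
open Groth.Agent.LoccohB.GammaD

variable {X Y : Scheme.{u}} (f : X ⟶ Y)

/-- Pullback of the structure module. -/
noncomputable abbrev pullUnit :
    (Scheme.Modules.pullback f).obj (Coh.structureModule Y) ≅ Coh.structureModule X :=
  Groth.Agent.PerfC.PullRestrict.pullbackUnit f

lemma smulHom_app_one (r : Γ(X, ⊤)) :
    (HHmap.smulHom (Coh.structureModule X) r).app ⊤ (one ⊤) = r • one ⊤ := by
  have h := HHmap.smulHom_app (Coh.structureModule X) r ⊤ (one ⊤)
  rw [GlueHom.resO_self] at h
  exact h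

/-- The transpose `O_Y ⟶ f_* O_X` of `pullUnit`. -/
noncomputable def unitPush :
    Coh.structureModule Y ⟶ (Scheme.Modules.pushforward f).obj (Coh.structureModule X) :=
  (Scheme.Modules.pullbackPushforwardAdjunction f).homEquiv _ _ (pullUnit f).hom

lemma unitPush_app_one :
    (unitPush f).app ⊤ (one (X := Y) ⊤) = (one (X := X) ⊤) := by
  have hR : (SheafOfModules.pushforward f.toRingCatSheafHom).IsRightAdjoint :=
    inferInstanceAs (Scheme.Modules.pushforward f).IsRightAdjoint
  have h : unitPush f = SheafOfModules.unitToPushforwardObjUnit f.toRingCatSheafHom :=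
    SheafOfModules.pullbackPushforwardAdjunction_homEquiv_pullbackObjUnitToUnit _
  rw [h]
  exact RingHom.map_one (f.app ⊤).hom

lemma unitPush_smulHom (r : Γ(Y, ⊤)) :
    HHmap.smulHom (Coh.structureModule Y) r ≫ unitPush f =
      unitPush f ≫ (Scheme.Modules.pushforward f).map
        (HHmap.smulHom (Coh.structureModule X) (f.appTop r)) := by
  apply unit_hom_ext
  have h1 : (HHmap.smulHom (Coh.structureModule Y) r ≫ unitPush f).app ⊤ (one ⊤) =
      (unitPush f).app ⊤ (r • one ⊤) := by
    rw [← smulHom_app_one]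
    rfl
  have h2 : (unitPush f ≫ (Scheme.Modules.pushforward f).map
        (HHmap.smulHom (Coh.structureModule X) (f.appTop r))).app ⊤ (one ⊤) =
      (HHmap.smulHom (Coh.structureModule X) (f.appTop r)).app ⊤ ((unitPush f).app ⊤ (one ⊤)) := rfl
  rw [h1, h2, unitPush_app_one, smulHom_app_one, Scheme.Modules.Hom.app_smul, unitPush_app_one]
  rfl

lemma pull_smulHom (r : Γ(Y, ⊤)) :
    (Scheme.Modules.pullback f).map (HHmap.smulHom (Coh.structureModule Y) r) ≫ (pullUnit f).hom =
      (pullUnit f).hom ≫ HHmap.smulHom (Coh.structureModule X) (f.appTop r) := by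
  apply ((Scheme.Modules.pullbackPushforwardAdjunction f).homEquiv _ _).injective
  rw [Adjunction.homEquiv_naturality_left, Adjunction.homEquiv_naturality_right]
  exact unitPush_smulHom f r

/-- A left adjoint of `Rf_*` whose value on the structure sheaf is the structure sheaf. -/
structure UnitAdj [DCoh.HasRpush f] where
  /-- the functor `Lf^*` -/
  L : DCoh.D Y ⥤ DCoh.D X
  /-- the adjunction -/
  adj : L ⊣ DCoh.Rpush f
  /-- `Lf^* O_Y ≅ O_X` -/
  e : L.obj (DCoh.inD Y (Coh.structureModule Y)) ≅ DCoh.inD X (Coh.structureModule X)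
  /-- compatibility with multiplication by functions -/
  map_smul : ∀ r : Γ(Y, ⊤), L.map ((DerivedCategory.singleFunctor Y.Modules 0).map
      (HHmap.smulHom (Coh.structureModule Y) r)) ≫ e.hom =
    e.hom ≫ (DerivedCategory.singleFunctor X.Modules 0).map
      (HHmap.smulHom (Coh.structureModule X) (f.appTop r))

section Exact

variable [PreservesFiniteLimits (Scheme.Modules.pullback f)] [DCoh.HasRpush f]

/-- The derived functor of the exact functor `f^*`. -/
noncomputable abbrev pullD : DCoh.D Y ⥤ DCoh.D X := (Scheme.Modules.pullback f).mapDerivedCategory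

instance : (pullD f).IsLeftDerivedFunctor
    (Scheme.Modules.pullback f).mapDerivedCategoryFactorsh.hom (qis Y.Modules) :=
  isLeftDerivedFunctor_mapDerivedCategory _

/-- `f^* ⊣ Rf_*` for exact `f^*`. -/
noncomputable def adjD : pullD f ⊣ DCoh.Rpush f :=
  Groth.Agent.Dcoh.DerAdj.derivedAdj (Scheme.Modules.pullbackPushforwardAdjunction f) (hasKInj X)
    (leftDataExact _) (pullD f) (Scheme.Modules.pullback f).mapDerivedCategoryFactorsh.hom
    (DCoh.Rpush f) (rpushUnit f)

/-- The adjunction for flat morphisms. -/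
noncomputable def unitAdjExact : UnitAdj f where
  L := pullD f
  adj := adjD f
  e := ((Scheme.Modules.pullback f).mapDerivedCategorySingleFunctor 0).app _ ≪≫
    (DerivedCategory.singleFunctor X.Modules 0).mapIso (pullUnit f)
  map_smul r := by
    have h1 := ((Scheme.Modules.pullback f).mapDerivedCategorySingleFunctor 0).hom.naturality
      (HHmap.smulHom (Coh.structureModule Y) r)
    have h2 := congrArg (DerivedCategory.singleFunctor X.Modules 0).map (pull_smulHom f r)
    rw [Functor.map_comp, Functor.map_comp] at h2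
    dsimp at h1 ⊢
    rw [← Category.assoc, h1, Category.assoc, Category.assoc]
    exact congrArg _ h2

end Exact

namespace UnitAdj

variable {f} [DCoh.HasRpush f] (U : UnitAdj f)

/-- The transpose `O_Y ⟶ Rf_* K` of `O_X ⟶ K`. -/
noncomputable def tp (K : DCoh.D X) :
    (DCoh.inD X (Coh.structureModule X) ⟶ K) ≃
      (DCoh.inD Y (Coh.structureModule Y) ⟶ (DCoh.Rpush f).obj K) :=
  (Iso.homCongr U.e.symm (Iso.refl K)).trans (U.adj.homEquiv _ _)

lemma tp_apply {K : DCoh.D X} (u : DCoh.inD X (Coh.structureModule X) ⟶ K) :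
    U.tp K u = U.adj.homEquiv _ _ (U.e.hom ≫ u) := by
  simp [tp, Iso.homCongr]

lemma tp_comp {K K' : DCoh.D X} (u : DCoh.inD X (Coh.structureModule X) ⟶ K) (g : K ⟶ K') :
    U.tp K' (u ≫ g) = U.tp K u ≫ (DCoh.Rpush f).map g := by
  rw [tp_apply, tp_apply, ← Category.assoc, Adjunction.homEquiv_naturality_right]

lemma tp_smul {K : DCoh.D X} (r : Γ(Y, ⊤)) (u : DCoh.inD X (Coh.structureModule X) ⟶ K) :
    (DerivedCategory.singleFunctor Y.Modules 0).map (HHmap.smulHom (Coh.structureModule Y) r) ≫
      U.tp K u =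
    U.tp K ((DerivedCategory.singleFunctor X.Modules 0).map
      (HHmap.smulHom (Coh.structureModule X) (f.appTop r)) ≫ u) := by
  rw [tp_apply, tp_apply, ← Adjunction.homEquiv_naturality_left, ← Category.assoc, U.map_smul,
    Category.assoc]

attribute [local instance] rpushCommShift

/-- `Hom(O_X, K⟦k⟧) = Hom(O_Y, (Rf_* K)⟦k⟧)`. -/
noncomputable def tpk (K : DCoh.D X) (k : ℤ) :
    (DCoh.inD X (Coh.structureModule X) ⟶ K⟦k⟧) ≃
      (DCoh.inD Y (Coh.structureModule Y) ⟶ ((DCoh.Rpush f).obj K)⟦k⟧) :=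
  (U.tp (K⟦k⟧)).trans (Iso.homToEquiv (((DCoh.Rpush f).commShiftIso k).app K))

lemma tpk_apply {K : DCoh.D X} {k : ℤ} (u : DCoh.inD X (Coh.structureModule X) ⟶ K⟦k⟧) :
    U.tpk K k u = U.tp _ u ≫ ((DCoh.Rpush f).commShiftIso k).hom.app K := rfl

lemma tpk_comp {K K' : DCoh.D X} {k : ℤ} (u : DCoh.inD X (Coh.structureModule X) ⟶ K⟦k⟧)
    (g : K ⟶ K') : U.tpk K' k (u ≫ g⟦k⟧') = U.tpk K k u ≫ ((DCoh.Rpush f).map g)⟦k⟧' := by
  rw [tpk_apply, tpk_apply, tp_comp, Category.assoc, Category.assoc]
  congr 1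
  exact ((DCoh.Rpush f).commShiftIso k).hom.naturality g

end UnitAdj

end Groth.Agent.LoccohB.GammaAdj
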