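import Groth.Agent.LoccohB.GammaAdj
import Groth.Agent.PerfA.HypAffine
import Groth.Agent.PerfA.GenOpen
import Groth.Agent.S0007

/-!
# `D_QCoh` of an affine scheme is generated by the structure sheaf; `Rf_*` over an affine base
-/

set_option autoImplicit false
universe w v' u' u
open CategoryTheory CategoryTheory.Limits AlgebraicGeometry Opposite TopologicalSpace
open CategoryTheory.Pretriangulated
attribute [local instance] HasDerivedCategory.standard

namespace Groth.Agent.LoccohB.GammaAff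

open Groth.Agent.Dcoh.Restrict Groth.Agent.Dcoh.DerSch
open Groth.Agent.LoccohB.GammaD Groth.Agent.LoccohB.GammaAdj Groth.Agent.LoccohB.ShiftHom

section Affine

variable {Y : Scheme.{u}} [IsAffine Y]

/-- `O_Y` generates `D_QCoh(O_Y)` for `Y` affine. -/
theorem isZero_of_hom_eq_zero (K : DCoh.D Y) (hK : DCoh.IsQCohD K)
    (h : ∀ (k : ℤ) (u : DCoh.inD Y (Coh.structureModule Y) ⟶ K⟦k⟧), u = 0) : IsZero K := by
  rw [DCalc.isZero_iff]
  intro m
  have hq : Coh.IsQCoh (DCoh.HD K m) := hK m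
  have hs : Subsingleton Γ(DCoh.HD K m, ⊤) := by
    refine ⟨fun s t => ?_⟩
    have key : ∀ s : Γ(DCoh.HD K m, ⊤), s = 0 := by
      intro s
      obtain ⟨φ, rfl⟩ := (Groth.Agent.PerfA.HypAffine.unit_bijective K hK m).2 s
      have hφ : φ = 0 := by
        let e : (DCoh.inD Y (Coh.structureModule Y))⟦-m⟧ ≅
            (DerivedCategory.singleFunctor Y.Modules m).obj (Coh.structureModule Y) :=
          ((DerivedCategory.singleFunctors Y.Modules).shiftIso (-m) m 0 (by lia)).app _
        rw [← cancel_epi e.hom, comp_zero]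
        exact eq_zero_of_tr (-m) m (by lia) (h m) _
      rw [hφ]
      dsimp only
      rw [Groth.Agent.PerfA.Hyp0.toH_zero, map_zero]
    rw [key s, key t]
  exact Groth.Agent.PerfA.GenOpen.isZero_of_sections
    (fun y => ⟨⊤, trivial, isAffineOpen_top Y, hs⟩)

/-- Criterion for isomorphisms in `D_QCoh(O_Y)`, `Y` affine. -/
theorem isIso_of_bijective {K L : DCoh.D Y} (hK : DCoh.IsQCohD K) (hL : DCoh.IsQCohD L)
    (φ : K ⟶ L) (h : ∀ k : ℤ, Function.Bijective
      (fun u : DCoh.inD Y (Coh.structureModule Y) ⟶ K⟦k⟧ => u ≫ φ⟦k⟧')) : IsIso φ := by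
  refine ShiftHom.isIso_of_generators (fun _ : Unit => DCoh.inD Y (Coh.structureModule Y)) φ
    (fun Z g h' hT h0 => isZero_of_hom_eq_zero Z ?_ (h0 ())) (fun _ => h)
  exact Groth.Agent.PerfA.QCohD.isQCohD_ext₃ _ hT hK hL

end Affine

section End

/-- Endomorphisms of `O_Y` in `D(O_Y)` are global functions. -/
theorem end_bijective (Y : Scheme.{u}) : Function.Bijective (fun r : Γ(Y, ⊤) =>
    (DerivedCategory.singleFunctor Y.Modules 0).map (HHmap.smulHom (Coh.structureModule Y) r)) := by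
  have h1 : Function.Bijective (fun r : Γ(Y, ⊤) => HHmap.smulHom (Coh.structureModule Y) r) := by
    rw [← (unitEquiv (Coh.structureModule Y)).bijective.of_comp_iff']
    have : (unitEquiv (Coh.structureModule Y)) ∘
        (fun r : Γ(Y, ⊤) => HHmap.smulHom (Coh.structureModule Y) r) = id := by
      funext r
      rw [Function.comp_apply, unitEquiv_apply, smulHom_app_one]
      exact mul_one r
    rw [this]
    exact Function.bijective_id
  exact Function.Bijective.comp (g := fun v => (DerivedCategory.singleFunctor Y.Modules 0).map v)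
    ⟨(DerivedCategory.singleFunctor Y.Modules 0).map_injective,
      (DerivedCategory.singleFunctor Y.Modules 0).map_surjective⟩ h1

/-- `Hom(O_Y, O_Y⟦k⟧) = 0` for `Y` affine and `k ≠ 0`. -/
theorem hom_unit_eq_zero (Y : Scheme.{u}) [IsAffine Y] (k : ℤ) (hk : k ≠ 0)
    (u : DCoh.inD Y (Coh.structureModule Y) ⟶ (DCoh.inD Y (Coh.structureModule Y))⟦k⟧) : u = 0 := by
  refine hom_eq_zero _ k (fun n hn => ?_) u
  have : Coh.IsQCoh (Coh.structureModule Y) := Groth.Agent.PerfA.QCohSerre.isQCoh_unit Y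
  exact Groth.Agent.S0007.result Y _ n (by omega)

end End

section Rpush

variable {X Y : Scheme.{u}} {f : X ⟶ Y} [DCoh.HasRpush f] (U : UnitAdj f) [IsAffine Y]

attribute [local instance] rpushCommShift

include U in
/-- Vanishing of `Rf_* K` on an affine base. -/
theorem isZero_Rpush (K : DCoh.D X) (hK : DCoh.IsQCohD ((DCoh.Rpush f).obj K))
    (h : ∀ (k : ℤ) (u : DCoh.inD X (Coh.structureModule X) ⟶ K⟦k⟧), u = 0) :
    IsZero ((DCoh.Rpush f).obj K) := by
  refine isZero_of_hom_eq_zero _ hK fun k u => ?_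
  obtain ⟨v, rfl⟩ := (U.tpk K k).surjective u
  obtain ⟨w, hw⟩ := (U.tpk K k).surjective 0
  rw [h k v, ← hw, h k w]

/-- The transpose of `c : O_X ⟶ K` is an isomorphism `O_Y ≅ Rf_* K` if `Hom(O_X, K⟦k⟧) = 0` for
`k ≠ 0` and `Hom(O_X, K)` is freely generated by `c` over the functions on `Y`. -/
theorem isIso_tp (K : DCoh.D X) (hK : DCoh.IsQCohD ((DCoh.Rpush f).obj K))
    (c : DCoh.inD X (Coh.structureModule X) ⟶ K)
    (h0 : ∀ (k : ℤ), k ≠ 0 → ∀ (u : DCoh.inD X (Coh.structureModule X) ⟶ K⟦k⟧), u = 0)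
    (h1 : Function.Bijective (fun r : Γ(Y, ⊤) => (DerivedCategory.singleFunctor X.Modules 0).map
      (HHmap.smulHom (Coh.structureModule X) (f.appTop r)) ≫ c)) :
    IsIso (U.tp K c) := by
  refine isIso_of_bijective
    (Groth.Agent.PerfA.QCohD.isQCohD_inD _ (Groth.Agent.PerfA.QCohSerre.isQCoh_unit Y)) hK _
    fun k => ?_
  by_cases hk : k = 0
  · subst hk
    have h2 : Function.Bijective (fun u : DCoh.inD Y (Coh.structureModule Y) ⟶
        DCoh.inD Y (Coh.structureModule Y) => u ≫ U.tp K c) := by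
      rw [← Function.Bijective.of_comp_iff _ (end_bijective Y)]
      have h3 : (fun u : DCoh.inD Y (Coh.structureModule Y) ⟶
          DCoh.inD Y (Coh.structureModule Y) => u ≫ U.tp K c) ∘ (fun r : Γ(Y, ⊤) =>
          (DerivedCategory.singleFunctor Y.Modules 0).map (HHmap.smulHom (Coh.structureModule Y) r)) =
          (U.tp K) ∘ (fun r : Γ(Y, ⊤) => (DerivedCategory.singleFunctor X.Modules 0).map
            (HHmap.smulHom (Coh.structureModule X) (f.appTop r)) ≫ c) := by
        funext r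
        exact U.tp_smul r c
      rw [h3]
      exact (U.tp K).bijective.comp h1
    -- transport along the isomorphism `id ≅ shift by 0`
    let e₁ := (shiftFunctorZero (DCoh.D Y) ℤ).app (DCoh.inD Y (Coh.structureModule Y))
    let e₂ := (shiftFunctorZero (DCoh.D Y) ℤ).app ((DCoh.Rpush f).obj K)
    have hn : (U.tp K c)⟦(0 : ℤ)⟧' ≫ e₂.hom = e₁.hom ≫ U.tp K c :=
      (shiftFunctorZero (DCoh.D Y) ℤ).hom.naturality (U.tp K c)
    constructor
    · intro u v huv
      dsimp only at huv
      rw [← cancel_mono e₁.hom]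
      apply h2.1
      dsimp only
      rw [Category.assoc, Category.assoc, ← hn, ← Category.assoc, ← Category.assoc, huv]
    · intro w
      obtain ⟨u, hu⟩ := h2.2 (w ≫ e₂.hom)
      refine ⟨u ≫ e₁.inv, ?_⟩
      dsimp only at hu ⊢
      rw [← cancel_mono e₂.hom, Category.assoc, Category.assoc, hn, e₁.inv_hom_id_assoc, hu]
  · constructor
    · intro u v _
      rw [hom_unit_eq_zero Y k hk u, hom_unit_eq_zero Y k hk v]
    · intro w
      refine ⟨0, ?_⟩
      obtain ⟨v, rfl⟩ := (U.tpk K k).surjective w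
      obtain ⟨v', hv'⟩ := (U.tpk K k).surjective 0
      dsimp only
      rw [zero_comp, ← hv', h0 k hk v, h0 k hk v']

/-- If `Hom(O_X, O_X⟦k⟧) = 0` for `k ≠ 0` and `Γ(Y, O_Y) = Γ(X, O_X)` then the unit
`O_Y ⟶ Rf_* Lf^* O_Y` is an isomorphism. -/
theorem isIso_unit (hK : DCoh.IsQCohD ((DCoh.Rpush f).obj (DCoh.inD X (Coh.structureModule X))))
    (h0 : ∀ (k : ℤ), k ≠ 0 → ∀ (u : DCoh.inD X (Coh.structureModule X) ⟶
      (DCoh.inD X (Coh.structureModule X))⟦k⟧), u = 0)
    (h1 : Function.Bijective (fun r : Γ(Y, ⊤) => f.appTop r)) :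
    IsIso (U.adj.unit.app (DCoh.inD Y (Coh.structureModule Y))) := by
  have h2 := isIso_tp U (DCoh.inD X (Coh.structureModule X)) hK (𝟙 _) h0 (by
    have := (end_bijective X).comp h1
    convert this using 1
    funext r
    simp)
  have h3 : U.tp (DCoh.inD X (Coh.structureModule X)) (𝟙 _) =
      U.adj.unit.app (DCoh.inD Y (Coh.structureModule Y)) ≫ (DCoh.Rpush f).map U.e.hom := by
    rw [UnitAdj.tp_apply, Category.comp_id, Adjunction.homEquiv_unit]
  have h4 : U.adj.unit.app (DCoh.inD Y (Coh.structureModule Y)) =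
      U.tp (DCoh.inD X (Coh.structureModule X)) (𝟙 _) ≫ inv ((DCoh.Rpush f).map U.e.hom) := by
    rw [h3]
    simp
  rw [h4]
  infer_instance

omit [IsAffine Y] in
/-- `Rf_*` is bijective on `Hom(O_X⟦m⟧, K)` if the unit is an isomorphism on the structure sheaf. -/
theorem bijective_map_Rpush [IsIso (U.adj.unit.app (DCoh.inD Y (Coh.structureModule Y)))]
    (m : ℤ) (K : DCoh.D X) :
    Function.Bijective (fun u : (DCoh.inD X (Coh.structureModule X))⟦m⟧ ⟶ K =>
      (DCoh.Rpush f).map u) := by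
  refine ShiftHom.bijective_map (DCoh.Rpush f) m (-m) (by lia) ?_
  exact AdjIso.bijective_map_of_iso U.e (AdjIso.bijective_map_of_unit U.adj _ _)

end Rpush

end Groth.Agent.LoccohB.GammaAff
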