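import Groth.Prelude.Def_DualLC
import Mathlib.Algebra.Module.LocalizedModule.Exact
import Mathlib.Algebra.Homology.DerivedCategory.ExactFunctor
import Mathlib.Algebra.Homology.DerivedCategory.HomologySequence
import Mathlib.Algebra.Homology.ShortComplex.ModuleCat

/-!
# Localization triangles in `D(A)`

For a commutative ring `A`, `f : A` and `K : D(A)` we construct a distinguished triangle
`G ⟶ K ⟶ K_f ⟶ G[1]` where `f` acts invertibly on `K_f` and all cohomology modules of `G` are
`f`-power torsion (and inherit `g`-power torsion from `K`).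
-/

universe u

open CategoryTheory Limits Pretriangulated

attribute [local instance] HasDerivedCategory.standard

namespace Groth.Agent.LoccohB.LocTri

variable {A : Type u} [CommRing A]

/-- `M` is `f`-power torsion, elementwise. -/
def ElTor (f : A) (M : Type u) [AddCommGroup M] [Module A M] : Prop := ∀ m : M, ∃ n : ℕ, f ^ n • m = 0

/-- The exact functor `M ↦ M_f` on `A`-modules. -/
noncomputable def locM (f : A) : ModuleCat.{u} A ⥤ ModuleCat.{u} A where
  obj M := ModuleCat.of A (LocalizedModule (Submonoid.powers f) M)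
  map {M N} g := ModuleCat.ofHom (IsLocalizedModule.map (Submonoid.powers f)
    (LocalizedModule.mkLinearMap (Submonoid.powers f) M) (LocalizedModule.mkLinearMap (Submonoid.powers f) N) g.hom)
  map_id M := by
    ext x
    simp
  map_comp {M N P} g h := by
    ext x
    have := IsLocalizedModule.map_comp' (Submonoid.powers f) (LocalizedModule.mkLinearMap (Submonoid.powers f) M)
      (LocalizedModule.mkLinearMap (Submonoid.powers f) N) (LocalizedModule.mkLinearMap (Submonoid.powers f) P) g.hom h.hom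
    exact LinearMap.congr_fun this x

/-- The localization map `M ⟶ M_f`. -/
noncomputable def locη (f : A) : 𝟭 (ModuleCat.{u} A) ⟶ locM f where
  app M := ModuleCat.ofHom (LocalizedModule.mkLinearMap (Submonoid.powers f) M)
  naturality M N g := by
    ext x
    exact (IsLocalizedModule.map_apply (Submonoid.powers f) (LocalizedModule.mkLinearMap (Submonoid.powers f) M)
      (LocalizedModule.mkLinearMap (Submonoid.powers f) N) g.hom x).symm

instance (f : A) : (locM f).Additive where
  map_add {M N g h} := by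
    ext x
    exact LinearMap.congr_fun ((IsLocalizedModule.map (Submonoid.powers f)
      (LocalizedModule.mkLinearMap (Submonoid.powers f) M) (LocalizedModule.mkLinearMap (Submonoid.powers f) N)).map_add g.hom h.hom) x

lemma locM_map_exact (f : A) (T : ShortComplex (ModuleCat.{u} A)) (h : T.Exact) :
    (T.map (locM f)).Exact := by
  rw [CategoryTheory.ShortComplex.ShortExact.moduleCat_exact_iff_function_exact] at h ⊢
  exact IsLocalizedModule.map_exact (Submonoid.powers f) (LocalizedModule.mkLinearMap (Submonoid.powers f) T.X₁)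
    (LocalizedModule.mkLinearMap (Submonoid.powers f) T.X₂) (LocalizedModule.mkLinearMap (Submonoid.powers f) T.X₃) _ _ h

instance (f : A) : PreservesFiniteLimits (locM f) := by
  have := ((Functor.exact_tfae _).out 1 3).mp (locM_map_exact f)
  exact this.1

instance (f : A) : PreservesFiniteColimits (locM f) := by
  have := ((Functor.exact_tfae _).out 1 3).mp (locM_map_exact f)
  exact this.2

instance (f : A) : (locM f).Linear A where
  map_smul {M N} g r := by
    ext x
    exact LinearMap.congr_fun ((IsLocalizedModule.map (Submonoid.powers f)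
      (LocalizedModule.mkLinearMap (Submonoid.powers f) M) (LocalizedModule.mkLinearMap (Submonoid.powers f) N)).map_smul r g.hom) x

/-- `f` acts invertibly on `M_f`. -/
lemma isIso_smul_locM (f : A) (M : ModuleCat.{u} A) : IsIso (f • 𝟙 ((locM f).obj M)) := by
  rw [ConcreteCategory.isIso_iff_bijective]
  have h1 := IsLocalizedModule.map_units (LocalizedModule.mkLinearMap (Submonoid.powers f) M) (⟨f, Submonoid.mem_powers f⟩ : Submonoid.powers f)
  rw [Module.End.isUnit_iff] at h1
  exact h1

lemma locη_ker (f : A) (M : ModuleCat.{u} A) (m : M) (hm : ((locη f).app M).hom m = 0) : ∃ n : ℕ, f ^ n • m = 0 := by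
  obtain ⟨⟨c, n, rfl⟩, hc⟩ := (IsLocalizedModule.eq_zero_iff (Submonoid.powers f) (LocalizedModule.mkLinearMap (Submonoid.powers f) M)).1 hm
  exact ⟨n, hc⟩

lemma locη_coker (f : A) (M : ModuleCat.{u} A) (y : (locM f).obj M) : ∃ (n : ℕ) (m : M), ((locη f).app M).hom m = f ^ n • y := by
  obtain ⟨⟨m, ⟨c, n, rfl⟩⟩, hc⟩ := IsLocalizedModule.surj (Submonoid.powers f) (LocalizedModule.mkLinearMap (Submonoid.powers f) M) y
  exact ⟨n, m, hc.symm⟩

lemma elTor_locM (f g : A) (M : ModuleCat.{u} A) (hM : ElTor g M) : ElTor g ((locM f).obj M) := by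
  intro y
  obtain ⟨n, m, h⟩ := locη_coker f M y
  obtain ⟨k, hk⟩ := hM m
  refine ⟨k, ?_⟩
  have h1 : f ^ n • (g ^ k • y) = 0 := by
    rw [smul_comm, ← h, ← map_smul, hk, map_zero]
  have h2 := IsLocalizedModule.map_units (LocalizedModule.mkLinearMap (Submonoid.powers f) M) (⟨f ^ n, ⟨n, rfl⟩⟩ : Submonoid.powers f)
  rw [Module.End.isUnit_iff] at h2
  exact h2.1 (h1.trans (map_zero _).symm)

section Complexes

/-- the localization of a complex -/
noncomputable abbrev locC (f : A) (K : CochainComplex (ModuleCat.{u} A) ℤ) : CochainComplex (ModuleCat.{u} A) ℤ :=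
  ((locM f).mapHomologicalComplex (ComplexShape.up ℤ)).obj K

/-- the map `K ⟶ K_f` -/
noncomputable def locCη (f : A) (K : CochainComplex (ModuleCat.{u} A) ℤ) : K ⟶ locC f K where
  f i := (locη f).app (K.X i)
  comm' i j _ := ((locη f).naturality (K.d i j)).symm

/-- homology of the localization -/
noncomputable def homLocC (f : A) (K : CochainComplex (ModuleCat.{u} A) ℤ) (i : ℤ) :
    (locC f K).homology i ≅ (locM f).obj (K.homology i) := (K.sc i).mapHomologyIso (locM f)

end Complexes

/-- A morphism of modules with `f`-power torsion kernel and cokernel. -/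
def FIso (f : A) {M N : ModuleCat.{u} A} (φ : M ⟶ N) : Prop :=
  (∀ m : M, φ.hom m = 0 → ∃ n : ℕ, f ^ n • m = 0) ∧ (∀ y : N, ∃ (n : ℕ) (m : M), φ.hom m = f ^ n • y)

lemma fIso_locη (f : A) (M : ModuleCat.{u} A) : FIso f ((locη f).app M) :=
  ⟨locη_ker f M, locη_coker f M⟩

lemma FIso.of_square {f : A} {M N M' N' : ModuleCat.{u} A} {ψ : M' ⟶ N'} (h : FIso f ψ) (φ : M ⟶ N) (a : M ≅ M') (b : N ≅ N')
    (hab : φ ≫ b.hom = a.hom ≫ ψ) : FIso f φ := by
  have ha : Function.Bijective a.hom.hom := (ConcreteCategory.isIso_iff_bijective a.hom).1 inferInstance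
  have hb : Function.Bijective b.hom.hom := (ConcreteCategory.isIso_iff_bijective b.hom).1 inferInstance
  have hab' : ∀ x : M, b.hom.hom (φ.hom x) = ψ.hom (a.hom.hom x) := fun x => by
    have := congrArg (fun (t : M ⟶ N') => t.hom x) hab
    exact this
  refine ⟨fun m hm => ?_, fun y => ?_⟩
  · obtain ⟨n, hn⟩ := h.1 (a.hom.hom m) (by rw [← hab', hm, map_zero])
    refine ⟨n, ha.1 ?_⟩
    rw [map_smul, hn, map_zero]
  · obtain ⟨n, m, hm⟩ := h.2 (b.hom.hom y)
    obtain ⟨m', rfl⟩ := ha.2 m
    refine ⟨n, m', hb.1 ?_⟩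
    rw [hab', hm, map_smul]

lemma elTor_of_iso {g : A} {M N : ModuleCat.{u} A} (e : M ≅ N) (h : ElTor g M) : ElTor g N := by
  intro y
  obtain ⟨n, hn⟩ := h (e.inv.hom y)
  refine ⟨n, ?_⟩
  have : Function.Injective e.inv.hom := ((ConcreteCategory.isIso_iff_bijective e.inv).1 inferInstance).1
  apply this
  rw [map_smul, hn, map_zero]

lemma fIso_homologyMap_locCη (f : A) (K : CochainComplex (ModuleCat.{u} A) ℤ) (i : ℤ) :
    FIso f (HomologicalComplex.homologyMap (locCη f K) i) := by
  refine (fIso_locη f (K.homology i)).of_square _ ((K.sc i).mapHomologyIso (𝟭 (ModuleCat.{u} A))) (homLocC f K i) ?_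
  have h := ShortComplex.homologyMap_mapNatTrans (K.sc i) (locη f)
  rw [← Iso.eq_comp_inv, Category.assoc]
  exact h

lemma fIso_homologyFunctor_locCη (f : A) (K : CochainComplex (ModuleCat.{u} A) ℤ) (i : ℤ) :
    FIso f ((DerivedCategory.homologyFunctor (ModuleCat.{u} A) i).map (DerivedCategory.Q.map (locCη f K))) :=
  (fIso_homologyMap_locCη f K i).of_square _
    ((DerivedCategory.homologyFunctorFactors (ModuleCat.{u} A) i).app K)
    ((DerivedCategory.homologyFunctorFactors (ModuleCat.{u} A) i).app (locC f K))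
    ((DerivedCategory.homologyFunctorFactors (ModuleCat.{u} A) i).hom.naturality (locCη f K))

/-- Elementwise exactness at `H^i(G)` for a distinguished triangle `G ⟶ K ⟶ C ⟶ G[1]`. -/
lemma exists_delta {G K C : Dual.D A} {α : G ⟶ K} {β : K ⟶ C} {γ : C ⟶ G⟦(1 : ℤ)⟧}
    (hT : Triangle.mk α β γ ∈ distTriang (Dual.D A)) (i : ℤ) :
    ∃ δ : (DerivedCategory.homologyFunctor (ModuleCat.{u} A) (i - 1)).obj C ⟶
        (DerivedCategory.homologyFunctor (ModuleCat.{u} A) i).obj G,
      (∀ x, ((DerivedCategory.homologyFunctor (ModuleCat.{u} A) i).map α).hom x = 0 → ∃ y, δ.hom y = x) ∧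
      ∀ z, δ.hom (((DerivedCategory.homologyFunctor (ModuleCat.{u} A) (i - 1)).map β).hom z) = 0 := by
  refine ⟨DerivedCategory.HomologySequence.δ (Triangle.mk α β γ) (i - 1) i (by omega), ?_, ?_⟩
  · have h1 := DerivedCategory.HomologySequence.exact₁ _ hT (i - 1) i (by omega)
    rw [ShortComplex.moduleCat_exact_iff] at h1
    exact h1
  · intro z
    have h1 := DerivedCategory.HomologySequence.comp_δ _ hT (i - 1) i (by omega)
    have h2 := congrArg (fun (φ : (DerivedCategory.homologyFunctor (ModuleCat.{u} A) (i - 1)).obj K ⟶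
        (DerivedCategory.homologyFunctor (ModuleCat.{u} A) i).obj G) => φ.hom z) h1
    exact h2

lemma map_map_eq_zero {G K C : Dual.D A} {α : G ⟶ K} {β : K ⟶ C} {γ : C ⟶ G⟦(1 : ℤ)⟧}
    (hT : Triangle.mk α β γ ∈ distTriang (Dual.D A)) (i : ℤ) (x : (DerivedCategory.homologyFunctor (ModuleCat.{u} A) i).obj G) :
    ((DerivedCategory.homologyFunctor (ModuleCat.{u} A) i).map β).hom
      (((DerivedCategory.homologyFunctor (ModuleCat.{u} A) i).map α).hom x) = 0 := by
  have h0 : α ≫ β = 0 := comp_distTriang_mor_zero₁₂ _ hT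
  rw [← ModuleCat.comp_apply, ← Functor.map_comp, h0, Functor.map_zero]
  rfl

/-- The localization triangle `G ⟶ K ⟶ K_f ⟶ G[1]`. -/
theorem exists_locTri (f : A) (K : Dual.D A) :
    ∃ (G C : Dual.D A) (α : G ⟶ K) (β : K ⟶ C) (γ : C ⟶ G⟦(1 : ℤ)⟧),
      Triangle.mk α β γ ∈ distTriang (Dual.D A) ∧ IsIso (f • 𝟙 C) ∧ (∀ i, ElTor f (Dual.HD A G i)) ∧
      ∀ g : A, (∀ i, ElTor g (Dual.HD A K i)) → ∀ i, ElTor g (Dual.HD A G i) := by
  let K' := DerivedCategory.Q.objPreimage K
  let e : DerivedCategory.Q.obj K' ≅ K := DerivedCategory.Q.objObjPreimageIso K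
  let C := DerivedCategory.Q.obj (locC f K')
  let β : K ⟶ C := e.inv ≫ DerivedCategory.Q.map (locCη f K')
  obtain ⟨G, α, γ, hT⟩ := distinguished_cocone_triangle₁ β
  have hF : ∀ i, FIso f ((DerivedCategory.homologyFunctor (ModuleCat.{u} A) i).map β) := by
    intro i
    refine (fIso_homologyFunctor_locCη f K' i).of_square _
      ((DerivedCategory.homologyFunctor (ModuleCat.{u} A) i).mapIso e.symm) (Iso.refl _) ?_
    simp [β, C]
  have hC : ∀ i, Nonempty ((DerivedCategory.homologyFunctor (ModuleCat.{u} A) i).obj C ≅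
      (locM f).obj ((DerivedCategory.homologyFunctor (ModuleCat.{u} A) i).obj K)) := fun i =>
    ⟨(DerivedCategory.homologyFunctorFactors (ModuleCat.{u} A) i).app (locC f K') ≪≫ homLocC f K' i ≪≫
      (locM f).mapIso (((DerivedCategory.homologyFunctorFactors (ModuleCat.{u} A) i).app K').symm ≪≫
        (DerivedCategory.homologyFunctor (ModuleCat.{u} A) i).mapIso e)⟩
  refine ⟨G, C, α, β, γ, hT, ?_, ?_, ?_⟩
  · have h1 : IsIso (f • 𝟙 (locC f K')) := by
      have : ∀ i, IsIso ((f • 𝟙 (locC f K')).f i) := fun i => isIso_smul_locM f _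
      exact HomologicalComplex.Hom.isIso_of_components _
    have h2 : f • 𝟙 C = DerivedCategory.Q.map (f • 𝟙 (locC f K')) := by
      rw [Functor.map_smul, CategoryTheory.Functor.map_id]
    rw [h2]
    infer_instance
  · intro i x
    obtain ⟨δ, hδ₁, hδ₂⟩ := exists_delta hT i
    obtain ⟨n, hn⟩ := (hF i).1 _ (map_map_eq_zero hT i x)
    rw [← map_smul] at hn
    obtain ⟨y, hy⟩ := hδ₁ (f ^ n • x) hn
    obtain ⟨m, z, hz⟩ := (hF (i - 1)).2 y
    refine ⟨m + n, ?_⟩
    have h2 := hδ₂ z
    rw [hz, map_smul, hy] at h2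
    rw [pow_add, mul_smul, h2]
  · intro g hg i x
    obtain ⟨δ, hδ₁, hδ₂⟩ := exists_delta hT i
    obtain ⟨eC⟩ := hC (i - 1)
    have hCt : ElTor g ((DerivedCategory.homologyFunctor (ModuleCat.{u} A) (i - 1)).obj C) :=
      elTor_of_iso eC.symm (elTor_locM f g _ (hg (i - 1)))
    obtain ⟨n, hn⟩ := hg i (((DerivedCategory.homologyFunctor (ModuleCat.{u} A) i).map α).hom x)
    rw [← map_smul] at hn
    obtain ⟨y, hy⟩ := hδ₁ (g ^ n • x) hn
    obtain ⟨m, hm⟩ := hCt y
    refine ⟨m + n, ?_⟩
    rw [pow_add, mul_smul, ← hy, ← map_smul, hm, map_zero]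

end Groth.Agent.LoccohB.LocTri
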