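import Groth.Prelude.Def_DRing3
import Mathlib.Algebra.Module.Injective
import Mathlib.Algebra.Category.ModuleCat.Injective
import Mathlib.RingTheory.Filtration
import Mathlib.LinearAlgebra.LinearPMap

/-!
# Torsion in injective modules over a Noetherian ring
-/

set_option autoImplicit false

universe u

open CategoryTheory Limits

namespace Groth.Agent.LoccohB.TorsInj

variable {A : Type u} [CommRing A] [IsNoetherianRing A] (I : Ideal A)

lemma mem_torsionSub_iff {M : Type u} [AddCommGroup M] [Module A M] (x : M) :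
    x ∈ DRing.torsionSub I M ↔ ∃ n : ℕ, ∀ a ∈ I ^ n, a • x = 0 := Iff.rfl

/-- The `I`-power torsion of an injective module over a Noetherian ring is injective. -/
theorem baer_torsionSub (E : Type u) [AddCommGroup E] [Module A E] (hE : Module.Baer A E) :
    Module.Baer A (DRing.torsionSub I E) := by
  intro 𝔞 g
  -- `g` is killed by a power of `I`
  obtain ⟨n, hn⟩ : ∃ n : ℕ, ∀ (x : 𝔞), ∀ a ∈ I ^ n, a • g x = 0 := by
    have hfg : (⊤ : Submodule A 𝔞).FG := IsNoetherian.noetherian _
    obtain ⟨s, hs⟩ := hfg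
    have h1 : ∀ x : 𝔞, ∃ n : ℕ, ∀ a ∈ I ^ n, a • g x = 0 := fun x => by
      obtain ⟨n, hn⟩ := (g x).2
      exact ⟨n, fun a ha => Subtype.ext (hn a ha)⟩
    choose N hN using h1
    refine ⟨s.sup N, fun x => ?_⟩
    have hx : x ∈ Submodule.span A (s : Set 𝔞) := by rw [hs]; trivial
    induction hx using Submodule.span_induction with
    | mem x hx =>
      intro a ha
      exact hN x a (Ideal.pow_le_pow_right (Finset.le_sup (f := N) hx) ha)
    | zero => intro a _; simp
    | add x y _ _ hx hy => intro a ha; rw [map_add, smul_add, hx a ha, hy a ha, add_zero]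
    | smul c x _ hx => intro a ha; rw [map_smul, smul_comm, hx a ha, smul_zero]
  obtain ⟨k, hk⟩ := Ideal.exists_pow_inf_eq_pow_smul I (M := A) 𝔞
  have hk' := hk (n + k) (Nat.le_add_left _ _)
  have hvan : ∀ x : 𝔞, (x : A) ∈ I ^ (n + k) → g x = 0 := by
    intro x hx
    have h2 : (x : A) ∈ I ^ (n + k) • (⊤ : Submodule A A) ⊓ 𝔞 := by
      refine ⟨?_, x.2⟩
      simpa using hx
    rw [hk', Nat.add_sub_cancel] at h2
    have h3 : ∀ y ∈ I ^ n • (I ^ k • (⊤ : Submodule A A) ⊓ 𝔞), ∃ hy : y ∈ 𝔞, g ⟨y, hy⟩ = 0 := by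
      intro y hy
      induction hy using Submodule.smul_induction_on' with
      | smul r hr m hm =>
        refine ⟨Submodule.smul_mem _ _ hm.2, ?_⟩
        have : (⟨r • m, Submodule.smul_mem _ _ hm.2⟩ : 𝔞) = r • ⟨m, hm.2⟩ := rfl
        rw [this, map_smul]
        exact hn _ r hr
      | add x hx y hy h1 h2 =>
        obtain ⟨hx1, hx2⟩ := h1
        obtain ⟨hy1, hy2⟩ := h2
        refine ⟨add_mem hx1 hy1, ?_⟩
        have : (⟨x + y, add_mem hx1 hy1⟩ : 𝔞) = ⟨x, hx1⟩ + ⟨y, hy1⟩ := rfl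
        rw [this, map_add, hx2, hy2, add_zero]
    exact (h3 _ h2).2
  let p : A →ₗ.[A] E := ⟨𝔞, (DRing.torsionSub I E).subtype ∘ₗ g⟩
  let q : A →ₗ.[A] E := ⟨I ^ (n + k), 0⟩
  have hpq : ∀ (x : p.domain) (y : q.domain), (x : A) = y → p x = q y := by
    intro x y hxy
    have : g x = 0 := hvan x (by rw [hxy]; exact y.2)
    change ((g x : DRing.torsionSub I E) : E) = 0
    rw [this]
    rfl
  obtain ⟨g', hg'⟩ := hE (p.sup q hpq).domain (p.sup q hpq).toFun
  have hg1 : ∀ (x : A) (hx : x ∈ 𝔞), g' x = (g ⟨x, hx⟩ : E) := by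
    intro x hx
    rw [hg' x (by rw [LinearPMap.domain_sup]; exact Submodule.mem_sup_left hx)]
    exact ((p.left_le_sup q hpq).2 (x := ⟨x, hx⟩) rfl).symm
  have hg2 : ∀ x ∈ I ^ (n + k), g' x = 0 := by
    intro x hx
    rw [hg' x (by rw [LinearPMap.domain_sup]; exact Submodule.mem_sup_right hx)]
    exact ((p.right_le_sup q hpq).2 (x := ⟨x, hx⟩) rfl).symm
  have hg3 : ∀ x, g' x ∈ DRing.torsionSub I E := by
    intro x
    refine ⟨n + k, fun a ha => ?_⟩
    rw [← map_smul]
    exact hg2 _ (Ideal.mul_mem_right _ _ ha)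
  refine ⟨g'.codRestrict _ hg3, fun x hx => Subtype.ext ?_⟩
  rw [LinearMap.codRestrict_apply]
  exact hg1 x hx

instance injective_gammaI (E : ModuleCat.{u} A) [Injective E] :
    Injective ((DRing.gammaI I).obj E) := by
  have : Injective (ModuleCat.of A E) := by assumption
  have h1 : Module.Injective A E := Module.injective_module_of_injective_object A E
  have h2 : Module.Injective A (DRing.torsionSub I E) :=
    (baer_torsionSub I E (Module.Baer.of_injective h1)).injective
  exact Module.injective_object_of_injective_module A (DRing.torsionSub I E)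

/-- For an injective module `E` over a Noetherian ring, `E → E_f` is surjective, elementwise. -/
theorem exists_of_injective (E : Type u) [AddCommGroup E] [Module A E] (hE : Module.Baer A E)
    (f : A) (n : ℕ) (e : E) : ∃ (e' : E) (k : ℕ), f ^ k • (f ^ n • e') = f ^ k • e := by
  -- stabilization of annihilators
  let ann : ℕ →o Ideal A := ⟨fun k => LinearMap.ker (LinearMap.mulLeft A (f ^ k)), by
    intro a b hab x hx
    rw [LinearMap.mem_ker, LinearMap.mulLeft_apply] at hx ⊢
    rw [← Nat.sub_add_cancel hab, pow_add, mul_assoc, hx, mul_zero]⟩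
  obtain ⟨k, hk⟩ := monotone_stabilizes_iff_noetherian.2 (inferInstance : IsNoetherian A A) ann
  have hk2 : ∀ a : A, f ^ (n + k) * a = 0 → f ^ k * a = 0 := by
    intro a ha
    have h1 : a ∈ ann (n + k) := ha
    rw [← hk (n + k) (Nat.le_add_left _ _)] at h1
    exact h1
  let 𝔞 : Ideal A := Ideal.span {f ^ (n + k)}
  -- define the map `f ^ (n + k) a ↦ f ^ k a e`
  let ψ : A →ₗ[A] E := (LinearMap.toSpanSingleton A E e) ∘ₗ LinearMap.mulLeft A (f ^ k)
  let μ : A →ₗ[A] A := LinearMap.mulLeft A (f ^ (n + k))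
  have hker : LinearMap.ker μ ≤ LinearMap.ker ψ := by
    intro a ha
    have h1 : f ^ k * a = 0 := hk2 a ha
    change (f ^ k * a) • e = 0
    rw [h1, zero_smul]
  let g : LinearMap.range μ →ₗ[A] E :=
    ((LinearMap.ker μ).liftQ ψ hker) ∘ₗ (μ.quotKerEquivRange.symm : LinearMap.range μ →ₗ[A] _)
  have hg : ∀ a : A, g ⟨μ a, LinearMap.mem_range_self μ a⟩ = ψ a := by
    intro a
    change (LinearMap.ker μ).liftQ ψ hker (μ.quotKerEquivRange.symm _) = ψ a
    rw [LinearMap.quotKerEquivRange_symm_apply_image μ a _]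
    rfl
  obtain ⟨g', hg'⟩ := hE (LinearMap.range μ) g
  refine ⟨g' 1, k, ?_⟩
  have h1 : g' (f ^ (n + k)) = f ^ k • e := by
    have h2 : f ^ (n + k) ∈ LinearMap.range μ := ⟨1, mul_one _⟩
    rw [hg' _ h2]
    have h3 : (⟨f ^ (n + k), h2⟩ : LinearMap.range μ) = ⟨μ 1, LinearMap.mem_range_self μ 1⟩ :=
      Subtype.ext (mul_one _).symm
    rw [h3, hg]
    change (f ^ k * 1) • e = _
    rw [mul_one]
  rw [smul_smul, ← pow_add, add_comm k n, ← h1, ← map_smul, smul_eq_mul, mul_one]

end Groth.Agent.LoccohB.TorsInj
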