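import Groth.Agent.LoccohB.RGammaBasic
import Groth.Agent.LoccohB.TorsInj
import Groth.Agent.LoccohB.LocTri
import Groth.Agent.Dcoh.DerHo

/-!
# `Γ_I` on complexes of injective modules over a Noetherian ring

* `quasiIso_gCx_map`: `Γ_I` preserves quasi-isomorphisms between complexes with injective terms.
* `quasiIso_gι`: `Γ_I(J) → J` is a quasi-isomorphism if `J` has injective terms and `I`-power
  torsion cohomology.
-/

set_option autoImplicit false

universe u

open CategoryTheory Limits

attribute [local instance] HasDerivedCategory.standard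

namespace Groth.Agent.LoccohB.GammaQis

open RGammaBasic

variable {A : Type u} [CommRing A]

lemma mem_torsionSub_iff (I : Ideal A) {M : Type u} [AddCommGroup M] [Module A M] (x : M) :
    x ∈ DRing.torsionSub I M ↔ ∃ n : ℕ, ∀ a ∈ I ^ n, a • x = 0 := Iff.rfl

lemma mem_torsionSub_span_iff (f : A) {M : Type u} [AddCommGroup M] [Module A M] (x : M) :
    x ∈ DRing.torsionSub (Ideal.span {f}) M ↔ ∃ n : ℕ, f ^ n • x = 0 := by
  rw [mem_torsionSub_iff]
  constructor
  · rintro ⟨n, hn⟩
    exact ⟨n, hn _ (Ideal.pow_mem_pow (Ideal.mem_span_singleton_self f) n)⟩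
  · rintro ⟨n, hn⟩
    refine ⟨n, fun a ha => ?_⟩
    rw [Ideal.span_singleton_pow, Ideal.mem_span_singleton'] at ha
    obtain ⟨b, rfl⟩ := ha
    rw [mul_smul, hn, smul_zero]

lemma locη_eq_zero_iff (f : A) (M : ModuleCat.{u} A) (m : M) :
    ((LocTri.locη f).app M).hom m = 0 ↔ ∃ n : ℕ, f ^ n • m = 0 := by
  constructor
  · exact LocTri.locη_ker f M m
  · rintro ⟨n, hn⟩
    exact (IsLocalizedModule.eq_zero_iff (Submonoid.powers f)
      (LocalizedModule.mkLinearMap (Submonoid.powers f) M)).2 ⟨⟨f ^ n, n, rfl⟩, hn⟩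

/-- the sequence `Γ_f(E) → E → E_f` of modules -/
noncomputable def mseq (f : A) (E : ModuleCat.{u} A) : ShortComplex (ModuleCat.{u} A) :=
  ShortComplex.mk ((DRing.gammaIι (Ideal.span {f})).app E) ((LocTri.locη f).app E) (by
    ext x
    exact (locη_eq_zero_iff f E _).2 ((mem_torsionSub_span_iff f _).1 x.2))

/-- the sequence `Γ_f(J) → J → J_f` -/
noncomputable def seq (f : A) (J : CochainComplex (ModuleCat.{u} A) ℤ) :
    ShortComplex (CochainComplex (ModuleCat.{u} A) ℤ) :=
  ShortComplex.mk (gι (Ideal.span {f}) J) (LocTri.locCη f J) (by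
    ext n : 1
    exact (mseq f (J.X n)).zero)

lemma acyclic_locC (f : A) {J : CochainComplex (ModuleCat.{u} A) ℤ}
    (hJ : ∀ i, LocTri.ElTor f (J.homology i)) : (LocTri.locC f J).Acyclic := by
  intro i
  rw [HomologicalComplex.exactAt_iff_isZero_homology]
  refine IsZero.of_iso ?_ (LocTri.homLocC f J i)
  have : Subsingleton ((LocTri.locM f).obj (J.homology i)) := by
    refine subsingleton_of_forall_eq 0 fun y => ?_
    obtain ⟨n, m, hm⟩ := LocTri.locη_coker f _ y
    have h1 : ((LocTri.locη f).app (J.homology i)).hom m = 0 :=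
      (locη_eq_zero_iff f _ m).2 (hJ i m)
    have h2 := IsLocalizedModule.map_units (LocalizedModule.mkLinearMap (Submonoid.powers f)
      (J.homology i)) (⟨f ^ n, ⟨n, rfl⟩⟩ : Submonoid.powers f)
    rw [Module.End.isUnit_iff] at h2
    exact h2.1 ((hm.symm.trans h1).trans (map_zero _).symm)
  exact ModuleCat.isZero_of_subsingleton _

lemma quasiIso_of_acyclic {K L : CochainComplex (ModuleCat.{u} A) ℤ} (f : K ⟶ L) (hK : K.Acyclic)
    (hL : L.Acyclic) : QuasiIso f := by
  rw [quasiIso_iff]
  intro i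
  rw [quasiIsoAt_iff_isIso_homologyMap]
  have h1 := hK i
  have h2 := hL i
  rw [HomologicalComplex.exactAt_iff_isZero_homology] at h1 h2
  exact h1.isIso h2 _

section Sup

variable (I J : Ideal A)

lemma isPowerTorsion_mono {I J : Ideal A} (h : I ≤ J) {M : Type u} [AddCommGroup M] [Module A M]
    (hM : LocCoh.IsPowerTorsion J M) : LocCoh.IsPowerTorsion I M := fun m => by
  obtain ⟨n, hn⟩ := hM m
  exact ⟨n, fun a ha => hn a (Ideal.pow_right_mono h n ha)⟩

lemma mem_torsionSub_sup {M : Type u} [AddCommGroup M] [Module A M] {x : M}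
    (h1 : x ∈ DRing.torsionSub I M) (h2 : x ∈ DRing.torsionSub J M) :
    x ∈ DRing.torsionSub (I ⊔ J) M := by
  obtain ⟨n, hn⟩ := h1
  obtain ⟨m, hm⟩ := h2
  refine ⟨n + m, fun a ha => ?_⟩
  have := Ideal.sup_pow_add_le_pow_sup_pow (I := I) (J := J) (n := n) (m := m) ha
  obtain ⟨b, hb, c, hc, rfl⟩ := Submodule.mem_sup.1 this
  rw [add_smul, hn b hb, hm c hc, add_zero]

lemma torsionSub_mono {I J : Ideal A} (h : I ≤ J) {M : Type u} [AddCommGroup M] [Module A M] {x : M}
    (hx : x ∈ DRing.torsionSub J M) : x ∈ DRing.torsionSub I M := by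
  obtain ⟨n, hn⟩ := hx
  exact ⟨n, fun a ha => hn a (Ideal.pow_right_mono h n ha)⟩

/-- `Γ_J Γ_I ⟶ Γ_{I + J}` -/
noncomputable def gSup : DRing.gammaI I ⋙ DRing.gammaI J ⟶ DRing.gammaI (I ⊔ J) where
  app M := ModuleCat.ofHom
    { toFun := fun x => ⟨x.1.1, mem_torsionSub_sup I J x.1.2 (by
        obtain ⟨n, hn⟩ := x.2
        exact ⟨n, fun a ha => congrArg Subtype.val (hn a ha)⟩)⟩
      map_add' := fun _ _ => rfl
      map_smul' := fun _ _ => rfl }
  naturality _ _ _ := rfl

instance isIso_gSup_app (M : ModuleCat.{u} A) : IsIso ((gSup I J).app M) := by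
  rw [ConcreteCategory.isIso_iff_bijective]
  refine ⟨fun x y hxy => Subtype.ext (Subtype.ext
    (congrArg (fun z : DRing.torsionSub (I ⊔ J) M => z.1) hxy)), fun y => ?_⟩
  refine ⟨⟨⟨y.1, torsionSub_mono le_sup_left y.2⟩, ?_⟩, rfl⟩
  obtain ⟨n, hn⟩ := torsionSub_mono (I := J) (J := I ⊔ J) le_sup_right y.2
  exact ⟨n, fun a ha => Subtype.ext (hn a ha)⟩

/-- `Γ_J Γ_I K ⟶ Γ_{I + J} K` -/
noncomputable def gSupCx (K : CochainComplex (ModuleCat.{u} A) ℤ) :
    (gCx J).obj ((gCx I).obj K) ⟶ (gCx (I ⊔ J)).obj K where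
  f n := (gSup I J).app (K.X n)
  comm' i j _ := ((gSup I J).naturality (K.d i j)).symm

instance isIso_gSupCx (K : CochainComplex (ModuleCat.{u} A) ℤ) : IsIso (gSupCx I J K) := by
  have : ∀ i, IsIso ((gSupCx I J K).f i) := fun i => isIso_gSup_app I J (K.X i)
  exact HomologicalComplex.Hom.isIso_of_components _

lemma gSupCx_gι (K : CochainComplex (ModuleCat.{u} A) ℤ) :
    gSupCx I J K ≫ gι (I ⊔ J) K = gι J ((gCx I).obj K) ≫ gι I K := rfl

end Sup

variable [IsNoetherianRing A]

lemma mseq_shortExact (f : A) (E : ModuleCat.{u} A) [Injective E] : (mseq f E).ShortExact where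
  exact := by
    rw [ShortComplex.moduleCat_exact_iff]
    intro x hx
    exact ⟨⟨x, (mem_torsionSub_span_iff f x).2 ((locη_eq_zero_iff f E x).1 hx)⟩, rfl⟩
  mono_f := (ModuleCat.mono_iff_injective _).2 Subtype.val_injective
  epi_g := by
    refine (ModuleCat.epi_iff_surjective _).2 fun y => ?_
    obtain ⟨n, m, hm⟩ := LocTri.locη_coker f E y
    have h1 : Module.Injective A E := by
      have : Injective (ModuleCat.of A E) := by assumption
      exact Module.injective_module_of_injective_object A E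
    obtain ⟨e, k, he⟩ := TorsInj.exists_of_injective E (Module.Baer.of_injective h1) f n m
    refine ⟨e, ?_⟩
    have h2 : ∀ j : ℕ, Function.Injective (fun z : (LocTri.locM f).obj E => f ^ j • z) := by
      intro j
      have h2 := IsLocalizedModule.map_units (LocalizedModule.mkLinearMap (Submonoid.powers f)
        E) (⟨f ^ j, ⟨j, rfl⟩⟩ : Submonoid.powers f)
      rw [Module.End.isUnit_iff] at h2
      exact h2.1
    apply h2 n
    apply h2 k
    change f ^ k • (f ^ n • ((LocTri.locη f).app E).hom e) = f ^ k • (f ^ n • y)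
    rw [← map_smul, ← map_smul, he, map_smul, hm]
    rfl

lemma seq_shortExact (f : A) (J : CochainComplex (ModuleCat.{u} A) ℤ)
    (hJ : ∀ n, Injective (J.X n)) : (seq f J).ShortExact := by
  refine HomologicalComplex.shortExact_of_degreewise_shortExact _ fun n => ?_
  have := hJ n
  exact mseq_shortExact f (J.X n)

/-- `Γ_f(J)` is acyclic if `J` is acyclic with injective terms -/
lemma acyclic_gCx_span (f : A) {J : CochainComplex (ModuleCat.{u} A) ℤ}
    (hJ : ∀ n, Injective (J.X n)) (h : J.Acyclic) : ((gCx (Ideal.span {f})).obj J).Acyclic := by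
  refine (seq_shortExact f J hJ).acyclic_X₁ (quasiIso_of_acyclic _ h (acyclic_locC f fun i => ?_))
  have h1 := h i
  rw [HomologicalComplex.exactAt_iff_isZero_homology] at h1
  have := ModuleCat.subsingleton_of_isZero h1
  exact fun m => ⟨0, Subsingleton.elim _ _⟩

/-- `Γ_f(J) → J` is a quasi-isomorphism if the cohomology of `J` is `f`-power torsion -/
lemma quasiIso_gι_span (f : A) {J : CochainComplex (ModuleCat.{u} A) ℤ}
    (hJ : ∀ n, Injective (J.X n)) (h : ∀ i, LocTri.ElTor f (J.homology i)) :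
    QuasiIso (gι (Ideal.span {f}) J) := by
  have h1 := seq_shortExact f J hJ
  have h2 := acyclic_locC f h
  rw [quasiIso_iff]
  intro i
  rw [quasiIsoAt_iff_isIso_homologyMap]
  have h3 : Mono (HomologicalComplex.homologyMap (gι (Ideal.span {f}) J) i) := by
    refine (h1.homology_exact₁ (i - 1) i (by simp)).mono_g ?_
    exact IsZero.eq_of_src ((HomologicalComplex.exactAt_iff_isZero_homology _ _).1 (h2 (i - 1))) _ _
  have h4 : Epi (HomologicalComplex.homologyMap (gι (Ideal.span {f}) J) i) := by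
    refine (h1.homology_exact₂ i).epi_f ?_
    exact IsZero.eq_of_tgt ((HomologicalComplex.exactAt_iff_isZero_homology _ _).1 (h2 i)) _ _
  exact isIso_of_mono_of_epi _

lemma injective_gCx (I : Ideal A) {J : CochainComplex (ModuleCat.{u} A) ℤ}
    (hJ : ∀ n, Injective (J.X n)) (n : ℤ) : Injective (((gCx I).obj J).X n) := by
  have := hJ n
  exact TorsInj.injective_gammaI I (J.X n)

/-- `Γ_I(J)` is acyclic if `J` is acyclic with injective terms -/
theorem acyclic_gCx (I : Ideal A) {J : CochainComplex (ModuleCat.{u} A) ℤ}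
    (hJ : ∀ n, Injective (J.X n)) (h : J.Acyclic) : ((gCx I).obj J).Acyclic := by
  revert J
  refine Submodule.fg_induction (motive := fun (I : Ideal A) _ =>
    ∀ {J : CochainComplex (ModuleCat.{u} A) ℤ} (_ : ∀ n, Injective (J.X n)) (_ : J.Acyclic),
      ((gCx I).obj J).Acyclic) ?_ ?_ I (IsNoetherian.noetherian I)
  · intro f J hJ h
    exact acyclic_gCx_span f hJ h
  · intro I I' _ _ h1 h2 J hJ h
    have h3 := h2 (injective_gCx I hJ) (h1 hJ h)
    intro n
    exact (h3 n).of_iso (asIso (gSupCx I I' J))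

/-- `Γ_I(J) → J` is a quasi-isomorphism if the cohomology of `J` is `I`-power torsion -/
theorem quasiIso_gι (I : Ideal A) {J : CochainComplex (ModuleCat.{u} A) ℤ}
    (hJ : ∀ n, Injective (J.X n)) (h : ∀ i, LocCoh.IsPowerTorsion I (J.homology i)) :
    QuasiIso (gι I J) := by
  revert J
  refine Submodule.fg_induction (motive := fun (I : Ideal A) _ =>
    ∀ {J : CochainComplex (ModuleCat.{u} A) ℤ} (_ : ∀ n, Injective (J.X n))
      (_ : ∀ i, LocCoh.IsPowerTorsion I (J.homology i)), QuasiIso (gι I J))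
    ?_ ?_ I (IsNoetherian.noetherian I)
  · intro f J hJ h
    exact quasiIso_gι_span f hJ fun i m => by
      obtain ⟨n, hn⟩ := h i m
      exact ⟨n, hn _ (Ideal.pow_mem_pow (Ideal.mem_span_singleton_self f) n)⟩
  · intro I I' _ _ h1 h2 J hJ h
    have q1 : QuasiIso (gι I J) := h1 hJ fun i => isPowerTorsion_mono le_sup_left (h i)
    have q2 : QuasiIso (gι I' ((gCx I).obj J)) := h2 (injective_gCx I hJ) fun i m => by
      have e := HomologicalComplex.homologyMap (gι I J) i
      have he : Function.Injective (HomologicalComplex.homologyMap (gι I J) i).hom :=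
        ((ConcreteCategory.isIso_iff_bijective (HomologicalComplex.homologyMap (gι I J) i)).1
          inferInstance).1
      obtain ⟨n, hn⟩ := isPowerTorsion_mono (I := I') le_sup_right (h i)
        ((HomologicalComplex.homologyMap (gι I J) i).hom m)
      refine ⟨n, fun a ha => he ?_⟩
      rw [map_smul, hn a ha, map_zero]
    have q3 : QuasiIso (gSupCx I I' J ≫ gι (I ⊔ I') J) := by
      rw [gSupCx_gι]
      infer_instance
    exact quasiIso_of_comp_left (gSupCx I I' J) _

/-- `Γ_I` preserves quasi-isomorphisms between complexes with injective terms. -/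
theorem quasiIso_gCx_map (I : Ideal A) {J J' : CochainComplex (ModuleCat.{u} A) ℤ} (φ : J ⟶ J')
    (hJ : ∀ n, Injective (J.X n)) (hJ' : ∀ n, Injective (J'.X n)) [hφ : QuasiIso φ] :
    QuasiIso ((gCx I).map φ) := by
  refine Dcoh.DerHo.quasiIso_map_of_acyclic (DRing.gammaI I) (fun K => ∀ n, Injective (K.X n))
    ?_ (fun K hK h => acyclic_gCx I hK h) φ hJ hJ' hφ
  intro K L f hK hL n
  have := hK (n + 1)
  have := hL n
  exact Injective.of_iso (HomologicalComplex.homotopyCofiber.XIsoBiprod f n (n + 1) (by simp)).symm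
    inferInstance

section

variable (I : Ideal A) [DRing.HasRgammaI I]

/-- `Γ_I(J) → RΓ_I(J)` is an isomorphism for every complex `J` with injective terms. -/
theorem isIso_rg_of_injective {J : CochainComplex (ModuleCat.{u} A) ℤ}
    (hJ : ∀ n, Injective (J.X n)) : IsIso ((rg I).app J) := by
  obtain ⟨J', f, h1, h2, h3⟩ := KInjD.exists_res A J
  have h4 := isIso_rg_app I J'
  have h5 := quasiIso_gCx_map I f hJ h3
  have h6 := (rg I).naturality f
  have h7 : IsIso ((gCx I ⋙ DerivedCategory.Q).map f) := by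
    change IsIso (DerivedCategory.Q.map ((gCx I).map f))
    infer_instance
  have h8 : IsIso ((DerivedCategory.Q ⋙ DRing.RgammaI I).map f) := by
    change IsIso ((DRing.RgammaI I).map (DerivedCategory.Q.map f))
    infer_instance
  have h9 : IsIso ((rg I).app J ≫ (DerivedCategory.Q ⋙ DRing.RgammaI I).map f) := by
    rw [← h6]
    infer_instance
  exact IsIso.of_isIso_comp_right _ ((DerivedCategory.Q ⋙ DRing.RgammaI I).map f)

end

end Groth.Agent.LoccohB.GammaQis
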