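import Mathlib.RingTheory.Localization.AtPrime.Basic
import Mathlib.RingTheory.Ideal.MinimalPrime.Basic
import Mathlib.RingTheory.Nakayama
import Mathlib.RingTheory.Finiteness.Ideal
import Mathlib.Algebra.Module.FinitePresentation
import Mathlib.Algebra.Module.Projective
import Mathlib.LinearAlgebra.Dual.Lemmas
import Mathlib.Algebra.Module.Torsion.Basic
import Mathlib.RingTheory.LocalRing.ResidueField.Basic
import Mathlib.RingTheory.LocalProperties.Projective
import Mathlib.RingTheory.Localization.Finiteness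
import Mathlib.RingTheory.Localization.Module
import Mathlib.Data.Int.LeastGreatest

/-!
# Bounded above complexes of finite projective modules at a prime: functionals detecting the top cohomology
-/

set_option autoImplicit false
universe u v w

namespace Groth.Agent.LoccohB.GenAlg

section Ann

variable {A : Type u} [CommRing A]

/-- If `q` is minimal over `I` and `x ∈ q` then `s * x ^ n ∈ I` for some `s ∉ q`. -/
lemma exists_mul_pow_mem (I q : Ideal A) (hq : q ∈ I.minimalPrimes) (x : A) (hx : x ∈ q) :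
    ∃ s ∉ q, ∃ n : ℕ, s * x ^ n ∈ I := by
  by_contra h
  push Not at h
  have : q.IsPrime := hq.1.1
  let S : Submonoid A := q.primeCompl ⊔ Submonoid.powers x
  have hd : Disjoint (I : Set A) (S : Set A) := by
    rw [Set.disjoint_left]
    intro y hy hyS
    obtain ⟨s, hs, z, ⟨n, rfl⟩, rfl⟩ := Submonoid.mem_sup.1 hyS
    exact h s hs n hy
  obtain ⟨p, hp, hIp, hpS⟩ := Ideal.exists_le_prime_disjoint I S hd
  have hpq : p ≤ q := by
    intro y hy
    by_contra hyq
    exact Set.disjoint_left.1 hpS hy (Submonoid.mem_sup_left hyq)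
  have := hq.2 ⟨hp, hIp⟩ hpq hx
  exact Set.disjoint_left.1 hpS this (Submonoid.mem_sup_right ⟨1, by simp⟩)

lemma exists_mul_pow_le (I q : Ideal A) (hq : q ∈ I.minimalPrimes) (J : Ideal A) (hJ : J.FG) (hJq : J ≤ q) :
    ∃ s ∉ q, ∃ n : ℕ, ∀ x ∈ J ^ n, s * x ∈ I := by
  have hqp : q.IsPrime := hq.1.1
  obtain ⟨t, ht⟩ := hJ
  have hxt : ∀ x ∈ t, ∃ s ∉ q, ∃ n : ℕ, s * x ^ n ∈ I := fun x hx =>
    exists_mul_pow_mem I q hq x (hJq (ht ▸ Submodule.subset_span hx))
  choose! s hs n hn using hxt
  have hprod : ∏ x ∈ t, s x ∉ q := by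
    intro h
    obtain ⟨x, hx, hx'⟩ := (hqp.prod_mem_iff).1 h
    exact hs x hx hx'
  let K : Ideal A := Submodule.comap (LinearMap.lsmul A A (∏ x ∈ t, s x)) I
  have hK : ∀ x, x ∈ K ↔ (∏ x ∈ t, s x) * x ∈ I := fun x => Iff.rfl
  have hJK : J ≤ K.radical := by
    rw [← ht]
    refine Submodule.span_le.2 ?_
    intro x hx
    refine ⟨n x, ?_⟩
    rw [hK]
    obtain ⟨c, hc⟩ := Finset.dvd_prod_of_mem s hx
    rw [hc, mul_assoc, mul_comm c, ← mul_assoc]
    exact I.mul_mem_right _ (hn x hx)
  obtain ⟨N, hN⟩ := Ideal.exists_pow_le_of_le_radical_of_fg hJK ⟨t, ht⟩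
  exact ⟨_, hprod, N, fun x hx => (hK x).1 (hN hx)⟩

/-- A multiple of `y` which is nonzero at `q` and killed by `J`. -/
lemma exists_annihilated {N : Type w} [AddCommGroup N] [Module A N] (y : N) (q : Ideal A)
    (hq : q ∈ (Ideal.torsionOf A N y).minimalPrimes) (J : Ideal A) (hJ : J.FG) (hJq : J ≤ q) :
    ∃ a : A, (∀ j ∈ J, j • a • y = 0) ∧ ∀ b : A, b • a • y = 0 → b ∈ q := by
  have hqp : q.IsPrime := hq.1.1
  have hle : Ideal.torsionOf A N y ≤ q := hq.1.2
  obtain ⟨s, hs, n, hn⟩ := exists_mul_pow_le _ q hq J hJ hJq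
  classical
  have hex : ∃ r, ¬ ∃ j ∈ J ^ r, ∀ b : A, b • j • s • y = 0 → b ∈ q := by
    refine ⟨n, ?_⟩
    rintro ⟨j, hj, h⟩
    have h1 : (s * j) • y = 0 := hn j hj
    refine hqp.ne_top ((Ideal.eq_top_iff_one _).2 (h 1 ?_))
    rw [one_smul, smul_smul, mul_comm j s]
    exact h1
  let r := Nat.find hex
  have hr0 : r ≠ 0 := by
    intro h0
    have := Nat.find_spec hex
    rw [show Nat.find hex = 0 from h0] at this
    refine this ⟨1, by simp, fun b hb => ?_⟩
    rw [one_smul, smul_smul] at hb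
    exact (hqp.mem_or_mem (hle hb)).resolve_right hs
  obtain ⟨r', hr'⟩ := Nat.exists_eq_succ_of_ne_zero hr0
  obtain ⟨j, hj, hjb⟩ : ∃ j ∈ J ^ r', ∀ b : A, b • j • s • y = 0 → b ∈ q := by
    by_contra hcon
    exact Nat.find_min hex (show r' < Nat.find hex by change r' < r; omega) hcon
  have hr1 : ¬ ∃ j ∈ J ^ (r' + 1), ∀ b : A, b • j • s • y = 0 → b ∈ q := by
    have := Nat.find_spec hex
    rwa [show Nat.find hex = r' + 1 from hr'] at this
  push Not at hr1
  obtain ⟨T, hT⟩ := Ideal.FG.pow (n := r' + 1) hJ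
  have hb : ∀ g ∈ T, ∃ b : A, b • g • s • y = 0 ∧ b ∉ q := fun g hg =>
    hr1 g (hT ▸ Submodule.subset_span hg)
  choose! b hb1 hb2 using hb
  have hprod : ∏ x ∈ T, b x ∉ q := by
    intro h
    obtain ⟨x, hx, hx'⟩ := (hqp.prod_mem_iff).1 h
    exact hb2 x hx hx'
  have hkill : ∀ x ∈ J ^ (r' + 1), (∏ x ∈ T, b x) • x • s • y = 0 := by
    intro x hx
    rw [← hT] at hx
    refine Submodule.span_induction (fun g hg => ?_) (by simp) (fun x y _ _ hx hy => ?_) (fun a x _ hx => ?_) hx
    · obtain ⟨c, hc⟩ := Finset.dvd_prod_of_mem b hg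
      rw [hc, mul_comm, mul_smul, hb1 g hg, smul_zero]
    · rw [add_smul, smul_add, hx, hy, add_zero]
    · rw [smul_eq_mul, mul_smul, smul_comm, hx, smul_zero]
  refine ⟨(∏ x ∈ T, b x) * j * s, fun j' hj' => ?_, fun c hc => ?_⟩
  · have := hkill (j' * j) (by rw [pow_succ, mul_comm j' j]; exact Ideal.mul_mem_mul hj hj')
    simp only [smul_smul] at this ⊢
    rw [← this]
    congr 1
    ring
  · have h1 : c * ∏ x ∈ T, b x ∈ q := by
      apply hjb
      simp only [smul_smul] at hc ⊢
      rw [← hc]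
      congr 1
      ring
    exact (hqp.mem_or_mem h1).resolve_right hprod

end Ann

section Split

variable {B : Type u} [CommRing B] {M : ℤ → Type v} [∀ i, AddCommGroup (M i)] [∀ i, Module B (M i)]
  (d : ∀ i, M i →ₗ[B] M (i + 1))

/-- the kernel of `d i` is a direct summand. -/
def Split (i : ℤ) : Prop := ∃ r : M i →ₗ[B] M i, (∀ x, d i (r x) = 0) ∧ ∀ z, d i z = 0 → r z = z

lemma split_of_subsingleton (i : ℤ) (h : Subsingleton (M (i + 1))) : Split d i :=
  ⟨LinearMap.id, fun _ => Subsingleton.elim _ _, fun _ _ => rfl⟩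

lemma split_of_exact (hd : ∀ i x, d (i + 1) (d i x) = 0) (i : ℤ) [Module.Projective B (M (i + 1))]
    (hex : ∀ z, d (i + 1) z = 0 → ∃ x, d i x = z) (h : Split d (i + 1)) : Split d i := by
  obtain ⟨r, hr1, hr2⟩ := h
  have hmem : ∀ x, r x ∈ LinearMap.range (d i) := fun x => hex _ (hr1 x)
  obtain ⟨σ, hσ⟩ := Module.projective_lifting_property (d i).rangeRestrict (r.codRestrict _ hmem)
    (LinearMap.surjective_rangeRestrict _)
  have hσ' : ∀ x, d i (σ x) = r x := fun x => congrArg Subtype.val (LinearMap.congr_fun hσ x)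
  refine ⟨LinearMap.id - σ ∘ₗ d i, fun x => ?_, fun z hz => ?_⟩
  · simp only [LinearMap.sub_apply, LinearMap.id_coe, id_eq, LinearMap.coe_comp, Function.comp_apply, map_sub, hσ',
      hr2 _ (hd i x), sub_self]
  · simp only [LinearMap.sub_apply, LinearMap.id_coe, id_eq, LinearMap.coe_comp, Function.comp_apply, hz, map_zero,
      sub_zero]

lemma split_of_exact_above (hd : ∀ i x, d (i + 1) (d i x) = 0) [∀ i, Module.Projective B (M i)] (t : ℤ)
    (ht : ∀ i, t < i → Subsingleton (M i)) (e : ℤ)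
    (hex : ∀ i, e ≤ i → ∀ z, d (i + 1) z = 0 → ∃ x, d i x = z) : Split d e := by
  obtain ⟨n, hn⟩ : ∃ n : ℕ, t - e ≤ n := ⟨(t - e).toNat, Int.self_le_toNat _⟩
  induction n generalizing e with
  | zero => exact split_of_subsingleton d e (ht _ (by simp at hn; lia))
  | succ n ih =>
    exact split_of_exact d hd e (hex e le_rfl) (ih (e + 1) (fun i hi => hex i (by lia)) (by push_cast at hn; lia))

end Split

section Local

variable {B : Type u} [CommRing B] [IsLocalRing B] {M : Type v} [AddCommGroup M] [Module B M]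

/-- a functional detecting a nonzero class in the top cohomology. -/
lemma exists_functional [Module.Finite B M] [Module.Projective B M] (R : Submodule B M) (Z : Submodule B M)
    (r : M →ₗ[B] M) (hr1 : ∀ x, r x ∈ Z) (hr2 : ∀ z ∈ Z, r z = z) (hRZ : R ≤ Z) (hne : R ≠ Z) :
    ∃ l : M →ₗ[B] B, (∀ x ∈ R, l x ∈ IsLocalRing.maximalIdeal B) ∧ ∃ z ∈ Z, l z ∉ IsLocalRing.maximalIdeal B := by
  set n := IsLocalRing.maximalIdeal B with hn
  have hrange : LinearMap.range r = Z := le_antisymm (by rintro _ ⟨x, rfl⟩; exact hr1 x) (fun z hz => ⟨z, hr2 z hz⟩)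
  have hZfg : Z.FG := by
    rw [← hrange, LinearMap.range_eq_map]
    exact Submodule.FG.map _ Module.Finite.fg_top
  obtain ⟨z, hzZ, hz⟩ : ∃ z ∈ Z, z ∉ R ⊔ n • (⊤ : Submodule B M) := by
    by_contra hcon
    push Not at hcon
    refine hne (le_antisymm hRZ (Submodule.le_of_le_smul_of_le_jacobson_bot (I := n) hZfg
      (IsLocalRing.jacobson_eq_maximalIdeal ⊥ bot_ne_top).ge ?_))
    intro z hz
    rw [← hr2 z hz]
    have h1 : r z ∈ (R ⊔ n • (⊤ : Submodule B M)).map r := ⟨z, hcon z hz, rfl⟩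
    rw [Submodule.map_sup, Submodule.map_smul''] at h1
    have h2 : R.map r ≤ R := by
      rintro _ ⟨x, hx, rfl⟩
      rw [hr2 x (hRZ hx)]
      exact hx
    have h3 : (⊤ : Submodule B M).map r ≤ Z := by
      rintro _ ⟨x, -, rfl⟩
      exact hr1 x
    exact (sup_le_sup h2 (Submodule.smul_mono le_rfl h3) : _ ≤ R ⊔ n • Z) h1
  let Q := M ⧸ (R ⊔ n • (⊤ : Submodule B M))
  have hQ : Module.IsTorsionBySet B Q n := by
    rw [Module.isTorsionBySet_quotient_iff]
    intro x a ha
    exact Submodule.mem_sup_right (Submodule.smul_mem_smul ha trivial)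
  let : Module (B ⧸ n) Q := hQ.module
  let : Field (B ⧸ n) := Ideal.Quotient.field n
  have hzQ : (Submodule.Quotient.mk z : Q) ≠ 0 := by
    rwa [Ne, Submodule.Quotient.mk_eq_zero]
  obtain ⟨f, hf⟩ : ∃ f : Module.Dual (B ⧸ n) Q, f (Submodule.Quotient.mk z) ≠ 0 := by
    by_contra hcon
    push Not at hcon
    exact hzQ ((Module.forall_dual_apply_eq_zero_iff (B ⧸ n) _).1 hcon)
  let g : Q →ₗ[B] B ⧸ n :=
    { toFun := f
      map_add' := map_add f
      map_smul' := fun b x => by
        have h1 : b • x = (Ideal.Quotient.mk n b) • x := (hQ.mk_smul b x).symm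
        rw [h1, map_smul]
        rfl }
  obtain ⟨l, hl⟩ := Module.projective_lifting_property (Submodule.mkQ n) (g ∘ₗ Submodule.mkQ _)
    (Submodule.mkQ_surjective _)
  have hl' : ∀ x, (Ideal.Quotient.mk n (l x) : B ⧸ n) = f (Submodule.Quotient.mk x) := fun x => LinearMap.congr_fun hl x
  refine ⟨l, fun x hx => ?_, z, hzZ, fun hlz => ?_⟩
  · rw [← Ideal.Quotient.eq_zero_iff_mem, hl' x]
    have : (Submodule.Quotient.mk x : Q) = 0 := (Submodule.Quotient.mk_eq_zero _).2 (Submodule.mem_sup_left hx)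
    rw [this, map_zero]
  · rw [← Ideal.Quotient.eq_zero_iff_mem, hl' z] at hlz
    exact hf hlz

end Local

section Descent

variable {A : Type u} [CommRing A] {M : ℤ → Type u} [∀ i, AddCommGroup (M i)] [∀ i, Module A (M i)]
  (d : ∀ i, M i →ₗ[A] M (i + 1)) (q : Ideal A) [q.IsPrime]

open LocalizedModule in
/-- exactness at `i + 1` after localization at `q`. -/
lemma exact_localized (i : ℤ) (hex : ∀ z, d (i + 1) z = 0 → ∃ s ∉ q, ∃ x, d i x = s • z)
    (z : LocalizedModule q.primeCompl (M (i + 1))) (hz : LocalizedModule.map q.primeCompl (d (i + 1)) z = 0) :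
    ∃ x, LocalizedModule.map q.primeCompl (d i) x = z := by
  induction z using LocalizedModule.induction_on with
  | h z s =>
    rw [LocalizedModule.map_mk, ← LocalizedModule.zero_mk s, LocalizedModule.mk_eq] at hz
    obtain ⟨u, hu⟩ := hz
    have hu' : d (i + 1) (((u * s : q.primeCompl) : A) • z) = 0 := by
      rw [map_smul, Submonoid.coe_mul, mul_smul]
      simpa [Submonoid.smul_def] using hu
    obtain ⟨t, ht, x, hx⟩ := hex _ hu'
    refine ⟨LocalizedModule.mk x ((⟨t, ht⟩ : q.primeCompl) * (u * s) * s), ?_⟩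
    rw [LocalizedModule.map_mk, hx, LocalizedModule.mk_eq]
    refine ⟨1, ?_⟩
    simp only [one_smul, smul_smul, Submonoid.smul_def, Submonoid.coe_mul]
    congr 1
    ring

/-- A functional with values in `A` which is zero modulo `q` on boundaries but not on cocycles. -/
theorem exists_functional_cx [∀ i, Module.Finite A (M i)] [∀ i, Module.Projective A (M i)]
    (hd : ∀ i x, d (i + 1) (d i x) = 0) (t : ℤ) (ht : ∀ i, t < i → Subsingleton (M i))
    (hq : ∃ i, ∃ z, d (i + 1) z = 0 ∧ ∀ s ∉ q, ∀ x, d i x ≠ s • z) :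
    ∃ (i : ℤ) (l : M (i + 1) →ₗ[A] A), (∀ x, l (d i x) ∈ q) ∧ ∃ z, d (i + 1) z = 0 ∧ l z ∉ q := by
  obtain ⟨e, ⟨z, hz, hze⟩, hmax⟩ := Int.exists_greatest_of_bdd
    (P := fun i => ∃ z, d (i + 1) z = 0 ∧ ∀ s ∉ q, ∀ x, d i x ≠ s • z) (by
      refine ⟨t, fun i ⟨z, hz, hz'⟩ => ?_⟩
      by_contra hi
      have := ht (i + 1) (by lia)
      exact hz' 1 (fun h => Ideal.IsPrime.ne_top ‹_› ((Ideal.eq_top_iff_one _).2 h)) 0 (Subsingleton.elim _ _)) hq
  have hex : ∀ i, e < i → ∀ z, d (i + 1) z = 0 → ∃ s ∉ q, ∃ x, d i x = s • z := by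
    intro i hi z hz
    by_contra hcon
    push Not at hcon
    exact absurd (hmax i ⟨z, hz, hcon⟩) (by lia)
  let B := Localization q.primeCompl
  have : IsLocalRing B := Localization.AtPrime.isLocalRing q
  let N : ℤ → Type u := fun i => LocalizedModule q.primeCompl (M i)
  let D : ∀ i, N i →ₗ[B] N (i + 1) := fun i => LocalizedModule.map q.primeCompl (d i)
  have hD : ∀ i x, D (i + 1) (D i x) = 0 := by
    intro i x
    induction x using LocalizedModule.induction_on with
    | h x s => rw [LocalizedModule.map_mk, LocalizedModule.map_mk, hd, LocalizedModule.zero_mk]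
  obtain ⟨r, hr1, hr2⟩ := split_of_exact_above D hD t (fun i hi => by
    have := ht i hi
    exact (inferInstance : Subsingleton (LocalizedModule q.primeCompl (M i)))) (e + 1)
    (fun i hi z hz => exact_localized d q i (hex i (by lia)) z hz)
  obtain ⟨l, hl1, w, hw, hl2⟩ := exists_functional (LinearMap.range (D e)) (LinearMap.ker (D (e + 1))) r
    hr1 hr2 (by rintro _ ⟨x, rfl⟩; exact hD e x) (by
      intro heq
      have h1 : LocalizedModule.mk z 1 ∈ LinearMap.ker (D (e + 1)) := by
        rw [LinearMap.mem_ker, LocalizedModule.map_mk, hz, LocalizedModule.zero_mk]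
      rw [← heq] at h1
      obtain ⟨x, hx⟩ := h1
      induction x using LocalizedModule.induction_on with
      | h x s =>
        rw [LocalizedModule.map_mk, LocalizedModule.mk_eq] at hx
        obtain ⟨u, hu⟩ := hx
        refine hze (u * s : q.primeCompl) (u * s).2 ((u : A) • x) ?_
        rw [map_smul, Submonoid.coe_mul, mul_smul]
        simpa [Submonoid.smul_def] using hu)
  -- clear denominators
  let l' : M (e + 1) →ₗ[A] B := (l.restrictScalars A) ∘ₗ LocalizedModule.mkLinearMap q.primeCompl (M (e + 1))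
  have := Module.finitePresentation_of_projective A (M (e + 1))
  obtain ⟨m, s, hm⟩ := Module.FinitePresentation.exists_lift_of_isLocalizedModule q.primeCompl
    (Algebra.linearMap A B) l'
  have hm' : ∀ x, algebraMap A B (m x) = (s : A) • l (LocalizedModule.mk x 1) := fun x => LinearMap.congr_fun hm x
  have hmem : ∀ a : A, algebraMap A B a ∈ IsLocalRing.maximalIdeal B ↔ a ∈ q := fun a =>
    IsLocalization.AtPrime.to_map_mem_maximal_iff B q a
  refine ⟨e, m, fun x => ?_, ?_⟩
  · rw [← hmem, hm', Algebra.smul_def]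
    refine Ideal.mul_mem_left _ _ (hl1 _ ⟨LocalizedModule.mk x 1, ?_⟩)
    exact LocalizedModule.map_mk _ _ _ _
  · induction w using LocalizedModule.induction_on with
    | h w t =>
      rw [LinearMap.mem_ker, LocalizedModule.map_mk, ← LocalizedModule.zero_mk t, LocalizedModule.mk_eq] at hw
      obtain ⟨u, hu⟩ := hw
      refine ⟨((u * t : q.primeCompl) : A) • w, ?_, ?_⟩
      · rw [map_smul, Submonoid.coe_mul, mul_smul]
        simpa [Submonoid.smul_def] using hu
      · rw [← hmem, hm']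
        have h1 : (LocalizedModule.mk (((u * t : q.primeCompl) : A) • w) 1 : LocalizedModule q.primeCompl (M (e + 1))) =
            (algebraMap A B ((u * t * t : q.primeCompl) : A)) • LocalizedModule.mk w t := by
          rw [algebraMap_smul, LocalizedModule.smul'_mk, LocalizedModule.mk_eq]
          refine ⟨1, ?_⟩
          simp only [one_smul, smul_smul, Submonoid.smul_def, Submonoid.coe_mul]
          congr 1
          ring
        rw [h1, map_smul, Algebra.smul_def, smul_eq_mul, ← mul_assoc, ← map_mul]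
        intro hcon
        rcases (Ideal.IsPrime.mem_or_mem inferInstance hcon) with h | h
        · rw [hmem] at h
          exact (s * (u * t * t) : q.primeCompl).2 h
        · exact hl2 h

end Descent

end Groth.Agent.LoccohB.GenAlg
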