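import Groth.Agent.LoccohB.GenAlg
import Groth.Agent.LoccohB.ModHom
import Groth.Agent.LoccohB.Devissage
import Groth.Agent.LoccohB.DCalc
import Mathlib.Algebra.Homology.Embedding.CochainComplex
import Groth.Prelude.Def_DRing2

/-!
# A pseudo-coherent complex with full support detects bounded below objects

`isZero_of_hom`: `om` pseudo-coherent over a commutative ring `A` with `om_q ≠ 0` for every prime `q`,
`C` bounded below with `Hom(om, C[j]) = 0` for all `j`; then `C = 0`.
-/

set_option autoImplicit false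
universe u v w

open CategoryTheory CategoryTheory.Limits Pretriangulated DerivedCategory
attribute [local instance] HasDerivedCategory.standard

namespace Groth.Agent.LoccohB.GenLemma

open Groth.Agent.LoccohB.ModHom Groth.Agent.LoccohB.Devissage

variable {A : Type u} [CommRing A]

lemma hmk_eq_zero_of (K : CochainComplex (ModuleCat.{v} A) ℤ) (i j : ℤ) (hij : j + 1 = i) (x : K.X i)
    (hx : K.d i (i + 1) x = 0) (y : K.X j) (hy : K.d j i y = x) : hmk K i x hx = 0 := by
  obtain rfl : j = i - 1 := by lia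
  exact (hmk_eq_zero_iff K i x hx).2 ⟨y, hy⟩

/-- The bottom cohomology of a bounded below object maps to it. -/
lemma exists_bottom (C : Dual.D A) (n : ℤ) [C.IsGE n] :
    ∃ τ : (singleFunctor (ModuleCat.{u} A) n).obj ((homologyFunctor (ModuleCat.{u} A) n).obj C) ⟶ C,
      IsIso ((homologyFunctor (ModuleCat.{u} A) n).map τ) := by
  obtain ⟨T, hT, h2, hLE, hGE, hi1, hi3⟩ := exists_trunc C n (n + 1) rfl
  subst h2
  have hGE' : T.obj₁.IsGE n := by
    rw [isGE_iff]
    intro i hi
    have := hi1 i hi.le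
    exact (T.obj₂.isZero_of_isGE n i hi).of_iso (asIso ((homologyFunctor _ i).map T.mor₁))
  obtain ⟨e⟩ := nonempty_iso_single T.obj₁ n
  have := hi1 n le_rfl
  let e' := (singleFunctor (ModuleCat.{u} A) n).mapIso (asIso ((homologyFunctor _ n).map T.mor₁))
  refine ⟨e'.inv ≫ e.inv ≫ T.mor₁, ?_⟩
  rw [Functor.map_comp, Functor.map_comp]
  infer_instance

/-- `om_q ≠ 0` for every prime `q`, elementwise. -/
def FullSupport (om : Dual.D A) : Prop :=
  ∀ (q : Ideal A), q.IsPrime → ∃ (i : ℤ) (x : Dual.HD A om i), ∀ s ∉ q, s • x ≠ 0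

/-- chain maps to a single complex. -/
lemma ofHom_comp_eq_zero {M N P : ModuleCat.{v} A} (f : M ⟶ N) (g : N →ₗ[A] P) (h : ∀ x, g (f x) = 0) :
    f ≫ ModuleCat.ofHom g = 0 := by
  ext x
  exact h x

/-- One step of the construction: a nonzero map `Q F ⟶ C'`. -/
theorem exists_ne_zero (F : DRing.Cx A) (t : ℤ) (ht : DRing.VanishesAbove F t)
    (hF : DRing.TermwiseFiniteProjective F)
    (hsupp : ∀ (q : Ideal A), q.IsPrime → ∃ (i : ℤ) (x : F.homology i), ∀ s ∉ q, s • x ≠ 0)
    (C : Dual.D A) (c : ℤ) [C.IsGE c] (hc : Nontrivial (Dual.HD A C c)) :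
    ∃ (j : ℤ) (f : DRing.toD F ⟶ C⟦j⟧), f ≠ 0 := by
  obtain ⟨y, hy⟩ := exists_ne (0 : Dual.HD A C c)
  have hne : Ideal.torsionOf A _ y ≠ ⊤ := by
    intro h
    have : (1 : A) ∈ Ideal.torsionOf A _ y := by rw [h]; trivial
    rw [Ideal.mem_torsionOf_iff, one_smul] at this
    exact hy this
  obtain ⟨m, hm, hmle⟩ := Ideal.exists_le_maximal _ hne
  have := hm.isPrime
  obtain ⟨q, hq, -⟩ := Ideal.exists_minimalPrimes_le hmle
  have hqp : q.IsPrime := hq.1.1
  have (i : ℤ) : Module.Finite A (F.X i) := (hF i).1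
  have (i : ℤ) : Module.Projective A (F.X i) := (hF i).2
  obtain ⟨e, l, hl, z, hz, hlz⟩ := GenAlg.exists_functional_cx (fun i => (F.d i (i + 1)).hom) q
    (fun i x => by
      change (F.d i (i + 1) ≫ F.d (i + 1) (i + 1 + 1)) x = 0
      rw [F.d_comp_d]
      rfl) t (fun i hi => ModuleCat.subsingleton_of_isZero (ht i hi)) (by
      obtain ⟨i, x, hx⟩ := hsupp q hqp
      obtain ⟨i, rfl⟩ : ∃ i', i = i' + 1 := ⟨i - 1, by lia⟩
      obtain ⟨z, hz, rfl⟩ := exists_hmk F _ x
      refine ⟨i, z, hz, fun s hs w hw => hx s hs ?_⟩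
      rw [← hmk_smul]
      exact hmk_eq_zero_of F _ i rfl _ _ w hw)
  let J : Ideal A := LinearMap.range (l ∘ₗ (F.d e (e + 1)).hom)
  have hJfg : J.FG := by
    have : Module.Finite A (F.X e) := (hF e).1
    have h1 : J = Submodule.map (l ∘ₗ (F.d e (e + 1)).hom) ⊤ := LinearMap.range_eq_map _
    rw [h1]
    exact Submodule.FG.map _ Module.Finite.fg_top
  have hJq : J ≤ q := by
    rintro _ ⟨x, rfl⟩
    exact hl x
  obtain ⟨a, ha1, ha2⟩ := GenAlg.exists_annihilated y q hq J hJfg hJq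
  -- the chain map
  let g : F.X (e + 1) →ₗ[A] Dual.HD A C c := l.smulRight (a • y)
  have hg : ∀ x, g x = l x • (a • y) := fun x => rfl
  let φ : F ⟶ (HomologicalComplex.single (ModuleCat.{u} A) (ComplexShape.up ℤ) (e + 1)).obj
      ((homologyFunctor (ModuleCat.{u} A) c).obj C) :=
    HomologicalComplex.mkHomToSingle (ModuleCat.ofHom g) (by
      rintro i hi
      obtain rfl : i = e := by simpa using hi
      ext x
      exact ha1 _ ⟨x, rfl⟩)
  obtain ⟨n, hn⟩ : ∃ n, n + (e + 1) = c := ⟨c - (e + 1), by lia⟩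
  have hGE : (C⟦n⟧).IsGE (e + 1) := ⟨(TStructure.t.isGE_shift C c n (e + 1) hn).ge⟩
  obtain ⟨τ, hτ⟩ := exists_bottom (C⟦n⟧) (e + 1)
  let ι : (homologyFunctor (ModuleCat.{u} A) (e + 1)).obj (C⟦n⟧) ≅ (homologyFunctor (ModuleCat.{u} A) c).obj C :=
    ((homologyFunctor (ModuleCat.{u} A) 0).shiftIso n (e + 1) c hn).app C
  let θ := (singleFunctorIsoCompQ (ModuleCat.{u} A) (e + 1)).app ((homologyFunctor (ModuleCat.{u} A) c).obj C)
  refine ⟨n, Q.map φ ≫ θ.inv ≫ (singleFunctor (ModuleCat.{u} A) (e + 1)).map ι.inv ≫ τ, fun h0 => ?_⟩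
  have h1 : (homologyFunctor (ModuleCat.{u} A) (e + 1)).map (Q.map φ) = 0 := by
    have h2 := congrArg (homologyFunctor (ModuleCat.{u} A) (e + 1)).map h0
    rw [Functor.map_comp, Functor.map_zero] at h2
    have : IsIso ((homologyFunctor (ModuleCat.{u} A) (e + 1)).map
        (θ.inv ≫ (singleFunctor (ModuleCat.{u} A) (e + 1)).map ι.inv ≫ τ)) := by
      rw [Functor.map_comp, Functor.map_comp]
      infer_instance
    exact (cancel_mono ((homologyFunctor (ModuleCat.{u} A) (e + 1)).map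
        (θ.inv ≫ (singleFunctor (ModuleCat.{u} A) (e + 1)).map ι.inv ≫ τ))).1 (h2.trans zero_comp.symm)
  have h2 : HomologicalComplex.homologyMap φ (e + 1) = 0 := by
    have h3 := (homologyFunctorFactors (ModuleCat.{u} A) (e + 1)).hom.naturality φ
    have h4 : (Q ⋙ homologyFunctor (ModuleCat.{u} A) (e + 1)).map φ = 0 := h1
    rw [h4, zero_comp] at h3
    exact (cancel_epi ((homologyFunctorFactors (ModuleCat.{u} A) (e + 1)).hom.app F)).1 (h3.symm.trans comp_zero.symm)
  have hz' : F.d (e + 1) (e + 1 + 1) z = 0 := hz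
  have h3 : hmk _ (e + 1) (φ.f (e + 1) z) (by rw [d_hom_f, hz', map_zero]) = 0 := by
    rw [← homologyMap_hmk _ _ _ hz', h2]
    rfl
  obtain ⟨w, hw⟩ := (hmk_eq_zero_iff _ _ _ _).1 h3
  have h4 : φ.f (e + 1) z = 0 := by
    rw [← hw, HomologicalComplex.single_obj_d]
    rfl
  have h5 : φ.f (e + 1) = ModuleCat.ofHom g ≫ (HomologicalComplex.singleObjXSelf (ComplexShape.up ℤ) (e + 1) _).inv :=
    HomologicalComplex.mkHomToSingle_f _ _
  rw [h5] at h4
  have h6 : g z = 0 := by
    have h7 := congrArg (HomologicalComplex.singleObjXSelf (ComplexShape.up ℤ) (e + 1)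
      ((homologyFunctor (ModuleCat.{u} A) c).obj C)).hom h4
    rw [map_zero] at h7
    simpa using h7
  exact hlz (ha2 _ (by rw [← hg]; exact h6))

theorem fullSupport_iff_Q (F : DRing.Cx A) : FullSupport (DRing.toD F) ↔
    ∀ (q : Ideal A), q.IsPrime → ∃ (i : ℤ) (x : F.homology i), ∀ s ∉ q, s • x ≠ 0 := by
  refine forall₂_congr fun q hq => exists_congr fun i => ?_
  let e := ((homologyFunctorFactors (ModuleCat.{u} A) i).app F).toLinearEquiv
  constructor
  · rintro ⟨x, hx⟩
    exact ⟨e x, fun s hs h => hx s hs (e.map_eq_zero_iff.1 ((map_smul e s x).trans h))⟩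
  · rintro ⟨x, hx⟩
    exact ⟨e.symm x, fun s hs h => hx s hs (e.symm.map_eq_zero_iff.1 ((map_smul e.symm s x).trans h))⟩

theorem fullSupport_of_iso {K L : Dual.D A} (e : K ≅ L) (h : FullSupport K) : FullSupport L := by
  intro q hq
  obtain ⟨i, x, hx⟩ := h q hq
  let e' := ((homologyFunctor (ModuleCat.{u} A) i).mapIso e).toLinearEquiv
  exact ⟨i, e' x, fun s hs h => hx s hs (e'.map_eq_zero_iff.1 ((map_smul e' s x).trans h))⟩

/-- **GEN lemma**. A pseudo-coherent complex with full support detects bounded below objects. -/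
theorem isZero_of_hom (om C : Dual.D A) (h : DRing.IsPseudoCoherent' A om) (hom : FullSupport om) (a : ℤ) [C.IsGE a]
    (hC : ∀ j : ℤ, Subsingleton (om ⟶ C⟦j⟧)) : IsZero C := by
  obtain ⟨F, t, ht, hF, ⟨e⟩⟩ := h
  by_contra hne
  obtain ⟨c, hc, hmin⟩ := Int.exists_least_of_bdd (P := fun i => Nontrivial (Dual.HD A C i)) ⟨a, fun i hi => by
    by_contra hia
    have h0 : IsZero ((homologyFunctor (ModuleCat.{u} A) i).obj C) := C.isZero_of_isGE a i (by lia)
    exact not_subsingleton _ (ModuleCat.subsingleton_of_isZero h0)⟩ (by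
    by_contra hcon
    push Not at hcon
    refine hne ?_
    rw [DCalc.isZero_iff]
    intro i
    have : Subsingleton (Dual.HD A C i) := hcon i
    exact ModuleCat.isZero_of_subsingleton _)
  have : C.IsGE c := by
    rw [isGE_iff]
    intro i hi
    have : Subsingleton (Dual.HD A C i) := by
      by_contra hcon
      exact absurd (hmin i (not_subsingleton_iff_nontrivial.1 hcon)) (by lia)
    exact ModuleCat.isZero_of_subsingleton _
  obtain ⟨j, f, hf⟩ := exists_ne_zero F t ht (fun i => ⟨(hF i).1, have := (hF i).2; inferInstance⟩)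
    ((fullSupport_iff_Q F).1 (fullSupport_of_iso e.symm hom)) C c hc
  have := hC j
  refine hf ?_
  have h1 : e.inv ≫ f = 0 := Subsingleton.elim _ _
  rw [← cancel_epi e.inv, h1, comp_zero]

/-- One step: kill the degree `j` part of an endomorphism. -/
lemma step (F : DRing.Cx A) (hF : DRing.TermwiseFiniteProjective F) (q : Ideal A) [q.IsPrime]
    (hq : ∀ (i : ℤ) (x : F.homology i), ∃ s ∉ q, s • x = 0) (j : ℤ) (ψ : F ⟶ F) (hψ : ∀ i, j < i → ψ.f i = 0) :
    ∃ s ∉ q, ∃ ψ' : F ⟶ F, Q.map ψ' = s • Q.map ψ ∧ ∀ i, j ≤ i → ψ'.f i = 0 := by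
  have hfin := (hF j).1
  have hproj := (hF j).2
  obtain ⟨T, hT⟩ := (inferInstance : Module.Finite A (F.X j)).fg_top
  have hcyc : ∀ x, F.d j (j + 1) (ψ.f j x) = 0 := by
    intro x
    change (ψ.f j ≫ F.d j (j + 1)) x = 0
    rw [ψ.comm, hψ (j + 1) (by lia), comp_zero]
    rfl
  have hgen : ∀ x : F.X j, ∃ s ∉ q, ∃ w, F.d (j - 1) j w = s • ψ.f j x := by
    intro x
    obtain ⟨s, hs, h⟩ := hq j (hmk F j (ψ.f j x) (hcyc x))
    rw [← hmk_smul] at h
    exact ⟨s, hs, (hmk_eq_zero_iff _ _ _ _).1 h⟩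
  choose s hs w hw using hgen
  let S : A := ∏ x ∈ T, s x
  have hS : S ∉ q := by
    intro h
    obtain ⟨x, hx, hx'⟩ := ((inferInstance : q.IsPrime).prod_mem_iff).1 h
    exact hs x hx'
  have hmem : ∀ x, (S • (ψ.f j).hom) x ∈ LinearMap.range (F.d (j - 1) j).hom := by
    intro x
    have hx : x ∈ Submodule.span A (T : Set (F.X j)) := by rw [hT]; trivial
    induction hx using Submodule.span_induction with
    | mem x hx =>
      obtain ⟨c, hc⟩ := Finset.dvd_prod_of_mem s hx
      refine ⟨c • w x, ?_⟩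
      rw [map_smul]
      change c • F.d (j - 1) j (w x) = S • ψ.f j x
      rw [hw, smul_smul, mul_comm, ← hc]
    | zero => rw [map_zero]; exact Submodule.zero_mem _
    | add x y _ _ hx hy => rw [map_add]; exact Submodule.add_mem _ hx hy
    | smul a x _ hx => rw [map_smul]; exact Submodule.smul_mem _ _ hx
  obtain ⟨h, hh⟩ := Module.projective_lifting_property (F.d (j - 1) j).hom.rangeRestrict
    ((S • (ψ.f j).hom).codRestrict _ hmem) (LinearMap.surjective_rangeRestrict _)
  have hh' : ModuleCat.ofHom h ≫ F.d (j - 1) j = S • ψ.f j := by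
    ext x
    exact congrArg Subtype.val (LinearMap.congr_fun hh x)
  let hom : ∀ i k, F.X i ⟶ F.X k := fun i k => if h1 : i = j then if h2 : k = j - 1 then
    (F.XIsoOfEq h1).hom ≫ ModuleCat.ofHom h ≫ (F.XIsoOfEq h2).inv else 0 else 0
  have hom0 : ∀ i k, i ≠ j → hom i k = 0 := fun i k hi => dif_neg hi
  have homj : hom j (j - 1) = ModuleCat.ofHom h := by
    simp [hom]
  have homz : ∀ i k, ¬ (ComplexShape.up ℤ).Rel k i → hom i k = 0 := by
    intro i k hik
    by_cases h1 : i = j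
    · subst h1
      have h2 : k ≠ i - 1 := by
        rintro rfl
        exact hik (by simp)
      simp [hom, h2]
    · exact hom0 i k h1
  refine ⟨S, hS, S • ψ - Homotopy.nullHomotopicMap hom, ?_, fun i hi => ?_⟩
  · rw [Functor.map_sub, Functor.map_smul, Q_map_eq_of_homotopy _ (Homotopy.nullHomotopy hom homz), Functor.map_zero, sub_zero]
  · rw [HomologicalComplex.sub_f_apply, HomologicalComplex.smul_f_apply,
      Homotopy.nullHomotopicMap_f (show (ComplexShape.up ℤ).Rel (i - 1) i by simp)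
        (show (ComplexShape.up ℤ).Rel i (i + 1) by simp), hom0 (i + 1) i (by lia), comp_zero, zero_add]
    rcases hi.eq_or_lt with rfl | hi
    · rw [homj, hh', sub_self]
    · rw [hψ i hi, hom0 i _ (by lia), smul_zero, zero_comp, sub_zero]

lemma exists_smul_id (F : DRing.Cx A) (t : ℤ) (ht : DRing.VanishesAbove F t)
    (hF : DRing.TermwiseFiniteProjective F) (q : Ideal A) [q.IsPrime]
    (hq : ∀ (i : ℤ) (x : F.homology i), ∃ s ∉ q, s • x = 0) (a : ℤ) [F.IsGE a] :
    ∃ s ∉ q, s • 𝟙 (Q.obj F) = 0 := by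
  have hk : ∀ k : ℕ, ∃ s ∉ q, ∃ ψ : F ⟶ F, Q.map ψ = s • 𝟙 (Q.obj F) ∧ ∀ i, t - k < i → ψ.f i = 0 := by
    intro k
    induction k with
    | zero =>
      refine ⟨1, fun h => (inferInstance : q.IsPrime).ne_top ((Ideal.eq_top_iff_one _).2 h), 𝟙 _, ?_, fun i hi => ?_⟩
      · rw [one_smul, CategoryTheory.Functor.map_id]
      · exact (ht i (by simpa using hi)).eq_of_src _ _
    | succ k ih =>
      obtain ⟨s, hs, ψ, h1, h2⟩ := ih
      obtain ⟨s', hs', ψ', h1', h2'⟩ := step F hF q hq (t - k) ψ h2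
      refine ⟨s' * s, fun h => ?_, ψ', ?_, fun i hi => h2' i (by push_cast at hi; lia)⟩
      · rcases (inferInstance : q.IsPrime).mem_or_mem h with h | h
        exacts [hs' h, hs h]
      · rw [h1', h1, smul_smul]
  obtain ⟨s, hs, ψ, h1, h2⟩ := hk (t + 1 - a).toNat
  refine ⟨s, hs, ?_⟩
  rw [← h1]
  have hz : ψ ≫ F.πTruncGE a = 0 := by
    ext i : 1
    rw [HomologicalComplex.comp_f]
    by_cases hi : a ≤ i
    · rw [h2 i (by have := Int.self_le_toNat (t + 1 - a); lia), zero_comp]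
      rfl
    · exact ((F.truncGE a).isZero_of_isStrictlyGE a i (by lia)).eq_of_tgt _ _
  have : QuasiIso (F.πTruncGE a) := inferInstance
  have : IsIso (Q.map (F.πTruncGE a)) := inferInstance
  rw [← cancel_mono (Q.map (F.πTruncGE a)), ← Functor.map_comp, hz, Functor.map_zero, zero_comp]

/-- a bounded pseudo-coherent complex with faithful endomorphism action has full support. -/
theorem fullSupport_of_injective (om : Dual.D A) (h : DRing.IsPseudoCoherent' A om) (a : ℤ) [om.IsGE a]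
    (hinj : Function.Injective (fun r : A => r • 𝟙 om)) : FullSupport om := by
  obtain ⟨F, t, ht, hF, ⟨e⟩⟩ := h
  refine fullSupport_of_iso e ((fullSupport_iff_Q F).2 ?_)
  intro q hq
  by_contra hcon
  push Not at hcon
  have hGE : (Q.obj F).IsGE a := TStructure.t.isGE_of_iso e.symm a
  have : F.IsGE a := (isGE_Q_obj_iff F a).1 hGE
  obtain ⟨s, hs, hs'⟩ := exists_smul_id F t ht (fun i => ⟨(hF i).1, have := (hF i).2; inferInstance⟩) q hcon a
  refine hs ?_
  have h1 : s • 𝟙 om = 0 := by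
    rw [← cancel_epi e.hom, Linear.comp_smul, Category.comp_id, comp_zero]
    have : s • e.hom = (s • 𝟙 (Q.obj F)) ≫ e.hom := by rw [Linear.smul_comp, Category.id_comp]
    rw [this, hs', zero_comp]
  have h2 : s = 0 := hinj (by simpa using h1)
  rw [h2]
  exact Submodule.zero_mem _

/-- GEN lemma, second form. -/
theorem isZero_of_hom' (om C : Dual.D A) (h : DRing.IsPseudoCoherent' A om) (b : ℤ) [om.IsGE b]
    (hinj : Function.Injective (fun r : A => r • 𝟙 om)) (a : ℤ) [C.IsGE a]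
    (hC : ∀ j : ℤ, Subsingleton (om ⟶ C⟦j⟧)) : IsZero C :=
  isZero_of_hom om C h (fullSupport_of_injective om h b hinj) a hC

end Groth.Agent.LoccohB.GenLemma
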