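import Groth.Agent.LoccohB.BassCritD
import Groth.Agent.LoccohB.CMSch
import Groth.Agent.PerfB.TildeBC
import Groth.Agent.PerfA.PerfLocal
import Groth.Agent.PerfA.CohSerre
import Groth.Agent.S0997

/-!
# Pointwise dualizing complexes on schemes

* `isLocalization_atPrime_of_isOpenImmersion`: `A_p → C_q` is an isomorphism for `Spec C → Spec A` an open immersion.
* `goodPt_iff_of_isOpenImmersion`.
* `restrictTilde`: `(ω~)|_{Spec C} ≅ (ω ⊗_A C)~`.
* `goodPt_of_goodPt`: `GoodPt` does not depend on the affine open neighbourhood of the point.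
* `isDualizingSch_of_closedPoints`: the criterion for dualizing complexes with closed points.
-/

set_option autoImplicit false
universe u
open CategoryTheory CategoryTheory.Limits AlgebraicGeometry
attribute [local instance] HasDerivedCategory.standard

namespace Groth.Agent.LoccohB.GoodSch

open Groth.Agent.LoccohB.BassCrit Groth.Agent.LoccohB.FlatLBC Groth.Agent.LoccohB.HomBC
open Groth.Agent.PerfA.Restrict Groth.Agent.PerfA.PerfLocal Groth.Agent.PerfB.FlatPull

section Ring

variable {A C : Type u} [CommRing A] [CommRing C] [Algebra A C]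

theorem localRingHom_bijective_of_isOpenImmersion
    [IsOpenImmersion (Spec.map (CommRingCat.ofHom (algebraMap A C)))] (q : PrimeSpectrum C) :
    Function.Bijective (Localization.localRingHom (q.comap (algebraMap A C)).asIdeal q.asIdeal
      (algebraMap A C) rfl) := by
  let f := CommRingCat.ofHom (algebraMap A C)
  have h1 : IsIso ((Spec.map f).stalkMap q) := inferInstance
  have h2 : IsIso (CommRingCat.ofHom (Localization.localRingHom
      (q.comap f.hom).asIdeal q.asIdeal f.hom rfl)) :=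
    ((MorphismProperty.isomorphisms CommRingCat).arrow_mk_iso_iff
      (Scheme.arrowStalkMapSpecIso f q)).1 h1
  exact (ConcreteCategory.isIso_iff_bijective _).1 h2

theorem isLocalization_atPrime_of_isOpenImmersion
    [IsOpenImmersion (Spec.map (CommRingCat.ofHom (algebraMap A C)))] (q : PrimeSpectrum C) :
    IsLocalization.AtPrime (Localization.AtPrime q.asIdeal)
      (q.comap (algebraMap A C)).asIdeal := by
  let e : Localization.AtPrime (q.comap (algebraMap A C)).asIdeal →ₐ[A]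
      Localization.AtPrime q.asIdeal :=
    { Localization.localRingHom (q.comap (algebraMap A C)).asIdeal q.asIdeal
        (algebraMap A C) rfl with
      commutes' := fun a => (Localization.localRingHom_to_map _ _ _ rfl a).trans
        (IsScalarTower.algebraMap_apply A C _ a).symm }
  exact IsLocalization.isLocalization_of_algEquiv _
    (AlgEquiv.ofBijective e (localRingHom_bijective_of_isOpenImmersion q))

/-- `GoodPt` along ring maps inducing isomorphisms on local rings. -/
theorem goodPt_iff_of_atPrime {N : ℤ} (ω : Dual.D A) (hC : (algebraMap A C).Flat) (q : Ideal C)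
    [q.IsPrime] (p : Ideal A) [p.IsPrime] [IsLocalization.AtPrime (Localization.AtPrime q) p] :
    GoodPt N ((flatBC (algebraMap A C) hC).obj ω) q ↔ GoodPt N ω p := by
  have h2 : (algebraMap C (Localization.AtPrime q)).Flat := flat_of_isLocalization q.primeCompl _
  have h3 : (algebraMap A (Localization.AtPrime q)).Flat :=
    flat_of_isLocalization p.primeCompl _
  let e := (flatBCTower A C (Localization.AtPrime q) hC h2 h3).app ω
  constructor
  · intro h
    obtain ⟨h4, h5⟩ := h (Localization.AtPrime q) h2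
    exact goodPt_of_isLocalization (Localization.AtPrime q) h3
      ⟨isDualizing_of_iso e h4, h5.of_iso e⟩
  · intro h
    obtain ⟨h4, h5⟩ := h (Localization.AtPrime q) h3
    exact goodPt_of_isLocalization (Localization.AtPrime q) h2
      ⟨isDualizing_of_iso e.symm h4, h5.of_iso e.symm⟩

/-- `GoodPt` along open immersions of affine schemes. -/
theorem goodPt_iff_of_isOpenImmersion {N : ℤ} (ω : Dual.D A) (hC : (algebraMap A C).Flat)
    [h : IsOpenImmersion (Spec.map (CommRingCat.ofHom (algebraMap A C)))] (q : PrimeSpectrum C) :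
    GoodPt N ((flatBC (algebraMap A C) hC).obj ω) q.asIdeal ↔
      GoodPt N ω (q.comap (algebraMap A C)).asIdeal := by
  have := isLocalization_atPrime_of_isOpenImmersion (A := A) q
  exact goodPt_iff_of_atPrime ω hC q.asIdeal _

theorem flat_of_isOpenImmersion [h : IsOpenImmersion (Spec.map (CommRingCat.ofHom (algebraMap A C)))] :
    (algebraMap A C).Flat := by
  have : Flat (Spec.map (CommRingCat.ofHom (algebraMap A C))) := inferInstance
  exact (HasRingHomProperty.Spec_iff (P := @Flat)).1 this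

end Ring

section Tilde

/-- `(ω~)|_{Spec C} ≅ (ω ⊗_A C)~` for an open immersion `Spec C → Spec A`. -/
noncomputable def restrictTilde {A C : CommRingCat.{u}} (φ : A ⟶ C) [IsOpenImmersion (Spec.map φ)]
    (h : φ.hom.Flat) [PreservesFiniteLimits (tilde.functor A)]
    [PreservesFiniteLimits (tilde.functor C)] (ω : DerivedCategory (ModuleCat.{u} A)) :
    (restrictD (Spec.map φ)).obj ((DCoh.tildeD A).obj ω) ≅
      (DCoh.tildeD C).obj ((flatBC φ.hom h).obj ω) :=
  haveI := ModuleCat.preservesFiniteLimits_extendScalars_of_flat h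
  (Groth.Agent.PerfA.ExactD.mapDIso
    (Scheme.Modules.restrictFunctorIsoPullback (Spec.map φ))).app _ ≪≫
    (Groth.Agent.PerfB.TildeBC.tildeDPullback φ).app ω

theorem nonempty_iso_of_tildeD (R : CommRingCat.{u}) [PreservesFiniteLimits (tilde.functor R)]
    {M N : DerivedCategory (ModuleCat.{u} R)}
    (e : (DCoh.tildeD R).obj M ≅ (DCoh.tildeD R).obj N) : Nonempty (M ≅ N) := by
  obtain ⟨h1, h2, -⟩ := Groth.Agent.S0997.result R
  exact ⟨(DCoh.tildeD R).preimageIso e⟩

theorem exists_tildeD (R : CommRingCat.{u}) [PreservesFiniteLimits (tilde.functor R)]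
    (K : DCoh.D (Spec R)) (hK : DCoh.IsQCohD K) :
    ∃ M, Nonempty ((DCoh.tildeD R).obj M ≅ K) := by
  obtain ⟨-, -, h⟩ := Groth.Agent.S0997.result R
  exact (h K).1 hK

end Tilde

section Transfer

variable {X : Scheme.{u}} (K : DCoh.D X)

/-- `GoodPt` does not depend on the affine open neighbourhood of a point. -/
theorem goodPt_of_goodPt {A₁ A₂ : Type u} [CommRing A₁] [CommRing A₂]
    [PreservesFiniteLimits (tilde.functor (CommRingCat.of A₁))]
    [PreservesFiniteLimits (tilde.functor (CommRingCat.of A₂))]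
    (j₁ : Spec (CommRingCat.of A₁) ⟶ X) (j₂ : Spec (CommRingCat.of A₂) ⟶ X)
    [IsOpenImmersion j₁] [IsOpenImmersion j₂]
    (p₁ : PrimeSpectrum A₁) (p₂ : PrimeSpectrum A₂) (hp : j₁ p₁ = j₂ p₂)
    (ω₁ : Dual.D A₁) (ω₂ : Dual.D A₂)
    (e₁ : (restrictD j₁).obj K ≅ (DCoh.tildeD (CommRingCat.of A₁)).obj ω₁)
    (e₂ : (restrictD j₂).obj K ≅ (DCoh.tildeD (CommRingCat.of A₂)).obj ω₂) {N : ℤ}
    (h : GoodPt N ω₁ p₁.asIdeal) : GoodPt N ω₂ p₂.asIdeal := by
  obtain ⟨z, hz1, hz2⟩ := Scheme.Pullback.exists_preimage_pullback (f := j₁) (g := j₂)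
    p₁ p₂ hp
  let 𝒰 := (pullback j₁ j₂).affineOpenCover
  let C : CommRingCat.{u} := 𝒰.X (𝒰.idx z)
  let c : Spec C ⟶ pullback j₁ j₂ := 𝒰.f (𝒰.idx z)
  obtain ⟨q, hq⟩ : ∃ q, c q = z := 𝒰.covers z
  let k₁ : Spec C ⟶ Spec (CommRingCat.of A₁) := c ≫ pullback.fst j₁ j₂
  let k₂ : Spec C ⟶ Spec (CommRingCat.of A₂) := c ≫ pullback.snd j₁ j₂
  let φ₁ : CommRingCat.of A₁ ⟶ C := Spec.preimage k₁
  let φ₂ : CommRingCat.of A₂ ⟶ C := Spec.preimage k₂
  have hφ₁ : Spec.map φ₁ = k₁ := Spec.map_preimage k₁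
  have hφ₂ : Spec.map φ₂ = k₂ := Spec.map_preimage k₂
  have ho₁ : IsOpenImmersion (Spec.map φ₁) := by rw [hφ₁]; infer_instance
  have ho₂ : IsOpenImmersion (Spec.map φ₂) := by rw [hφ₂]; infer_instance
  have hc : Spec.map φ₁ ≫ j₁ = Spec.map φ₂ ≫ j₂ := by
    rw [hφ₁, hφ₂]
    simp only [k₁, k₂, Category.assoc, pullback.condition]
  have hq₁ : Spec.map φ₁ q = p₁ := by
    rw [hφ₁, ← hz1, ← hq]
    rfl
  have hq₂ : Spec.map φ₂ q = p₂ := by
    rw [hφ₂, ← hz2, ← hq]
    rfl
  let _ : Algebra A₁ C := φ₁.hom.toAlgebra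
  let _ : Algebra A₂ C := φ₂.hom.toAlgebra
  have hf₁ : (algebraMap A₁ C).Flat := flat_of_isOpenImmersion (h := ho₁)
  have hf₂ : (algebraMap A₂ C).Flat := flat_of_isOpenImmersion (h := ho₂)
  have E₁ : (restrictD (Spec.map φ₁ ≫ j₁)).obj K ≅
      (DCoh.tildeD C).obj ((flatBC φ₁.hom hf₁).obj ω₁) :=
    ((restrictDComp (Spec.map φ₁) j₁).app K).symm ≪≫ (restrictD (Spec.map φ₁)).mapIso e₁ ≪≫
      restrictTilde φ₁ hf₁ ω₁
  have E₂ : (restrictD (Spec.map φ₂ ≫ j₂)).obj K ≅
      (DCoh.tildeD C).obj ((flatBC φ₂.hom hf₂).obj ω₂) :=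
    ((restrictDComp (Spec.map φ₂) j₂).app K).symm ≪≫ (restrictD (Spec.map φ₂)).mapIso e₂ ≪≫
      restrictTilde φ₂ hf₂ ω₂
  obtain ⟨E⟩ := nonempty_iso_of_tildeD C (E₁.symm ≪≫ (restrictDCongr hc).app K ≪≫ E₂)
  have h1 : GoodPt N ((flatBC (algebraMap A₁ C) hf₁).obj ω₁) q.asIdeal := by
    refine (goodPt_iff_of_isOpenImmersion ω₁ hf₁ (h := ho₁) q).2 ?_
    have : (q.comap (algebraMap A₁ C)) = p₁ := hq₁
    rwa [this]
  have h2 : GoodPt N ((flatBC (algebraMap A₂ C) hf₂).obj ω₂) q.asIdeal := h1.of_iso E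
  have h3 := (goodPt_iff_of_isOpenImmersion ω₂ hf₂ (h := ho₂) q).1 h2
  have h4 : (q.comap (algebraMap A₂ C)) = p₂ := hq₂
  rwa [h4] at h3

end Transfer

section Models

variable {X : Scheme.{u}} (K : DCoh.D X) (R : CommRingCat.{u})
  [PreservesFiniteLimits (tilde.functor R)] (j : Spec R ⟶ X) [IsOpenImmersion j]

/-- The cohomology of a model. -/
noncomputable def modelHD (ω : DerivedCategory (ModuleCat.{u} R))
    (e : (restrictD j).obj K ≅ (DCoh.tildeD R).obj ω) (i : ℤ) :
    (DCoh.HD K i).restrict j ≅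
      (tilde.functor R).obj ((DerivedCategory.homologyFunctor (ModuleCat.{u} R) i).obj ω) :=
  (HDrestrict j K i).symm ≪≫ (DerivedCategory.homologyFunctor _ i).mapIso e ≪≫
    CMSch.tildeHD R ω i

omit [PreservesFiniteLimits (tilde.functor R)] in
theorem finite_of_isCoh_tilde (M : ModuleCat.{u} R) (h : Coh.IsCoh ((tilde.functor R).obj M)) :
    Module.Finite R M := by
  have h1 : Coh.IsQCoh ((tilde.functor R).obj M) := h.1
  have h2 : Module.Finite R ((modulesSpecToSheaf.obj (tilde M)).presheaf.obj (Opposite.op ⊤)) :=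
    Groth.Agent.CohqB.FiniteType2.finite_of_isFT _ h.2
  exact Module.Finite.equiv (tilde.isoTop M).toLinearEquiv.symm

omit [PreservesFiniteLimits (tilde.functor R)] in
theorem isZero_of_isZero_tilde (M : ModuleCat.{u} R) (h : IsZero ((tilde.functor R).obj M)) :
    IsZero M :=
  ((moduleSpecΓFunctor (R := R)).map_isZero h).of_iso (tilde.isoTop M)

theorem model_finite (ω : DerivedCategory (ModuleCat.{u} R))
    (e : (restrictD j).obj K ≅ (DCoh.tildeD R).obj ω) (hK : ∀ i, Coh.IsCoh (DCoh.HD K i)) (i : ℤ) :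
    Module.Finite R ((DerivedCategory.homologyFunctor (ModuleCat.{u} R) i).obj ω) :=
  finite_of_isCoh_tilde R _ (Groth.Agent.PerfA.CohSerre.isCoh_of_iso (modelHD K R j ω e i)
    (Groth.Agent.PerfA.CohSerre.isCoh_restrict j (hK i)))

theorem model_isGE (ω : DerivedCategory (ModuleCat.{u} R))
    (e : (restrictD j).obj K ≅ (DCoh.tildeD R).obj ω) (a : ℤ)
    (hK : ∀ i < a, IsZero (DCoh.HD K i)) : ω.IsGE a := by
  rw [DerivedCategory.isGE_iff]
  intro i hi
  apply isZero_of_isZero_tilde R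
  exact ((Scheme.Modules.restrictFunctor j).map_isZero (hK i hi)).of_iso
    (modelHD K R j ω e i).symm

theorem exists_model (hK : ∀ i, Coh.IsQCoh (DCoh.HD K i)) :
    ∃ ω : DerivedCategory (ModuleCat.{u} R),
      Nonempty ((restrictD j).obj K ≅ (DCoh.tildeD R).obj ω) := by
  obtain ⟨ω, ⟨e⟩⟩ := exists_tildeD R ((restrictD j).obj K) (fun i =>
    Groth.Agent.PerfA.QCohSerre.isQCoh_of_iso (HDrestrict j K i).symm
      (Groth.Agent.PerfA.QCohSerre.isQCoh_restrict j (hK i)))
  exact ⟨ω, ⟨e.symm⟩⟩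

end Models

section Main

variable {X : Scheme.{u}}

theorem isNoetherianRing_of_isOpenImmersion [IsLocallyNoetherian X] (A : Type u) [CommRing A]
    (j : Spec (CommRingCat.of A) ⟶ X) [IsOpenImmersion j] : IsNoetherianRing A := by
  have := isLocallyNoetherian_of_isOpenImmersion j
  exact isLocallyNoetherian_Spec.1 this

/-- **Criterion for dualizing complexes with closed points.** `X` locally Noetherian and quasi-compact, `K`
with coherent cohomology, bounded below; for every closed point `x` there is an affine open neighbourhood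
`j : Spec A → X` with a model `ω` of `K` satisfying the one-degree condition `OneDeg A ω m n` at the
maximal ideal `m` of `x`, with `n ≤ N`.  Then `K` is a dualizing complex. -/
theorem isDualizingSch_of_closedPoints' [IsLocallyNoetherian X] [CompactSpace X]
    [∀ (U : Scheme.{u}) (j : U ⟶ X) [IsOpenImmersion j],
      PreservesFiniteLimits (Scheme.Modules.restrictFunctor j)]
    [∀ (R : CommRingCat.{u}), PreservesFiniteLimits (tilde.functor R)]
    (K : DCoh.D X) (hK : ∀ i, Coh.IsCoh (DCoh.HD K i)) (a : ℤ)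
    (ha : ∀ i < a, IsZero (DCoh.HD K i)) (N : ℤ)
    (h : ∀ x : X, IsClosed {x} → ∃ (A : Type u) (_ : CommRing A)
      (j : Spec (CommRingCat.of A) ⟶ X) (_ : IsOpenImmersion j) (m : PrimeSpectrum A)
      (_ : j m = x) (ω : Dual.D A)
      (_ : Nonempty ((restrictD j).obj K ≅ (DCoh.tildeD (CommRingCat.of A)).obj ω)) (n : ℤ),
        n ≤ N ∧ OneDeg A ω m.asIdeal n) :
    Dual2.IsDualizingSch X K := by
  intro A _ j _
  have hA : IsNoetherianRing A := isNoetherianRing_of_isOpenImmersion A j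
  obtain ⟨ω, ⟨e⟩⟩ := exists_model K (CommRingCat.of A) j (fun i => (hK i).1)
  refine ⟨ω, ?_, ⟨e⟩⟩
  have hGE : ω.IsGE a := model_isGE K (CommRingCat.of A) j ω e a ha
  refine (isDualizing_of_goodPt ω a N (model_finite K (CommRingCat.of A) j ω e hK) ?_).1
  intro m hm
  let p : PrimeSpectrum A := ⟨m, hm.isPrime⟩
  -- specialize to a closed point
  obtain ⟨x₀, hx₀, hcl⟩ := IsClosed.exists_closed_singleton (isClosed_closure (s := {j p}))
    ⟨_, subset_closure rfl⟩
  obtain ⟨A₀, _, j₀, _, m₀, rfl, ω₀, ⟨e₀⟩, n, hn, h1⟩ := h x₀ hcl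
  have hA₀ : IsNoetherianRing A₀ := isNoetherianRing_of_isOpenImmersion A₀ j₀
  have hspec : j p ⤳ j₀ m₀ := specializes_iff_mem_closure.2 hx₀
  obtain ⟨p₀, hp₀⟩ : j p ∈ Set.range j₀ :=
    hspec.mem_open j₀.isOpenEmbedding.isOpen_range ⟨m₀, rfl⟩
  have hspec₀ : p₀ ⤳ m₀ := by
    rw [← j₀.isOpenEmbedding.isInducing.specializes_iff, hp₀]
    exact hspec
  have hle : p₀.asIdeal ≤ m₀.asIdeal := (PrimeSpectrum.le_iff_specializes p₀ m₀).2 hspec₀
  have hmax : m₀.asIdeal.IsMaximal := by
    rw [← PrimeSpectrum.isClosed_singleton_iff_isMaximal]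
    have h2 : (j₀ ⁻¹' {j₀ m₀} : Set (Spec (CommRingCat.of A₀))) = {m₀} := by
      ext y
      simp only [Set.mem_preimage, Set.mem_singleton_iff]
      exact ⟨fun hy => j₀.isOpenEmbedding.injective hy, fun hy => by rw [hy]⟩
    have h3 : IsClosed (j₀ ⁻¹' {j₀ m₀} : Set (Spec (CommRingCat.of A₀))) :=
      hcl.preimage j₀.continuous
    rw [h2] at h3
    exact h3
  have hGE₀ : ω₀.IsGE a := model_isGE K (CommRingCat.of A₀) j₀ ω₀ e₀ a ha
  have hgood : GoodPt n ω₀ m₀.asIdeal :=
    goodPt_of_oneDeg ω₀ a n (model_finite K (CommRingCat.of A₀) j₀ ω₀ e₀ hK) m₀.asIdeal h1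
  exact goodPt_of_goodPt K j₀ j p₀ p hp₀ ω₀ ω e₀ e ((hgood.mono hn).of_le hle)

/-- The criterion in the form used for S1810. -/
theorem isDualizingSch_of_closedPoints (X : Scheme.{u}) [IsLocallyNoetherian X] [CompactSpace X]
    [∀ (U : Scheme.{u}) (j : U ⟶ X) [IsOpenImmersion j],
      PreservesFiniteLimits (Scheme.Modules.restrictFunctor j)]
    [∀ (R : CommRingCat.{u}), PreservesFiniteLimits (tilde.functor R)]
    (L : DCoh.D X) (hc : ∃ c : ℤ, L.IsGE c) (hcoh : DCoh.IsCohD L) (N : ℤ)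
    (h : ∀ x : X, IsClosed ({x} : Set X) → ∃ (B : Type u) (_ : CommRing B)
      (j : Spec (CommRingCat.of B) ⟶ X) (_ : IsOpenImmersion j) (m : Ideal B) (hm : m.IsMaximal)
      (ω : Dual.D B) (n : ℤ), j (⟨m, hm.isPrime⟩ : PrimeSpectrum B) = x ∧
        Nonempty ((Groth.Agent.PerfA.Restrict.restrictD j).obj L ≅
          (DCoh.tildeD (CommRingCat.of B)).obj ω) ∧
        n ≤ N ∧ OneDeg B ω m n) :
    Dual2.IsDualizingSch X L := by
  obtain ⟨c, hc⟩ := hc
  refine isDualizingSch_of_closedPoints' L hcoh c (fun i hi => L.isZero_of_isGE c i hi) N ?_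
  intro x hx
  obtain ⟨B, _, j, _, m, hm, ω, n, h1, h2, h3, h4⟩ := h x hx
  exact ⟨B, _, j, inferInstance, ⟨m, hm.isPrime⟩, h1, ω, h2, n, h3, h4⟩

end Main

end Groth.Agent.LoccohB.GoodSch
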