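import Groth.Agent.LoccohB.GorNak
import Groth.Agent.LoccohB.LBC2
import Groth.Agent.Localalg.DGor
import Groth.Agent.LoccohB.DualShift
import Mathlib.RingTheory.LocalRing.ResidueField.Fiber
import Mathlib.RingTheory.Localization.AtPrime.Basic

/-!
# Detecting `K ≅ A[-m]` after base change to a quotient of the local ring

* `descend`: `φ : A → C` surjective, `A`, `C` local, `A` Noetherian, `K` bounded above with finite cohomology and
  `K ⊗^L C ≅ C[-m]`; then `K ≅ A[-m]`.
* `isGorensteinLocalRing_of_isDualizing`: if `A[-m]` is dualizing then `A` is Gorenstein.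
* `localRingHom_fiber_surjective`: `B_q → (κ(p) ⊗ B)_Q` is surjective.
-/

set_option autoImplicit false
universe w v u

open CategoryTheory CategoryTheory.Limits Pretriangulated
open scoped TensorProduct

attribute [local instance] HasDerivedCategory.standard

namespace Groth.Agent.LoccohB.GorDesc

open DerivedCategory Groth.Agent.LoccohB.DBase Groth.Agent.LoccohB.GorNak
  Groth.Agent.LoccohB.LBC

section Descend

variable {A C : Type u} [CommRing A] [CommRing C] (φ : A →+* C)

/-- `restrictD` of a module placed in a degree. -/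
noncomputable def restrictSg (i : ℤ) (M : ModuleCat.{u} C) :
    (DRing.restrictD φ).obj ((singleFunctor (ModuleCat.{u} C) i).obj M) ≅
      (singleFunctor (ModuleCat.{u} A) i).obj ((ModuleCat.restrictScalars.{u} φ).obj M) :=
  ((ModuleCat.restrictScalars.{u} φ).mapDerivedCategorySingleFunctor i).app M

lemma isSimpleModule_restrict (hφ : Function.Surjective φ) (M : ModuleCat.{u} C)
    [IsSimpleModule C M] : IsSimpleModule A ((ModuleCat.restrictScalars.{u} φ).obj M) := by
  rw [isSimpleModule_iff_toSpanSingleton_surjective]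
  refine ⟨IsSimpleModule.nontrivial C M, fun x hx y => ?_⟩
  have key : ∀ x y : M, x ≠ 0 → ∃ c : C, c • x = y := fun x y hx =>
    IsSimpleModule.toSpanSingleton_surjective C hx y
  obtain ⟨c, hc⟩ := key x y hx
  obtain ⟨a, rfl⟩ := hφ c
  exact ⟨a, hc⟩

/-- `Hom(C[-m], M[-i]) ≃ Hom(K, (restrict M)[-i])` if `K ⊗^L C ≅ C[-m]`. -/
noncomputable def homEquivOfIso [DRing.HasLBaseChange φ] (K : Dual.D A) (m : ℤ)
    (e : (DRing.LBaseChange φ).obj K ≅ sg C m C) (i : ℤ) (M : ModuleCat.{u} C) :
    (sg C m C ⟶ (singleFunctor (ModuleCat.{u} C) i).obj M) ≃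
      (K ⟶ (singleFunctor (ModuleCat.{u} A) i).obj ((ModuleCat.restrictScalars.{u} φ).obj M)) :=
  ((Iso.homCongr e.symm (Iso.refl _)).trans ((lbcAdj φ).homEquiv _ _)).trans
    (Iso.homCongr (Iso.refl _) (restrictSg φ i M))

lemma homEquivOfIso_apply [DRing.HasLBaseChange φ] (K : Dual.D A) (m : ℤ)
    (e : (DRing.LBaseChange φ).obj K ≅ sg C m C) (i : ℤ) (M : ModuleCat.{u} C)
    (f : sg C m C ⟶ (singleFunctor (ModuleCat.{u} C) i).obj M) :
    homEquivOfIso φ K m e i M f =
      (lbcAdj φ).unit.app K ≫ (DRing.restrictD φ).map (e.hom ≫ f) ≫ (restrictSg φ i M).hom := by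
  simp [homEquivOfIso, Iso.homCongr, Adjunction.homEquiv_unit]

lemma homEquivOfIso_smul [DRing.HasLBaseChange φ] (K : Dual.D A) (m : ℤ)
    (e : (DRing.LBaseChange φ).obj K ≅ sg C m C) (i : ℤ) (M : ModuleCat.{u} C) (a : A)
    (f : sg C m C ⟶ (singleFunctor (ModuleCat.{u} C) i).obj M) :
    homEquivOfIso φ K m e i M (φ a • f) = a • homEquivOfIso φ K m e i M f := by
  rw [homEquivOfIso_apply, homEquivOfIso_apply, Linear.comp_smul, restrictD_map_smul,
    Linear.smul_comp, Linear.comp_smul]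

lemma homEquivOfIso_zero [DRing.HasLBaseChange φ] (K : Dual.D A) (m : ℤ)
    (e : (DRing.LBaseChange φ).obj K ≅ sg C m C) (i : ℤ) (M : ModuleCat.{u} C) :
    homEquivOfIso φ K m e i M 0 = 0 := by
  rw [homEquivOfIso_apply, comp_zero, Functor.map_zero, zero_comp, comp_zero]

theorem descend [IsLocalRing A] [IsNoetherianRing A] [IsLocalRing C]
    (hφ : Function.Surjective φ) [DRing.HasLBaseChange φ] (K : Dual.D A) (b m : ℤ) [K.IsLE b]
    (hf : ∀ i, Module.Finite A (Dual.HD A K i))
    (e : (DRing.LBaseChange φ).obj K ≅ sg C m C) : Nonempty (K ≅ sg A m A) := by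
  let κ : Type u := C ⧸ IsLocalRing.maximalIdeal C
  have hκ : IsSimpleModule C (ModuleCat.of C κ) :=
    isSimpleModule_iff_quot_maximal.2 ⟨_, inferInstance, ⟨LinearEquiv.refl C _⟩⟩
  have hκ' := isSimpleModule_restrict φ hφ (ModuleCat.of C κ)
  obtain ⟨g₀, hg₀⟩ : ∃ g₀ : sg C m C ⟶ sg C m κ, g₀ ≠ 0 := by
    have h1 : IsSimpleModule C (sg C m C ⟶ sg C m κ) := IsSimpleModule.congr (homSgEquiv m κ)
    have := IsSimpleModule.nontrivial C (sg C m C ⟶ sg C m κ)
    exact exists_ne 0
  refine nonempty_iso_sg ((ModuleCat.restrictScalars.{u} φ).obj (ModuleCat.of C κ)) K b m hf ?_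
    (homEquivOfIso φ K m e m (ModuleCat.of C κ) g₀) ?_ ?_
  · intro i hi
    have h1 := subsingleton_hom_sg (A := C) m i hi κ
    exact (homEquivOfIso φ K m e i (ModuleCat.of C κ)).subsingleton_congr.1 h1
  · intro h
    rw [← homEquivOfIso_zero φ K m e] at h
    exact hg₀ ((homEquivOfIso φ K m e m (ModuleCat.of C κ)).injective h)
  · intro g'
    obtain ⟨g₁, rfl⟩ := (homEquivOfIso φ K m e m (ModuleCat.of C κ)).surjective g'
    have h1 : IsSimpleModule C (sg C m C ⟶ sg C m κ) := IsSimpleModule.congr (homSgEquiv m κ)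
    obtain ⟨c, hc⟩ := IsSimpleModule.toSpanSingleton_surjective C hg₀ g₁
    obtain ⟨a, rfl⟩ := hφ c
    refine ⟨a, ?_⟩
    rw [← homEquivOfIso_smul]
    exact congrArg _ hc.symm

end Descend

section Gorenstein

variable {A : Type u} [CommRing A]

theorem exists_hasInjectiveDimensionLT_of_isDualizing
    (h : Dual.IsDualizing A (Dual.inD A A)) :
    ∃ n : ℕ, HasInjectiveDimensionLT (ModuleCat.of A A) n := by
  obtain ⟨a, b, hab⟩ := h.finite_injective_dimension
  refine ⟨(b + 1).toNat, HasInjectiveDimensionLT.mk fun i hi Y x => ?_⟩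
  have h1 := hab Y (i : ℤ) (Or.inr (by have := Int.self_le_toNat (b + 1); lia))
  have h2 : Subsingleton (Abelian.Ext (ModuleCat.of A Y) (ModuleCat.of A A) i) :=
    (Localalg.DGor.subsingleton_hom_iff A Y A i).1 h1
  exact h2.elim _ _

/-- If `A[-m]` is a dualizing complex over the local ring `A` then `A` is Gorenstein. -/
theorem isGorensteinLocalRing_of_isDualizing [IsLocalRing A] (m : ℤ)
    (h : Dual.IsDualizing A (sg A m A)) : LocCoh.IsGorensteinLocalRing A := by
  have hN : IsNoetherianRing A := h.isNoetherianRing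
  have h1 : Dual.IsDualizing A (Dual.inD A A) :=
    DualShift.isDualizing_of_iso (((singleFunctors (ModuleCat.{u} A)).shiftIso m 0 m
      (by simp)).app _) (DualShift.isDualizing_shift _ h m)
  exact { exists_hasInjectiveDimensionLT := exists_hasInjectiveDimensionLT_of_isDualizing h1 }

end Gorenstein

section Fibre

variable {R B : Type u} [CommRing R] [CommRing B] [Algebra R B]

theorem localRingHom_fiber_surjective (p : Ideal R) [p.IsPrime] (Q : Ideal (p.Fiber B)) [Q.IsPrime]
    (q : Ideal B) [q.IsPrime]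
    (hq : q = Q.comap ((Algebra.TensorProduct.includeRight : B →ₐ[R] p.Fiber B) : B →+* p.Fiber B)) :
    Function.Surjective (Localization.localRingHom q Q
      ((Algebra.TensorProduct.includeRight : B →ₐ[R] p.Fiber B) : B →+* p.Fiber B) hq) := by
  set ι : B →+* p.Fiber B :=
    ((Algebra.TensorProduct.includeRight : B →ₐ[R] p.Fiber B) : B →+* p.Fiber B) with hι
  have hr : ∀ r : R, r ∉ p → algebraMap R (p.Fiber B) r ∉ Q := by
    intro r hr hrQ
    apply hr
    rw [Ideal.over_def Q p]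
    exact hrQ
  intro y
  obtain ⟨c, s, rfl⟩ := IsLocalization.exists_mk'_eq Q.primeCompl y
  obtain ⟨r₁, hr₁, a₁, h₁⟩ := Ideal.Fiber.exists_smul_eq_one_tmul (S := B) (p := p) c
  obtain ⟨r₂, hr₂, a₂, h₂⟩ := Ideal.Fiber.exists_smul_eq_one_tmul (S := B) (p := p) (s : p.Fiber B)
  have h₁' : ι a₁ = algebraMap R (p.Fiber B) r₁ * c := by
    rw [← Algebra.smul_def, h₁]; rfl
  have h₂' : ι a₂ = algebraMap R (p.Fiber B) r₂ * s := by
    rw [← Algebra.smul_def, h₂]; rfl
  have hιr : ∀ r : R, ι (algebraMap R B r) = algebraMap R (p.Fiber B) r := fun r =>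
    (Algebra.TensorProduct.includeRight : B →ₐ[R] p.Fiber B).commutes r
  have hden : algebraMap R B r₁ * a₂ ∉ q := by
    rw [hq, Ideal.mem_comap, map_mul, hιr, h₂']
    intro hmem
    rcases (inferInstance : Q.IsPrime).mem_or_mem hmem with h | h
    · exact hr r₁ hr₁ h
    · rcases (inferInstance : Q.IsPrime).mem_or_mem h with h | h
      · exact hr r₂ hr₂ h
      · exact s.2 h
  let d : q.primeCompl := ⟨algebraMap R B r₁ * a₂, hden⟩
  refine ⟨IsLocalization.mk' _ (algebraMap R B r₂ * a₁) d, ?_⟩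
  rw [Localization.localRingHom_mk']
  apply IsLocalization.mk'_eq_of_eq
  change ι (algebraMap R B r₁ * a₂) * c = (s : p.Fiber B) * ι (algebraMap R B r₂ * a₁)
  rw [map_mul, map_mul, hιr, hιr, h₁', h₂']
  ring

end Fibre

end Groth.Agent.LoccohB.GorDesc
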