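import Groth.Agent.LoccohB.HomBC2
import Groth.Agent.LoccohB.DCalc
import Mathlib.RingTheory.SimpleModule.Basic
import Mathlib.RingTheory.LocalRing.MaximalIdeal.Basic

/-!
# Nakayama's lemma in `D(A)` for a Noetherian local ring `A`

`κ` is a simple `A`-module, `sg A i M = M[-i]`.
* `isZero_of_hom`: `Z` bounded above with finite cohomology and `Hom(Z, κ[i]) = 0` for all `i` is zero.
* `nonempty_iso_sg`: `K` bounded above with finite cohomology, `Hom(K, κ[-i]) = 0` for `i ≠ m` and
  `Hom(K, κ[-m])` generated by a nonzero element `g`: then `K ≅ A[-m]`.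
-/

set_option autoImplicit false
universe w v u

open CategoryTheory CategoryTheory.Limits Pretriangulated

attribute [local instance] HasDerivedCategory.standard

namespace Groth.Agent.LoccohB.GorNak

open DerivedCategory Groth.Agent.LoccohB.DBase Groth.Agent.LoccohB.Devissage
  Groth.Agent.LoccohB.HomBC

section General

variable {A : Type u} [CommRing A]

lemma smul_id_sg (n : ℤ) (M : Type u) [AddCommGroup M] [Module A M] (a : A)
    (h : ∀ y : M, a • y = 0) : a • 𝟙 (sg A n M) = 0 := by
  have h1 : a • 𝟙 (ModuleCat.of A M) = 0 := by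
    ext y
    exact h y
  rw [← CategoryTheory.Functor.map_id, ← Functor.map_smul, h1, Functor.map_zero]

/-- `H^n(M[-n]) ≃ M`. -/
noncomputable def hdSg (n : ℤ) (M : Type u) [AddCommGroup M] [Module A M] :
    Dual.HD A (sg A n M) n ≃ₗ[A] M :=
  ((singleFunctorCompHomologyFunctorIso (ModuleCat.{u} A) n).app (ModuleCat.of A M)).toLinearEquiv

/-- `Hom(A[-n], M[-n]) ≃ M`. -/
noncomputable def homSgEquiv (n : ℤ) (M : Type u) [AddCommGroup M] [Module A M] :
    (sg A n A ⟶ sg A n M) ≃ₗ[A] M :=
  homEquivHD n (sg A n M) ≪≫ₗ hdSg n M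

lemma subsingleton_hom_sg (n i : ℤ) (hi : i ≠ n) (M : Type u) [AddCommGroup M] [Module A M] :
    Subsingleton (sg A n A ⟶ sg A i M) := by
  have h : IsZero ((homologyFunctor (ModuleCat.{u} A) n).obj (sg A i M)) := by
    rcases lt_or_gt_of_ne hi with h | h
    · exact (sg A i M).isZero_of_isLE i n h
    · exact (sg A i M).isZero_of_isGE i n h
  have h2 : Subsingleton (Dual.HD A (sg A i M) n) := ModuleCat.isZero_iff_subsingleton.1 h
  exact (homEquivHD n (sg A i M)).toEquiv.subsingleton_congr.2 h2

/-- The third vertex of a distinguished triangle has finite cohomology if the two first have. -/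
lemma finite_HD_third [IsNoetherianRing A] (T : Triangle (Dual.D A))
    (hT : T ∈ distTriang (Dual.D A))
    (h₁ : ∀ i, Module.Finite A (Dual.HD A T.obj₁ i)) (h₂ : ∀ i, Module.Finite A (Dual.HD A T.obj₂ i))
    (i : ℤ) : Module.Finite A (Dual.HD A T.obj₃ i) := by
  have e := HomologySequence.exact₃ T hT i (i + 1) rfl
  have h1 := h₁ (i + 1)
  have h2 := h₂ i
  have h3 : IsNoetherian A (Dual.HD A T.obj₃ i) := by
    refine isNoetherian_of_range_eq_ker ((homologyFunctor (ModuleCat.{u} A) i).map T.mor₂).hom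
      (HomologySequence.δ T i (i + 1) rfl).hom ?_
    exact e.moduleCat_range_eq_ker
  infer_instance

end General

section Local

variable {A : Type u} [CommRing A] [IsLocalRing A] [IsNoetherianRing A]
  (κ : Type u) [AddCommGroup κ] [Module A κ] [IsSimpleModule A κ]

omit [IsNoetherianRing A] in
lemma exists_linearMap_ne_zero (N : Type u) [AddCommGroup N] [Module A N] [Module.Finite A N]
    [Nontrivial N] : ∃ π : N →ₗ[A] κ, π ≠ 0 := by
  obtain ⟨N', hN'⟩ := IsCoatomic.exists_coatom (α := Submodule A N)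
  have h1 : IsSimpleModule A (N ⧸ N') := isSimpleModule_iff_isCoatom.2 hN'
  obtain ⟨I, hI, ⟨e⟩⟩ := isSimpleModule_iff_quot_maximal.1 h1
  obtain ⟨J, hJ, ⟨e'⟩⟩ := isSimpleModule_iff_quot_maximal.1 (inferInstance : IsSimpleModule A κ)
  obtain rfl := IsLocalRing.eq_maximalIdeal hI
  obtain rfl := IsLocalRing.eq_maximalIdeal hJ
  refine ⟨(e'.symm.toLinearMap ∘ₗ e.toLinearMap) ∘ₗ N'.mkQ, fun h => ?_⟩
  have h2 : Function.Surjective ((e'.symm.toLinearMap ∘ₗ e.toLinearMap) ∘ₗ N'.mkQ) := by
    rw [LinearMap.coe_comp]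
    exact (e'.symm.surjective.comp e.surjective).comp N'.mkQ_surjective
  have := IsSimpleModule.nontrivial A κ
  obtain ⟨y, hy⟩ := exists_ne (0 : κ)
  obtain ⟨x, hx⟩ := h2 y
  rw [h] at hx
  exact hy hx.symm

lemma subsingleton_HD_of_hom (Z : Dual.D A) (c : ℤ) [Z.IsLE c]
    (hf : Module.Finite A (Dual.HD A Z c)) (h : Subsingleton (Z ⟶ sg A c κ)) :
    Subsingleton (Dual.HD A Z c) := by
  by_contra hn
  rw [not_subsingleton_iff_nontrivial] at hn
  obtain ⟨π, hπ⟩ := exists_linearMap_ne_zero (A := A) κ (Dual.HD A Z c)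
  obtain ⟨g, hg⟩ := (DCalc.homEquiv c Z (sg A c κ)).surjective
    (ModuleCat.ofHom ((hdSg c κ).symm.toLinearMap ∘ₗ π))
  apply hπ
  have h1 : (DCalc.homEquiv c Z (sg A c κ)) g = 0 := by
    rw [Subsingleton.elim g 0, map_zero]
  rw [h1] at hg
  ext x
  have h2 := congrArg (fun f => f.hom x) hg
  have h3 : (hdSg c κ).symm (π x) = 0 := h2.symm
  simpa using h3

theorem isLE_of_hom (Z : Dual.D A) (b c : ℤ) [Z.IsLE b]
    (hf : ∀ i, Module.Finite A (Dual.HD A Z i))
    (h : ∀ i, c < i → Subsingleton (Z ⟶ sg A i κ)) : Z.IsLE c := by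
  have key : ∀ n : ℕ, ∀ b : ℤ, Z.IsLE b → b ≤ c + n → Z.IsLE c := by
    intro n
    induction n with
    | zero =>
      intro b hb hbc
      exact (TStructure.t : Triangulated.TStructure (Dual.D A)).isLE_of_le Z b c (by simpa using hbc)
    | succ n ih =>
      intro b hb hbc
      by_cases hb' : b ≤ c
      · exact (TStructure.t : Triangulated.TStructure (Dual.D A)).isLE_of_le Z b c hb'
      · have h0 := subsingleton_HD_of_hom κ Z b (hf b) (h b (by lia))
        refine ih (b - 1) ?_ (by push_cast at hbc; lia)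
        rw [isLE_iff]
        intro i hi
        by_cases hib : i = b
        · subst hib
          exact ModuleCat.isZero_iff_subsingleton.2 h0
        · exact Z.isZero_of_isLE b i (by lia)
  exact key (b - c).toNat b inferInstance (by have := Int.self_le_toNat (b - c); lia)

/-- **Nakayama's lemma** in the derived category of a Noetherian local ring. -/
theorem isZero_of_hom (Z : Dual.D A) (b : ℤ) [Z.IsLE b]
    (hf : ∀ i, Module.Finite A (Dual.HD A Z i)) (h : ∀ i, Subsingleton (Z ⟶ sg A i κ)) :
    IsZero Z := by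
  rw [DCalc.isZero_iff]
  intro i
  have h1 := isLE_of_hom κ Z b (i - 1) hf (fun j _ => h j)
  exact Z.isZero_of_isLE (i - 1) i (by lia)

theorem nonempty_iso_sg (K : Dual.D A) (b m : ℤ) [K.IsLE b]
    (hf : ∀ i, Module.Finite A (Dual.HD A K i))
    (h1 : ∀ i, i ≠ m → Subsingleton (K ⟶ sg A i κ)) (g : K ⟶ sg A m κ) (hg : g ≠ 0)
    (h2 : ∀ g' : K ⟶ sg A m κ, ∃ a : A, g' = a • g) : Nonempty (K ≅ sg A m A) := by
  have hLE : K.IsLE m := isLE_of_hom κ K b m hf (fun i hi => h1 i hi.ne')
  obtain ⟨x, hx⟩ : ∃ x : sg A m A ⟶ K, x ≫ g ≠ 0 := by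
    by_contra hcon
    push Not at hcon
    apply hg
    apply (DCalc.homEquiv m K (sg A m κ)).injective
    rw [map_zero, DCalc.homEquiv_apply]
    ext y
    obtain ⟨x, rfl⟩ := (homEquivHD m K).surjective y
    have h3 := homEquivHD_comp m x g
    rw [hcon x, map_zero] at h3
    exact h3.symm
  obtain ⟨Z, g', h', hT⟩ := distinguished_cocone_triangle x
  have hz12 : x ≫ g' = 0 := comp_distTriang_mor_zero₁₂ _ hT
  have hz31 : h' ≫ x⟦(1 : ℤ)⟧' = 0 := comp_distTriang_mor_zero₃₁ _ hT
  have hZ : IsZero Z := by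
    have hZLE : Z.IsLE m := by
      have h3 : (TStructure.t : Triangulated.TStructure (Dual.D A)).IsLE ((sg A m A)⟦(1 : ℤ)⟧)
          (m - 1) :=
        TStructure.t.isLE_shift _ m 1 (m - 1) (by lia)
      have h4 : (TStructure.t : Triangulated.TStructure (Dual.D A)).IsLE ((sg A m A)⟦(1 : ℤ)⟧) m :=
        TStructure.t.isLE_of_le _ (m - 1) m (by lia)
      exact TStructure.t.isLE₂ _ (rot_of_distTriang _ hT) m hLE h4
    refine isZero_of_hom κ Z m ?_ ?_
    · refine finite_HD_third _ hT ?_ hf
      intro i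
      change Module.Finite A (Dual.HD A (sg A m A) i)
      by_cases hi : i = m
      · subst hi
        exact Module.Finite.equiv (hdSg i A).symm
      · have h3 := subsingleton_hom_sg (A := A) i m (Ne.symm hi) A
        have h4 : Subsingleton (Dual.HD A (sg A m A) i) :=
          (homEquivHD i (sg A m A)).symm.toEquiv.subsingleton_congr.2 h3
        infer_instance
    · intro i
      refine subsingleton_of_forall_eq 0 fun h => ?_
      have a1 : g' ≫ h = 0 := by
        by_cases hi : i = m
        · subst hi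
          obtain ⟨a, ha⟩ := h2 (g' ≫ h)
          rw [ha]
          have h3 : a • (x ≫ g) = 0 := by
            rw [← Linear.comp_smul, ← ha]
            rw [← Category.assoc, hz12, zero_comp]
          have h4 : a ∈ IsLocalRing.maximalIdeal A := by
            rw [IsLocalRing.mem_maximalIdeal, mem_nonunits_iff]
            intro hu
            exact hx ((hu.smul_eq_zero).1 h3)
          have h5 : ∀ y : κ, a • y = 0 := by
            obtain ⟨J, hJ, ⟨e'⟩⟩ :=
              isSimpleModule_iff_quot_maximal.1 (inferInstance : IsSimpleModule A κ)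
            obtain rfl := IsLocalRing.eq_maximalIdeal hJ
            intro y
            apply e'.injective
            rw [map_smul, map_zero]
            obtain ⟨z, hz⟩ := Ideal.Quotient.mk_surjective (e' y)
            rw [← hz, Algebra.smul_def, Ideal.Quotient.algebraMap_eq, ← map_mul,
              Ideal.Quotient.eq_zero_iff_mem]
            exact Ideal.mul_mem_right _ _ h4
          rw [← Category.comp_id g, ← Linear.comp_smul, smul_id_sg i κ a h5, comp_zero]
        · have := h1 i hi
          exact Subsingleton.elim _ _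
      obtain ⟨u, rfl⟩ : ∃ u : (sg A m A)⟦(1 : ℤ)⟧ ⟶ sg A i κ, h = h' ≫ u :=
        Triangle.yoneda_exact₃ _ hT h a1
      by_cases hi : i = m - 1
      · subst hi
        let e : sg A (m - 1) κ ≅ (sg A m κ)⟦(1 : ℤ)⟧ :=
          (((singleFunctors (ModuleCat.{u} A)).shiftIso 1 (m - 1) m (by lia)).app _).symm
        obtain ⟨v, hv⟩ := (CategoryTheory.shiftFunctor (Dual.D A) (1 : ℤ)).map_surjective (u ≫ e.hom)
        obtain ⟨a, ha⟩ : ∃ a : A, v = a • (x ≫ g) := by
          have h3 : IsSimpleModule A (sg A m A ⟶ sg A m κ) :=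
            IsSimpleModule.congr (homSgEquiv m κ)
          obtain ⟨a, ha⟩ := IsSimpleModule.toSpanSingleton_surjective A hx v
          exact ⟨a, ha.symm⟩
        rw [← cancel_mono e.hom, Category.assoc, ← hv, ha, ← Linear.comp_smul, Functor.map_comp,
          zero_comp, ← Category.assoc, hz31, zero_comp]
      · have h3 := subsingleton_hom_sg (A := A) (m - 1) i hi κ
        let e : sg A (m - 1) A ≅ (sg A m A)⟦(1 : ℤ)⟧ :=
          (((singleFunctors (ModuleCat.{u} A)).shiftIso 1 (m - 1) m (by lia)).app _).symm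
        have h4 : u = 0 := by
          rw [← cancel_epi e.hom, comp_zero]
          exact Subsingleton.elim _ _
        rw [h4, comp_zero]
  have : IsIso x := (Triangle.isZero₃_iff_isIso₁ _ hT).1 hZ
  exact ⟨(asIso x).symm⟩

end Local

end Groth.Agent.LoccohB.GorNak
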