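import Groth.Agent.LoccohB.BidualD
import Groth.Agent.LoccohB.GorNak
import Groth.Agent.LoccohA.DzKappa
import Mathlib.CategoryTheory.Localization.Opposite

/-!
# The duality functor `Hom•(-, I)` on `D(A)`

`I` a K-injective complex.
* `DI I : (D A)ᵒᵖ ⥤ D A`, `dmap I f : Q (Hom•(Y, I)) ⟶ Q (Hom•(X, I))` for `f : Q X ⟶ Q Y`.
* `transp : (Q X ⟶ Q (Hom•(Y, I))) ≃ (Q Y ⟶ Q (Hom•(X, I)))`, compatible with scalars.
* `nonempty_iso_of_isDualizing_self`: over a Noetherian local ring `A` such that `A[0]` is dualizing,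
  every dualizing complex is `A[-m]` for some `m`.
-/

set_option autoImplicit false
universe v u

open CategoryTheory CategoryTheory.Limits CochainComplex CochainComplex.HomComplex Opposite

attribute [local instance] HasDerivedCategory.standard

namespace Groth.Agent.LoccohB.GorDual

open DerivedCategory Groth.Agent.LoccohB.HomCx Groth.Agent.LoccohB.DBase
  Groth.Agent.LoccohB.GorNak Groth.Agent.LoccohB.BidualD Groth.Agent.LoccohB.HomCxHD

variable {A : Type u} [CommRing A]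

/-- The triangle identity for the evaluation maps. -/
lemma ev_triangle (K I : DRing.Cx A) :
    ev (DRing.homCx K I) I ≫ homCxPre (ev K I) I = 𝟙 _ := by
  ext q φ
  change (Cochain.ofHom (ev K I)).comp (evCochain (DRing.homCx K I) I q φ) (zero_add q) = φ
  refine Cochain.ext _ _ fun p r hpr => ?_
  rw [Cochain.zero_cochain_comp_v, Cochain.ofHom_v]
  refine ModuleCat.hom_ext (LinearMap.ext fun x => ?_)
  change (q * p).negOnePow • ((asCochain ((ev K I).f p x)).v q r (by lia)) φ = _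
  change (q * p).negOnePow • ((p * q).negOnePow • ((asCochain φ).v p r (by lia)) x) = _
  rw [smul_smul, mul_comm q p, ← Int.negOnePow_add, Int.negOnePow_even _ ⟨p * q, rfl⟩, one_smul]

lemma homCxPre_smul (I : DRing.Cx A) {K K' : DRing.Cx A} (a : A) (f : K ⟶ K') :
    homCxPre (a • f) I = a • homCxPre f I := by
  refine HomologicalComplex.hom_ext _ _ fun i => ModuleCat.hom_ext (LinearMap.ext
    fun (z : Cochain K' I i) => ?_)
  change (Cochain.ofHom (a • f)).comp z (zero_add i) =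
    a • ((Cochain.ofHom f).comp z (zero_add i))
  rw [← Cochain.smul_comp]
  congr 1
  ext p
  simp

section Functor

variable (I : DRing.Cx A) [I.IsKInjective]

lemma inverts : (HomologicalComplex.quasiIso (ModuleCat.{u} A) (ComplexShape.up ℤ)).op.IsInvertedBy
    (homCxOp I ⋙ Q) := by
  intro X Y f hf
  have h1 : QuasiIso f.unop := hf
  have h2 : QuasiIso (homCxPre f.unop I) := quasiIso_homCxPre f.unop I
  exact (isIso_Q_map_iff _).2 h2

/-- The duality functor on the derived category. -/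
noncomputable def DI : (Dual.D A)ᵒᵖ ⥤ Dual.D A :=
  Localization.lift (homCxOp I ⋙ Q) (inverts I) Q.op

/-- The value of the duality functor on complexes. -/
noncomputable def fac : Q.op ⋙ DI I ≅ homCxOp I ⋙ Q :=
  Localization.fac (homCxOp I ⋙ Q) (inverts I) Q.op

/-- The value of the duality functor on a complex. -/
noncomputable def facIso (X : DRing.Cx A) :
    (DI I).obj (op (Q.obj X)) ≅ Q.obj (DRing.homCx X I) :=
  (fac I).app (op X)

lemma facIso_naturality {X Y : DRing.Cx A} (u : X ⟶ Y) :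
    (DI I).map (Q.map u).op ≫ (facIso I X).hom = (facIso I Y).hom ≫ Q.map (homCxPre u I) :=
  (fac I).hom.naturality u.op

/-- The action of duality on morphisms between complexes in the derived category. -/
noncomputable def dmap {X Y : DRing.Cx A} (f : Q.obj X ⟶ Q.obj Y) :
    Q.obj (DRing.homCx Y I) ⟶ Q.obj (DRing.homCx X I) :=
  (facIso I Y).inv ≫ (DI I).map f.op ≫ (facIso I X).hom

@[simp]
lemma dmap_id (X : DRing.Cx A) : dmap I (𝟙 (Q.obj X)) = 𝟙 _ := by
  unfold dmap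
  rw [op_id, CategoryTheory.Functor.map_id, Category.id_comp, Iso.inv_hom_id]

@[reassoc]
lemma dmap_comp {X Y Z : DRing.Cx A} (f : Q.obj X ⟶ Q.obj Y) (g : Q.obj Y ⟶ Q.obj Z) :
    dmap I (f ≫ g) = dmap I g ≫ dmap I f := by
  unfold dmap
  rw [op_comp, Functor.map_comp, Category.assoc, Category.assoc, Category.assoc,
    Iso.hom_inv_id_assoc]

@[simp]
lemma dmap_Q {X Y : DRing.Cx A} (u : X ⟶ Y) : dmap I (Q.map u) = Q.map (homCxPre u I) := by
  unfold dmap
  rw [facIso_naturality, Iso.inv_hom_id_assoc]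

lemma dmap_smul {X Y : DRing.Cx A} (a : A) (f : Q.obj X ⟶ Q.obj Y) :
    dmap I (a • f) = a • dmap I f := by
  have h1 : a • f = Q.map (a • 𝟙 X) ≫ f := by
    rw [Functor.map_smul, CategoryTheory.Functor.map_id, Linear.smul_comp, Category.id_comp]
  rw [h1, dmap_comp, dmap_Q, homCxPre_smul, homCxPre_id, Functor.map_smul,
    CategoryTheory.Functor.map_id, Linear.comp_smul, Category.comp_id]

lemma dmap_add {X Y : DRing.Cx A} (f g : Q.obj X ⟶ Q.obj Y) :
    dmap I (f + g) = dmap I f + dmap I g := by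
  obtain ⟨J, t, hJ, ht⟩ := RHomVal.enoughKInjectives_moduleCat A Y
  obtain ⟨f', hf'⟩ := exists_Q_map_eq (f ≫ Q.map t)
  obtain ⟨g', hg'⟩ := exists_Q_map_eq (g ≫ Q.map t)
  have h1 : IsIso (dmap I (Q.map t)) := by
    rw [dmap_Q]
    have := quasiIso_homCxPre t I
    exact (isIso_Q_map_iff _).2 inferInstance
  rw [← cancel_epi (dmap I (Q.map t)), Preadditive.comp_add, ← dmap_comp, ← dmap_comp,
    ← dmap_comp, Preadditive.add_comp, ← hf', ← hg', ← Functor.map_add, dmap_Q, dmap_Q, dmap_Q,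
    homCxPre_add, Functor.map_add]

/-- Naturality of the evaluation maps in the derived category. -/
@[reassoc]
lemma ev_dmap_dmap {X Y : DRing.Cx A} (f : Q.obj X ⟶ Q.obj Y) :
    Q.map (ev X I) ≫ dmap I (dmap I f) = f ≫ Q.map (ev Y I) := by
  have key : ∀ {X Y : DRing.Cx A} (u : X ⟶ Y),
      Q.map (ev X I) ≫ dmap I (dmap I (Q.map u)) = Q.map u ≫ Q.map (ev Y I) := by
    intro X Y u
    rw [dmap_Q, dmap_Q, ← Functor.map_comp, ev_naturality, Functor.map_comp]
  obtain ⟨X', s, hs, g, rfl⟩ := right_fac f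
  have h1 : Q.map (ev X I) ≫ dmap I (dmap I (inv (Q.map s))) =
      inv (Q.map s) ≫ Q.map (ev X' I) := by
    rw [← cancel_epi (Q.map s), IsIso.hom_inv_id_assoc, ← Category.assoc, ← key s,
      Category.assoc, ← dmap_comp, ← dmap_comp, IsIso.hom_inv_id, dmap_id, dmap_id,
      Category.comp_id]
  rw [dmap_comp, dmap_comp, ← Category.assoc, h1, Category.assoc, key, Category.assoc]

/-- The symmetry `Hom(X, RHom(Y, I)) = Hom(Y, RHom(X, I))`. -/
noncomputable def transp (X Y : DRing.Cx A) :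
    (Q.obj X ⟶ Q.obj (DRing.homCx Y I)) ≃ₗ[A] (Q.obj Y ⟶ Q.obj (DRing.homCx X I)) where
  toFun f := Q.map (ev Y I) ≫ dmap I f
  invFun f := Q.map (ev X I) ≫ dmap I f
  map_add' f g := by
    rw [dmap_add, Preadditive.comp_add]
  map_smul' a f := by
    rw [dmap_smul, Linear.comp_smul, RingHom.id_apply]
  left_inv f := by
    dsimp only
    rw [dmap_comp, ev_dmap_dmap_assoc, dmap_Q, ← Functor.map_comp, ev_triangle,
      CategoryTheory.Functor.map_id, Category.comp_id]
  right_inv f := by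
    dsimp only
    rw [dmap_comp, ev_dmap_dmap_assoc, dmap_Q, ← Functor.map_comp, ev_triangle,
      CategoryTheory.Functor.map_id, Category.comp_id]

lemma transp_apply (X Y : DRing.Cx A) (f : Q.obj X ⟶ Q.obj (DRing.homCx Y I)) :
    transp I X Y f = Q.map (ev Y I) ≫ dmap I f := rfl

/-- If the evaluation map of `Y` is a quasi-isomorphism, duality is bijective on `Hom(X, Y)`. -/
lemma dmap_bijective (X Y : DRing.Cx A) [QuasiIso (ev Y I)] :
    Function.Bijective (dmap I (X := X) (Y := Y)) := by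
  have h1 : IsIso (Q.map (ev Y I)) := (isIso_Q_map_iff _).2 inferInstance
  have h2 : Function.Bijective (fun f : Q.obj X ⟶ Q.obj Y => f ≫ Q.map (ev Y I)) :=
    ⟨fun f g h => (cancel_mono _).1 h, fun g => ⟨g ≫ inv (Q.map (ev Y I)), by simp⟩⟩
  have h3 : (transp I X (DRing.homCx Y I)) ∘ (fun f : Q.obj X ⟶ Q.obj Y => f ≫ Q.map (ev Y I)) =
      dmap I (X := X) (Y := Y) := by
    ext f
    rw [Function.comp_apply, transp_apply, dmap_comp, dmap_Q, ← Category.assoc,
      ← Functor.map_comp, ev_triangle, CategoryTheory.Functor.map_id, Category.id_comp]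
  rw [← h3]
  exact (transp I X (DRing.homCx Y I)).bijective.comp h2

end Functor

section Single

variable (κ : Type u) [AddCommGroup κ] [Module A κ]

/-- `M[-j]` as a complex. -/
noncomputable abbrev sgCx (A : Type u) [CommRing A] (j : ℤ) (M : Type u) [AddCommGroup M]
    [Module A M] : DRing.Cx A :=
  (CochainComplex.singleFunctor (ModuleCat.{u} A) j).obj (ModuleCat.of A M)

/-- `Q` of the single complex. -/
noncomputable def qSg (j : ℤ) : Q.obj (sgCx A j κ) ≅ sg A j κ :=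
  ((singleFunctorIsoCompQ (ModuleCat.{u} A) j).app _).symm

/-- `Hom(M[-j], K[i]) ≃ Hom(M, K[i+j])`. -/
noncomputable def sgShiftEquiv (K : Dual.D A) (i j k : ℤ) (h : i + j = k) :
    (sg A j κ ⟶ K⟦i⟧) ≃ₗ[A] (Dual.inD A κ ⟶ K⟦k⟧) :=
  HomBC.sgEquiv j (ModuleCat.of A κ) (K⟦i⟧) ≪≫ₗ
    Linear.homCongr A (Iso.refl _) ((CategoryTheory.shiftFunctorAdd' (Dual.D A) i j k h).symm.app K)

/-- `H^i(Hom•(M[-j], I)) ≃ Hom(M, Q I[i+j])`. -/
noncomputable def homologySgEquiv (I : DRing.Cx A) [I.IsKInjective] (i j k : ℤ) (h : i + j = k) :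
    Dual.HD A (DRing.toD (DRing.homCx (sgCx A j κ) I)) i ≃ₗ[A]
      (Dual.inD A κ ⟶ (DRing.toD I)⟦k⟧) :=
  hdEquiv _ i ≪≫ₗ homologyEquiv _ _ i (computes_of_isKInjective _ _) ≪≫ₗ
    Linear.homCongr A (qSg κ j) (Iso.refl _) ≪≫ₗ sgShiftEquiv κ (DRing.toD I) i j k h

end Single

section Local

variable [IsLocalRing A] [IsNoetherianRing A]

theorem nonempty_iso_of_isDualizing_self (hA : Dual.IsDualizing A (Dual.inD A A))
    (ω : Dual.D A) (hω : Dual.IsDualizing A ω) : ∃ m : ℤ, Nonempty (ω ≅ sg A m A) := by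
  let κ : Type u := A ⧸ IsLocalRing.maximalIdeal A
  have hκ : IsSimpleModule A κ :=
    isSimpleModule_iff_quot_maximal.2 ⟨_, inferInstance, ⟨LinearEquiv.refl A _⟩⟩
  obtain ⟨n, hn0, ⟨en⟩⟩ := LoccohA.DzKappa.ext_residueField hω (IsLocalRing.maximalIdeal A)
  obtain ⟨n', hn'0, ⟨en'⟩⟩ := LoccohA.DzKappa.ext_residueField hA (IsLocalRing.maximalIdeal A)
  obtain ⟨I, a, b, hI, ⟨eI⟩⟩ := exists_model ω hω
  have hK := hI.isKInjective
  -- the dual of `κ[-j]` is `κ[-(n - j)]`
  have hDY : ∀ j : ℤ, Nonempty (Q.obj (DRing.homCx (sgCx A j κ) I) ≅ sg A (n - j) κ) := by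
    intro j
    have e1 : ∀ i k : ℤ, i + j = k →
        Nonempty (Dual.HD A (Q.obj (DRing.homCx (sgCx A j κ) I)) i ≃ₗ[A]
          (Dual.inD A κ ⟶ ω⟦k⟧)) := fun i k h =>
      ⟨homologySgEquiv κ I i j k h ≪≫ₗ
        Linear.homCongr A (Iso.refl _) ((CategoryTheory.shiftFunctor (Dual.D A) k).mapIso eI)⟩
    have e2 : ∀ i : ℤ, i ≠ n - j →
        IsZero ((homologyFunctor (ModuleCat.{u} A) i).obj (Q.obj (DRing.homCx (sgCx A j κ) I))) := by
      intro i hi
      obtain ⟨e⟩ := e1 i (i + j) rfl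
      have := hn0 (i + j) (by lia)
      exact ModuleCat.isZero_iff_subsingleton.2 (e.toEquiv.subsingleton_congr.2 this)
    have hGE : (Q.obj (DRing.homCx (sgCx A j κ) I)).IsGE (n - j) := by
      rw [DerivedCategory.isGE_iff]
      exact fun i hi => e2 i hi.ne
    have hLE : (Q.obj (DRing.homCx (sgCx A j κ) I)).IsLE (n - j) := by
      rw [DerivedCategory.isLE_iff]
      exact fun i hi => e2 i hi.ne'
    obtain ⟨e⟩ := Devissage.nonempty_iso_single (Q.obj (DRing.homCx (sgCx A j κ) I)) (n - j)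
    obtain ⟨e'⟩ := e1 (n - j) n (by lia)
    exact ⟨e ≪≫ (DerivedCategory.singleFunctor (ModuleCat.{u} A) (n - j)).mapIso (e' ≪≫ₗ en).toModuleIso⟩
  -- the dual of `A` is `ω`
  let S : DRing.Cx A := DRing.homCx (S0 A) I
  let eS : Q.obj S ≅ ω := Q.mapIso (asIso (theta I)) ≪≫ eI
  have hev : QuasiIso (ev (S0 A) I) := quasiIso_ev_s0 I hI.toEnd_bijective hI.ext_self
  have hev' : IsIso (Q.map (ev (S0 A) I)) := (isIso_Q_map_iff _).2 hev
  have key : ∀ i : ℤ, Nonempty ((ω ⟶ sg A i κ) ≃ₗ[A] (Dual.inD A κ ⟶ (Dual.inD A A)⟦(n - i)⟧)) := by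
    intro i
    obtain ⟨e⟩ := hDY (n - i)
    let e1 : Q.obj (DRing.homCx (sgCx A (n - i) κ) I) ≅ sg A i κ :=
      e ≪≫ eqToIso (by rw [show n - (n - i) = i by lia])
    let e2 : Q.obj (DRing.homCx S I) ≅ Dual.inD A A :=
      (asIso (Q.map (ev (S0 A) I))).symm ≪≫ qSg A 0
    exact ⟨Linear.homCongr A eS.symm e1.symm ≪≫ₗ transp I S (sgCx A (n - i) κ) ≪≫ₗ
      Linear.homCongr A (qSg κ (n - i)) (e2 ≪≫ ((CategoryTheory.shiftFunctorZero (Dual.D A) ℤ).symm.app _)) ≪≫ₗ
      sgShiftEquiv κ (Dual.inD A A) 0 (n - i) (n - i) (by lia)⟩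
  obtain ⟨a', b', _, hLE, _⟩ := HomBC.exists_bounds_of_isDualizing hω
  obtain ⟨e⟩ := key (n - n')
  let e3 : (ω ⟶ sg A (n - n') κ) ≃ₗ[A] κ :=
    e ≪≫ₗ Linear.homCongr A (Iso.refl _)
      (eqToIso (by rw [show n - (n - n') = n' by lia])) ≪≫ₗ en'
  refine ⟨n - n', nonempty_iso_sg κ ω b' (n - n') hω.finite_cohomology ?_
    (e3.symm (Ideal.Quotient.mk _ 1)) ?_ ?_⟩
  · intro i hi
    obtain ⟨e⟩ := key i
    have := hn'0 (n - i) (by lia)
    exact e.toEquiv.subsingleton_congr.2 this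
  · intro h
    rw [LinearEquiv.map_eq_zero_iff, map_one] at h
    exact one_ne_zero h
  · intro g'
    obtain ⟨r, hr⟩ := Ideal.Quotient.mk_surjective (e3 g')
    refine ⟨r, ?_⟩
    apply e3.injective
    rw [map_smul, LinearEquiv.apply_symm_apply, ← hr, Algebra.smul_def, map_one, mul_one]
    rfl

end Local

end Groth.Agent.LoccohB.GorDual
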