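import Groth.Agent.LoccohB.GorKoszulFlat
import Mathlib.RingTheory.Flat.Equalizer
import Mathlib.RingTheory.Flat.Stability
import Mathlib.Algebra.Category.ModuleCat.Projective
import Mathlib.Algebra.Homology.ShortComplex.ModuleCat
import Mathlib.LinearAlgebra.TensorProduct.RightExactness
import Mathlib.LinearAlgebra.TensorProduct.Tower

/-!
# Koszul-regular sequences with flat quotient stay Koszul-regular after arbitrary base change
-/

set_option autoImplicit false

universe u

open CategoryTheory CategoryTheory.Limits TensorProduct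

namespace Groth.Agent.LoccohB.GorFibre

open GorKoszul GorKoszulFlat Groth.Agent.Flat2H.KoszulGen CochainComplex

section Linear

variable {A : Type u} [CommRing A]

/-- A submodule of a flat module with flat quotient is flat. -/
theorem flat_of_exact {M N P : Type u} [AddCommGroup M] [Module A M] [AddCommGroup N] [Module A N]
    [AddCommGroup P] [Module A P] (f : M →ₗ[A] N) (g : N →ₗ[A] P) (hf : Function.Injective f)
    (hg : Function.Surjective g) (h : Function.Exact f g) (hN : Module.Flat A N)
    (hP : Module.Flat A P) : Module.Flat A M := by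
  rw [Module.Flat.iff_lTensor_preserves_injective_linearMap]
  intro X Y _ _ _ _ φ hφ
  have h1 : Function.Injective (f.rTensor X) := by
    have := LinearMap.lTensor_injective_of_exact_of_flat g hg f hf h X
    rwa [LinearMap.lTensor_inj_iff_rTensor_inj] at this
  have h2 : Function.Injective ((f.rTensor Y) ∘ₗ (φ.lTensor M)) := by
    rw [LinearMap.rTensor_comp_lTensor, ← LinearMap.lTensor_comp_rTensor]
    exact (Module.Flat.lTensor_preserves_injective_linearMap φ hφ).comp h1
  exact Function.Injective.of_comp h2

/-- The cokernel comparison: if `M → N → P` is exact then `N/M → P` is injective. -/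
theorem exact_lTensor_of_flat {M N P : Type u} [AddCommGroup M] [Module A M] [AddCommGroup N]
    [Module A N] [AddCommGroup P] [Module A P] (f : M →ₗ[A] N) (g : N →ₗ[A] P)
    (h : Function.Exact f g) (hP : Module.Flat A (P ⧸ LinearMap.range g)) (X : Type u)
    [AddCommGroup X] [Module A X] : Function.Exact (f.lTensor X) (g.lTensor X) := by
  -- factor `g` through the quotient
  let q : N →ₗ[A] (N ⧸ LinearMap.range f) := (LinearMap.range f).mkQ
  let j : (N ⧸ LinearMap.range f) →ₗ[A] P := (LinearMap.range f).liftQ g (by
    rw [h.linearMap_ker_eq])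
  have hj : Function.Injective j := by
    rw [← LinearMap.ker_eq_bot]
    exact Submodule.ker_liftQ_eq_bot _ _ _ (by rw [h.linearMap_ker_eq])
  have hjr : LinearMap.range j = LinearMap.range g := Submodule.range_liftQ _ _ _
  have h1 : Function.Exact (f.lTensor X) (q.lTensor X) :=
    lTensor_exact X (LinearMap.exact_map_mkQ_range f) (Submodule.mkQ_surjective _)
  have h2 : Function.Injective (j.lTensor X) := by
    have := LinearMap.lTensor_injective_of_exact_of_flat (LinearMap.range g).mkQ
      (Submodule.mkQ_surjective _) j hj (by rw [← hjr]; exact LinearMap.exact_map_mkQ_range j) X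
    exact this
  have h3 : g.lTensor X = j.lTensor X ∘ₗ q.lTensor X := by
    rw [← LinearMap.lTensor_comp]
    congr 1
  rw [h3]
  intro x
  rw [← h1 x, LinearMap.comp_apply, map_eq_zero_iff _ h2]

/-- Exactness of `f, g` and flatness of `P / im g` and `P` imply flatness of `N / im f`. -/
theorem flat_quotient_of_exact {M N P : Type u} [AddCommGroup M] [Module A M] [AddCommGroup N]
    [Module A N] [AddCommGroup P] [Module A P] (f : M →ₗ[A] N) (g : N →ₗ[A] P)
    (h : Function.Exact f g) (hP : Module.Flat A P)
    (hP' : Module.Flat A (P ⧸ LinearMap.range g)) : Module.Flat A (N ⧸ LinearMap.range f) := by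
  let j : (N ⧸ LinearMap.range f) →ₗ[A] P := (LinearMap.range f).liftQ g (by
    rw [h.linearMap_ker_eq])
  have hj : Function.Injective j := by
    rw [← LinearMap.ker_eq_bot]
    exact Submodule.ker_liftQ_eq_bot _ _ _ (by rw [h.linearMap_ker_eq])
  have hjr : LinearMap.range j = LinearMap.range g := Submodule.range_liftQ _ _ _
  exact flat_of_exact j (LinearMap.range g).mkQ hj (Submodule.mkQ_surjective _)
    (by rw [← hjr]; exact LinearMap.exact_map_mkQ_range j) hP hP'

end Linear

section Terms

variable {C : Type u} [CommRing C]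

theorem projective_kos (l : List C) (K : CochainComplex (ModuleCat.{u} C) ℤ)
    (h : ∀ i, Projective (K.X i)) (i : ℤ) : Projective ((kos l K).X i) := by
  induction l generalizing i with
  | nil => exact h i
  | cons f l ih =>
    have e := HomologicalComplex.homotopyCofiber.XIsoBiprod (f • 𝟙 (kos l K)) i (i + 1) rfl
    have := ih i
    have := ih (i + 1)
    exact Projective.of_iso e.symm inferInstance

theorem isZero_kos_of_pos (l : List C) (K : CochainComplex (ModuleCat.{u} C) ℤ) (a : ℤ)
    (h : ∀ i, a < i → IsZero (K.X i)) (i : ℤ) (hi : a < i) : IsZero ((kos l K).X i) := by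
  induction l generalizing i with
  | nil => exact h i hi
  | cons f l ih =>
    refine (CochainComplex.mappingCone.isZero_X_iff (f • 𝟙 (kos l K)) i).2 ?_
    exact ⟨ih (i + 1) (by lia), ih i hi⟩

end Terms

section FlatCx

variable {A : Type u} [CommRing A] (K : CochainComplex (ModuleCat.{u} A) ℤ)

theorem exact_of_exactAt (i j k : ℤ) (hij : i + 1 = j) (hjk : j + 1 = k) (h : K.ExactAt j) :
    Function.Exact (K.d i j).hom (K.d j k).hom := by
  rw [K.exactAt_iff' i j k (by simp; lia) (by simp; lia)] at h
  exact (ShortComplex.ShortExact.moduleCat_exact_iff_function_exact _).1 h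

theorem exactAt_of_exact (i j k : ℤ) (hij : i + 1 = j) (hjk : j + 1 = k)
    (h : Function.Exact (K.d i j).hom (K.d j k).hom) : K.ExactAt j := by
  rw [K.exactAt_iff' i j k (by simp; lia) (by simp; lia)]
  exact (ShortComplex.ShortExact.moduleCat_exact_iff_function_exact _).2 h

/-- `X^0 / im d ≅ H^0` when `X^1 = 0`. -/
theorem nonempty_quotient_equiv_homology (hpos : IsZero (K.X 1)) :
    Nonempty ((K.X 0 ⧸ LinearMap.range (K.d (-1) 0).hom) ≃ₗ[A] K.homology 0) := by
  have e : K.sc 0 ≅ K.sc' (-1) 0 1 := K.isoSc' (-1) 0 1 (by simp) (by simp)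
  have h1 : K.homology 0 ≅ (K.sc' (-1) 0 1).homology := ShortComplex.homologyMapIso e
  have h2 : IsIso (K.sc' (-1) 0 1).homologyι :=
    ShortComplex.isIso_homologyι _ (hpos.eq_of_tgt _ _)
  exact ⟨(h1 ≪≫ asIso (K.sc' (-1) 0 1).homologyι ≪≫
    (K.sc' (-1) 0 1).moduleCatOpcyclesIso).symm.toLinearEquiv⟩

variable (hpos : IsZero (K.X 1)) (hflat : ∀ i, Module.Flat A (K.X i))
  (hvan : ∀ i : ℤ, i < 0 → K.ExactAt i) (h0 : Module.Flat A (K.homology 0))

include hpos hflat hvan h0 in
theorem flat_quotient (n : ℕ) (i j : ℤ) (hj : j = -n) (hi : i + 1 = j) :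
    Module.Flat A (K.X j ⧸ LinearMap.range (K.d i j).hom) := by
  induction n generalizing i j with
  | zero =>
    obtain rfl : j = 0 := by simpa using hj
    obtain rfl : i = -1 := by lia
    obtain ⟨e⟩ := nonempty_quotient_equiv_homology K hpos
    exact Module.Flat.of_linearEquiv e
  | succ n ih =>
    refine flat_quotient_of_exact _ _
      (exact_of_exactAt K i j (j + 1) hi rfl (hvan j (by lia))) (hflat (j + 1))
      (ih j (j + 1) (by lia) rfl)

include hpos hflat hvan h0 in
theorem exact_lTensor (i j k : ℤ) (hij : i + 1 = j) (hjk : j + 1 = k) (hj : j < 0) (X : Type u)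
    [AddCommGroup X] [Module A X] :
    Function.Exact ((K.d i j).hom.lTensor X) ((K.d j k).hom.lTensor X) :=
  exact_lTensor_of_flat _ _ (exact_of_exactAt K i j k hij hjk (hvan j hj))
    (flat_quotient K hpos hflat hvan h0 (-k).toNat j k (by lia) hjk) X

end FlatCx

section Change

variable {A C k : Type u} [CommRing A] [CommRing C] [CommRing k] [Algebra A C] [Algebra A k]

/-- `(C ⊗_A k) ⊗_C M ≅ k ⊗_A M`. -/
noncomputable def changeEquiv (M : Type u) [AddCommGroup M] [Module C M] [Module A M]
    [IsScalarTower A C M] : ((C ⊗[A] k) ⊗[C] M) ≃+ (k ⊗[A] M) :=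
  (TensorProduct.comm C (C ⊗[A] k) M).toAddEquiv.trans
    ((TensorProduct.AlgebraTensorModule.cancelBaseChange A C C M k).toAddEquiv.trans
      (TensorProduct.comm A M k).toAddEquiv)

theorem changeEquiv_naturality {M N : Type u} [AddCommGroup M] [Module C M] [Module A M]
    [IsScalarTower A C M] [AddCommGroup N] [Module C N] [Module A N]
    [IsScalarTower A C N] (f : M →ₗ[C] N) (z : (C ⊗[A] k) ⊗[C] M) :
    changeEquiv N (f.lTensor (C ⊗[A] k) z) =
      (f.restrictScalars A).lTensor k (changeEquiv (k := k) M z) := by
  induction z using TensorProduct.induction_on with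
  | zero => simp only [map_zero]
  | add x y hx hy => simp only [map_add, hx, hy]
  | tmul d m =>
    induction d using TensorProduct.induction_on with
    | zero => simp only [TensorProduct.zero_tmul, map_zero]
    | add x y hx hy => simp only [TensorProduct.add_tmul, map_add, hx, hy]
    | tmul c x =>
      change x ⊗ₜ[A] (c • f m) = x ⊗ₜ[A] (f (c • m))
      rw [map_smul]

theorem exact_change {M N P : Type u} [AddCommGroup M] [Module C M] [Module A M]
    [IsScalarTower A C M] [AddCommGroup N] [Module C N] [Module A N]
    [IsScalarTower A C N] [AddCommGroup P] [Module C P] [Module A P]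
    [IsScalarTower A C P] (f : M →ₗ[C] N) (g : N →ₗ[C] P)
    (h : Function.Exact ((f.restrictScalars A).lTensor k) ((g.restrictScalars A).lTensor k)) :
    Function.Exact (f.lTensor (C ⊗[A] k)) (g.lTensor (C ⊗[A] k)) := by
  intro z
  have h1 := h (changeEquiv (k := k) N z)
  rw [← changeEquiv_naturality, EmbeddingLike.map_eq_zero_iff] at h1
  rw [h1]
  constructor
  · rintro ⟨y, hy⟩
    refine ⟨(changeEquiv (k := k) M).symm y, ?_⟩
    apply (changeEquiv (k := k) N).injective
    rw [changeEquiv_naturality, AddEquiv.apply_symm_apply, hy]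
  · rintro ⟨y, rfl⟩
    exact ⟨changeEquiv (k := k) M y, (changeEquiv_naturality f y).symm⟩

end Change

end Groth.Agent.LoccohB.GorFibre
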