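import Groth.Agent.LoccohB.GorFibre
import Groth.Agent.LoccohB.GorLci
import Mathlib.RingTheory.Ideal.Cotangent

/-!
# Koszul-regular sequences with flat quotient stay Koszul-regular after arbitrary base change (II)
-/

set_option autoImplicit false

universe u

open CategoryTheory CategoryTheory.Limits TensorProduct

namespace Groth.Agent.LoccohB.GorFibre2

open GorFibre GorKoszul GorKoszulFlat Groth.Agent.Flat2H.KoszulGen CochainComplex

variable {A C : Type u} [CommRing A] [CommRing C] [Algebra A C]

theorem flat_restrict (M : ModuleCat.{u} C) [Module.Flat A C] (hM : Module.Flat C M) :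
    Module.Flat A ((ModuleCat.restrictScalars (algebraMap A C)).obj M) := by
  let _ : Module A M := Module.compHom M (algebraMap A C)
  have : IsScalarTower A C M := ⟨fun a b x => by
    rw [Algebra.smul_def, mul_smul]; rfl⟩
  exact Module.Flat.trans A C M

theorem exact_of_inst_eq {C D M N P : Type u} [CommRing C] [AddCommGroup D] (i₁ i₂ : Module C D)
    (h : i₁ = i₂) [AddCommGroup M] [Module C M] [AddCommGroup N] [Module C N] [AddCommGroup P]
    [Module C P] (f : M →ₗ[C] N) (g : N →ₗ[C] P)
    (hex : Function.Exact (@LinearMap.lTensor C _ D M N _ _ _ i₁ _ _ f)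
      (@LinearMap.lTensor C _ D N P _ _ _ i₁ _ _ g)) :
    Function.Exact (@LinearMap.lTensor C _ D M N _ _ _ i₂ _ _ f)
      (@LinearMap.lTensor C _ D N P _ _ _ i₂ _ _ g) := by
  subst h
  exact hex

/-- Koszul-regular sequences in a flat algebra, with flat quotient, are preserved by arbitrary
base change. -/
theorem isKoszulRegularSeq_baseChange (k : Type u) [CommRing k] [Algebra A k] [Module.Flat A C]
    (l : List C) (hl : LCI.IsKoszulRegularSeq C l) (hf : Module.Flat A (C ⧸ Ideal.ofList l)) :
    LCI.IsKoszulRegularSeq (C ⊗[A] k) (l.map (algebraMap C (C ⊗[A] k))) := by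
  rw [isKoszulRegularSeq_iff] at hl ⊢
  set K := kos l (unitCx C) with hK
  set G := ModuleCat.restrictScalars.{u} (algebraMap A C) with hG
  set K' := (G.mapHomologicalComplex (ComplexShape.up ℤ)).obj K with hK'
  have hunit : ∀ i : ℤ, 0 < i → IsZero ((unitCx C).X i) := fun i hi =>
    HomologicalComplex.isZero_single_obj_X _ _ _ _ hi.ne'
  have hproj : ∀ i, Projective ((unitCx C).X i) := by
    intro i
    by_cases hi : i = 0
    · subst hi
      have h1 : Projective (ModuleCat.of C C) :=
        (ModuleCat.projective_of_free (Module.Basis.singleton Unit C))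
      exact Projective.of_iso
        (HomologicalComplex.singleObjXSelf (ComplexShape.up ℤ) (0 : ℤ) (ModuleCat.of C C)).symm h1
    · have h2 : IsZero ((unitCx C).X i) := HomologicalComplex.isZero_single_obj_X _ _ _ _ hi
      exact Projective.of_iso h2.isoZero.symm inferInstance
  have hpos : ∀ i : ℤ, 0 < i → IsZero (K.X i) := fun i hi => isZero_kos_of_pos l _ 0 hunit i hi
  have hpos' : IsZero (K'.X 1) := G.map_isZero (hpos 1 (by lia))
  have hflat : ∀ i, Module.Flat C (K.X i) := by
    intro i
    have h1 := projective_kos l (unitCx C) hproj i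
    have h2 : Module.Projective C (K.X i) := (IsProjective.iff_projective _).2 h1
    infer_instance
  have hflat' : ∀ i, Module.Flat A (K'.X i) := fun i => flat_restrict _ (hflat i)
  have hvan' : ∀ i : ℤ, i < 0 → K'.ExactAt i := fun i hi =>
    (HomologicalComplex.exactAt_iff_isZero_homology _ _).2
      ((G.map_isZero (hl i hi.ne)).of_iso ((K.sc i).mapHomologyIso G))
  have h0' : Module.Flat A (K'.homology 0) := by
    obtain ⟨π, hπ, hker⟩ := exists_homology_zero l
    have e1 : K'.homology 0 ≅ G.obj (K.homology 0) := (K.sc 0).mapHomologyIso G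
    let e2 : (C ⧸ Ideal.ofList l) ≃ₗ[C] K.homology 0 :=
      (Submodule.quotEquivOfEq _ _ hker.symm).trans (π.quotKerEquivOfSurjective hπ)
    have e3 : G.obj (ModuleCat.of C (C ⧸ Ideal.ofList l)) ≅ G.obj (K.homology 0) :=
      G.mapIso e2.toModuleIso
    have h3 : Module.Flat A (G.obj (ModuleCat.of C (C ⧸ Ideal.ofList l))) := by
      let e4 : (C ⧸ Ideal.ofList l) ≃ₗ[A] G.obj (ModuleCat.of C (C ⧸ Ideal.ofList l)) :=
        { AddEquiv.refl (C ⧸ Ideal.ofList l) with
          map_smul' := fun a x => (algebraMap_smul C a x).symm }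
      exact Module.Flat.of_linearEquiv e4.symm
    exact Module.Flat.of_linearEquiv (e1 ≪≫ e3.symm).toLinearEquiv
  -- exactness after base change
  have hex : ∀ i : ℤ, i < 0 →
      (((ModuleCat.extendScalars.{u, u, u} (algebraMap C (C ⊗[A] k))).mapHomologicalComplex
        (ComplexShape.up ℤ)).obj K).ExactAt i := by
    intro i hi
    refine exactAt_of_exact _ (i - 1) i (i + 1) (by lia) rfl ?_
    let _ : ∀ j, Module A (K.X j) := fun j => Module.compHom (K.X j) (algebraMap A C)
    have : ∀ j, IsScalarTower A C (K.X j) := fun j => ⟨fun a b x => by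
      rw [Algebra.smul_def, mul_smul]; rfl⟩
    exact exact_of_inst_eq _ _ (Module.ext' _ _ fun c d => by
        rw [Algebra.smul_def]; rfl) (K.d (i - 1) i).hom (K.d i (i + 1)).hom
      (exact_change (A := A) (k := k) (K.d (i - 1) i).hom (K.d i (i + 1)).hom
      (exact_lTensor K' hpos' hflat' hvan' h0' (i - 1) i (i + 1) (by lia) rfl hi k))
  obtain ⟨e⟩ := extend_kos (algebraMap C (C ⊗[A] k)) l
  intro i hi
  rcases lt_or_gt_of_ne hi with hi | hi
  · exact ((HomologicalComplex.exactAt_iff_isZero_homology _ _).1 (hex i hi)).of_iso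
      ((HomologicalComplex.homologyFunctor _ _ i).mapIso e.symm)
  · exact isZero_homology_kos_of_lt _ _ 0 (fun i hi => isZero_homology_unitCx i hi.ne') i hi

end Groth.Agent.LoccohB.GorFibre2
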