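import Groth.Agent.LoccohB.GorFibre2
import Mathlib.RingTheory.Localization.BaseChange
import Mathlib.RingTheory.TensorProduct.MvPolynomial

/-!
# Base change of flat local complete intersections to Gorenstein rings is Gorenstein
-/

set_option autoImplicit false

universe u

open CategoryTheory CategoryTheory.Limits TensorProduct

namespace Groth.Agent.LoccohB.GorFibre3

open GorFibre2 GorKoszul GorKoszulFlat GorBasic GorLci LocCoh

/-- `P'/IP'` is a localization of `P/I = B`, so flat over a base over which `B` is flat. -/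
theorem flat_quotient_localization {A P B C : Type u} [CommRing A] [CommRing P] [CommRing B]
    [CommRing C] [Algebra A P] [Algebra A B] [Algebra P C] [Algebra A C] [IsScalarTower A P C]
    [Module.Flat A B] (f : P →ₐ[A] B) (hf : Function.Surjective f) (S : Submonoid P)
    [IsLocalization S C] :
    Module.Flat A (C ⧸ (RingHom.ker f.toRingHom).map (algebraMap P C)) := by
  let φ : P →+* B := f.toRingHom
  have hφ : Function.Surjective φ := hf
  set J : Ideal C := (RingHom.ker f.toRingHom).map (algebraMap P C) with hJ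
  let g : C →+* C ⧸ J := Ideal.Quotient.mk J
  have hker : ∀ x, φ x = 0 → (g.comp (algebraMap P C)) x = 0 := by
    intro x hx
    change Ideal.Quotient.mk J (algebraMap P C x) = 0
    rw [Ideal.Quotient.eq_zero_iff_mem]
    exact Ideal.mem_map_of_mem _ hx
  let h' : B →+* C ⧸ J := (Ideal.Quotient.lift (RingHom.ker φ) (g.comp (algebraMap P C)) hker).comp
    (RingHom.quotientKerEquivOfSurjective hφ).symm.toRingHom
  let _ : Algebra B (C ⧸ J) := h'.toAlgebra
  have H : g.comp (algebraMap P C) = (algebraMap B (C ⧸ J)).comp φ := by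
    ext x
    change g (algebraMap P C x) = (Ideal.Quotient.lift (RingHom.ker φ) (g.comp (algebraMap P C)) hker)
      ((RingHom.quotientKerEquivOfSurjective hφ).symm (φ x))
    have : (RingHom.quotientKerEquivOfSurjective hφ).symm (φ x) = Ideal.Quotient.mk _ x := by
      rw [RingEquiv.symm_apply_eq]
      rfl
    rw [this]
    rfl
  have hloc : IsLocalization (S.map φ) (C ⧸ J) :=
    IsLocalization.of_surjective S C φ hφ g Ideal.Quotient.mk_surjective H (by
      rw [Ideal.mk_ker])
  have hfl : Module.Flat B (C ⧸ J) := IsLocalization.flat _ (S.map φ)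
  have : IsScalarTower A B (C ⧸ J) := by
    refine IsScalarTower.of_algebraMap_eq fun a => ?_
    have h1 : algebraMap A B a = φ (algebraMap A P a) := (f.commutes a).symm
    rw [h1]
    have h2 := RingHom.congr_fun H (algebraMap A P a)
    rw [RingHom.comp_apply, RingHom.comp_apply] at h2
    rw [← h2, ← IsScalarTower.algebraMap_apply A P C]
    rfl
  exact Module.Flat.trans A B (C ⧸ J)

theorem isLocalization_tensor {A P C : Type u} (k : Type u) [CommRing A] [CommRing P]
    [CommRing C] [CommRing k] [Algebra A P] [Algebra P C] [Algebra A C] [IsScalarTower A P C]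
    [Algebra A k] (S : Submonoid P) [IsLocalization S C] :
    @IsLocalization (P ⊗[A] k) _ (Algebra.algebraMapSubmonoid (P ⊗[A] k) S) (C ⊗[A] k) _
      (Algebra.TensorProduct.map (IsScalarTower.toAlgHom A P C) (AlgHom.id A k)).toRingHom.toAlgebra := by
  let _ : Algebra (P ⊗[A] k) (C ⊗[A] k) :=
    (Algebra.TensorProduct.map (IsScalarTower.toAlgHom A P C) (AlgHom.id A k)).toRingHom.toAlgebra
  have hst : IsScalarTower P (P ⊗[A] k) (C ⊗[A] k) := by
    refine IsScalarTower.of_algebraMap_eq fun p => ?_
    change _ = (Algebra.TensorProduct.map (IsScalarTower.toAlgHom A P C) (AlgHom.id A k))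
      (p ⊗ₜ 1)
    rw [Algebra.TensorProduct.map_tmul]
    simp
  have h1 : IsLocalizedModule S (Algebra.linearMap P C) := inferInstance
  have h2 : IsLocalizedModule S (AlgebraTensorModule.rTensor A k (Algebra.linearMap P C)) :=
    IsLocalizedModule.rTensor (S := S) (N := k) (g := Algebra.linearMap P C)
  rw [← isLocalizedModule_iff_isLocalization]
  exact h2

/-- Locally the kernel of `P ⊗ k → B ⊗ k` is generated by a Koszul-regular sequence. -/
theorem exists_koszulRegular_atPrime {A P B : Type u} (k : Type u) [CommRing A] [CommRing P]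
    [CommRing B] [CommRing k] [Algebra A P] [Algebra A B] [Algebra A k] [Module.Flat A P]
    [Module.Flat A B] (f : P →ₐ[A] B) (hf : Function.Surjective f)
    (hI : LCI.IsKoszulRegularIdeal (RingHom.ker f.toRingHom)) (Q : Ideal (P ⊗[A] k)) [Q.IsPrime]
    (hQ : (RingHom.ker f.toRingHom).map (algebraMap P (P ⊗[A] k)) ≤ Q) :
    ∃ l : List (Localization.AtPrime Q), LCI.IsKoszulRegularSeq (Localization.AtPrime Q) l ∧
      (∀ x ∈ l, x ∈ IsLocalRing.maximalIdeal (Localization.AtPrime Q)) ∧
      ((RingHom.ker f.toRingHom).map (algebraMap P (P ⊗[A] k))).map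
        (algebraMap (P ⊗[A] k) (Localization.AtPrime Q)) = Ideal.ofList l := by
  set I := RingHom.ker f.toRingHom with hIdef
  set Q₀ : Ideal P := Q.comap (algebraMap P (P ⊗[A] k)) with hQ₀
  have hIQ : I ≤ Q₀ := Ideal.map_le_iff_le_comap.1 hQ
  obtain ⟨g, hg, l, hl, hIl⟩ := hI ⟨Q₀, inferInstance⟩ hIQ
  let C := Localization.Away g
  have hIl' : I.map (algebraMap P C) = Ideal.ofList l := hIl
  have hflatC : Module.Flat A C :=
    have : Module.Flat P C := IsLocalization.flat _ (Submonoid.powers g)
    Module.Flat.trans A P C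
  have hflatq : Module.Flat A (C ⧸ Ideal.ofList l) := by
    rw [← hIl']
    exact flat_quotient_localization f hf (Submonoid.powers g)
  have h1 := isKoszulRegularSeq_baseChange k l hl hflatq
  -- the localization `P ⊗ k → C ⊗ k → (P ⊗ k)_Q`
  let _ : Algebra (P ⊗[A] k) (C ⊗[A] k) :=
    (Algebra.TensorProduct.map (IsScalarTower.toAlgHom A P C) (AlgHom.id A k)).toRingHom.toAlgebra
  have hloc : IsLocalization (Algebra.algebraMapSubmonoid (P ⊗[A] k) (Submonoid.powers g))
      (C ⊗[A] k) := isLocalization_tensor k (Submonoid.powers g)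
  have hle : Algebra.algebraMapSubmonoid (P ⊗[A] k) (Submonoid.powers g) ≤ Q.primeCompl := by
    rintro _ ⟨x, hx, rfl⟩
    have : x ∈ Q₀.primeCompl := (Submonoid.powers_le.2 (show g ∈ Q₀.primeCompl from hg)) hx
    exact this
  let _ : Algebra (C ⊗[A] k) (Localization.AtPrime Q) :=
    IsLocalization.localizationAlgebraOfSubmonoidLe (C ⊗[A] k)
      (Localization.AtPrime Q) _ Q.primeCompl hle
  have htow := IsLocalization.localization_isScalarTower_of_submonoid_le (C ⊗[A] k)
      (Localization.AtPrime Q) _ Q.primeCompl hle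
  have hloc2 := IsLocalization.isLocalization_of_submonoid_le (C ⊗[A] k)
      (Localization.AtPrime Q) _ Q.primeCompl hle
  have hflat : (algebraMap (C ⊗[A] k) (Localization.AtPrime Q)).Flat := by
    rw [RingHom.flat_algebraMap_iff]
    exact IsLocalization.flat _ (Q.primeCompl.map (algebraMap (P ⊗[A] k) (C ⊗[A] k)))
  have h2 := isKoszulRegularSeq_map_of_flat _ hflat _ h1
  have h3 : (I.map (algebraMap P (P ⊗[A] k))).map
        (algebraMap (P ⊗[A] k) (Localization.AtPrime Q)) =
      Ideal.ofList ((l.map (algebraMap C (C ⊗[A] k))).map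
        (algebraMap (C ⊗[A] k) (Localization.AtPrime Q))) := by
    have hcomp : (algebraMap (P ⊗[A] k) (Localization.AtPrime Q)).comp
          (algebraMap P (P ⊗[A] k)) =
        ((algebraMap (C ⊗[A] k) (Localization.AtPrime Q)).comp
          (algebraMap C (C ⊗[A] k))).comp (algebraMap P C) := by
      rw [IsScalarTower.algebraMap_eq (P ⊗[A] k) (C ⊗[A] k) (Localization.AtPrime Q),
        RingHom.comp_assoc, RingHom.comp_assoc]
      congr 1
    rw [Ideal.map_map, hcomp, ← Ideal.map_map, hIl', ← Ideal.map_map, Ideal.map_ofList,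
      Ideal.map_ofList]
  refine ⟨_, h2, ?_, h3⟩
  intro x hx
  have : x ∈ (I.map (algebraMap P (P ⊗[A] k))).map
        (algebraMap (P ⊗[A] k) (Localization.AtPrime Q)) := by
    rw [h3]; exact Ideal.subset_span hx
  rw [← Localization.AtPrime.map_eq_maximalIdeal]
  exact Ideal.map_mono hQ this

theorem isGorensteinRing_tensor_of_flat_isLCI (A B k : Type u) [CommRing A] [CommRing B]
    [Algebra A B] [Module.Flat A B] (hl : LCI.IsLCI A B) [CommRing k] [Algebra A k]
    (hk : IsGorensteinRing k) : IsGorensteinRing (B ⊗[A] k) := by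
  obtain ⟨-, n, f, hf, hI⟩ := hl
  have e : MvPolynomial (Fin n) k ≃+* MvPolynomial (Fin n) A ⊗[A] k :=
    ((MvPolynomial.algebraTensorAlgEquiv A k).symm.toRingEquiv).trans
      (Algebra.TensorProduct.comm A k (MvPolynomial (Fin n) A)).toRingEquiv
  have hPk : IsGorensteinRing (MvPolynomial (Fin n) A ⊗[A] k) :=
    isGorensteinRing_of_ringEquiv e (isGorensteinRing_mvPolynomial hk n)
  let φ : MvPolynomial (Fin n) A ⊗[A] k →+* B ⊗[A] k :=
    (Algebra.TensorProduct.map f (AlgHom.id A k)).toRingHom
  have hφ : Function.Surjective φ :=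
    Algebra.TensorProduct.map_surjective f (AlgHom.id A k) hf Function.surjective_id
  have hkerφ : RingHom.ker φ = (RingHom.ker f.toRingHom).map
      (algebraMap (MvPolynomial (Fin n) A) (MvPolynomial (Fin n) A ⊗[A] k)) :=
    Algebra.TensorProduct.rTensor_ker f hf
  have : IsNoetherianRing (MvPolynomial (Fin n) A ⊗[A] k) := inferInstance
  have : IsNoetherianRing (B ⊗[A] k) := isNoetherianRing_of_surjective _ _ φ hφ
  refine isGorensteinRing_iff.2 ⟨inferInstance, fun q hq => ?_⟩
  apply FID_localization_of_surjective φ hφ q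
  have hQ : (RingHom.ker f.toRingHom).map
      (algebraMap (MvPolynomial (Fin n) A) (MvPolynomial (Fin n) A ⊗[A] k)) ≤ q.comap φ := by
    rw [← hkerφ]; exact Ideal.ker_le_comap φ
  obtain ⟨l, hl, hlm, hIl⟩ := exists_koszulRegular_atPrime k f hf hI (q.comap φ) hQ
  have hreg := isWeaklyRegular_of_isKoszulRegularSeq l hlm hl
  rw [← hkerφ] at hIl
  exact (((isGorensteinRing_iff.1 hPk).2 (q.comap φ)).quotient_ofList l hreg).of_ringEquiv
    (Ideal.quotEquivOfEq hIl.symm)

end Groth.Agent.LoccohB.GorFibre3
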