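import Groth.Agent.LoccohB.GorNak
import Groth.Agent.LoccohB.LBC2
import Mathlib.RingTheory.Localization.BaseChange
import Mathlib.RingTheory.Support
import Mathlib.RingTheory.Flat.Localization
import Mathlib.RingTheory.RingHom.Flat
import Mathlib.Data.Int.Interval

/-!
# Spreading out isomorphisms `K_q ≅ A_q[-m]`

`A` Noetherian, `K` bounded with finite cohomology, `K ⊗ A_q ≅ A_q[-m]`; then `K ⊗ A_f ≅ A_f[-m]` for
some `f ∉ q`.
-/

set_option autoImplicit false
universe w v u

open CategoryTheory CategoryTheory.Limits Pretriangulated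
open scoped TensorProduct

attribute [local instance] HasDerivedCategory.standard

namespace Groth.Agent.LoccohB.GorSpread

open DerivedCategory Groth.Agent.LoccohB.DBase Groth.Agent.LoccohB.Devissage
  Groth.Agent.LoccohB.HomBC Groth.Agent.LoccohB.GorNak Groth.Agent.LoccohB.FlatLBC
  Groth.Agent.LoccohB.LBC

section

variable {A : Type u} [CommRing A]

/-- A distinguished triangle extending `x : A[-m] ⟶ K`. -/
lemma exists_cone [IsNoetherianRing A] (m : ℤ) (K : Dual.D A) (a b : ℤ) [K.IsGE a] [K.IsLE b]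
    (hf : ∀ i, Module.Finite A (Dual.HD A K i)) (x : sg A m A ⟶ K) :
    ∃ (T : Triangle (Dual.D A)) (_ : T ∈ distTriang (Dual.D A)) (e₁ : sg A m A ≅ T.obj₁)
      (e₂ : T.obj₂ ≅ K) (_ : e₁.hom ≫ T.mor₁ ≫ e₂.hom = x) (a' b' : ℤ),
        T.obj₃.IsGE a' ∧ T.obj₃.IsLE b' ∧ ∀ i, Module.Finite A (Dual.HD A T.obj₃ i) := by
  obtain ⟨Z, g', h', hT⟩ := distinguished_cocone_triangle x
  refine ⟨_, hT, Iso.refl _, Iso.refl _, ?_, min a (m - 1), max b m, ?_, ?_, ?_⟩
  · exact (Category.id_comp _).trans (Category.comp_id _)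
  · have h1 : (TStructure.t : Triangulated.TStructure (Dual.D A)).IsGE K (min a (m - 1)) :=
      TStructure.t.isGE_of_ge _ _ a (min_le_left _ _)
    have h2 : (TStructure.t : Triangulated.TStructure (Dual.D A)).IsGE ((sg A m A)⟦(1 : ℤ)⟧)
        (m - 1) := TStructure.t.isGE_shift _ m 1 (m - 1) (by lia)
    have h3 : (TStructure.t : Triangulated.TStructure (Dual.D A)).IsGE ((sg A m A)⟦(1 : ℤ)⟧)
        (min a (m - 1)) := TStructure.t.isGE_of_ge _ _ (m - 1) (min_le_right _ _)
    exact TStructure.t.isGE₂ _ (rot_of_distTriang _ hT) _ h1 h3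
  · have h1 : (TStructure.t : Triangulated.TStructure (Dual.D A)).IsLE K (max b m) :=
      TStructure.t.isLE_of_le _ b _ (le_max_left _ _)
    have h2 : (TStructure.t : Triangulated.TStructure (Dual.D A)).IsLE ((sg A m A)⟦(1 : ℤ)⟧)
        (m - 1) := TStructure.t.isLE_shift _ m 1 (m - 1) (by lia)
    have h3 : (TStructure.t : Triangulated.TStructure (Dual.D A)).IsLE ((sg A m A)⟦(1 : ℤ)⟧)
        (max b m) :=
      TStructure.t.isLE_of_le _ (m - 1) _ ((by lia : m - 1 ≤ m).trans (le_max_right _ _))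
    exact TStructure.t.isLE₂ _ (rot_of_distTriang _ hT) _ h1 h3
  · refine finite_HD_third _ hT ?_ hf
    intro i
    change Module.Finite A (Dual.HD A (sg A m A) i)
    by_cases hi : i = m
    · subst hi
      exact Module.Finite.equiv (hdSg i A).symm
    · have h3 := subsingleton_hom_sg (A := A) i m (Ne.symm hi) A
      have h4 : Subsingleton (Dual.HD A (sg A m A) i) :=
        (homEquivHD i (sg A m A)).symm.toEquiv.subsingleton_congr.2 h3
      infer_instance

/-- A finite module which vanishes after tensoring with `A_q` is killed by an element not in `q`. -/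
lemma exists_notMem_smul_eq_zero (q : Ideal A) [q.IsPrime] (M : Type u) [AddCommGroup M]
    [Module A M] [Module.Finite A M] (h : Subsingleton (Localization.AtPrime q ⊗[A] M)) :
    ∃ f, f ∉ q ∧ ∀ y : M, f • y = 0 := by
  have h1 : Subsingleton (LocalizedModule q.primeCompl M) :=
    (LocalizedModule.equivTensorProduct q.primeCompl M).toEquiv.subsingleton_congr.2 h
  have h2 : (⟨q, inferInstance⟩ : PrimeSpectrum A) ∉ Module.support A M :=
    Module.notMem_support_iff.2 h1
  rw [Module.support_eq_zeroLocus, PrimeSpectrum.mem_zeroLocus, Set.not_subset] at h2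
  obtain ⟨f, hf, hfq⟩ := h2
  exact ⟨f, hfq, fun y => Module.mem_annihilator.1 hf y⟩

/-- A bounded object with finite cohomology which vanishes at `q`: its cohomology is killed by
some element not in `q`. -/
lemma exists_notMem_smul_HD (q : Ideal A) [q.IsPrime] (Z : Dual.D A) (a b : ℤ) [Z.IsGE a]
    [Z.IsLE b] (hf : ∀ i, Module.Finite A (Dual.HD A Z i))
    (h : ∀ i, Subsingleton (Localization.AtPrime q ⊗[A] (Dual.HD A Z i))) :
    ∃ f, f ∉ q ∧ ∀ (i : ℤ) (y : Dual.HD A Z i), f • y = 0 := by
  choose f hfq hfy using fun i => exists_notMem_smul_eq_zero q (Dual.HD A Z i) (h i)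
  refine ⟨∏ i ∈ Finset.Icc a b, f i, ?_, fun i y => ?_⟩
  · rw [Ideal.IsPrime.prod_mem_iff]
    rintro ⟨i, -, hi⟩
    exact hfq i hi
  · by_cases hi : i ∈ Finset.Icc a b
    · rw [← Finset.prod_erase_mul _ _ hi, mul_smul, hfy i y, smul_zero]
    · have h0 : IsZero ((homologyFunctor (ModuleCat.{u} A) i).obj Z) := by
        rw [Finset.mem_Icc, not_and_or, not_le, not_le] at hi
        rcases hi with hi | hi
        · exact Z.isZero_of_isGE a i hi
        · exact Z.isZero_of_isLE b i hi
      have h1 : Subsingleton (Dual.HD A Z i) := ModuleCat.isZero_iff_subsingleton.1 h0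
      exact Subsingleton.elim _ _

lemma subsingleton_tensor_away (f : A) (M : Type u) [AddCommGroup M] [Module A M]
    (h : ∀ y : M, f • y = 0) : Subsingleton (Localization.Away f ⊗[A] M) := by
  refine subsingleton_of_forall_eq 0 fun t => ?_
  have hu : IsUnit (algebraMap A (Localization.Away f) f) :=
    IsLocalization.Away.algebraMap_isUnit f
  rw [← hu.smul_eq_zero]
  induction t using TensorProduct.induction_on with
  | zero => rw [smul_zero]
  | tmul s y => rw [algebraMap_smul, ← TensorProduct.tmul_smul, h y, TensorProduct.tmul_zero]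
  | add x y hx hy => rw [smul_add, hx, hy, add_zero]

/-- `A[-m] ⊗ B ≅ B[-m]`. -/
noncomputable def flatSg (B : Type u) [CommRing B] [Algebra A B] (h : (algebraMap A B).Flat)
    (m : ℤ) : (flatBC (algebraMap A B) h).obj (sg A m A) ≅ sg B m B :=
  (flatBCSingle (algebraMap A B) h m).app (ModuleCat.of A A) ≪≫
    (singleFunctor (ModuleCat.{u} B) m).mapIso (extendSelfIso (algebraMap A B))

lemma isZero_flatBC_iff (B : Type u) [CommRing B] [Algebra A B] (h : (algebraMap A B).Flat)
    (Z : Dual.D A) : IsZero ((flatBC (algebraMap A B) h).obj Z) ↔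
      ∀ i, Subsingleton (B ⊗[A] (Dual.HD A Z i)) := by
  rw [DCalc.isZero_iff]
  refine forall_congr' fun i => ?_
  rw [ModuleCat.isZero_iff_subsingleton]
  exact (flatHDEquiv B h Z i).toEquiv.subsingleton_congr.symm

lemma flat_atPrime (q : Ideal A) [q.IsPrime] :
    (algebraMap A (Localization.AtPrime q)).Flat :=
  (RingHom.flat_algebraMap_iff).2 (IsLocalization.flat _ q.primeCompl)

lemma flat_away (f : A) : (algebraMap A (Localization.Away f)).Flat :=
  (RingHom.flat_algebraMap_iff).2 (IsLocalization.flat _ (Submonoid.powers f))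

theorem spread [IsNoetherianRing A] (q : Ideal A) [q.IsPrime] (K : Dual.D A) (a b : ℤ) [K.IsGE a]
    [K.IsLE b] (hf : ∀ i, Module.Finite A (Dual.HD A K i)) (m : ℤ)
    (e : (flatBC (algebraMap A (Localization.AtPrime q)) (flat_atPrime q)).obj K ≅
      sg (Localization.AtPrime q) m (Localization.AtPrime q)) :
    ∃ f, f ∉ q ∧ Nonempty ((flatBC (algebraMap A (Localization.Away f)) (flat_away f)).obj K ≅
      sg (Localization.Away f) m (Localization.Away f)) := by
  let S := Localization.AtPrime q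
  let G := flatBC (algebraMap A S) (flat_atPrime q)
  let e' : G.obj (sg A m A) ≅ G.obj K := flatSg S (flat_atPrime q) m ≪≫ e.symm
  obtain ⟨t, ht⟩ := (bc_self_bijective A S (flat_atPrime q) m K).2 e'.hom
  obtain ⟨⟨x, s⟩, hx⟩ := IsLocalizedModule.surj q.primeCompl
    (TensorProduct.mk A S (sg A m A ⟶ K) 1) t
  have hGx : G.map x = (algebraMap A S s) • e'.hom := by
    have h1 := congrArg (bc A S G (sg A m A) K) hx
    rw [TensorProduct.mk_apply, bc_tmul, one_smul] at h1
    rw [← h1, ← ht]
    change bc A S G (sg A m A) K ((s : A) • t) = _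
    rw [← algebraMap_smul S (s : A) t, bc_smul]
  have hu : IsUnit (algebraMap A S s) := IsLocalization.map_units S s
  have hiso : IsIso (G.map x) := by
    rw [hGx]
    obtain ⟨v, hv⟩ := hu
    rw [← hv]
    exact ⟨(v⁻¹ : Sˣ).1 • e'.inv, by simp [smul_smul], by simp [smul_smul]⟩
  obtain ⟨T, hT, e₁, e₂, hx', a', b', hGE, hLE, hfin⟩ := exists_cone m K a b hf x
  have hTmor : T.mor₁ = e₁.inv ≫ x ≫ e₂.inv := by
    rw [← hx']; simp
  have hiso' : IsIso (G.map T.mor₁) := by
    rw [hTmor, Functor.map_comp, Functor.map_comp]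
    infer_instance
  have hZ0 : IsZero (G.obj T.obj₃) :=
    (Triangle.isZero₃_iff_isIso₁ _ (G.map_distinguished T hT)).2 hiso'
  rw [isZero_flatBC_iff] at hZ0
  obtain ⟨f, hfq, hfy⟩ := exists_notMem_smul_HD q T.obj₃ a' b' hfin hZ0
  refine ⟨f, hfq, ?_⟩
  let G' := flatBC (algebraMap A (Localization.Away f)) (flat_away f)
  have hZ1 : IsZero (G'.obj T.obj₃) := by
    rw [isZero_flatBC_iff]
    exact fun i => subsingleton_tensor_away f _ (hfy i)
  have hiso2 : IsIso (G'.map T.mor₁) :=
    (Triangle.isZero₃_iff_isIso₁ _ (G'.map_distinguished T hT)).1 hZ1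
  exact ⟨(G'.mapIso e₂).symm ≪≫ (asIso (G'.map T.mor₁)).symm ≪≫ (G'.mapIso e₁).symm ≪≫
    flatSg (Localization.Away f) (flat_away f) m⟩

end

end Groth.Agent.LoccohB.GorSpread
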