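import Groth.Prelude.Def_DualSh
import Groth.Agent.LoccohB.GorDual
import Groth.Agent.LoccohB.GorSpread
import Groth.Agent.LoccohB.GorDesc
import Groth.Agent.LoccohB.GorBasic
import Groth.Agent.Ega4C.FibreTower
import Groth.Agent.S1775

/-!
# Gorenstein fibres and invertibility of the relative dualizing complex

`gorenstein_fibres_iff`: `ω ∈ D(A)` bounded with finite cohomology whose base change to every fibre ring
`κ(p) ⊗ A` is dualizing; all fibre rings are Gorenstein iff `ω` is locally `A_f[m]`.
-/

set_option autoImplicit false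
universe u

open CategoryTheory CategoryTheory.Limits Pretriangulated
open scoped TensorProduct

attribute [local instance] HasDerivedCategory.standard

namespace Groth.Agent.LoccohB.GorFibreIff

open DerivedCategory Groth.Agent.LoccohB.DBase Groth.Agent.LoccohB.GorNak
  Groth.Agent.LoccohB.LBC Groth.Agent.Ega4C

section

variable {A C : Type u} [CommRing A] [CommRing C] (φ₁ : A →+* C) [DRing.HasLBaseChange φ₁]

/-- The local ring of `C` at `Q` is Gorenstein if `ω ⊗ C` is dualizing and `ω` is `A_f[m]` near the image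
of `Q`. -/
theorem isGorensteinLocalRing_of_iso (ω : Dual.D A) [IsNoetherianRing C] (Q : Ideal C) [Q.IsPrime]
    (hω : Dual.IsDualizing C ((DRing.LBaseChange φ₁).obj ω)) (f : A) (hf : φ₁ f ∉ Q)
    [DRing.HasLBaseChange (algebraMap A (Localization.Away f))] (m : ℤ)
    (e : (DRing.LBaseChange (algebraMap A (Localization.Away f))).obj ω ≅
      sg (Localization.Away f) m (Localization.Away f)) :
    LocCoh.IsGorensteinLocalRing (Localization.AtPrime Q) := by
  let φ₂ : C →+* Localization.AtPrime Q := algebraMap _ _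
  let φ₃ : A →+* Localization.AtPrime Q := φ₂.comp φ₁
  have hu : IsUnit (φ₃ f) := IsLocalization.map_units (Localization.AtPrime Q)
    (⟨φ₁ f, hf⟩ : Q.primeCompl)
  let φ₄ : Localization.Away f →+* Localization.AtPrime Q := IsLocalization.Away.lift f hu
  have hcomp : φ₃ = φ₄.comp (algebraMap A (Localization.Away f)) :=
    (IsLocalization.Away.lift_comp f hu).symm
  have : DRing.HasLBaseChange φ₂ := hasLBaseChange _
  have : DRing.HasLBaseChange φ₃ := hasLBaseChange _
  have : DRing.HasLBaseChange φ₄ := hasLBaseChange _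
  have hd := S1775.result C Q.primeCompl _ hω
  let e₁ : (DRing.LBaseChange φ₂).obj ((DRing.LBaseChange φ₁).obj ω) ≅
      sg (Localization.AtPrime Q) m (Localization.AtPrime Q) :=
    (lbcComp φ₁ φ₂ φ₃ rfl).app ω ≪≫
      ((lbcComp (algebraMap A (Localization.Away f)) φ₄ φ₃ hcomp).app ω).symm ≪≫
      (DRing.LBaseChange φ₄).mapIso e ≪≫ lbcSelfIso φ₄ m
  exact GorDesc.isGorensteinLocalRing_of_isDualizing m (DualShift.isDualizing_of_iso e₁ hd)

/-- If `C_Q` is Gorenstein, a quotient of the local ring of `A` at the image of `Q`, and `ω ⊗ C` is dualizing,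
then `ω` is `A_f[m]` near the image of `Q`. -/
theorem exists_iso_of_isGorensteinLocalRing [IsNoetherianRing A] (ω : Dual.D A) (a b : ℤ)
    [ω.IsGE a] [ω.IsLE b] (hfin : ∀ i, Module.Finite A (Dual.HD A ω i)) [IsNoetherianRing C]
    (Q : Ideal C) [Q.IsPrime] (hω : Dual.IsDualizing C ((DRing.LBaseChange φ₁).obj ω))
    (hs : Function.Surjective (Localization.localRingHom (Q.comap φ₁) Q φ₁ rfl))
    (hG : LocCoh.IsGorensteinLocalRing (Localization.AtPrime Q)) :
    ∃ (f : A) (_ : φ₁ f ∉ Q) (m : ℤ),
      Nonempty ((FlatLBC.flatBC (algebraMap A (Localization.Away f)) (GorSpread.flat_away f)).obj ω ≅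
        sg (Localization.Away f) m (Localization.Away f)) := by
  let φ₂ : C →+* Localization.AtPrime Q := algebraMap _ _
  let φ₃ : A →+* Localization.AtPrime Q := φ₂.comp φ₁
  let q : Ideal A := Q.comap φ₁
  let φ₄ : A →+* Localization.AtPrime q := algebraMap _ _
  let φ₅ : Localization.AtPrime q →+* Localization.AtPrime Q := Localization.localRingHom q Q φ₁ rfl
  have hcomp : φ₃ = φ₅.comp φ₄ :=
    RingHom.ext fun x => (Localization.localRingHom_to_map q Q φ₁ rfl x).symm
  have : DRing.HasLBaseChange φ₂ := hasLBaseChange _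
  have : DRing.HasLBaseChange φ₃ := hasLBaseChange _
  have : DRing.HasLBaseChange φ₄ := hasLBaseChange _
  have : DRing.HasLBaseChange φ₅ := hasLBaseChange _
  have hd := S1775.result C Q.primeCompl _ hω
  have hNQ : IsNoetherianRing (Localization.AtPrime Q) :=
    IsLocalization.isNoetherianRing Q.primeCompl _ inferInstance
  have hNq : IsNoetherianRing (Localization.AtPrime q) :=
    IsLocalization.isNoetherianRing q.primeCompl _ inferInstance
  obtain ⟨m, ⟨e⟩⟩ := GorDual.nonempty_iso_of_isDualizing_self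
    (Localalg.DGor.isDualizing_of_gorenstein (Localization.AtPrime Q)) _ hd
  let e₁ : (DRing.LBaseChange φ₅).obj ((DRing.LBaseChange φ₄).obj ω) ≅
      sg (Localization.AtPrime Q) m (Localization.AtPrime Q) :=
    (lbcComp φ₄ φ₅ φ₃ hcomp).app ω ≪≫ ((lbcComp φ₁ φ₂ φ₃ rfl).app ω).symm ≪≫ e
  let e₂ : (DRing.LBaseChange φ₄).obj ω ≅
      (FlatLBC.flatBC φ₄ (GorSpread.flat_atPrime q)).obj ω :=
    (FlatLBC.LBaseChangeIso φ₄ (GorSpread.flat_atPrime q)).app ω
  have hLE : ((DRing.LBaseChange φ₄).obj ω).IsLE b := by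
    have h1 := HomBC.isLE_flatBC (Localization.AtPrime q) (GorSpread.flat_atPrime q) ω b
    exact DerivedCategory.TStructure.t.isLE_of_iso e₂.symm b
  have hfin' : ∀ i, Module.Finite (Localization.AtPrime q)
      (Dual.HD (Localization.AtPrime q) ((DRing.LBaseChange φ₄).obj ω) i) := by
    intro i
    have := hfin i
    have h1 : Module.Finite (Localization.AtPrime q) (Dual.HD (Localization.AtPrime q)
        ((FlatLBC.flatBC φ₄ (GorSpread.flat_atPrime q)).obj ω) i) :=
      Module.Finite.equiv (HomBC.flatHDEquiv (Localization.AtPrime q)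
        (GorSpread.flat_atPrime q) ω i)
    exact Module.Finite.equiv
      ((homologyFunctor (ModuleCat.{u} (Localization.AtPrime q)) i).mapIso e₂.symm).toLinearEquiv
  obtain ⟨e₃⟩ := GorDesc.descend φ₅ hs ((DRing.LBaseChange φ₄).obj ω) b m hfin' e₁
  obtain ⟨f, hfq, h⟩ := GorSpread.spread q ω a b hfin m (e₂.symm ≪≫ e₃)
  exact ⟨f, hfq, m, h⟩

end

section

variable {R A : Type u} [CommRing R] [CommRing A] [Algebra R A]

theorem gorenstein_fibres_iff [IsNoetherianRing A] (ω : Dual.D A) (a b : ℤ) [ω.IsGE a] [ω.IsLE b]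
    (hfin : ∀ i, Module.Finite A (Dual.HD A ω i))
    (hk : ∀ (p : Ideal R) [p.IsPrime]
      [DRing.HasLBaseChange (Algebra.TensorProduct.includeRight : A →ₐ[R] p.Fiber A).toRingHom],
      Dual.IsDualizing (p.Fiber A) ((DRing.LBaseChange
        (Algebra.TensorProduct.includeRight : A →ₐ[R] p.Fiber A).toRingHom).obj ω))
    [hL : ∀ f : A, DRing.HasLBaseChange (algebraMap A (Localization.Away f))] :
    (∀ p : PrimeSpectrum R, LocCoh.IsGorensteinRing (A ⊗[R] p.asIdeal.ResidueField)) ↔
      (∀ q : PrimeSpectrum A, ∃ (f : A) (_ : f ∉ q.asIdeal) (m : ℤ),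
        Nonempty ((DRing.LBaseChange (algebraMap A (Localization.Away f))).obj ω ≅
          (Dual.inD (Localization.Away f) (Localization.Away f))⟦m⟧)) := by
  constructor
  · intro hG q
    obtain ⟨Q, hQ, hQq⟩ := FibreTower.exists_prime_fibre
      (q.asIdeal.comap (algebraMap R A)) q.asIdeal rfl
    set p := q.asIdeal.comap (algebraMap R A) with hp
    have h1 : LocCoh.IsGorensteinRing (p.Fiber A) :=
      GorBasic.isGorensteinRing_of_ringEquiv
        (Algebra.TensorProduct.comm R A p.ResidueField).toRingEquiv (hG ⟨p, inferInstance⟩)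
    have h2 := h1.isGorensteinLocalRing_localization Q
    have hNC : IsNoetherianRing (p.Fiber A) := FibreTower.isNoetherianRing_fiber p
    have := hasLBaseChange (Algebra.TensorProduct.includeRight : A →ₐ[R] p.Fiber A).toRingHom
    obtain ⟨f, hf, m, ⟨e⟩⟩ := exists_iso_of_isGorensteinLocalRing
      (Algebra.TensorProduct.includeRight : A →ₐ[R] p.Fiber A).toRingHom ω a b hfin Q (hk p)
      (GorDesc.localRingHom_fiber_surjective p Q _ rfl) h2
    refine ⟨f, hQq ▸ hf, -m, ⟨?_⟩⟩
    exact (FlatLBC.LBaseChangeIso _ (GorSpread.flat_away f)).app ω ≪≫ e ≪≫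
      (((singleFunctors (ModuleCat.{u} (Localization.Away f))).shiftIso (-m) m 0
        (by simp)).app _).symm
  · intro h p
    have hNC : IsNoetherianRing (p.asIdeal.Fiber A) := FibreTower.isNoetherianRing_fiber p.asIdeal
    refine GorBasic.isGorensteinRing_of_ringEquiv
      (Algebra.TensorProduct.comm R p.asIdeal.ResidueField A).toRingEquiv ?_
    refine { isGorensteinLocalRing_localization := fun Q hQ => ?_ }
    have := hasLBaseChange
      (Algebra.TensorProduct.includeRight : A →ₐ[R] p.asIdeal.Fiber A).toRingHom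
    obtain ⟨f, hf, m, ⟨e⟩⟩ := h ⟨FibreTower.ctr p.asIdeal Q, inferInstance⟩
    exact isGorensteinLocalRing_of_iso
      (Algebra.TensorProduct.includeRight : A →ₐ[R] p.asIdeal.Fiber A).toRingHom ω Q
      (hk p.asIdeal) f hf (-m)
      (e ≪≫ ((singleFunctors (ModuleCat.{u} (Localization.Away f))).shiftIso m (-m) 0
        (by simp)).app _)

end

end Groth.Agent.LoccohB.GorFibreIff
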