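import Groth.Agent.Flat2H.KoszulGen
import Mathlib.Algebra.Category.ModuleCat.ChangeOfRings
import Mathlib.Algebra.Homology.ShortComplex.PreservesHomology
import Mathlib.RingTheory.Regular.RegularSequence
import Mathlib.RingTheory.Regular.Flat
import Mathlib.RingTheory.Nakayama

/-!
# Koszul-regular sequences over Noetherian local rings are regular; base change of the Koszul complex.
-/

set_option autoImplicit false

universe u v w v' w'

open CategoryTheory CategoryTheory.Limits

namespace Groth.Agent.LoccohB.GorKoszul

open CochainComplex HomComplex Groth.Agent.Flat2H.KoszulGen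

section Functor

variable {A : Type u} [CommRing A] {B : Type u} [CommRing B]
variable {C : Type w} [Category.{v} C] [Preadditive C] [Linear A C] [HasBinaryBiproducts C]
variable {D : Type w'} [Category.{v'} D] [Preadditive D] [Linear B D] [HasBinaryBiproducts D]

/-- A functor which is semilinear along `φ` commutes with iterated cones. -/
theorem map_kos (F : C ⥤ D) [F.Additive] (φ : A →+* B)
    (hF : ∀ (X : C) (a : A), F.map (a • 𝟙 X) = φ a • 𝟙 (F.obj X)) (l : List A)
    (K : CochainComplex C ℤ) :
    Nonempty ((F.mapHomologicalComplex (ComplexShape.up ℤ)).obj (kos l K) ≅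
      kos (l.map φ) ((F.mapHomologicalComplex (ComplexShape.up ℤ)).obj K)) := by
  induction l with
  | nil => exact ⟨Iso.refl _⟩
  | cons f l ih =>
    obtain ⟨e⟩ := ih
    have h : (F.mapHomologicalComplex (ComplexShape.up ℤ)).map (f • 𝟙 (kos l K)) =
        φ f • 𝟙 ((F.mapHomologicalComplex (ComplexShape.up ℤ)).obj (kos l K)) := by
      ext i
      exact hF _ f
    have e1 := mappingCone.mapHomologicalComplexIso (f • 𝟙 (kos l K)) F
    rw [h] at e1
    exact ⟨e1 ≪≫ coneIso (φ f) e⟩

end Functor

/-- The frozen Koszul complex is the iterated cone complex on `A[0]`. -/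
theorem koszul_eq_kos (A : Type u) [CommRing A] (l : List A) :
    Koszul.koszul A l =
      kos l ((CochainComplex.singleFunctor (ModuleCat.{u} A) 0).obj (ModuleCat.of A A)) := by
  induction l with
  | nil => rfl
  | cons f l ih =>
    change mappingCone (f • 𝟙 (Koszul.koszul A l)) = mappingCone (f • 𝟙 _)
    congr 1 <;> rw [ih]

section Modules

variable {A : Type u} [CommRing A]

/-- The complex `A[0]`. -/
noncomputable abbrev unitCx (A : Type u) [CommRing A] : CochainComplex (ModuleCat.{u} A) ℤ :=
  (CochainComplex.singleFunctor (ModuleCat.{u} A) 0).obj (ModuleCat.of A A)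

theorem isZero_homology_unitCx (i : ℤ) (hi : i ≠ 0) : IsZero ((unitCx A).homology i) :=
  HomologicalComplex.isZero_single_obj_homology _ _ _ _ hi

/-- Vanishing in large degrees of `kos l K`. -/
theorem isZero_homology_kos_of_lt (l : List A) (K : CochainComplex (ModuleCat.{u} A) ℤ) (a : ℤ)
    (h : ∀ i : ℤ, a < i → IsZero (K.homology i)) (i : ℤ) (hi : a < i) :
    IsZero ((kos l K).homology i) := by
  induction l generalizing i with
  | nil => exact h i hi
  | cons f l ih => exact isZero_homology_cone f (kos l K) i (i + 1) rfl (ih i hi) (ih _ (by lia))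

theorem finite_of_exact [IsNoetherianRing A] {X₁ X₂ X₃ : ModuleCat.{u} A} {f : X₁ ⟶ X₂}
    {g : X₂ ⟶ X₃} {h : f ≫ g = 0} (hex : (ShortComplex.mk f g h).Exact)
    (h1 : Module.Finite A X₁) (h3 : Module.Finite A X₃) : Module.Finite A X₂ := by
  have hex' : Function.Exact f.hom g.hom :=
    (ShortComplex.ShortExact.moduleCat_exact_iff_function_exact _).1 hex
  have : Module.Finite A (LinearMap.ker g.hom) := by
    rw [hex'.linearMap_ker_eq]
    infer_instance
  have h2 : Module.Finite A (X₂ ⧸ LinearMap.ker g.hom) :=
    Module.Finite.equiv (g.hom.quotKerEquivRange).symm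
  exact Module.Finite.of_submodule_quotient (LinearMap.ker g.hom)

theorem finite_homology_kos [IsNoetherianRing A] (l : List A)
    (K : CochainComplex (ModuleCat.{u} A) ℤ) (h : ∀ i : ℤ, Module.Finite A (K.homology i))
    (i : ℤ) : Module.Finite A ((kos l K).homology i) := by
  induction l generalizing i with
  | nil => exact h i
  | cons f l ih =>
    obtain ⟨ι, δ, -, ⟨h₂, e₂⟩, -⟩ := exists_les_smul f (kos l K) i (i + 1) rfl
    exact finite_of_exact e₂ (ih i) (ih (i + 1))

/-- The zeroth homology of the Koszul complex. -/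
theorem exists_homology_zero (l : List A) : ∃ π : A →ₗ[A] ((kos l (unitCx A)).homology 0),
    Function.Surjective π ∧ LinearMap.ker π = Ideal.ofList l := by
  induction l with
  | nil =>
    let e : (unitCx A).homology 0 ≅ ModuleCat.of A A :=
      HomologicalComplex.singleObjHomologySelfIso _ _ _
    refine ⟨e.inv.hom, e.toLinearEquiv.symm.surjective, ?_⟩
    rw [Ideal.ofList_nil]
    exact LinearMap.ker_eq_bot.2 e.toLinearEquiv.symm.injective
  | cons f l ih =>
    obtain ⟨π, hπ, hker⟩ := ih
    obtain ⟨ι, δ, ⟨h₁, e₁⟩, ⟨h₂, e₂⟩, -⟩ := exists_les_smul f (kos l (unitCx A)) 0 1 rfl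
    have e₁' : Function.Exact (f • 𝟙 _ : (kos l (unitCx A)).homology 0 ⟶ _).hom ι.hom :=
      (ShortComplex.ShortExact.moduleCat_exact_iff_function_exact _).1 e₁
    have hι : Function.Surjective ι.hom := by
      have : Epi ι := e₂.epi_f ((isZero_homology_kos_of_lt l (unitCx A) 0
        (fun i hi => isZero_homology_unitCx i hi.ne') 1 (by lia)).eq_of_tgt _ _)
      exact (ModuleCat.epi_iff_surjective _).1 this
    refine ⟨ι.hom ∘ₗ π, hι.comp hπ, ?_⟩
    rw [Ideal.ofList_cons]
    ext a
    rw [LinearMap.mem_ker, LinearMap.comp_apply, Submodule.mem_sup]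
    constructor
    · intro ha
      obtain ⟨x, hx⟩ := (e₁' _).1 ha
      obtain ⟨b, rfl⟩ := hπ x
      have hx' : f • π b = π a := hx
      refine ⟨f • b, Ideal.mem_span_singleton.2 ⟨b, rfl⟩, a - f • b, ?_, by abel⟩
      rw [← hker, LinearMap.mem_ker, map_sub, map_smul, hx', sub_self]
    · rintro ⟨y, hy, z, hz, rfl⟩
      obtain ⟨b, rfl⟩ := Ideal.mem_span_singleton.1 hy
      rw [← hker, LinearMap.mem_ker] at hz
      rw [map_add, hz, add_zero, ← smul_eq_mul, map_smul]
      exact e₁'.apply_apply_eq_zero (π b)

/-- In a Noetherian local ring a Koszul-regular sequence in the maximal ideal is regular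
(reversed order). -/
theorem isWeaklyRegular_reverse [IsNoetherianRing A] [IsLocalRing A] (l : List A)
    (hl : ∀ x ∈ l, x ∈ IsLocalRing.maximalIdeal A)
    (h : ∀ i : ℤ, i < 0 → IsZero ((kos l (unitCx A)).homology i)) :
    RingTheory.Sequence.IsWeaklyRegular A l.reverse := by
  induction l with
  | nil => exact RingTheory.Sequence.IsWeaklyRegular.nil A A
  | cons f l ih =>
    have hf : f ∈ IsLocalRing.maximalIdeal A := hl f List.mem_cons_self
    have hfin : ∀ i, Module.Finite A ((kos l (unitCx A)).homology i) := by
      apply finite_homology_kos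
      intro i
      by_cases hi : i = 0
      · subst hi
        obtain ⟨π, hπ, -⟩ := exists_homology_zero (A := A) []
        exact Module.Finite.of_surjective π hπ
      · have := ModuleCat.isZero_iff_subsingleton.1 (isZero_homology_unitCx (A := A) i hi)
        infer_instance
    have hvan : ∀ i : ℤ, i < 0 → IsZero ((kos l (unitCx A)).homology i) := by
      intro i hi
      obtain ⟨ι, δ, ⟨h₁, e₁⟩, -, -⟩ := exists_les_smul f (kos l (unitCx A)) i (i + 1) rfl
      have e₁' : Function.Exact (f • 𝟙 _ : (kos l (unitCx A)).homology i ⟶ _).hom ι.hom :=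
        (ShortComplex.ShortExact.moduleCat_exact_iff_function_exact _).1 e₁
      have hsurj : ∀ x : (kos l (unitCx A)).homology i, ∃ y, f • y = x := by
        intro x
        refine (e₁' x).1 ?_
        have := ModuleCat.isZero_iff_subsingleton.1 (h i hi)
        exact Subsingleton.elim (α := (kos (f :: l) (unitCx A)).homology i) _ _
      rw [ModuleCat.isZero_iff_subsingleton]
      have := hfin i
      rw [← Submodule.subsingleton_iff A, ← subsingleton_iff_bot_eq_top, eq_comm]
      refine Submodule.eq_bot_of_le_smul_of_le_jacobson_bot (Ideal.span {f}) _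
        Module.Finite.fg_top ?_ ?_
      · intro x _
        obtain ⟨y, rfl⟩ := hsurj x
        exact Submodule.smul_mem_smul (Ideal.mem_span_singleton_self f) trivial
      · rw [IsLocalRing.jacobson_eq_maximalIdeal _ bot_ne_top, Ideal.span_singleton_le_iff_mem]
        exact hf
    have ih' := ih (fun x hx => hl x (List.mem_cons_of_mem _ hx)) hvan
    rw [List.reverse_cons, RingTheory.Sequence.isWeaklyRegular_append_iff]
    refine ⟨ih', ?_⟩
    rw [RingTheory.Sequence.isWeaklyRegular_singleton_iff]
    obtain ⟨ι, δ, -, -, ⟨h₃, e₃⟩⟩ := exists_les_smul f (kos l (unitCx A)) (-1) 0 rfl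
    obtain ⟨π, hπ, hker⟩ := exists_homology_zero l
    have hmono : Function.Injective
        ((f • 𝟙 _ : (kos l (unitCx A)).homology 0 ⟶ _).hom) := by
      have : Mono (f • 𝟙 ((kos l (unitCx A)).homology 0)) :=
        e₃.mono_g ((h (-1) (by lia)).eq_of_src _ _)
      exact (ModuleCat.mono_iff_injective _).1 this
    have hreg : IsSMulRegular ((kos l (unitCx A)).homology 0) f := fun x y hxy => hmono hxy
    let e : (A ⧸ (Ideal.ofList l.reverse • ⊤ : Submodule A A)) ≃ₗ[A]
        (kos l (unitCx A)).homology 0 :=
      (Submodule.quotEquivOfEq _ _ (by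
        rw [hker, Ideal.smul_eq_mul, Ideal.mul_top]
        unfold Ideal.ofList
        congr 1
        ext x
        simp)).trans (π.quotKerEquivOfSurjective hπ)
    exact (e.isSMulRegular_congr f).2 hreg

end Modules

end Groth.Agent.LoccohB.GorKoszul
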