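import Mathlib.Algebra.Homology.HomologicalComplex
import Mathlib.Algebra.Homology.ShortComplex.ModuleCat
import Mathlib.Algebra.Homology.ShortComplex.HomologicalComplex
import Mathlib.Algebra.Homology.QuasiIso
import Mathlib.Algebra.Category.ModuleCat.Abelian

/-!
# Cohomology classes of cocycles in complexes of modules

`hcl K n : ker (K.d n (n+1)) →ₗ[A] K.homology n`, surjective with kernel the boundaries.
-/

set_option autoImplicit false

universe u v

open CategoryTheory Limits

namespace Groth.Agent.LoccohB.HClass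

variable {A : Type u} [Ring A] (K : CochainComplex (ModuleCat.{v} A) ℤ) (n : ℤ)

/-- The class in `H^n(K)` of a cocycle. -/
noncomputable def hcl : LinearMap.ker (K.d n (n + 1)).hom →ₗ[A] K.homology n :=
  (K.liftCycles (ModuleCat.ofHom (LinearMap.ker (K.d n (n + 1)).hom).subtype) (n + 1) (by simp)
    (by ext x; exact x.2) ≫ K.homologyπ n).hom

lemma iCycles_injective : Function.Injective (K.iCycles n) :=
  (ModuleCat.mono_iff_injective _).1 inferInstance

lemma homologyπ_surjective : Function.Surjective (K.homologyπ n) :=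
  (ModuleCat.epi_iff_surjective _).1 inferInstance

variable {K n}

lemma hcl_apply (z : LinearMap.ker (K.d n (n + 1)).hom) (y : K.cycles n)
    (hy : K.iCycles n y = z.1) : hcl K n z = K.homologyπ n y := by
  have h : (K.liftCycles (ModuleCat.ofHom (LinearMap.ker (K.d n (n + 1)).hom).subtype) (n + 1)
    (by simp) (by ext x; exact x.2)) z = y := by
    apply iCycles_injective
    rw [hy, ← ModuleCat.comp_apply, HomologicalComplex.liftCycles_i]
    rfl
  rw [← h]
  rfl

lemma exists_cycle (z : K.X n) (hz : K.d n (n + 1) z = 0) : ∃ y : K.cycles n, K.iCycles n y = z := by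
  refine ⟨(K.liftCycles (ModuleCat.ofHom (LinearMap.ker (K.d n (n + 1)).hom).subtype) (n + 1)
    (by simp) (by ext x; exact x.2)) ⟨z, hz⟩, ?_⟩
  rw [← ModuleCat.comp_apply, HomologicalComplex.liftCycles_i]
  rfl

lemma d_iCycles (y : K.cycles n) : K.d n (n + 1) (K.iCycles n y) = 0 := by
  rw [← ModuleCat.comp_apply, HomologicalComplex.iCycles_d]
  rfl

lemma hcl_surjective : Function.Surjective (hcl K n) := by
  intro x
  obtain ⟨y, rfl⟩ := homologyπ_surjective K n x
  exact ⟨⟨K.iCycles n y, d_iCycles y⟩, hcl_apply _ _ rfl⟩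

lemma homologyπ_eq_zero_iff (y : K.cycles n) :
    K.homologyπ n y = 0 ↔ ∃ w : K.X (n - 1), K.toCycles (n - 1) n w = y := by
  have h1 := ShortComplex.exact_of_g_is_cokernel
    (ShortComplex.mk (K.toCycles (n - 1) n) (K.homologyπ n) (by simp))
    (K.homologyIsCokernel (n - 1) n (by simp))
  rw [ShortComplex.moduleCat_exact_iff] at h1
  constructor
  · intro h
    exact h1 y h
  · rintro ⟨w, rfl⟩
    rw [← ModuleCat.comp_apply]
    simp

lemma hcl_eq_zero_iff (z : LinearMap.ker (K.d n (n + 1)).hom) :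
    hcl K n z = 0 ↔ ∃ w : K.X (n - 1), K.d (n - 1) n w = z.1 := by
  obtain ⟨y, hy⟩ := exists_cycle z.1 z.2
  rw [hcl_apply z y hy, homologyπ_eq_zero_iff]
  constructor
  · rintro ⟨w, rfl⟩
    refine ⟨w, ?_⟩
    rw [← hy, ← ModuleCat.comp_apply, HomologicalComplex.toCycles_i]
  · rintro ⟨w, hw⟩
    refine ⟨w, iCycles_injective K n ?_⟩
    rw [hy, ← hw, ← ModuleCat.comp_apply, HomologicalComplex.toCycles_i]

lemma map_mem_ker {L : CochainComplex (ModuleCat.{v} A) ℤ} (φ : K ⟶ L) (z : K.X n)
    (hz : z ∈ LinearMap.ker (K.d n (n + 1)).hom) :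
    φ.f n z ∈ LinearMap.ker (L.d n (n + 1)).hom := by
  change L.d n (n + 1) (φ.f n z) = 0
  rw [← ModuleCat.comp_apply, φ.comm, ModuleCat.comp_apply]
  erw [show K.d n (n + 1) z = 0 from hz]
  simp

lemma homologyMap_hcl {L : CochainComplex (ModuleCat.{v} A) ℤ} (φ : K ⟶ L)
    (z : LinearMap.ker (K.d n (n + 1)).hom) :
    HomologicalComplex.homologyMap φ n (hcl K n z) = hcl L n ⟨φ.f n z.1, map_mem_ker φ _ z.2⟩ := by
  obtain ⟨y, hy⟩ := exists_cycle z.1 z.2
  rw [hcl_apply z y hy, hcl_apply _ (HomologicalComplex.cyclesMap φ n y), ← ModuleCat.comp_apply,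
    HomologicalComplex.homologyπ_naturality, ModuleCat.comp_apply]
  rw [← ModuleCat.comp_apply, HomologicalComplex.cyclesMap_i, ModuleCat.comp_apply, hy]

/-- A linear equivalence out of homology from a surjection with the right kernel. -/
noncomputable def homologyEquiv {N : Type*} [AddCommGroup N] [Module A N]
    (φ : LinearMap.ker (K.d n (n + 1)).hom →ₗ[A] N) (hφ : Function.Surjective φ)
    (hφ' : ∀ z, φ z = 0 ↔ ∃ w : K.X (n - 1), K.d (n - 1) n w = z.1) : K.homology n ≃ₗ[A] N :=
  ((hcl K n).quotKerEquivOfSurjective hcl_surjective).symm.trans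
    ((Submodule.quotEquivOfEq _ _ (by ext z; simp [hcl_eq_zero_iff, hφ'])).trans
      (φ.quotKerEquivOfSurjective hφ))

end Groth.Agent.LoccohB.HClass
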