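import Groth.Prelude.Def_DRing4

/-!
# The complex `Hom•(K, I)` as a contravariant functor of `K`

`DRing.homCx K I` is functorial in `I` (`DRing.homCxFunctor`).  Here: functoriality in `K`
(`homCxPre`, `homCxOp`), exactness in `K` on short exact sequences of complexes if `I` is termwise injective,
amplitude bounds, homology of `homCx`, quasi-isomorphism invariance for `I` K-injective.
-/

universe u

open CategoryTheory CategoryTheory.Limits CochainComplex CochainComplex.HomComplex

namespace Groth.Agent.LoccohB.HomCx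

variable {A : Type u} [CommRing A]

/-- Precomposition with a morphism of complexes, as a linear map on cochains. -/
noncomputable def precompLin {K K' : DRing.Cx A} (f : K ⟶ K') (I : DRing.Cx A) (i : ℤ) :
    Cochain K' I i →ₗ[A] Cochain K I i where
  toFun z := (Cochain.ofHom f).comp z (zero_add i)
  map_add' z z' := by simp
  map_smul' a z := by simp

@[simp]
lemma precompLin_apply {K K' : DRing.Cx A} (f : K ⟶ K') (I : DRing.Cx A) (i : ℤ)
    (z : Cochain K' I i) : precompLin f I i z = (Cochain.ofHom f).comp z (zero_add i) := rfl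

/-- Functoriality of `Hom•(-, I)` in the first variable. -/
noncomputable def homCxPre {K K' : DRing.Cx A} (f : K ⟶ K') (I : DRing.Cx A) :
    DRing.homCx K' I ⟶ DRing.homCx K I where
  f i := ModuleCat.ofHom (precompLin f I i)
  comm' i j _ := by
    ext z
    change δ i j ((Cochain.ofHom f).comp z (zero_add i)) =
      (Cochain.ofHom f).comp (δ i j z) (zero_add j)
    exact δ_ofHom_comp f z j

lemma homCxPre_f {K K' : DRing.Cx A} (f : K ⟶ K') (I : DRing.Cx A) (i : ℤ) :
    (homCxPre f I).f i = ModuleCat.ofHom (precompLin f I i) := rfl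

@[simp]
lemma homCxPre_id (K I : DRing.Cx A) : homCxPre (𝟙 K) I = 𝟙 _ := by
  refine HomologicalComplex.hom_ext _ _ fun i => ModuleCat.hom_ext (LinearMap.ext
    fun (z : Cochain K I i) => ?_)
  exact Cochain.id_comp z

@[simp]
lemma homCxPre_comp {K K' K'' : DRing.Cx A} (f : K ⟶ K') (g : K' ⟶ K'') (I : DRing.Cx A) :
    homCxPre (f ≫ g) I = homCxPre g I ≫ homCxPre f I := by
  refine HomologicalComplex.hom_ext _ _ fun i => ModuleCat.hom_ext (LinearMap.ext
    fun (z : Cochain K'' I i) => ?_)
  change (Cochain.ofHom (f ≫ g)).comp z (zero_add i) =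
    (Cochain.ofHom f).comp ((Cochain.ofHom g).comp z (zero_add i)) (zero_add i)
  rw [Cochain.ofHom_comp]
  exact Cochain.comp_assoc_of_first_is_zero_cochain _ _ _ _

/-- The contravariant functor `K ↦ Hom•(K, I)`. -/
noncomputable def homCxOp (I : DRing.Cx A) : (DRing.Cx A)ᵒᵖ ⥤ DRing.Cx A where
  obj K := DRing.homCx K.unop I
  map f := homCxPre f.unop I
  map_id K := homCxPre_id _ _
  map_comp f g := homCxPre_comp _ _ _

@[simp]
lemma homCxPre_zero (K K' I : DRing.Cx A) : homCxPre (0 : K ⟶ K') I = 0 := by
  refine HomologicalComplex.hom_ext _ _ fun i => ModuleCat.hom_ext (LinearMap.ext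
    fun (z : Cochain K' I i) => ?_)
  change (Cochain.ofHom (0 : K ⟶ K')).comp z (zero_add i) = 0
  simp

@[simp]
lemma homCxPre_add {K K' : DRing.Cx A} (f g : K ⟶ K') (I : DRing.Cx A) :
    homCxPre (f + g) I = homCxPre f I + homCxPre g I := by
  refine HomologicalComplex.hom_ext _ _ fun i => ModuleCat.hom_ext (LinearMap.ext
    fun (z : Cochain K' I i) => ?_)
  change (Cochain.ofHom (f + g)).comp z (zero_add i) =
    (Cochain.ofHom f).comp z (zero_add i) + (Cochain.ofHom g).comp z (zero_add i)
  simp

instance (I : DRing.Cx A) : (homCxOp I).Additive where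
  map_add {K K' f g} := homCxPre_add f.unop g.unop I

end Groth.Agent.LoccohB.HomCx
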