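import Groth.Agent.LoccohB.HomCxDD2

/-!
# The evaluation map of `A[0]` is a quasi-isomorphism when `A → RHom(I, I)` is an isomorphism
-/

universe v u

open CategoryTheory CategoryTheory.Limits CochainComplex CochainComplex.HomComplex
  HomologicalComplex ZeroObject

attribute [local instance] HasDerivedCategory.standard

namespace Groth.Agent.LoccohB.HomCx

variable {A : Type u} [CommRing A]

variable (A) in
/-- The complex `A[0]`. -/
noncomputable abbrev S0 : DRing.Cx A :=
  (CochainComplex.singleFunctor (ModuleCat.{u} A) 0).obj (ModuleCat.of A A)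

variable (A) in
/-- The identification of `A` with the term of degree `0` of `A[0]`. -/
noncomputable def s0Iso : (S0 A).X 0 ≅ ModuleCat.of A A :=
  HomologicalComplex.singleObjXSelf (ComplexShape.up ℤ) 0 (ModuleCat.of A A)

variable (A) in
/-- The generator `1` of `A[0]` in degree `0`. -/
noncomputable def s0one : (S0 A).X 0 := (s0Iso A).inv (1 : A)

lemma s0_eq_smul (x : (S0 A).X 0) : x = ((s0Iso A).hom x : A) • s0one A := by
  have h : (s0Iso A).inv ((s0Iso A).hom x) = x := by
    change ((s0Iso A).hom ≫ (s0Iso A).inv) x = x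
    simp
  have h2 : ((s0Iso A).hom x : A) • s0one A =
      (s0Iso A).inv (((s0Iso A).hom x : A) • (1 : A)) := by
    rw [s0one]
    exact (map_smul (s0Iso A).inv.hom _ _).symm
  rw [h2, smul_eq_mul, mul_one, h]

lemma isZero_S0_X (p : ℤ) (hp : p ≠ 0) : IsZero ((S0 A).X p) :=
  HomologicalComplex.isZero_single_obj_X _ _ _ _ hp

/-- The map `Hom•(A[0], I) ⟶ I`, evaluation at `1`. -/
noncomputable def theta (I : DRing.Cx A) : DRing.homCx (S0 A) I ⟶ I where
  f i := ModuleCat.ofHom
    { toFun := fun (z : Cochain (S0 A) I i) => (z.v 0 i (zero_add i)) (s0one A)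
      map_add' := fun z z' => rfl
      map_smul' := fun a z => rfl }
  comm' i j hij := by
    obtain rfl : i + 1 = j := hij
    refine ModuleCat.hom_ext (LinearMap.ext fun (z : Cochain (S0 A) I i) => ?_)
    change (I.d i (i + 1)) ((z.v 0 i (zero_add i)) (s0one A)) =
      ((δ i (i + 1) z).v 0 (i + 1) (zero_add _)) (s0one A)
    rw [δ_v i (i + 1) rfl z 0 (i + 1) (zero_add _) i 1 (by lia) rfl]
    have : (S0 A).d 0 1 = 0 := rfl
    rw [this, zero_comp, smul_zero, add_zero]
    rfl

lemma theta_f_apply (I : DRing.Cx A) (i : ℤ) (z : (DRing.homCx (S0 A) I).X i) :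
    (theta I).f i z = ((asCochain z).v 0 i (zero_add i)) (s0one A) := rfl

lemma theta_bijective (I : DRing.Cx A) (i : ℤ) : Function.Bijective ((theta I).f i) := by
  constructor
  · intro z z' h
    refine Cochain.ext (asCochain z) (asCochain z') fun p q hpq => ?_
    by_cases hp : p = 0
    · subst hp
      obtain rfl : i = q := by lia
      refine ModuleCat.hom_ext (LinearMap.ext fun x => ?_)
      rw [s0_eq_smul x, map_smul, map_smul]
      congr 1
    · exact (isZero_S0_X p hp).eq_of_src _ _
  · intro y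
    let g : (S0 A).X 0 ⟶ I.X i := (s0Iso A).hom ≫ ModuleCat.ofHom (LinearMap.toSpanSingleton A _ y)
    refine ⟨(Cochain.single g i : Cochain (S0 A) I i), ?_⟩
    rw [theta_f_apply]
    have : (asCochain (Cochain.single g i : Cochain (S0 A) I i)).v 0 i (zero_add i) = g :=
      Cochain.single_v g i (zero_add i)
    rw [this]
    change ((s0Iso A).hom (s0one A) : A) • y = y
    have : (s0Iso A).hom (s0one A) = (1 : A) := by
      change ((s0Iso A).inv ≫ (s0Iso A).hom) (1 : A) = 1
      simp
    rw [this, one_smul]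

instance (I : DRing.Cx A) (i : ℤ) : IsIso ((theta I).f i) :=
  (ConcreteCategory.isIso_iff_bijective _).2 (theta_bijective I i)

instance (I : DRing.Cx A) : IsIso (theta I) := HomologicalComplex.Hom.isIso_of_components _

lemma ev_s0_eq (I : DRing.Cx A) (a : A) :
    evCochain (S0 A) I 0 (a • s0one A) = Cochain.ofHom (a • theta I) := by
  refine cochain_homCx_ext fun q r hqr φ => ?_
  obtain rfl : q = r := by lia
  rw [Cochain.ofHom_v]
  change (0 * q).negOnePow • ((asCochain φ).v 0 q _) (a • s0one A) =
    a • ((asCochain φ).v 0 q _) (s0one A)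
  rw [zero_mul, Int.negOnePow_zero, one_smul, map_smul]

/-- If `A → RHom(I, I)` is an isomorphism then the evaluation map of `A[0]` is a quasi-isomorphism. -/
theorem quasiIso_ev_s0 (I : DRing.Cx A) [I.IsKInjective]
    (h1 : Function.Bijective (fun a : A => a • 𝟙 (DRing.toD I)))
    (h2 : ∀ i : ℤ, i ≠ 0 → Subsingleton (DRing.toD I ⟶ (DRing.toD I)⟦i⟧)) :
    QuasiIso (ev (S0 A) I) := by
  rw [quasiIso_iff]
  intro j
  by_cases hj : j = 0
  · subst hj
    rw [ModHom.quasiIsoAt_iff']
    constructor
    · intro x _ hy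
      rw [s0_eq_smul x] at hy
      set a : A := (s0Iso A).hom x with ha
      obtain ⟨(y : Cochain (DRing.homCx (S0 A) I) I (0 - 1)),
        (hy : δ (0 - 1) 0 y = evCochain (S0 A) I 0 (a • s0one A))⟩ := hy
      rw [ev_s0_eq] at hy
      have h3 := (exists_δ_eq_ofHom_iff (a • theta I) (0 - 1) (by lia)).1 ⟨y, hy⟩
      rw [Functor.map_smul, ← Category.comp_id (DerivedCategory.Q.map (theta I)),
        ← Linear.comp_smul, ← cancel_epi (inv (DerivedCategory.Q.map (theta I))),
        IsIso.inv_hom_id_assoc, comp_zero] at h3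
      have h4 : a = 0 := h1.1 (by simpa using h3)
      refine ⟨0, ?_⟩
      rw [map_zero, s0_eq_smul x, ← ha, h4, zero_smul]
    · intro (y : Cochain (DRing.homCx (S0 A) I) I 0) (hy : δ 0 1 y = 0)
      let y' : Cocycle (DRing.homCx (S0 A) I) I 0 := Cocycle.mk y 1 rfl hy
      let g := Cocycle.homOf y'
      obtain ⟨a, ha⟩ := h1.2 (inv (DerivedCategory.Q.map (theta I)) ≫ DerivedCategory.Q.map g)
      have h3 : DerivedCategory.Q.map (a • theta I - g) = 0 := by
        rw [Functor.map_sub, Functor.map_smul, sub_eq_zero,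
          ← cancel_epi (inv (DerivedCategory.Q.map (theta I))), ← ha, Linear.comp_smul,
          IsIso.inv_hom_id]
      obtain ⟨z, hz⟩ := (exists_δ_eq_ofHom_iff (a • theta I - g) (0 - 1) (by lia)).2 h3
      refine ⟨a • s0one A, z, ?_, ?_⟩
      · have : (S0 A).d 0 (0 + 1) = 0 := rfl
        rw [this]
        rfl
      · change δ (0 - 1) 0 z = evCochain (S0 A) I 0 (a • s0one A) - y
        rw [hz, ev_s0_eq, Cochain.ofHom_sub]
        congr 1
        exact Cocycle.cochain_ofHom_homOf_eq_coe y'
  · have hex : (S0 A).ExactAt j := by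
      rw [exactAt_iff]
      exact ShortComplex.exact_of_isZero_X₂ _ (isZero_S0_X j hj)
    rw [quasiIsoAt_iff_exactAt _ _ hex, ModHom.exactAt_iff'']
    intro (y : Cochain (DRing.homCx (S0 A) I) I j) (hy : δ j (j + 1) y = 0)
    let y' : Cocycle (DRing.homCx (S0 A) I) I j := Cocycle.mk y (j + 1) rfl hy
    have h3 : y' ∈ coboundaries _ _ j := by
      rw [mem_coboundaries_iff_Q, ← cancel_epi (inv (DerivedCategory.Q.map (theta I))),
        ← cancel_mono ((DerivedCategory.Q.commShiftIso j).hom.app I)]
      exact (h2 j hj).elim _ _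
    rw [mem_coboundaries_iff _ (j - 1) (by simp)] at h3
    exact h3

end Groth.Agent.LoccohB.HomCx
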