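import Mathlib.Algebra.Homology.HomologySequenceLemmas

/-!
# Four/five lemmas for the first and second object in morphisms of short exact sequences of complexes
-/

universe v u

open CategoryTheory CategoryTheory.Limits CategoryTheory.ComposableArrows CategoryTheory.Abelian HomologicalComplex
  HomologicalComplex.HomologySequence

namespace Groth.Agent.LoccohB.HomSeqLem

variable {C ι : Type*} [Category* C] [Abelian C] {c : ComplexShape ι}
  {S₁ S₂ : ShortComplex (HomologicalComplex C c)} (φ : S₁ ⟶ S₂)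
  (hS₁ : S₁.ShortExact) (hS₂ : S₂.ShortExact)

include hS₁ hS₂

lemma epi_homologyMap_τ₁ (i j : ι) (hij : c.Rel i j)
    (h₁ : Epi (homologyMap φ.τ₃ i))
    (h₂ : Epi (homologyMap φ.τ₂ j))
    (h₃ : Mono (homologyMap φ.τ₃ j)) :
    Epi (homologyMap φ.τ₁ j) := by
  apply epi_of_epi_of_epi_of_mono
    ((δ₀Functor ⋙ δ₀Functor).map (mapComposableArrows₅ φ hS₁ hS₂ i j hij))
  · exact (composableArrows₅_exact hS₁ i j hij).δ₀.δ₀
  · exact (composableArrows₅_exact hS₂ i j hij).δ₀.δ₀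
  · exact h₁
  · exact h₂
  · exact h₃

lemma mono_homologyMap_τ₁ (i j : ι) (hij : c.Rel i j)
    (h₁ : Epi (homologyMap φ.τ₂ i))
    (h₂ : Mono (homologyMap φ.τ₃ i))
    (h₃ : Mono (homologyMap φ.τ₂ j)) :
    Mono (homologyMap φ.τ₁ j) := by
  apply mono_of_epi_of_mono_of_mono
    ((δ₀Functor ⋙ δlastFunctor).map (mapComposableArrows₅ φ hS₁ hS₂ i j hij))
  · exact (composableArrows₅_exact hS₁ i j hij).δ₀.δlast
  · exact (composableArrows₅_exact hS₂ i j hij).δ₀.δlast
  · exact h₁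
  · exact h₂
  · exact h₃

lemma quasiIso_τ₁ (hc : ∀ j, ∃ i, c.Rel i j) (h₂ : QuasiIso φ.τ₂) (h₃ : QuasiIso φ.τ₃) :
    QuasiIso φ.τ₁ := by
  rw [quasiIso_iff]
  intro j
  obtain ⟨i, hij⟩ := hc j
  rw [quasiIsoAt_iff_isIso_homologyMap]
  have := epi_homologyMap_τ₁ φ hS₁ hS₂ i j hij inferInstance inferInstance inferInstance
  have := mono_homologyMap_τ₁ φ hS₁ hS₂ i j hij inferInstance inferInstance inferInstance
  exact isIso_of_mono_of_epi _

/-- If the third map is an isomorphism on `H^{i}`, `H^j`, then on `H^j` the first map is iso iff ... -/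
lemma isIso_homologyMap_τ₁ (i j : ι) (hij : c.Rel i j)
    (h₁ : Epi (homologyMap φ.τ₂ i))
    (h₂ : IsIso (homologyMap φ.τ₃ i))
    (h₃ : IsIso (homologyMap φ.τ₂ j))
    (h₄ : Mono (homologyMap φ.τ₃ j)) :
    IsIso (homologyMap φ.τ₁ j) := by
  have := epi_homologyMap_τ₁ φ hS₁ hS₂ i j hij inferInstance inferInstance h₄
  have := mono_homologyMap_τ₁ φ hS₁ hS₂ i j hij h₁ inferInstance inferInstance
  exact isIso_of_mono_of_epi _

end Groth.Agent.LoccohB.HomSeqLem
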