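import Groth.Agent.LoccohB.HomCxEv
import Groth.Agent.LoccohB.HomSeqLem
import Mathlib.Algebra.Homology.HomotopyCategory.DegreewiseSplit

/-!
# The evaluation map and short exact sequences, quasi-isomorphisms, shifts, direct summands
-/

universe v u

open CategoryTheory CategoryTheory.Limits CochainComplex CochainComplex.HomComplex
  HomologicalComplex

namespace Groth.Agent.LoccohB.HomCx

variable {A : Type u} [CommRing A]

/-- The cokernel sequence `0 ⟶ L ⟶ Cone(φ) ⟶ K⟦1⟧ ⟶ 0`. -/
lemma cone_shortExact {K L : DRing.Cx A} (φ : K ⟶ L) :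
    (mappingCone.triangleRotateShortComplex φ).ShortExact :=
  HomologicalComplex.shortExact_of_degreewise_shortExact _ fun i =>
    (mappingCone.triangleRotateShortComplexSplitting φ i).shortExact

/-- The double dual of a map. -/
noncomputable abbrev ddMap {K K' : DRing.Cx A} (f : K ⟶ K') (I : DRing.Cx A) :
    DRing.homCx (DRing.homCx K I) I ⟶ DRing.homCx (DRing.homCx K' I) I :=
  homCxPre (homCxPre f I) I

/-- The evaluation map of a short complex of complexes. -/
noncomputable def evSC (S : ShortComplex (DRing.Cx A)) (I : DRing.Cx A) :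
    S ⟶ homCxSC (homCxSC S I) I where
  τ₁ := ev S.X₁ I
  τ₂ := ev S.X₂ I
  τ₃ := ev S.X₃ I
  comm₁₂ := ev_naturality S.f I
  comm₂₃ := ev_naturality S.g I

lemma ddSC_shortExact {S : ShortComplex (DRing.Cx A)} (hS : S.ShortExact) (I : DRing.Cx A)
    (hI : ∀ n, Injective (I.X n)) : (homCxSC (homCxSC S I) I).ShortExact :=
  homCxSC_shortExact I (homCxSC_shortExact I hS hI) hI

section

variable (I : DRing.Cx A) [I.IsKInjective]

lemma quasiIsoAt_ev_iff {K K' : DRing.Cx A} (f : K ⟶ K') [QuasiIso f] (j : ℤ) :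
    QuasiIsoAt (ev K I) j ↔ QuasiIsoAt (ev K' I) j := by
  have h1 := quasiIso_homCxPre f I
  have h2 := quasiIso_homCxPre (homCxPre f I) I
  have h3 := ev_naturality f I
  rw [← quasiIsoAt_iff_comp_right (ev K I) (ddMap f I) j, h3,
    quasiIsoAt_iff_comp_left]

lemma quasiIso_ev_iff {K K' : DRing.Cx A} (f : K ⟶ K') [QuasiIso f] :
    QuasiIso (ev K I) ↔ QuasiIso (ev K' I) := by
  simp only [quasiIso_iff, quasiIsoAt_ev_iff I f]

lemma quasiIso_ev_of_iso {K K' : DRing.Cx A} (e : K ≅ K') (h : QuasiIso (ev K I)) :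
    QuasiIso (ev K' I) := by
  rwa [← quasiIso_ev_iff I e.hom]

end

section

variable (I : DRing.Cx A)

lemma quasiIso_ev_of_sum {X : DRing.Cx A} {ι : Type*} (s : Finset ι) (Y : ι → DRing.Cx A)
    (π : ∀ i, X ⟶ Y i) (σ : ∀ i, Y i ⟶ X) (h : ∑ i ∈ s, π i ≫ σ i = 𝟙 X)
    (hY : ∀ i, QuasiIso (ev (Y i) I)) : QuasiIso (ev X I) := by
  rw [quasiIso_iff]
  intro j
  rw [quasiIsoAt_iff_isIso_homologyMap]
  have hYj (i : ι) : IsIso (homologyMap (ev (Y i) I) j) := inferInstance
  have hdd : ∑ i ∈ s, homologyMap (ddMap (π i) I) j ≫ homologyMap (ddMap (σ i) I) j = 𝟙 _ := by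
    have h1 : ∑ i ∈ s, (ddMap (π i) I) ≫ (ddMap (σ i) I) = 𝟙 _ := by
      have : ∑ i ∈ s, (ddMap (π i) I) ≫ (ddMap (σ i) I) =
          ddMap (∑ i ∈ s, π i ≫ σ i) I := by
        rw [ddMap]
        have e1 : homCxPre (∑ i ∈ s, π i ≫ σ i) I = ∑ i ∈ s, homCxPre (π i ≫ σ i) I := by
          have := (homCxOp I).map_sum (fun i => (π i ≫ σ i).op) s
          rw [← op_sum] at this
          exact this
        have e2 : homCxPre (∑ i ∈ s, homCxPre (π i ≫ σ i) I) I =
            ∑ i ∈ s, homCxPre (homCxPre (π i ≫ σ i) I) I := by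
          have := (homCxOp I).map_sum (fun i => (homCxPre (π i ≫ σ i) I).op) s
          rw [← op_sum] at this
          exact this
        rw [e1, e2]
        refine Finset.sum_congr rfl fun i _ => ?_
        rw [homCxPre_comp, homCxPre_comp]
      rw [this, h, ddMap, homCxPre_id, homCxPre_id]
    have h2 := congrArg (fun f => homologyMap f j) h1
    simp only [homologyMap_id] at h2
    rw [← h2]
    simp only [← homologyMap_comp]
    exact ((homologyFunctor (ModuleCat A) (ComplexShape.up ℤ) j).map_sum _ s).symm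
  have hh : ∑ i ∈ s, homologyMap (π i) j ≫ homologyMap (σ i) j = 𝟙 _ := by
    have h2 := congrArg (fun f => homologyMap f j) h
    simp only [homologyMap_id] at h2
    rw [← h2]
    simp only [← homologyMap_comp]
    exact ((homologyFunctor (ModuleCat A) (ComplexShape.up ℤ) j).map_sum _ s).symm
  have nat1 (i : ι) : homologyMap (ev X I) j ≫ homologyMap (ddMap (π i) I) j =
      homologyMap (π i) j ≫ homologyMap (ev (Y i) I) j := by
    rw [← homologyMap_comp, ← homologyMap_comp, ev_naturality]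
  have nat2 (i : ι) : homologyMap (ev (Y i) I) j ≫ homologyMap (ddMap (σ i) I) j =
      homologyMap (σ i) j ≫ homologyMap (ev X I) j := by
    rw [← homologyMap_comp, ← homologyMap_comp, ev_naturality]
  refine ⟨∑ i ∈ s, homologyMap (ddMap (π i) I) j ≫ inv (homologyMap (ev (Y i) I) j) ≫
    homologyMap (σ i) j, ?_, ?_⟩
  · rw [Preadditive.comp_sum, ← hh]
    refine Finset.sum_congr rfl fun i _ => ?_
    rw [reassoc_of% (nat1 i), IsIso.hom_inv_id_assoc]
  · rw [Preadditive.sum_comp, ← hdd]
    refine Finset.sum_congr rfl fun i _ => ?_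
    rw [Category.assoc, Category.assoc, ← nat2, IsIso.inv_hom_id_assoc]

end

end Groth.Agent.LoccohB.HomCx
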