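import Groth.Agent.LoccohB.HomCxDD
import Mathlib.Algebra.Homology.HomotopyCategory.SingleFunctors

/-!
# The evaluation map for shifts and for finite free modules in one degree
-/

universe v u

open CategoryTheory CategoryTheory.Limits CochainComplex CochainComplex.HomComplex
  HomologicalComplex ZeroObject

namespace Groth.Agent.LoccohB.HomCx

variable {A : Type u} [CommRing A]

lemma quasiIso_of_acyclic {K L : DRing.Cx A} (f : K ⟶ L) (hK : K.Acyclic) (hL : L.Acyclic) :
    QuasiIso f := by
  rw [quasiIso_iff]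
  intro i
  rw [quasiIsoAt_iff_exactAt _ _ (hK i)]
  exact hL i

lemma isZero_ofIsZero {K : DRing.Cx A} (I : DRing.Cx A) (h : ∀ p, IsZero (K.X p)) (i : ℤ) :
    IsZero ((DRing.homCx K I).X i) := isZero_homCx_X K I i fun p => Or.inl (h p)

lemma acyclic_of_isZero_X {K : DRing.Cx A} (h : ∀ p, IsZero (K.X p)) : K.Acyclic := by
  intro i
  rw [exactAt_iff]
  exact ShortComplex.exact_of_isZero_X₂ _ (h i)

section

variable (I : DRing.Cx A) [I.IsKInjective]

lemma quasiIso_ev_of_acyclic {K : DRing.Cx A} (hK : K.Acyclic) : QuasiIso (ev K I) := by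
  have h0 : ∀ p, IsZero ((0 : DRing.Cx A).X p) := fun p =>
    (HomologicalComplex.eval _ _ p).map_isZero (isZero_zero _)
  have : QuasiIso (0 : (0 : DRing.Cx A) ⟶ K) :=
    quasiIso_of_acyclic _ (acyclic_of_isZero_X h0) hK
  rw [← quasiIso_ev_iff I (0 : (0 : DRing.Cx A) ⟶ K)]
  apply quasiIso_of_acyclic
  · exact acyclic_of_isZero_X h0
  · exact acyclic_of_isZero_X (isZero_ofIsZero I (isZero_ofIsZero I h0))

omit [I.IsKInjective] in
lemma acyclic_cone_id (K : DRing.Cx A) : (mappingCone (𝟙 K)).Acyclic := by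
  intro i
  rw [exactAt_iff_isZero_homology, IsZero.iff_id_eq_zero, ← homologyMap_id,
    (mappingCone.homotopyToZeroOfId K).homologyMap_eq, homologyMap_zero]

lemma quasiIso_ev_shift (hI : ∀ n, Injective (I.X n)) {K : DRing.Cx A}
    (hK : QuasiIso (ev K I)) : QuasiIso (ev (K⟦(1 : ℤ)⟧) I) := by
  have hS := cone_shortExact (𝟙 K)
  exact HomologySequence.quasiIso_τ₃ (evSC _ I) hS (ddSC_shortExact hS I hI) hK
    (quasiIso_ev_of_acyclic I (acyclic_cone_id K))

lemma quasiIso_ev_unshift (hI : ∀ n, Injective (I.X n)) {K : DRing.Cx A}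
    (hK : QuasiIso (ev (K⟦(1 : ℤ)⟧) I)) : QuasiIso (ev K I) := by
  have hS := cone_shortExact (𝟙 K)
  exact HomSeqLem.quasiIso_τ₁ (evSC _ I) hS (ddSC_shortExact hS I hI)
    (fun j => ⟨j - 1, by simp⟩)
    (quasiIso_ev_of_acyclic I (acyclic_cone_id K)) hK

lemma quasiIso_ev_single (hI : ∀ n, Injective (I.X n)) (M : ModuleCat.{u} A)
    (h0 : QuasiIso (ev ((CochainComplex.singleFunctor (ModuleCat.{u} A) 0).obj M) I)) (n : ℤ) :
    QuasiIso (ev ((CochainComplex.singleFunctor (ModuleCat.{u} A) n).obj M) I) := by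
  induction n using Int.induction_on with
  | zero => exact h0
  | succ n ih =>
    have e := ((CochainComplex.singleFunctors (ModuleCat.{u} A)).shiftIso 1 (n : ℤ) (n + 1)
      (by lia)).app M
    apply quasiIso_ev_unshift I hI
    exact quasiIso_ev_of_iso I e.symm ih
  | pred n ih =>
    have e := ((CochainComplex.singleFunctors (ModuleCat.{u} A)).shiftIso 1 (-(n : ℤ) - 1)
      (-(n : ℤ)) (by lia)).app M
    exact quasiIso_ev_of_iso I e (quasiIso_ev_shift I hI ih)

end

/-- If the evaluation map of `A[0]` is a quasi-isomorphism then so is that of `A^k` in any degree. -/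
lemma quasiIso_ev_single_free (I : DRing.Cx A) [I.IsKInjective] (hI : ∀ n, Injective (I.X n))
    (h0 : QuasiIso (ev ((CochainComplex.singleFunctor (ModuleCat.{u} A) 0).obj (ModuleCat.of A A)) I))
    (n : ℤ) (k : ℕ) :
    QuasiIso (ev ((CochainComplex.singleFunctor (ModuleCat.{u} A) n).obj
      (ModuleCat.of A (Fin k → A))) I) := by
  apply quasiIso_ev_single I hI
  refine quasiIso_ev_of_sum I (Finset.univ : Finset (Fin k))
    (fun _ => (CochainComplex.singleFunctor (ModuleCat.{u} A) 0).obj (ModuleCat.of A A))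
    (fun i => (CochainComplex.singleFunctor (ModuleCat.{u} A) 0).map
      (ModuleCat.ofHom (LinearMap.proj i)))
    (fun i => (CochainComplex.singleFunctor (ModuleCat.{u} A) 0).map
      (ModuleCat.ofHom (LinearMap.single A (fun _ => A) i))) ?_ (fun _ => h0)
  simp only [← Functor.map_comp]
  rw [← Functor.map_sum, ← (CochainComplex.singleFunctor (ModuleCat.{u} A) 0).map_id]
  congr 1
  refine ModuleCat.hom_ext (LinearMap.ext fun x => ?_)
  rw [ModuleCat.hom_sum, LinearMap.sum_apply]
  exact Finset.univ_sum_single x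

end Groth.Agent.LoccohB.HomCx
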