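import Groth.Agent.LoccohB.HomCxK

/-!
# The evaluation map `K ⟶ Hom•(Hom•(K, I), I)`
-/

universe v u

open CategoryTheory CategoryTheory.Limits CochainComplex CochainComplex.HomComplex

namespace Groth.Agent.LoccohB.HomCx

variable {A : Type u} [CommRing A]

/-- An element of `Hom•(K, I)` in degree `q`, as a cochain. -/
abbrev asCochain {K I : DRing.Cx A} {q : ℤ} (φ : (DRing.homCx K I).X q) : Cochain K I q := φ

/-- Evaluation at `x ∈ K^p`, with sign, as a linear map `Hom^q(K, I) → I^r`, `r = p + q`. -/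
noncomputable def evLin (K I : DRing.Cx A) (p q r : ℤ) (h : q + p = r) (x : K.X p) :
    Cochain K I q →ₗ[A] I.X r where
  toFun φ := (p * q).negOnePow • (φ.v p r (by lia)) x
  map_add' φ φ' := by
    rw [Cochain.add_v]
    change _ • ((φ.v p r (by lia)) x + (φ'.v p r (by lia)) x) = _
    rw [smul_add]
  map_smul' a φ := by
    rw [Cochain.smul_v, RingHom.id_apply]
    change _ • (a • (φ.v p r (by lia)) x) = _
    rw [smul_comm]

/-- The evaluation at `x ∈ K^p` as a cochain of degree `p`. -/
noncomputable def evCochain (K I : DRing.Cx A) (p : ℤ) (x : K.X p) :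
    Cochain (DRing.homCx K I) I p :=
  Cochain.mk fun q r h => ModuleCat.ofHom (evLin K I p q r h x)

lemma evCochain_v_apply (K I : DRing.Cx A) (p : ℤ) (x : K.X p) (q r : ℤ) (h : q + p = r)
    (φ : (DRing.homCx K I).X q) :
    ((evCochain K I p x).v q r h) φ =
      (p * q).negOnePow • ((asCochain φ).v p r (by lia)) x := rfl

/-- Two cochains with source `Hom•(K, I)` are equal iff they agree on elements. -/
lemma cochain_homCx_ext {K I J : DRing.Cx A} {n : ℤ} {z z' : Cochain (DRing.homCx K I) J n}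
    (h : ∀ (q r : ℤ) (hqr : q + n = r) (φ : (DRing.homCx K I).X q),
      (z.v q r hqr) φ = (z'.v q r hqr) φ) :
    z = z' := by
  refine Cochain.ext z z' fun q r hqr => ?_
  exact ModuleCat.hom_ext (LinearMap.ext fun φ => h q r hqr φ)

/-- The evaluation map `K ⟶ Hom•(Hom•(K, I), I)` in degree `p`. -/
noncomputable def evf (K I : DRing.Cx A) (p : ℤ) :
    K.X p →ₗ[A] Cochain (DRing.homCx K I) I p where
  toFun := fun x => evCochain K I p x
  map_add' := fun x y => by
    refine cochain_homCx_ext fun q r hqr φ => ?_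
    rw [Cochain.add_v]
    change _ = ((evCochain K I p x).v q r hqr) φ + ((evCochain K I p y).v q r hqr) φ
    simp only [evCochain_v_apply, map_add, smul_add]
  map_smul' := fun a x => by
    refine cochain_homCx_ext fun q r hqr φ => ?_
    rw [RingHom.id_apply, Cochain.smul_v]
    change _ = a • ((evCochain K I p x).v q r hqr) φ
    simp only [evCochain_v_apply, map_smul]
    rw [smul_comm]

lemma δ_evCochain (K I : DRing.Cx A) (p : ℤ) (x : K.X p) :
    δ p (p + 1) (evCochain K I p x) = evCochain K I (p + 1) (K.d p (p + 1) x) := by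
  refine cochain_homCx_ext fun q r hqr φ => ?_
  rw [δ_v p (p + 1) rfl _ q r hqr (r - 1) (q + 1) rfl rfl]
  have h1 : ((evCochain K I p x).v q (r - 1) (by lia) ≫ I.d (r - 1) r) φ =
      (p * q).negOnePow • I.d (r - 1) r (((asCochain φ).v p (r - 1) (by lia)) x) := by
    change I.d (r - 1) r ((p * q).negOnePow • ((asCochain φ).v p (r - 1) (by lia)) x) = _
    exact map_zsmul (I.d (r - 1) r).hom _ _
  have h2 : ((DRing.homCx K I).d q (q + 1) ≫ (evCochain K I p x).v (q + 1) r (by lia)) φ =
      (p * (q + 1)).negOnePow • ((δ q (q + 1) (asCochain φ)).v p r (by lia)) x := rfl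
  have h3 : ((δ q (q + 1) (asCochain φ)).v p r (by lia)) x =
      I.d (r - 1) r (((asCochain φ).v p (r - 1) (by lia)) x) +
        (q + 1).negOnePow • ((asCochain φ).v (p + 1) r (by lia)) (K.d p (p + 1) x) := by
    rw [δ_v q (q + 1) rfl _ p r (by lia) (r - 1) (p + 1) rfl rfl]
    rfl
  have h4 : ((evCochain K I (p + 1) (K.d p (p + 1) x)).v q r hqr) φ =
    ((p + 1) * q).negOnePow • ((asCochain φ).v (p + 1) r (by lia)) (K.d p (p + 1) x) := rfl
  change ((evCochain K I p x).v q (r - 1) (by lia) ≫ I.d (r - 1) r) φ +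
    (p + 1).negOnePow • ((DRing.homCx K I).d q (q + 1) ≫
      (evCochain K I p x).v (q + 1) r (by lia)) φ = _
  have h5 : (p + 1).negOnePow * (p * (q + 1)).negOnePow = - (p * q).negOnePow := by
    rw [← Int.negOnePow_add, ← Int.negOnePow_succ, Int.negOnePow_eq_iff]
    exact ⟨p, by ring⟩
  have h6 : (p + 1).negOnePow * (p * (q + 1)).negOnePow * (q + 1).negOnePow =
      ((p + 1) * q).negOnePow := by
    rw [← Int.negOnePow_add, ← Int.negOnePow_add, Int.negOnePow_eq_iff]
    exact ⟨p + 1, by ring⟩
  rw [h1, h2, h3, h4, smul_add, smul_add, smul_smul, smul_smul, smul_smul, ← add_assoc,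
    h6, h5, Units.neg_smul, add_neg_cancel, zero_add]

/-- The evaluation map `K ⟶ Hom•(Hom•(K, I), I)`. -/
noncomputable def ev (K I : DRing.Cx A) : K ⟶ DRing.homCx (DRing.homCx K I) I where
  f p := ModuleCat.ofHom (evf K I p)
  comm' p p' hp := by
    obtain rfl : p + 1 = p' := hp
    ext x
    exact δ_evCochain K I p x

lemma ev_f_apply (K I : DRing.Cx A) (p : ℤ) (x : K.X p) :
    (ev K I).f p x = evCochain K I p x := rfl

/-- Naturality of the evaluation map. -/
@[reassoc]
lemma ev_naturality {K K' : DRing.Cx A} (f : K ⟶ K') (I : DRing.Cx A) :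
    ev K I ≫ homCxPre (homCxPre f I) I = f ≫ ev K' I := by
  ext p x
  change (Cochain.ofHom (homCxPre f I)).comp (evCochain K I p x) (zero_add p) =
    evCochain K' I p (f.f p x)
  refine cochain_homCx_ext fun q r hqr φ => ?_
  rw [Cochain.zero_cochain_comp_v, Cochain.ofHom_v]
  change (p * q).negOnePow • ((asCochain ((homCxPre f I).f q φ)).v p r (by lia)) x =
    (p * q).negOnePow • ((asCochain φ).v p r (by lia)) (f.f p x)
  congr 1
  change (((Cochain.ofHom f).comp (asCochain φ) (zero_add q)).v p r (by lia)) x = _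
  rw [Cochain.zero_cochain_comp_v, Cochain.ofHom_v]
  rfl

end Groth.Agent.LoccohB.HomCx
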