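import Groth.Agent.LoccohB.HomCx
import Mathlib.Algebra.Homology.HomologicalComplexAbelian
import Mathlib.Algebra.Homology.ShortComplex.ModuleCat
import Mathlib.Algebra.Homology.HomologySequenceLemmas
import Mathlib.Algebra.Homology.Embedding.CochainComplex

/-!
# Exactness and amplitude of `Hom•(-, I)`
-/

universe u

open CategoryTheory CategoryTheory.Limits CochainComplex CochainComplex.HomComplex

namespace Groth.Agent.LoccohB.HomCx

variable {A : Type u} [CommRing A]

section Exact

variable (S : ShortComplex (DRing.Cx A)) (I : DRing.Cx A)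

/-- The short complex `Hom•(S.X₃, I) ⟶ Hom•(S.X₂, I) ⟶ Hom•(S.X₁, I)`. -/
noncomputable def homCxSC : ShortComplex (DRing.Cx A) :=
  ShortComplex.mk (homCxPre S.g I) (homCxPre S.f I) (by
    rw [← homCxPre_comp, S.zero, homCxPre_zero])

variable {S}

lemma homCxSC_shortExact (hS : S.ShortExact) (hI : ∀ n, Injective (I.X n)) :
    (homCxSC S I).ShortExact := by
  apply HomologicalComplex.shortExact_of_degreewise_shortExact
  intro i
  have hSp (p : ℤ) : (S.map (HomologicalComplex.eval _ _ p)).ShortExact :=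
    hS.map_of_exact _
  have hepi (p : ℤ) : Epi (S.g.f p) := (hSp p).epi_g
  have hmono (p : ℤ) : Mono (S.f.f p) := (hSp p).mono_f
  refine ShortComplex.ShortExact.mk' ?_ ?_ ?_
  · rw [ShortComplex.moduleCat_exact_iff]
    intro (z : Cochain S.X₂ I i) (hz : (Cochain.ofHom S.f).comp z (zero_add i) = 0)
    have hz' (p q : ℤ) (hpq : p + i = q) : S.f.f p ≫ z.v p q hpq = 0 := by
      simpa using Cochain.congr_v hz p q hpq
    refine ⟨Cochain.mk fun p q hpq => (hSp p).gIsCokernel.desc
      (CokernelCofork.ofπ (z.v p q hpq) (hz' p q hpq)), ?_⟩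
    change (Cochain.ofHom S.g).comp (Cochain.mk _) (zero_add i) = z
    ext p q hpq : 1
    rw [Cochain.zero_cochain_comp_v, Cochain.ofHom_v, Cochain.mk_v]
    exact (hSp p).gIsCokernel.fac (CokernelCofork.ofπ (z.v p q hpq) (hz' p q hpq))
      WalkingParallelPair.one
  · change Mono ((homCxPre S.g I).f i)
    rw [ModuleCat.mono_iff_injective]
    intro (z : Cochain S.X₃ I i) (z' : Cochain S.X₃ I i) hz
    replace hz : (Cochain.ofHom S.g).comp z (zero_add i) =
      (Cochain.ofHom S.g).comp z' (zero_add i) := hz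
    refine Cochain.ext z z' fun p q hpq => ?_
    have := Cochain.congr_v hz p q hpq
    rw [Cochain.zero_cochain_comp_v, Cochain.zero_cochain_comp_v, Cochain.ofHom_v] at this
    rwa [cancel_epi] at this
  · change Epi ((homCxPre S.f I).f i)
    rw [ModuleCat.epi_iff_surjective]
    intro (z : Cochain S.X₁ I i)
    refine ⟨Cochain.mk fun p q hpq => Injective.factorThru (z.v p q hpq) (S.f.f p), ?_⟩
    change (Cochain.ofHom S.f).comp (Cochain.mk _) (zero_add i) = z
    ext p q hpq : 1
    rw [Cochain.zero_cochain_comp_v, Cochain.ofHom_v, Cochain.mk_v]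
    exact Injective.comp_factorThru _ _

end Exact

section Amplitude

variable (K I : DRing.Cx A)

lemma isZero_homCx_X (i : ℤ) (h : ∀ p, IsZero (K.X p) ∨ IsZero (I.X (p + i))) :
    IsZero ((DRing.homCx K I).X i) := by
  have : Subsingleton (Cochain K I i) := ⟨fun z z' => by
    ext p q hpq : 1
    subst hpq
    obtain h | h := h p
    · exact h.eq_of_src _ _
    · exact h.eq_of_tgt _ _⟩
  exact ModuleCat.isZero_of_subsingleton (ModuleCat.of A (Cochain K I i))

lemma homCx_isStrictlyGE (a n m : ℤ) (h : m + n ≤ a) [K.IsStrictlyLE n] [I.IsStrictlyGE a] :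
    (DRing.homCx K I).IsStrictlyGE m := by
  rw [CochainComplex.isStrictlyGE_iff]
  intro i hi
  apply isZero_homCx_X
  intro p
  by_cases hp : n < p
  · exact Or.inl (K.isZero_of_isStrictlyLE n p hp)
  · exact Or.inr (I.isZero_of_isStrictlyGE a _ (by lia))

lemma homCx_isStrictlyLE (b n m : ℤ) (h : b ≤ m + n) [K.IsStrictlyGE n] [I.IsStrictlyLE b] :
    (DRing.homCx K I).IsStrictlyLE m := by
  rw [CochainComplex.isStrictlyLE_iff]
  intro i hi
  apply isZero_homCx_X
  intro p
  by_cases hp : p < n
  · exact Or.inl (K.isZero_of_isStrictlyGE n p hp)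
  · exact Or.inr (I.isZero_of_isStrictlyLE b _ (by lia))

end Amplitude

end Groth.Agent.LoccohB.HomCx
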