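import Groth.Agent.LoccohB.Bidual

/-!
# Finiteness of the cohomology of `Hom•(K, I)`

`A` Noetherian, `I` a bounded K-injective complex with injective terms and finite cohomology, `K` any complex with
finite cohomology modules: all cohomology modules of `Hom•(K, I)` are finite.
-/

universe v u

open CategoryTheory CategoryTheory.Limits CochainComplex CochainComplex.HomComplex
  HomologicalComplex ZeroObject

attribute [local instance] HasDerivedCategory.standard

namespace Groth.Agent.LoccohB.HomCx

variable {A : Type u} [CommRing A] [IsNoetherianRing A]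

/-- All cohomology modules of `Hom•(K, I)` are finite. -/
def FinT (K I : DRing.Cx A) : Prop := ∀ j, Module.Finite A ((DRing.homCx K I).homology j)

section

variable (I : DRing.Cx A)

omit [IsNoetherianRing A] in
lemma finT_of_quasiIso [I.IsKInjective] {K K' : DRing.Cx A} (f : K ⟶ K') [QuasiIso f]
    (h : FinT K I) : FinT K' I := fun j => by
  have := quasiIso_homCxPre f I
  exact ConeRes.finite_of_iso (asIso (homologyMap (homCxPre f I) j)).symm (h j)

omit [IsNoetherianRing A] in
lemma finT_of_quasiIso' [I.IsKInjective] {K K' : DRing.Cx A} (f : K ⟶ K') [QuasiIso f]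
    (h : FinT K' I) : FinT K I := fun j => by
  have := quasiIso_homCxPre f I
  exact ConeRes.finite_of_iso (asIso (homologyMap (homCxPre f I) j)) (h j)

omit [IsNoetherianRing A] in
/-- Two consecutive terms: in a short exact sequence with acyclic middle term the connecting maps are
isomorphisms. -/
lemma isIso_δ_of_acyclic {S : ShortComplex (DRing.Cx A)} (hS : S.ShortExact) (h : S.X₂.Acyclic)
    (i j : ℤ) (hij : i + 1 = j) : IsIso (hS.δ i j hij) := by
  have h1 : Mono (hS.δ i j hij) :=
    (hS.homology_exact₃ i j hij).mono_g ((h i).isZero_homology.eq_of_src _ _)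
  have h2 : Epi (hS.δ i j hij) :=
    (hS.homology_exact₁ i j hij).epi_f ((h j).isZero_homology.eq_of_tgt _ _)
  exact isIso_of_mono_of_epi _

omit [IsNoetherianRing A] in
lemma homCx_acyclic [I.IsKInjective] {K : DRing.Cx A} (h : K.Acyclic) :
    (DRing.homCx K I).Acyclic := by
  have h0 : ∀ p, IsZero ((0 : DRing.Cx A).X p) := fun p =>
    (HomologicalComplex.eval _ _ p).map_isZero (isZero_zero _)
  have : QuasiIso (0 : (0 : DRing.Cx A) ⟶ K) :=
    quasiIso_of_acyclic _ (acyclic_of_isZero_X h0) h
  have := quasiIso_homCxPre (0 : (0 : DRing.Cx A) ⟶ K) I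
  intro j
  rw [exactAt_iff_of_quasiIsoAt (homCxPre (0 : (0 : DRing.Cx A) ⟶ K) I) j]
  exact acyclic_of_isZero_X (isZero_ofIsZero I h0) j

omit [IsNoetherianRing A] in
lemma finT_shift_iff [I.IsKInjective] (hI : ∀ n, Injective (I.X n)) (K : DRing.Cx A) :
    FinT (K⟦(1 : ℤ)⟧) I ↔ FinT K I := by
  have hS := homCxSC_shortExact I (cone_shortExact (𝟙 K)) hI
  have hac : (homCxSC (mappingCone.triangleRotateShortComplex (𝟙 K)) I).X₂.Acyclic :=
    homCx_acyclic I (acyclic_cone_id K)
  constructor
  · intro h j
    have := isIso_δ_of_acyclic hS hac j (j + 1) rfl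
    exact ConeRes.finite_of_iso (asIso (hS.δ j (j + 1) rfl)).symm (h (j + 1))
  · intro h j
    have hj : j - 1 + 1 = j := by lia
    have := isIso_δ_of_acyclic hS hac (j - 1) j hj
    exact ConeRes.finite_of_iso (@asIso _ _ _ _ _ this) (h (j - 1))

omit [IsNoetherianRing A] in
lemma finT_single [I.IsKInjective] (hI : ∀ n, Injective (I.X n)) (M : ModuleCat.{u} A)
    (h0 : FinT ((CochainComplex.singleFunctor (ModuleCat.{u} A) 0).obj M) I) (n : ℤ) :
    FinT ((CochainComplex.singleFunctor (ModuleCat.{u} A) n).obj M) I := by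
  induction n using Int.induction_on with
  | zero => exact h0
  | succ n ih =>
    have e := ((CochainComplex.singleFunctors (ModuleCat.{u} A)).shiftIso 1 (n : ℤ) (n + 1)
      (by lia)).app M
    rw [← finT_shift_iff I hI]
    exact finT_of_quasiIso I e.inv ih
  | pred n ih =>
    have e := ((CochainComplex.singleFunctors (ModuleCat.{u} A)).shiftIso 1 (-(n : ℤ) - 1)
      (-(n : ℤ)) (by lia)).app M
    rw [← finT_shift_iff I hI] at ih
    exact finT_of_quasiIso I e.hom ih

omit [IsNoetherianRing A] in
lemma finT_of_sum {X : DRing.Cx A} {ι : Type*} [Finite ι] (s : Finset ι) (Y : ι → DRing.Cx A)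
    (π : ∀ i, X ⟶ Y i) (σ : ∀ i, Y i ⟶ X) (h : ∑ i ∈ s, π i ≫ σ i = 𝟙 X)
    (hY : ∀ i, FinT (Y i) I) : FinT X I := by
  intro j
  classical
  have hj (i : ι) := hY i j
  have e1 : ∑ i ∈ s, homCxPre (σ i) I ≫ homCxPre (π i) I = 𝟙 _ := by
    have := (homCxOp I).map_sum (fun i => (π i ≫ σ i).op) s
    rw [← op_sum, h] at this
    have h2 : homCxPre (𝟙 X) I = ∑ i ∈ s, homCxPre (π i ≫ σ i) I := this
    rw [homCxPre_id] at h2
    rw [h2]
    exact Finset.sum_congr rfl fun i _ => (homCxPre_comp _ _ _).symm
  have e2 : ∑ i ∈ s, homologyMap (homCxPre (σ i) I) j ≫ homologyMap (homCxPre (π i) I) j = 𝟙 _ := by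
    have h2 := congrArg (fun f => homologyMap f j) e1
    simp only [homologyMap_id] at h2
    rw [← h2]
    simp only [← homologyMap_comp]
    exact ((homologyFunctor (ModuleCat A) (ComplexShape.up ℤ) j).map_sum _ s).symm
  have hfin := Fintype.ofFinite ι
  let f : ((i : ι) → (DRing.homCx (Y i) I).homology j) →ₗ[A] (DRing.homCx X I).homology j :=
    ∑ i ∈ s, (homologyMap (homCxPre (π i) I) j).hom ∘ₗ LinearMap.proj i
  apply Module.Finite.of_surjective f
  intro x
  refine ⟨fun i => homologyMap (homCxPre (σ i) I) j x, ?_⟩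
  have := congrArg (fun g => g.hom x) e2
  rw [ModuleCat.hom_sum, LinearMap.sum_apply] at this
  simp only [f, LinearMap.sum_apply]
  exact this

omit [IsNoetherianRing A] in
lemma finT_s0 (hfin : ∀ j, Module.Finite A (I.homology j)) : FinT (S0 A) I := fun j =>
  ConeRes.finite_of_iso (asIso (homologyMap (theta I) j)).symm (hfin j)

omit [IsNoetherianRing A] in
lemma finT_freeAt [I.IsKInjective] (hI : ∀ n, Injective (I.X n))
    (hfin : ∀ j, Module.Finite A (I.homology j)) (n : ℤ) (k : ℕ) :
    FinT (ConeRes.freeAt A n k) I := by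
  apply finT_single I hI
  refine finT_of_sum I (Finset.univ : Finset (Fin k))
    (fun _ => (CochainComplex.singleFunctor (ModuleCat.{u} A) 0).obj (ModuleCat.of A A))
    (fun i => (CochainComplex.singleFunctor (ModuleCat.{u} A) 0).map
      (ModuleCat.ofHom (LinearMap.proj i)))
    (fun i => (CochainComplex.singleFunctor (ModuleCat.{u} A) 0).map
      (ModuleCat.ofHom (LinearMap.single A (fun _ => A) i))) ?_ (fun _ => finT_s0 I hfin)
  simp only [← Functor.map_comp]
  rw [← Functor.map_sum, ← (CochainComplex.singleFunctor (ModuleCat.{u} A) 0).map_id]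
  congr 1
  refine ModuleCat.hom_ext (LinearMap.ext fun x => ?_)
  rw [ModuleCat.hom_sum, LinearMap.sum_apply]
  exact Finset.univ_sum_single x

variable [I.IsKInjective] (hI : ∀ n, Injective (I.X n)) (a b : ℤ) [I.IsStrictlyGE a]
  (hfin : ∀ j, Module.Finite A (I.homology j))

include hI hfin in
lemma finite_homology_homCx_of_isLE (m : ℕ) : ∀ (n : ℤ) (K : DRing.Cx A) [K.IsLE n]
    (_ : ∀ i, Module.Finite A (K.homology i)) (j : ℤ) (_ : j < a - n + m),
    Module.Finite A ((DRing.homCx K I).homology j) := by
  induction m with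
  | zero =>
    intro n K _ _ j hj
    have := homCx_isGE K I a n (a - n) (by lia)
    exact ConeRes.finite_of_isZero
      (CochainComplex.exactAt_of_isGE _ (a - n) j (by simpa using hj)).isZero_homology
  | succ m ih =>
    intro n K _ hK j hj
    obtain ⟨k, φ, hC, hCf⟩ := ConeRes.exists_cone K n hK
    have hS := homCxSC_shortExact I (cone_shortExact φ) hI
    have h2 := ih (n - 1) (mappingCone φ) hCf j (by push_cast at hj; lia)
    have h3 : FinT ((ConeRes.freeAt A n k)⟦(1 : ℤ)⟧) I :=
      (finT_shift_iff I hI _).2 (finT_freeAt I hI hfin n k)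
    refine ConeRes.finite_of_exact (hS.homology_exact₃ j (j + 1) rfl) h2 (h3 (j + 1))

include a b hI hfin in
/-- All cohomology modules of `Hom•(K, I)` are finite for `K` with finite cohomology modules and `I` a bounded
complex of injectives with finite cohomology modules. -/
theorem finite_homology_homCx [I.IsStrictlyLE b] (K : DRing.Cx A)
    (hK : ∀ i, Module.Finite A (K.homology i)) (j : ℤ) :
    Module.Finite A ((DRing.homCx K I).homology j) := by
  set n : ℤ := b - j + 1 with hn
  have hS := homCxSC_shortExact I (K.shortComplexTruncLE_shortExact n) hI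
  have hX3 := truncLE_X₃_isGE K n
  have hX3' : (homCxSC (K.shortComplexTruncLE n) I).X₁.IsLE (j - 1) :=
    homCx_isLE (K.shortComplexTruncLE n).X₃ I b (n + 1) (j - 1) (by lia)
  have h3 : Module.Finite A ((DRing.homCx (K.truncLE n) I).homology j) :=
    finite_homology_homCx_of_isLE I hI a hfin (j - a + n + 1).toNat n (K.truncLE n)
      (finite_homology_truncLE K hK n) j (by lia)
  exact ConeRes.finite_of_exact (hS.homology_exact₂ j)
    (ConeRes.finite_of_isZero
      (CochainComplex.exactAt_of_isLE _ (j - 1) j (by lia)).isZero_homology) h3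

end

end Groth.Agent.LoccohB.HomCx
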