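import Groth.Agent.LoccohB.HomCxEx
import Groth.Agent.LoccohB.ModHom
import Mathlib.Algebra.Homology.DerivedCategory.KInjective
import Mathlib.Algebra.Homology.DerivedCategory.Linear

/-!
# `Hom•(K, I)` for `I` K-injective

* `Q_map_eq_zero_iff`, `exists_Q_map_eq`: morphisms `Q K ⟶ Q I` in the derived category for `I` K-injective;
* `mem_coboundaries_iff_Q`: a cocycle in `Hom•(K, I)` is a coboundary iff the corresponding morphism
  `Q K ⟶ Q (I⟦n⟧)` vanishes;
* `quasiIso_homCxPre`: `Hom•(-, I)` preserves quasi-isomorphisms;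
* `homCx_isGE`, `homCx_isLE`: amplitude.
-/

universe v u

open CategoryTheory CategoryTheory.Limits CochainComplex CochainComplex.HomComplex

namespace Groth.Agent.LoccohB.HomCx

section General

variable {C : Type*} [Category* C] [Abelian C] [HasDerivedCategory C]

lemma Q_map_eq_zero_iff {K J : CochainComplex C ℤ} [J.IsKInjective] (f : K ⟶ J) :
    DerivedCategory.Q.map f = 0 ↔ (HomotopyCategory.quotient C (.up ℤ)).map f = 0 := by
  constructor
  · intro h
    apply (IsKInjective.Qh_map_bijective _ J).1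
    rw [← cancel_mono ((DerivedCategory.quotientCompQhIso C).hom.app J),
      DerivedCategory.quotientCompQhIso_hom_naturality, h, Functor.map_zero, comp_zero, zero_comp]
  · intro h
    rw [← cancel_mono ((DerivedCategory.quotientCompQhIso C).inv.app J),
      DerivedCategory.quotientCompQhIso_inv_naturality, h, Functor.map_zero, comp_zero, zero_comp]

lemma exists_Q_map_eq {K J : CochainComplex C ℤ} [J.IsKInjective]
    (g : DerivedCategory.Q.obj K ⟶ DerivedCategory.Q.obj J) :
    ∃ f : K ⟶ J, DerivedCategory.Q.map f = g := by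
  obtain ⟨f', hf'⟩ := (IsKInjective.Qh_map_bijective _ J).2
    ((DerivedCategory.quotientCompQhIso C).hom.app K ≫ g ≫
      (DerivedCategory.quotientCompQhIso C).inv.app J)
  obtain ⟨f, rfl⟩ := (HomotopyCategory.quotient C (.up ℤ)).map_surjective f'
  refine ⟨f, ?_⟩
  rw [← cancel_mono ((DerivedCategory.quotientCompQhIso C).inv.app J),
      DerivedCategory.quotientCompQhIso_inv_naturality, hf']
  simp

lemma Q_map_eq_iff {K J : CochainComplex C ℤ} [J.IsKInjective] (f g : K ⟶ J) :
    DerivedCategory.Q.map f = DerivedCategory.Q.map g ↔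
      (HomotopyCategory.quotient C (.up ℤ)).map f = (HomotopyCategory.quotient C (.up ℤ)).map g := by
  rw [← sub_eq_zero, ← Functor.map_sub, Q_map_eq_zero_iff, Functor.map_sub, sub_eq_zero]

lemma mem_coboundaries_iff_Q {K I : CochainComplex C ℤ} [I.IsKInjective] {n : ℤ}
    (x : Cocycle K I n) :
    x ∈ coboundaries K I n ↔ DerivedCategory.Q.map (Cocycle.equivHomShift.symm x) = 0 := by
  rw [← CohomologyClass.toHom_mk_eq_zero_iff, CohomologyClass.toHom_mk, Q_map_eq_zero_iff]

/-- The cochain of degree `0` associated to a morphism to a K-injective complex is a coboundary iff the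
morphism vanishes in the derived category. -/
lemma exists_δ_eq_ofHom_iff {K I : CochainComplex C ℤ} [I.IsKInjective] (f : K ⟶ I) (m : ℤ)
    (hm : m + 1 = 0) :
    (∃ y : Cochain K I m, δ m 0 y = Cochain.ofHom f) ↔ DerivedCategory.Q.map f = 0 := by
  obtain rfl : m = -1 := by lia
  rw [Q_map_eq_zero_iff, HomotopyCategory.quotient_map_eq_zero_iff]
  constructor
  · rintro ⟨y, hy⟩
    exact ⟨(Cochain.equivHomotopy _ _).symm ⟨y, by simp [hy]⟩⟩
  · rintro ⟨h⟩
    obtain ⟨y, hy⟩ := Cochain.equivHomotopy _ _ h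
    exact ⟨y, by simpa using hy.symm⟩

end General

attribute [local instance] HasDerivedCategory.standard

variable {A : Type u} [CommRing A]

lemma homCx_d_apply (K I : DRing.Cx A) (i j : ℤ) (z : Cochain K I i) :
    (DRing.homCx K I).d i j z = δ i j z := rfl

lemma homCxPre_f_apply {K K' : DRing.Cx A} (f : K ⟶ K') (I : DRing.Cx A) (i : ℤ)
    (z : Cochain K' I i) : (homCxPre f I).f i z = (Cochain.ofHom f).comp z (zero_add i) := rfl

/-- `Hom•(-, I)` preserves quasi-isomorphisms for `I` K-injective. -/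
lemma quasiIso_homCxPre {K K' : DRing.Cx A} (f : K ⟶ K') (I : DRing.Cx A) [I.IsKInjective]
    [QuasiIso f] : QuasiIso (homCxPre f I) := by
  rw [quasiIso_iff]
  intro n
  rw [ModHom.quasiIsoAt_iff']
  have key (x : Cocycle K' I n) : DerivedCategory.Q.map (Cocycle.equivHomShift.symm (x.precomp f)) =
      DerivedCategory.Q.map f ≫ DerivedCategory.Q.map (Cocycle.equivHomShift.symm x) := by
    rw [← Functor.map_comp]
    congr 1
    apply Cocycle.equivHomShift.injective
    rw [AddEquiv.apply_symm_apply, Cocycle.equivHomShift_comp, AddEquiv.apply_symm_apply]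
  constructor
  · intro (x : Cochain K' I n) (hx : δ n (n + 1) x = 0) hy
    obtain ⟨(y : Cochain K I (n - 1)), hy : δ (n - 1) n y = (Cochain.ofHom f).comp x (zero_add n)⟩ := hy
    let x' : Cocycle K' I n := Cocycle.mk x (n + 1) rfl hx
    have h1 : x'.precomp f ∈ coboundaries K I n := by
      rw [mem_coboundaries_iff _ (n - 1) (by simp)]
      exact ⟨y, hy⟩
    have h2 : x' ∈ coboundaries K' I n := by
      rw [mem_coboundaries_iff_Q, key] at h1
      rw [mem_coboundaries_iff_Q, ← cancel_epi (DerivedCategory.Q.map f), h1, comp_zero]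
    rw [mem_coboundaries_iff _ (n - 1) (by simp)] at h2
    exact h2
  · intro (y : Cochain K I n) (hy : δ n (n + 1) y = 0)
    let y' : Cocycle K I n := Cocycle.mk y (n + 1) rfl hy
    obtain ⟨g, hg⟩ := exists_Q_map_eq (inv (DerivedCategory.Q.map f) ≫
      DerivedCategory.Q.map (Cocycle.equivHomShift.symm y'))
    let x' : Cocycle K' I n := Cocycle.equivHomShift g
    have h1 : x'.precomp f - y' ∈ coboundaries K I n := by
      rw [mem_coboundaries_iff_Q, map_sub, Functor.map_sub, key, AddEquiv.symm_apply_apply, hg,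
        IsIso.hom_inv_id_assoc, sub_self]
    rw [mem_coboundaries_iff _ (n - 1) (by simp)] at h1
    obtain ⟨z, hz⟩ := h1
    refine ⟨x'.1, z, ?_, hz⟩
    exact x'.δ_eq_zero (n + 1)

lemma isGE_iff_of_quasiIso {K L : DRing.Cx A} (f : K ⟶ L) [QuasiIso f] (n : ℤ) :
    K.IsGE n ↔ L.IsGE n :=
  HomologicalComplex.isSupported_iff_of_quasiIso f _

lemma isLE_iff_of_quasiIso {K L : DRing.Cx A} (f : K ⟶ L) [QuasiIso f] (n : ℤ) :
    K.IsLE n ↔ L.IsLE n :=
  HomologicalComplex.isSupported_iff_of_quasiIso f _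

/-- If `H^q(K) = 0` for `q > n` and `I` is K-injective and concentrated in degrees `≥ a`, then
`Hom•(K, I)` has cohomology in degrees `≥ a - n` only. -/
lemma homCx_isGE (K I : DRing.Cx A) (a n m : ℤ) (h : m + n ≤ a) [K.IsLE n] [I.IsStrictlyGE a]
    [I.IsKInjective] : (DRing.homCx K I).IsGE m := by
  have : QuasiIso (K.ιTruncLE n) := by
    rw [CochainComplex.quasiIso_ιTruncLE_iff]; infer_instance
  have := quasiIso_homCxPre (K.ιTruncLE n) I
  have := homCx_isStrictlyGE (K.truncLE n) I a n m h
  rw [isGE_iff_of_quasiIso (homCxPre (K.ιTruncLE n) I)]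
  infer_instance

/-- If `H^q(K) = 0` for `q < n` and `I` is K-injective and concentrated in degrees `≤ b`, then
`Hom•(K, I)` has cohomology in degrees `≤ b - n` only. -/
lemma homCx_isLE (K I : DRing.Cx A) (b n m : ℤ) (h : b ≤ m + n) [K.IsGE n] [I.IsStrictlyLE b]
    [I.IsKInjective] : (DRing.homCx K I).IsLE m := by
  have : QuasiIso (K.πTruncGE n) := by
    rw [CochainComplex.quasiIso_πTruncGE_iff]; infer_instance
  have := quasiIso_homCxPre (K.πTruncGE n) I
  have := homCx_isStrictlyLE (K.truncGE n) I b n m h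
  rw [← isLE_iff_of_quasiIso (homCxPre (K.πTruncGE n) I)]
  infer_instance

end Groth.Agent.LoccohB.HomCx
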