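import Mathlib.Algebra.Homology.DerivedCategory.ExactFunctor
import Mathlib.Algebra.Homology.DerivedCategory.HomologySequence
import Mathlib.CategoryTheory.Functor.Derived.RightDerived
import Groth.Agent.PerfA.ExactD

/-!
# Endomorphisms of the identity functor and derived categories

For `α : 𝟭 A ⟶ 𝟭 A` (e.g. multiplication by a global function), `IdEnd.d α : 𝟭 (D A) ⟶ 𝟭 (D A)`,
its effect on homology, compatibility with exact functors and with right derived functors.
-/

set_option autoImplicit false

universe w v u w' v' u'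

open CategoryTheory CategoryTheory.Limits

namespace Groth.Agent.LoccohB.IdEnd

section Homology

variable {A : Type u} [Category.{v} A] [Abelian A] (α : 𝟭 A ⟶ 𝟭 A)

@[reassoc]
lemma nat {M N : A} (f : M ⟶ N) : f ≫ α.app N = α.app M ≫ f := α.naturality f

/-- The induced endomorphism of a short complex. -/
@[simps]
def sc (S : ShortComplex A) : S ⟶ S where
  τ₁ := α.app S.X₁
  τ₂ := α.app S.X₂
  τ₃ := α.app S.X₃
  comm₁₂ := (nat α S.f).symm
  comm₂₃ := (nat α S.g).symm

lemma homologyMap_sc (S : ShortComplex A) :
    ShortComplex.homologyMap (sc α S) = α.app S.homology := by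
  rw [← cancel_epi S.homologyπ, ShortComplex.homologyπ_naturality, nat α]
  congr 1
  rw [← cancel_mono S.iCycles, ShortComplex.cyclesMap_i, ← nat α]
  rfl

/-- The induced endomorphism of a complex. -/
@[simps]
def cx {ι : Type*} {c : ComplexShape ι} (K : HomologicalComplex A c) : K ⟶ K where
  f i := α.app (K.X i)
  comm' i j _ := (nat α (K.d i j)).symm

@[reassoc]
lemma cx_nat {ι : Type*} {c : ComplexShape ι} {K L : HomologicalComplex A c} (f : K ⟶ L) :
    f ≫ cx α L = cx α K ≫ f := by
  ext i
  exact nat α (f.f i)

lemma homologyMap_cx {ι : Type*} {c : ComplexShape ι} (K : HomologicalComplex A c) (i : ι) :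
    HomologicalComplex.homologyMap (cx α K) i = α.app (K.homology i) :=
  homologyMap_sc α (K.sc i)

end Homology

section Derived

variable {A : Type u} [Category.{v} A] [Abelian A] [HasDerivedCategory.{w} A] (α : 𝟭 A ⟶ 𝟭 A)

/-- The induced endomorphism of the localization functor. -/
@[simps]
noncomputable def q : (DerivedCategory.Q : CochainComplex A ℤ ⥤ _) ⟶ DerivedCategory.Q where
  app K := DerivedCategory.Q.map (cx α K)
  naturality K L f := by
    rw [← Functor.map_comp, ← Functor.map_comp, cx_nat]

/-- The induced endomorphism of the identity functor of the derived category. -/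
noncomputable def d : 𝟭 (DerivedCategory A) ⟶ 𝟭 (DerivedCategory A) :=
  Localization.liftNatTrans DerivedCategory.Q (HomologicalComplex.quasiIso A (ComplexShape.up ℤ))
    DerivedCategory.Q DerivedCategory.Q _ _ (q α)

@[simp]
lemma d_app_Q (K : CochainComplex A ℤ) :
    (d α).app (DerivedCategory.Q.obj K) = DerivedCategory.Q.map (cx α K) := by
  rw [d, Localization.liftNatTrans_app]
  simp [Localization.Lifting.iso]

@[reassoc]
lemma d_nat {K L : DerivedCategory A} (f : K ⟶ L) : f ≫ (d α).app L = (d α).app K ≫ f :=
  (d α).naturality f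

/-- The effect on homology. -/
lemma homology_d (K : DerivedCategory A) (i : ℤ) :
    (DerivedCategory.homologyFunctor A i).map ((d α).app K) =
      α.app ((DerivedCategory.homologyFunctor A i).obj K) := by
  have key : ∀ K' : CochainComplex A ℤ, (DerivedCategory.homologyFunctor A i).map
      ((d α).app (DerivedCategory.Q.obj K')) =
      α.app ((DerivedCategory.homologyFunctor A i).obj (DerivedCategory.Q.obj K')) := by
    intro K'
    rw [d_app_Q]
    let e := (DerivedCategory.homologyFunctorFactors A i).app K'
    have h1 := (DerivedCategory.homologyFunctorFactors A i).hom.naturality (cx α K')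
    have h2 : (HomologicalComplex.homologyFunctor A (ComplexShape.up ℤ) i).map (cx α K') =
      α.app _ := homologyMap_cx α K' i
    rw [h2] at h1
    rw [← cancel_mono ((DerivedCategory.homologyFunctorFactors A i).hom.app K')]
    refine h1.trans ?_
    exact (nat α _)
  let e : DerivedCategory.Q.obj (DerivedCategory.Q.objPreimage K) ≅ K :=
    DerivedCategory.Q.objObjPreimageIso K
  have h := d_nat α e.hom
  have h1 : (d α).app K = e.inv ≫ (d α).app _ ≫ e.hom := by rw [← h, e.inv_hom_id_assoc]
  rw [h1, Functor.map_comp, Functor.map_comp, key]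
  have h5 := nat α ((DerivedCategory.homologyFunctor A i).map e.hom)
  refine Eq.trans (congr_arg _ h5.symm) ?_
  rw [← Functor.map_comp_assoc]
  have h6 : e.inv ≫ e.hom = 𝟙 K := e.inv_hom_id
  rw [h6]
  erw [CategoryTheory.Functor.map_id]
  exact Category.id_comp _

lemma isIso_d_app (K : DerivedCategory A)
    (h : ∀ i : ℤ, IsIso (α.app ((DerivedCategory.homologyFunctor A i).obj K))) :
    IsIso ((d α).app K) := by
  rw [DerivedCategory.isIso_iff]
  intro i
  rw [homology_d]
  exact h i

end Derived

section Functor

variable {A : Type u} [Category.{v} A] [Abelian A] [HasDerivedCategory.{w} A] (α : 𝟭 A ⟶ 𝟭 A)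
  {B : Type u'} [Category.{v'} B] [Abelian B] [HasDerivedCategory.{w'} B] (β : 𝟭 B ⟶ 𝟭 B)
  (F : A ⥤ B) [F.Additive]

lemma map_cx (hF : ∀ M, F.map (α.app M) = β.app (F.obj M)) (K : CochainComplex A ℤ) :
    (F.mapHomologicalComplex (ComplexShape.up ℤ)).map (cx α K) =
      cx β ((F.mapHomologicalComplex (ComplexShape.up ℤ)).obj K) := by
  ext i
  exact hF (K.X i)

lemma mapDerivedCategory_d [PreservesFiniteLimits F] [PreservesFiniteColimits F]
    (hF : ∀ M, F.map (α.app M) = β.app (F.obj M)) (K : DerivedCategory A) :
    F.mapDerivedCategory.map ((d α).app K) = (d β).app (F.mapDerivedCategory.obj K) := by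
  have key : ∀ K' : CochainComplex A ℤ, F.mapDerivedCategory.map ((d α).app (DerivedCategory.Q.obj K')) =
      (d β).app (F.mapDerivedCategory.obj (DerivedCategory.Q.obj K')) := by
    intro K'
    have h1 := F.mapDerivedCategoryFactors.hom.naturality (cx α K')
    rw [d_app_Q, ← cancel_mono (F.mapDerivedCategoryFactors.hom.app K')]
    refine h1.trans ?_
    have h2 := d_nat β (F.mapDerivedCategoryFactors.hom.app K')
    refine Eq.trans ?_ h2
    congr 1
    have h3 : (F.mapHomologicalComplex (ComplexShape.up ℤ) ⋙ DerivedCategory.Q).map (cx α K') =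
      DerivedCategory.Q.map (cx β ((F.mapHomologicalComplex (ComplexShape.up ℤ)).obj K')) := by
      rw [Functor.comp_map, map_cx α β F hF]
    rw [h3]
    exact (d_app_Q β _).symm
  let e : DerivedCategory.Q.obj (DerivedCategory.Q.objPreimage K) ≅ K :=
    DerivedCategory.Q.objObjPreimageIso K
  have h := d_nat α e.hom
  have h1 : (d α).app K = e.inv ≫ (d α).app _ ≫ e.hom := by rw [← h, e.inv_hom_id_assoc]
  rw [h1, Functor.map_comp, Functor.map_comp, key]
  have h5 := d_nat β (F.mapDerivedCategory.map e.hom)
  refine Eq.trans (congr_arg _ h5.symm) ?_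
  rw [← Functor.map_comp_assoc]
  have h6 : e.inv ≫ e.hom = 𝟙 K := e.inv_hom_id
  rw [h6]
  erw [CategoryTheory.Functor.map_id]
  exact Category.id_comp _

variable (F' : DerivedCategory A ⥤ DerivedCategory B)
  (η : F.mapHomotopyCategory (ComplexShape.up ℤ) ⋙ DerivedCategory.Qh ⟶ DerivedCategory.Qh ⋙ F')
  [F'.IsRightDerivedFunctor η (HomotopyCategory.quasiIso A (ComplexShape.up ℤ))]

include η in
lemma rightDerived_d (hF : ∀ M, F.map (α.app M) = β.app (F.obj M)) (K : DerivedCategory A) :
    F'.map ((d α).app K) = (d β).app (F'.obj K) := by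
  let γ₁ : F' ⟶ F' :=
    { app := fun K => F'.map ((d α).app K)
      naturality := fun K L f => by
        rw [← Functor.map_comp]
        exact (congr_arg F'.map (d_nat α f)).trans (F'.map_comp _ _) }
  let γ₂ : F' ⟶ F' :=
    { app := fun K => (d β).app (F'.obj K)
      naturality := fun K L f => d_nat β (F'.map f) }
  have h : γ₁ = γ₂ := by
    refine F'.rightDerived_ext η (HomotopyCategory.quasiIso A (ComplexShape.up ℤ)) _ _ _ ?_
    ext K'
    obtain ⟨K', rfl⟩ := HomotopyCategory.quotient_obj_surjective K'
    have h1 := η.naturality ((HomotopyCategory.quotient _ _).map (cx α K'))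
    have h2 : DerivedCategory.Qh.map ((HomotopyCategory.quotient _ _).map (cx α K')) =
      (d α).app (DerivedCategory.Qh.obj ((HomotopyCategory.quotient _ _).obj K')) :=
      (d_app_Q α K').symm
    simp only [NatTrans.comp_app, Functor.whiskerLeft_app, γ₁, γ₂]
    rw [← h2]
    refine h1.symm.trans ?_
    have h3 := d_nat β (η.app ((HomotopyCategory.quotient _ _).obj K'))
    refine Eq.trans ?_ h3.symm
    congr 1
    have h4 : (F.mapHomotopyCategory (ComplexShape.up ℤ) ⋙ DerivedCategory.Qh).map
        ((HomotopyCategory.quotient _ _).map (cx α K')) = DerivedCategory.Q.map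
        (cx β ((F.mapHomologicalComplex (ComplexShape.up ℤ)).obj K')) := by
      rw [← map_cx α β F hF]
      rfl
    rw [h4]
    exact (d_app_Q β _).symm
  exact congr_arg (fun γ => γ.app K) h

end Functor

end Groth.Agent.LoccohB.IdEnd
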