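import Groth.Agent.LoccohB.ProZ
import Groth.Agent.LoccohB.HomCls
import Groth.Agent.LoccohB.InjRep
import Groth.Prelude.Def_DRing3
import Mathlib.RingTheory.Filtration
import Mathlib.Algebra.Category.ModuleCat.Projective
import Mathlib.LinearAlgebra.FiniteDimensional.Defs
import Mathlib.RingTheory.Finiteness.Ideal

/-!
# Artin-Rees for morphisms from a complex of finite projective modules
-/

set_option autoImplicit false

universe u v w

open CategoryTheory Limits Opposite Pretriangulated CochainComplex CochainComplex.HomComplex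

attribute [local instance] HasDerivedCategory.standard

namespace Groth.Agent.LoccohB.KosP

open ProZ HomCls

section Cocycle

variable {C : Type u} [Category.{v} C] [Abelian C] [HasDerivedCategory.{w} C]
variable {K : CochainComplex C ℤ} {X : C}

/-- morphisms from a complex to a single complex attached to cocycles -/
noncomputable def tcl {p n : ℤ} (h : p + n = 0) (f : K.X p ⟶ X) (hf : K.d (p - 1) p ≫ f = 0) :
    DerivedCategory.Q.obj K ⟶
      (DerivedCategory.Q.obj ((CochainComplex.singleFunctor C 0).obj X))⟦n⟧ :=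
  hcls (Cocycle.toSingleMk f h (p - 1) (by omega) hf)

variable {p n : ℤ} (h : p + n = 0)

lemma tcl_add (f g : K.X p ⟶ X) (hf : K.d (p - 1) p ≫ f = 0) (hg : K.d (p - 1) p ≫ g = 0) :
    tcl h (f + g) (by simp [hf, hg]) = tcl h f hf + tcl h g hg := by
  rw [tcl, Cocycle.toSingleMk_add _ _ _ _ _ hf hg, hcls_add, tcl, tcl]

lemma tcl_postcomp (f : K.X p ⟶ X) (hf : K.d (p - 1) p ≫ f = 0) {X' : C} (g : X ⟶ X') :
    tcl h (f ≫ g) (by simp [reassoc_of% hf]) =
      tcl h f hf ≫ (DerivedCategory.Q.map ((CochainComplex.singleFunctor C 0).map g))⟦n⟧' := by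
  rw [tcl, Cocycle.toSingleMk_postcomp _ _ _ _ hf, hcls_postcomp, tcl]

lemma tcl_smul {R : Type*} [Ring R] [Linear R C] (r : R) (f : K.X p ⟶ X)
    (hf : K.d (p - 1) p ≫ f = 0) :
    tcl h (r • f) (by simp [hf]) = r • tcl h f hf := by
  rw [tcl, tcl, ← hcls_smul]
  congr 1
  ext : 1
  apply (Cochain.toSingleEquiv h).injective
  rw [Cocycle.toSingleMk_coe, Cochain.toSingleEquiv_toSingleMk, Cocycle.coe_smul,
    Cocycle.toSingleMk_coe]
  simp [Cochain.toSingleEquiv, Cochain.toSingleMk_v]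
  exact congrArg (r • ·) ((Category.assoc _ _ _).trans
    ((congrArg (f ≫ ·) (Iso.inv_hom_id _)).trans (Category.comp_id _))).symm

lemma tcl_surjective [K.IsKProjective] (φ : DerivedCategory.Q.obj K ⟶
      (DerivedCategory.Q.obj ((CochainComplex.singleFunctor C 0).obj X))⟦n⟧) :
    ∃ (f : K.X p ⟶ X) (hf : K.d (p - 1) p ≫ f = 0), tcl h f hf = φ := by
  obtain ⟨z, hz⟩ := hcls_surjective_of_kProj (K := K)
    (L := (CochainComplex.singleFunctor C 0).obj X) (n := n) φ
  obtain ⟨f, hf, rfl⟩ := Cocycle.toSingleMk_surjective z p h (p - 1) (by omega)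
  exact ⟨f, hf, hz⟩

end Cocycle

section Modules

variable {A : Type u} [CommRing A]

/-- If `P` is finite projective and `f : P → M` takes values in `J M`, then `f ∈ J Hom(P, M)`. -/
lemma mem_smul_top_of_forall {P M : Type u} [AddCommGroup P] [Module A P] [Module.Finite A P]
    [Module.Projective A P] [AddCommGroup M] [Module A M] (J : Ideal A) (f : P →ₗ[A] M)
    (hf : ∀ x, f x ∈ (J • ⊤ : Submodule A M)) : f ∈ (J • ⊤ : Submodule A (P →ₗ[A] M)) := by
  obtain ⟨n, π, hπ⟩ := Module.Finite.exists_fin' A P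
  obtain ⟨s, hs⟩ := Module.projective_lifting_property π LinearMap.id hπ
  have h1 : f = ∑ j, (LinearMap.proj j ∘ₗ s).smulRight (f (π (Pi.single j 1))) := by
    ext x
    have h2 : π (s x) = x := LinearMap.congr_fun hs x
    conv_lhs => rw [← h2]
    have h3 : s x = ∑ j, s x j • (Pi.single j (1 : A) : Fin n → A) := by
      conv_lhs => rw [pi_eq_sum_univ' (s x)]
    conv_lhs => rw [h3]
    simp
  rw [h1]
  refine Submodule.sum_mem _ fun j _ => ?_
  let Φ : M →ₗ[A] (P →ₗ[A] M) := LinearMap.smulRightₗ (LinearMap.proj j ∘ₗ s)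
  have h4 : Submodule.map Φ (J • ⊤) ≤ J • ⊤ := by
    rw [Submodule.map_smul'']
    exact Submodule.smul_mono le_rfl le_top
  exact h4 ⟨_, hf _, rfl⟩

lemma finite_hom {P M : Type u} [IsNoetherianRing A] [AddCommGroup P] [Module A P]
    [Module.Finite A P] [AddCommGroup M] [Module A M] [Module.Finite A M] :
    Module.Finite A (P →ₗ[A] M) := by
  obtain ⟨n, π, hπ⟩ := Module.Finite.exists_fin' A P
  let Ψ : (P →ₗ[A] M) →ₗ[A] (Fin n → M) :=
    { toFun := fun f j => f (π (Pi.single j 1))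
      map_add' := fun f g => rfl
      map_smul' := fun a f => rfl }
  have hΨ : Function.Injective Ψ := by
    intro f g hfg
    have : f ∘ₗ π = g ∘ₗ π := by
      refine LinearMap.pi_ext' fun j => ?_
      ext
      exact congrFun hfg j
    ext x
    obtain ⟨y, rfl⟩ := hπ x
    exact LinearMap.congr_fun this y
  exact Module.Finite.of_injective Ψ hΨ

/-- `I ^ n M` -/
abbrev powSub (I : Ideal A) (M : Type u) [AddCommGroup M] [Module A M] (n : ℕ) :
    Submodule A M := I ^ n • ⊤

lemma powSub_anti (I : Ideal A) (M : Type u) [AddCommGroup M] [Module A M] {n m : ℕ}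
    (h : n ≤ m) : powSub I M m ≤ powSub I M n :=
  Submodule.smul_mono_left (Ideal.pow_le_pow_right h)

/-- the tower `I ^ n M` -/
def powM (I : Ideal A) (M : Type u) [AddCommGroup M] [Module A M] :
    ℕᵒᵖ ⥤ ModuleCat.{u} A where
  obj n := ModuleCat.of A (powSub I M n.unop)
  map h := ModuleCat.ofHom (Submodule.inclusion (powSub_anti I M (leOfHom h.unop)))
  map_id _ := rfl
  map_comp _ _ := rfl

variable (I : Ideal A) (M : Type u) [AddCommGroup M] [Module A M]
variable (K : CochainComplex (ModuleCat.{u} A) ℤ)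

/-- cocycles -/
def cocyc (p : ℤ) : Submodule A (K.X p →ₗ[A] M) :=
  LinearMap.ker (LinearMap.lcomp A M (K.d (p - 1) p).hom)

lemma mem_cocyc_iff (p : ℤ) (w : K.X p →ₗ[A] M) :
    w ∈ cocyc M K p ↔ w ∘ₗ (K.d (p - 1) p).hom = 0 := Iff.rfl

lemma apply_mem_of_mem {P : Type u} [AddCommGroup P] [Module A P] (J : Ideal A)
    {y : P →ₗ[A] M} (hy : y ∈ (J • ⊤ : Submodule A (P →ₗ[A] M))) (x : P) :
    y x ∈ (J • ⊤ : Submodule A M) := by
  have h1 : Submodule.map (LinearMap.applyₗ x) (J • (⊤ : Submodule A (P →ₗ[A] M))) ≤ J • ⊤ := by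
    rw [Submodule.map_smul'']
    exact Submodule.smul_mono le_rfl le_top
  exact h1 ⟨y, hy, rfl⟩

/-- a cocycle with values in `I ^ k M` -/
lemma exists_lift_cocyc {p : ℤ} {k : ℕ} {y : K.X p →ₗ[A] M} (hy : y ∈ cocyc M K p)
    (hy' : y ∈ (I ^ k • ⊤ : Submodule A (K.X p →ₗ[A] M))) :
    ∃ (g : K.X p ⟶ ModuleCat.of A (powSub I M k)), K.d (p - 1) p ≫ g = 0 ∧
      (powSub I M k).subtype ∘ₗ g.hom = y := by
  refine ⟨ModuleCat.ofHom (y.codRestrict _ (apply_mem_of_mem M _ hy')), ?_, ?_⟩
  · ext x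
    exact LinearMap.congr_fun hy x
  · ext x
    rfl

variable [IsNoetherianRing A] [Module.Finite A M] [K.IsKProjective]

/-- Artin-Rees: the tower `I ^ n M` is pro-zero for a complex of finite projective modules killed
by a power of `I`. -/
theorem pz_powM (hfin : ∀ i, Module.Finite A (K.X i)) (hproj : ∀ i, Module.Projective A (K.X i))
    (N : ℕ) (hN : ∀ a ∈ I ^ N, a • 𝟙 (DerivedCategory.Q.obj K) = 0) :
    PZ (DerivedCategory.Q.obj K)
      (powM I M ⋙ DerivedCategory.singleFunctor (ModuleCat.{u} A) 0) := by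
  intro e k
  have h : -e + e = 0 := neg_add_cancel e
  have hfin' := hfin (-e)
  have hproj' := hproj (-e)
  have : Module.Finite A (K.X (-e) →ₗ[A] M) := finite_hom
  obtain ⟨c, hc⟩ := Ideal.exists_pow_inf_eq_pow_smul I (cocyc M K (-e))
  have hc' := hc (k + N + c) (Nat.le_add_left _ _)
  rw [Nat.add_sub_cancel] at hc'
  refine ⟨k + N + c, (Nat.le_add_right k N).trans (Nat.le_add_right _ c), fun x => ?_⟩
  obtain ⟨f, hf, rfl⟩ := tcl_surjective (K := K)
    (X := ModuleCat.of A (powSub I M (k + N + c))) h x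
  -- the underlying map to `M`
  let f' : K.X (-e) →ₗ[A] M := (powSub I M (k + N + c)).subtype ∘ₗ f.hom
  have hf' : f' ∈ cocyc M K (-e) := by
    rw [mem_cocyc_iff]
    ext x
    have := congrArg (fun t => (powSub I M (k + N + c)).subtype (t.hom x)) hf
    exact this
  have hf'' : f' ∈ (I ^ (k + N + c) • ⊤ : Submodule A (K.X (-e) →ₗ[A] M)) :=
    mem_smul_top_of_forall _ _ fun x => (f.hom x).2
  have hmem : f' ∈ I ^ (k + N + c) • (⊤ : Submodule A (K.X (-e) →ₗ[A] M)) ⊓ cocyc M K (-e) :=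
    ⟨hf'', hf'⟩
  rw [hc', pow_add, mul_comm, Submodule.mul_smul] at hmem
  -- every element of `I ^ N • I ^ k • Z` gives a zero class
  have key : ∀ w ∈ I ^ N • (I ^ k • (I ^ c • (⊤ : Submodule A (K.X (-e) →ₗ[A] M)) ⊓
      cocyc M K (-e))), ∃ (g : K.X (-e) ⟶ ModuleCat.of A (powSub I M k))
      (hg : K.d (-e - 1) (-e) ≫ g = 0), (powSub I M k).subtype ∘ₗ g.hom = w ∧
        tcl h g hg = 0 := by
    intro w hw
    refine Submodule.smul_induction_on hw (fun a ha y hy => ?_) (fun w w' h1 h2 => ?_)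
    · have hy1 : y ∈ cocyc M K (-e) :=
        (Submodule.smul_le_right.trans inf_le_right) hy
      have hy2 : y ∈ (I ^ k • ⊤ : Submodule A (K.X (-e) →ₗ[A] M)) :=
        Submodule.smul_mono le_rfl le_top hy
      obtain ⟨g, hg1, hg2⟩ := exists_lift_cocyc I M K hy1 hy2
      refine ⟨a • g, by rw [Linear.comp_smul, hg1, smul_zero], ?_, ?_⟩
      · rw [← hg2]
        ext x
        rfl
      · rw [tcl_smul h a g hg1]
        have : a • tcl h g hg1 = (a • 𝟙 (DerivedCategory.Q.obj K)) ≫ tcl h g hg1 := by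
          rw [Linear.smul_comp, Category.id_comp]
        rw [this, hN a ha, zero_comp]
    · obtain ⟨g, hg, hg1, hg2⟩ := h1
      obtain ⟨g', hg', hg1', hg2'⟩ := h2
      refine ⟨g + g', by rw [Preadditive.comp_add, hg, hg', add_zero], ?_, ?_⟩
      · rw [← hg1, ← hg1']
        ext x
        rfl
      · rw [tcl_add h g g' hg hg', hg2, hg2', add_zero]
  obtain ⟨g, hg, hg1, hg2⟩ := key f' hmem
  have h5 : f ≫ (powM I M).map (homOfLE ((Nat.le_add_right k N).trans
      (Nat.le_add_right _ c))).op = g := by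
    ext x
    have := LinearMap.congr_fun hg1 x
    exact Subtype.ext this.symm
  have h6 := tcl_postcomp h f hf ((powM I M).map (homOfLE ((Nat.le_add_right k N).trans
      (Nat.le_add_right _ c))).op)
  subst h5
  exact h6.symm.trans hg2

end Modules

end Groth.Agent.LoccohB.KosP
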