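import Groth.Agent.LoccohB.KosP
import Groth.Agent.LoccohB.DBase3
import Groth.Agent.LoccohB.FInv
import Groth.Agent.S1814
import Mathlib.Algebra.Category.ModuleCat.Biproducts

/-!
# Koszul type complexes `kc l` (iterated mapping cones of `f • 𝟙` on `A[0]`)
-/

set_option autoImplicit false

universe u v w

open CategoryTheory Limits Opposite Pretriangulated

attribute [local instance] HasDerivedCategory.standard

namespace Groth.Agent.LoccohB.KosP

open ProZ

variable {A : Type u} [CommRing A]

/-- iterated mapping cones -/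
noncomputable def kc : List A → CochainComplex (ModuleCat.{u} A) ℤ
  | [] => (CochainComplex.singleFunctor (ModuleCat.{u} A) 0).obj (ModuleCat.of A A)
  | f :: l => CochainComplex.mappingCone (f • 𝟙 (kc l))

/-- a module is finite projective -/
def FP (M : ModuleCat.{u} A) : Prop := Module.Finite A M ∧ Module.Projective A M

lemma FP.of_iso {M N : ModuleCat.{u} A} (e : M ≅ N) (h : FP M) : FP N := by
  obtain ⟨h1, h2⟩ := h
  exact ⟨Module.Finite.equiv e.toLinearEquiv, Module.Projective.of_equiv e.toLinearEquiv⟩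

lemma fp_biprod {M N : ModuleCat.{u} A} (hM : FP M) (hN : FP N) : FP (M ⊞ N) := by
  obtain ⟨h1, h2⟩ := hM
  obtain ⟨h3, h4⟩ := hN
  refine FP.of_iso (ModuleCat.biprodIsoProd M N).symm ⟨?_, ?_⟩
  · exact (inferInstance : Module.Finite A (M × N))
  · exact (inferInstance : Module.Projective A (M × N))

lemma fp_of_isZero {M : ModuleCat.{u} A} (h : IsZero M) : FP M := by
  have := ModuleCat.subsingleton_of_isZero h
  exact ⟨inferInstance, inferInstance⟩

lemma fp_kc (l : List A) (i : ℤ) : FP ((kc l).X i) := by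
  induction l generalizing i with
  | nil =>
    by_cases hi : i = 0
    · subst hi
      exact FP.of_iso (HomologicalComplex.singleObjXSelf (ComplexShape.up ℤ) 0
        (ModuleCat.of A A)).symm ⟨(inferInstance : Module.Finite A A),
          (inferInstance : Module.Projective A A)⟩
    · exact fp_of_isZero (HomologicalComplex.isZero_single_obj_X (ComplexShape.up ℤ) 0 _ i hi)
  | cons f l ih =>
    exact FP.of_iso (HomologicalComplex.homotopyCofiber.XIsoBiprod (f • 𝟙 (kc l)) i (i + 1)
      (by simp)).symm (fp_biprod (ih (i + 1)) (ih i))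

lemma isZero_kc (l : List A) (i : ℤ) (hi : 0 < i) : IsZero ((kc l).X i) := by
  induction l generalizing i with
  | nil => exact HomologicalComplex.isZero_single_obj_X (ComplexShape.up ℤ) 0 _ i (by omega)
  | cons f l ih =>
    refine IsZero.of_iso ?_ (HomologicalComplex.homotopyCofiber.XIsoBiprod (f • 𝟙 (kc l)) i (i + 1)
      (by simp))
    rw [biprod_isZero_iff]
    exact ⟨ih (i + 1) (by omega), ih i hi⟩

instance isKProjective_kc (l : List A) : (kc l).IsKProjective := by
  have h1 : (kc l).IsStrictlyLE 0 := by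
    rw [CochainComplex.isStrictlyLE_iff]
    exact fun i hi => isZero_kc l i hi
  have h2 : ∀ n : ℤ, Projective ((kc l).X n) := by
    intro n
    have := (fp_kc l n).2
    exact (IsProjective.iff_projective _).1 this
  exact CochainComplex.isKProjective_of_projective (kc l) 0

/-- the object `kc l` in the derived category -/
noncomputable abbrev kP (l : List A) : Dual.D A := DerivedCategory.Q.obj (kc l)

lemma kP_tri (f : A) (l : List A) : ∃ (i : kP l ⟶ kP (f :: l)) (δ : kP (f :: l) ⟶ (kP l)⟦(1 : ℤ)⟧),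
    Triangle.mk (f • 𝟙 (kP l)) i δ ∈ distTriang (Dual.D A) := by
  have h1 := DerivedCategory.mappingCone_triangle_distinguished (f • 𝟙 (kc l))
  have h2 : DerivedCategory.Q.map (f • 𝟙 (kc l)) = f • 𝟙 (kP l) := by
    rw [Functor.map_smul, CategoryTheory.Functor.map_id]
  refine ⟨(DerivedCategory.Q.mapTriangle.obj (CochainComplex.mappingCone.triangle
    (f • 𝟙 (kc l)))).mor₂, (DerivedCategory.Q.mapTriangle.obj
      (CochainComplex.mappingCone.triangle (f • 𝟙 (kc l)))).mor₃, ?_⟩
  rw [← h2]
  exact h1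

lemma nil_kP (l : List A) : ∀ g ∈ l, GMAbs.Nil g (kP l) := by
  induction l with
  | nil => simp
  | cons f l ih =>
    obtain ⟨i, δ, hT⟩ := kP_tri f l
    intro g hg
    rcases List.mem_cons.1 hg with rfl | hg
    · exact GMAbs.nil_cone_self g _ _ i δ hT
    · exact GMAbs.nil_cone_of_nil f g _ _ i δ hT (ih g hg)

lemma exists_pow_smul_kP [IsNoetherianRing A] (I : Ideal A) (l : List A)
    (hl : Ideal.span {f | f ∈ l} = I) : ∃ N : ℕ, ∀ a ∈ I ^ N, a • 𝟙 (kP l) = 0 := by
  obtain ⟨N, hN⟩ := Ideal.exists_pow_le_of_le_radical_of_fg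
    (S1814.le_radical_annId I l hl (kP l) (nil_kP l)) (IsNoetherian.noetherian I)
  exact ⟨N, fun a ha => hN ha⟩

/-- `g`-power torsion objects -/
def GTors (g : A) (K : Dual.D A) : Prop := ∀ i, LocTri.ElTor g (Dual.HD A K i)

lemma GTors.shift {g : A} {K : Dual.D A} (h : GTors g K) (n : ℤ) : GTors g (K⟦n⟧) := fun i =>
  LocTri.elTor_of_iso (DualShift.shiftHD K n i (n + i) rfl).symm (h (n + i))

/-- morphisms from `kP l` to `g`-power torsion objects are `g`-power torsion -/
theorem exists_pow_smul_eq_zero (g : A) (l : List A) (K : Dual.D A) (hK : GTors g K)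
    (x : kP l ⟶ K) : ∃ k : ℕ, g ^ k • x = 0 := by
  induction l generalizing K with
  | nil =>
    have key : ∀ x : DBase.sg A 0 A ⟶ K, ∃ k : ℕ, g ^ k • x = 0 := by
      intro x
      obtain ⟨k, hk⟩ := hK 0 (DBase.homEquivHD 0 K x)
      refine ⟨k, (DBase.homEquivHD 0 K).injective ?_⟩
      rw [map_smul, hk, map_zero]
    exact key x
  | cons f l ih =>
    obtain ⟨i, δ, hT⟩ := kP_tri f l
    obtain ⟨k, hk⟩ := ih K hK (i ≫ x)
    rw [← Linear.comp_smul] at hk
    obtain ⟨v, hv⟩ := Triangle.yoneda_exact₃ _ hT (g ^ k • x) hk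
    change (kP l)⟦(1 : ℤ)⟧ ⟶ K at v
    change g ^ k • x = δ ≫ v at hv
    let e := (shiftFunctorCompIsoId (Dual.D A) (1 : ℤ) (-1) (by simp)).app (kP l)
    obtain ⟨k', hk'⟩ := ih (K⟦(-1 : ℤ)⟧) (hK.shift (-1)) (e.inv ≫ v⟦(-1 : ℤ)⟧')
    have h1 : g ^ k' • v = 0 := by
      apply (shiftFunctor (Dual.D A) (-1 : ℤ)).map_injective
      rw [Functor.map_smul, Functor.map_zero, ← cancel_epi e.inv, Linear.comp_smul, hk', comp_zero]
    refine ⟨k' + k, ?_⟩
    rw [pow_add, mul_smul, hv, ← Linear.comp_smul, h1, comp_zero]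

end Groth.Agent.LoccohB.KosP
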