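import Groth.Agent.LoccohB.LCRes
import Mathlib.Algebra.Category.ModuleCat.Localization
import Mathlib.RingTheory.LocalProperties.InjectiveDimension
import Mathlib.RingTheory.Localization.AtPrime.Basic
import Mathlib.RingTheory.LocalRing.MaximalIdeal.Basic
import Mathlib.RingTheory.Ideal.MinimalPrime.Localization

/-!
# Localization of local cohomology at a minimal prime of the support, elementwise

If `p` is a minimal prime over `J` and `H^i_{pA_p}(M_p) = 0` then every class in `H^i_J(M)` is killed
by an element outside `p`, in the strong form for cocycles in `Γ_J(I^i)`.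
-/

set_option autoImplicit false
universe u

open CategoryTheory Limits Opposite

namespace Groth.Agent.LoccohB.LCLoc

open GamInj LCRes

section mapInj

variable {C D : Type*} [Category C] [Abelian C] [Category D] [Abelian D]

/-- image of an injective resolution under an exact functor preserving injectives -/
noncomputable def mapInjRes (F : C ⥤ D) [F.Additive] [F.PreservesInjectiveObjects]
    [F.PreservesHomology] {Z : C} (I : InjectiveResolution Z) : InjectiveResolution (F.obj Z) where
  cocomplex := (F.mapHomologicalComplex _).obj I.cocomplex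
  injective n := Functor.PreservesInjectiveObjects.injective_obj (I.injective n)
  ι := (HomologicalComplex.singleMapHomologicalComplex F _ _).inv.app _ ≫
    (F.mapHomologicalComplex _).map I.ι
  quasiIso := inferInstance

end mapInj

variable {A : Type u} [CommRing A] [IsNoetherianRing A] {M : ModuleCat.{u} A}
  (I : InjectiveResolution M)

omit [IsNoetherianRing A] in
lemma maximalIdeal_le_radical {J p : Ideal A} [hp : p.IsPrime] (h : p ∈ J.minimalPrimes) :
    IsLocalRing.maximalIdeal (Localization.AtPrime p) ≤
      (J.map (algebraMap A (Localization.AtPrime p))).radical := by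
  rw [Ideal.radical_eq_sInf]
  apply le_sInf
  rintro Q ⟨hJQ, hQ⟩
  have h1 : J ≤ Q.comap (algebraMap A (Localization.AtPrime p)) := Ideal.map_le_iff_le_comap.1 hJQ
  have hQ' : (Q.comap (algebraMap A (Localization.AtPrime p))).IsPrime := Ideal.comap_isPrime _ Q
  have h2 : Q.comap (algebraMap A (Localization.AtPrime p)) ≤ p := by
    have h3 : Q ≤ IsLocalRing.maximalIdeal (Localization.AtPrime p) :=
      IsLocalRing.le_maximalIdeal hQ.ne_top
    have h4 := Ideal.comap_mono (f := algebraMap A (Localization.AtPrime p)) h3
    have h5 := Localization.AtPrime.under_maximalIdeal (I := p)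
    exact h4.trans (le_of_eq h5)
  have h3 : p ≤ Q.comap (algebraMap A (Localization.AtPrime p)) := h.2 ⟨hQ', h1⟩ h2
  rw [← Localization.AtPrime.map_eq_maximalIdeal]
  exact Ideal.map_le_iff_le_comap.2 h3

/-- the localized resolution -/
noncomputable abbrev locRes (S : Submonoid A) : InjectiveResolution (M.localizedModule S) :=
  mapInjRes (ModuleCat.localizedModuleFunctor S) I

/-- the localization map on the terms of the resolution -/
noncomputable abbrev mk (S : Submonoid A) (n : ℕ) :
    I.cocomplex.X n →ₗ[A] (I.cocomplex.X n).localizedModule S :=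
  (I.cocomplex.X n).localizedModuleMkLinearMap S

omit [IsNoetherianRing A] in
lemma map_mk (S : Submonoid A) {X Y : ModuleCat.{u} A} (f : X ⟶ Y) (x : X) :
    (ModuleCat.localizedModuleMap S f).hom (X.localizedModuleMkLinearMap S x) =
      Y.localizedModuleMkLinearMap S (f.hom x) :=
  IsLocalizedModule.map_apply S _ _ _ _

/-- an isomorphic form of the localized module -/
noncomputable def locIso (M : ModuleCat.{u} A) (S : Submonoid A) :
    M.localizedModule S ≅ ModuleCat.of (Localization S) (LocalizedModule S M) :=
  (Shrink.linearEquiv (Localization S) (LocalizedModule S M)).toModuleIso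

lemma mem_gam_loc {J : Ideal A} {S : Submonoid A} {X : ModuleCat.{u} A} {x : X}
    (hx : X.localizedModuleMkLinearMap S x ∈
      gam (J.map (algebraMap A (Localization S))) (X.localizedModule S)) :
    ∃ s : S, (s : A) • x ∈ gam J X := by
  obtain ⟨n, hn⟩ := hx
  obtain ⟨T, hT⟩ := (IsNoetherian.noetherian (J ^ n) : (J ^ n).FG)
  have h1 : ∀ a ∈ J ^ n, ∃ s : S, s • a • x = 0 := by
    intro a ha
    apply (IsLocalizedModule.eq_zero_iff S (X.localizedModuleMkLinearMap S)).1
    rw [map_smul, ← algebraMap_smul (Localization S)]
    apply hn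
    rw [← Ideal.map_pow]
    exact Ideal.mem_map_of_mem _ ha
  choose! s hs using h1
  refine ⟨∏ t ∈ T, s t, n, ?_⟩
  have h2 : J ^ n ≤ LinearMap.ker (LinearMap.toSpanSingleton A X ((∏ t ∈ T, s t : S) • x)) := by
    rw [← hT, Submodule.span_le]
    intro t ht
    have ht' : t ∈ J ^ n := by rw [← hT]; exact Submodule.subset_span ht
    rw [SetLike.mem_coe, LinearMap.mem_ker, LinearMap.toSpanSingleton_apply]
    obtain ⟨c, hc⟩ := Finset.dvd_prod_of_mem s ht
    rw [hc, mul_comm, mul_smul, smul_comm t c, smul_comm t (s t), hs t ht', smul_zero]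
  intro a ha
  exact h2 ha

theorem key3 (p : Ideal A) [hp : p.IsPrime] (J : Ideal A) (hJ : p ∈ J.minimalPrimes) (i : ℕ)
    (hs : Subsingleton (LocCoh.H (IsLocalRing.maximalIdeal (Localization.AtPrime p)) i
      (LocalizedModule p.primeCompl M)))
    (e : I.cocomplex.X i) (he : e ∈ gam J (I.cocomplex.X i))
    (hd : (I.cocomplex.d i (i + 1)).hom e = 0) :
    ∃ g ∉ p, ∃ y ∈ gam J (I.cocomplex.X (i - 1)), (I.cocomplex.d (i - 1) i).hom y = g • e := by
  set S := p.primeCompl with hS
  let m := IsLocalRing.maximalIdeal (Localization.AtPrime p)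
  -- transport of the vanishing
  have hs2 : Subsingleton ((localCohomology m i).obj (M.localizedModule S)) := by
    have e1 := (localCohomology m i).mapIso (locIso M S)
    exact e1.toLinearEquiv.toEquiv.subsingleton
  -- the localized cocycle
  have h1 : (I.cocomplex.X i).localizedModuleMkLinearMap S e ∈
      gam m ((I.cocomplex.X i).localizedModule S) := by
    have h2 : (I.cocomplex.X i).localizedModuleMkLinearMap S e ∈
        gam (J.map (algebraMap A (Localization.AtPrime p)))
        ((I.cocomplex.X i).localizedModule S) := by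
      obtain ⟨n, hn⟩ := he
      refine ⟨n, fun a ha => ?_⟩
      rw [← Ideal.map_pow] at ha
      have h3 : (J ^ n).map (algebraMap A (Localization.AtPrime p)) ≤
          LinearMap.ker (LinearMap.toSpanSingleton (Localization.AtPrime p)
            ((I.cocomplex.X i).localizedModule S)
            ((I.cocomplex.X i).localizedModuleMkLinearMap S e)) := by
        rw [Ideal.map_le_iff_le_comap]
        intro b hb
        rw [Ideal.mem_comap, LinearMap.mem_ker, LinearMap.toSpanSingleton_apply]
        have h4 : (algebraMap A (Localization S) b) • (I.cocomplex.X i).localizedModuleMkLinearMap S e =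
            b • (I.cocomplex.X i).localizedModuleMkLinearMap S e :=
          algebraMap_smul (Localization S) b _
        refine h4.trans ?_
        rw [← map_smul, hn b hb, map_zero]
      exact h3 ha
    have := IsLocalization.isNoetherianRing S (Localization.AtPrime p) inferInstance
    exact gam_le_of_le_radical (maximalIdeal_le_radical hJ) h2
  have h2 : ((locRes I S).cocomplex.d i (i + 1)).hom
      ((I.cocomplex.X i).localizedModuleMkLinearMap S e) = 0 := by
    refine (map_mk S (I.cocomplex.d i (i + 1)) e).trans ?_
    rw [hd, map_zero]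
    rfl
  have h3 : lc (locRes I S) m i ⟨(I.cocomplex.X i).localizedModuleMkLinearMap S e, h1, h2⟩ = 0 :=
    Subsingleton.elim _ _
  rw [lc_eq_zero_iff] at h3
  obtain ⟨y', hy', hy2⟩ : ∃ y' : (I.cocomplex.X (i - 1)).localizedModule S,
      y' ∈ gam m ((I.cocomplex.X (i - 1)).localizedModule S) ∧
      (ModuleCat.localizedModuleMap S (I.cocomplex.d (i - 1) i)).hom y' =
        (I.cocomplex.X i).localizedModuleMkLinearMap S e := h3
  -- write y' = y / s
  obtain ⟨⟨y, s⟩, hys⟩ := IsLocalizedModule.mk'_surjective S
    ((I.cocomplex.X (i - 1)).localizedModuleMkLinearMap S) y'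
  have hys2 : (I.cocomplex.X (i - 1)).localizedModuleMkLinearMap S y = (s : A) • y' := by
    rw [← hys]
    exact (IsLocalizedModule.mk'_cancel' _ _ _).symm
  have hys3 : (I.cocomplex.X (i - 1)).localizedModuleMkLinearMap S y =
      (algebraMap A (Localization S) (s : A)) • y' := by
    rw [hys2]
    exact (algebraMap_smul (Localization S) (s : A) y').symm
  -- `d y = s e` up to `S`
  have h4 : (I.cocomplex.X i).localizedModuleMkLinearMap S ((I.cocomplex.d (i - 1) i).hom y) =
      (I.cocomplex.X i).localizedModuleMkLinearMap S ((s : A) • e) := by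
    rw [← map_mk, hys3, map_smul, hy2, map_smul]
    exact algebraMap_smul (Localization S) (s : A) _
  obtain ⟨c, hc⟩ := (IsLocalizedModule.eq_iff_exists S _).1 h4
  -- `y` is `J`-torsion up to `S`
  have h5 : ∃ t : S, (t : A) • y ∈ gam J (I.cocomplex.X (i - 1)) := by
    apply mem_gam_loc
    rw [hys3]
    apply Submodule.smul_mem
    refine gam_antitone ?_ hy'
    refine (Ideal.map_mono hJ.1.2).trans ?_
    exact le_of_eq (Localization.AtPrime.map_eq_maximalIdeal)
  obtain ⟨t, ht⟩ := h5
  refine ⟨(t : A) * ((c : A) * (s : A)), ?_, (c : A) • (t : A) • y, Submodule.smul_mem _ _ ht, ?_⟩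
  · exact (t * (c * s)).2
  · have hc' : (c : A) • (I.cocomplex.d (i - 1) i).hom y = (c : A) • (s : A) • e := hc
    rw [map_smul, map_smul, smul_comm, hc', mul_smul, mul_smul]

end Groth.Agent.LoccohB.LCLoc
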