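import Groth.Prelude.Def_DualLC
import Groth.Agent.LoccohB.GamInj
import Groth.Agent.Localalg.OldExt
import Mathlib.CategoryTheory.Abelian.Injective.Ext
import Mathlib.CategoryTheory.Limits.ConcreteCategory.Basic
import Mathlib.Algebra.Category.ModuleCat.FilteredColimits

/-!
# Local cohomology computed by an injective resolution, elementwise

For `I : InjectiveResolution M` the classes `lc I J i : ZG I J i →ₗ[A] (localCohomology J i).obj M` of
cocycles in `Γ_J(I^i)` are surjective, with kernel the boundaries of elements of `Γ_J(I^{i-1})`, and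
compatible with `Dual2.HmapOfLE`.
-/

set_option autoImplicit false
universe u

open CategoryTheory Limits Opposite

namespace Groth.Agent.LoccohB.LCRes

open GamInj Groth.Agent.Localalg.OldExt

variable {A : Type u} [CommRing A] {M : ModuleCat.{u} A} (I : InjectiveResolution M)

section ecl

variable (X : ModuleCat.{u} A) (i : ℕ)

/-- morphisms `X ⟶ I^i` which are cocycles -/
def ZX : Submodule A (X ⟶ I.cocomplex.X i) where
  carrier := {f | f ≫ I.cocomplex.d i (i + 1) = 0}
  zero_mem' := by simp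
  add_mem' := by intro a b ha hb; simp_all
  smul_mem' := by intro c a ha; simp_all

lemma extMk_smul (a : A) (f : X ⟶ I.cocomplex.X i) (hf : f ≫ I.cocomplex.d i (i + 1) = 0) :
    I.extMk (a • f) (i + 1) rfl (by rw [Linear.smul_comp, hf, smul_zero]) =
      a • I.extMk f (i + 1) rfl hf := by
  have h := I.mk₀_comp_extMk f (i + 1) rfl hf (a • 𝟙 X)
  rw [Abelian.Ext.mk₀_smul, Abelian.Ext.smul_comp, Abelian.Ext.mk₀_id_comp] at h
  rw [h]
  congr 1
  simp

/-- the class in the old `Ext` of a cocycle `X ⟶ I^i` -/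
noncomputable def ecl : ZX I X i →ₗ[A] (((Ext A (ModuleCat.{u} A) i).obj (op X)).obj M) where
  toFun f := (extEquiv (R := A) X M i).symm (I.extMk f.1 (i + 1) rfl f.2)
  map_add' f g := by
    rw [← map_add, I.add_extMk]
    rfl
  map_smul' a f := by
    rw [RingHom.id_apply, ← map_smul, ← extMk_smul]
    rfl

lemma ecl_surjective : Function.Surjective (ecl I X i) := by
  intro x
  obtain ⟨f, hf, h⟩ := I.extMk_surjective (extEquiv (R := A) X M i x) (i + 1) rfl
  refine ⟨⟨f, hf⟩, ?_⟩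
  change (extEquiv (R := A) X M i).symm (I.extMk f (i + 1) rfl hf) = x
  rw [h, LinearEquiv.symm_apply_apply]

lemma extMk_zero_eq_zero_iff (f : X ⟶ I.cocomplex.X 0) (hf : f ≫ I.cocomplex.d 0 1 = 0) :
    I.extMk f 1 rfl hf = 0 ↔ f = 0 := by
  constructor
  · intro h
    rw [← I.extEquivCohomologyClass.apply_eq_iff_eq, I.extEquivCohomologyClass_extMk,
      I.extEquivCohomologyClass_zero, CochainComplex.HomComplex.CohomologyClass.mk_eq_zero_iff,
      CochainComplex.HomComplex.Cocycle.fromSingleMk_mem_coboundaries_iff _ _ _ _ _ (-1) (by lia)] at h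
    obtain ⟨g, hg⟩ := h
    have hz : IsZero (I.cochainComplex.X (-1)) :=
      I.cochainComplex.isZero_of_isStrictlyGE 0 (-1) (by lia)
    have hg0 : g = 0 := hz.eq_of_tgt _ _
    rw [hg0, zero_comp] at hg
    rw [← cancel_mono (I.cochainComplexXIso ((0 : ℕ) : ℤ) 0 rfl).inv, zero_comp]
    exact hg.symm
  · rintro rfl
    simp

lemma ecl_eq_zero_iff (f : ZX I X i) :
    ecl I X i f = 0 ↔ ∃ g : X ⟶ I.cocomplex.X (i - 1), g ≫ I.cocomplex.d (i - 1) i = f.1 := by
  change (extEquiv (R := A) X M i).symm (I.extMk f.1 (i + 1) rfl f.2) = 0 ↔ _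
  rw [LinearEquiv.map_eq_zero_iff]
  rcases i with _ | i
  · rw [extMk_zero_eq_zero_iff]
    have : I.cocomplex.d 0 0 = 0 := I.cocomplex.shape _ _ (by simp)
    constructor
    · intro h
      exact ⟨0, by rw [h, zero_comp]⟩
    · rintro ⟨g, hg⟩
      rw [← hg]
      change g ≫ I.cocomplex.d 0 0 = 0
      rw [this, comp_zero]
  · rw [I.extMk_eq_zero_iff f.1 (i + 1 + 1) rfl f.2 i rfl]
    rfl

lemma map_ecl {X X' : ModuleCat.{u} A} (g : X ⟶ X') (f : ZX I X' i) :
    (((Ext A (ModuleCat.{u} A) i).map g.op).app M).hom (ecl I X' i f) =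
      ecl I X i ⟨g ≫ f.1, by
        have := f.2
        change _ ≫ _ = _ at this
        change (_ ≫ _) ≫ _ = _
        rw [Category.assoc, this, comp_zero]⟩ := by
  apply (extEquiv (R := A) X M i).injective
  rw [extEquiv_naturality_left]
  change (Abelian.Ext.mk₀ g).comp ((extEquiv (R := A) X' M i) ((extEquiv (R := A) X' M i).symm _)) _ =
    (extEquiv (R := A) X M i) ((extEquiv (R := A) X M i).symm _)
  rw [LinearEquiv.apply_symm_apply, LinearEquiv.apply_symm_apply]
  exact I.mk₀_comp_extMk _ _ _ _ g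

end ecl

section lc

variable (J : Ideal A) (i : ℕ)

/-- cocycles in `Γ_J(I^i)` -/
def ZG : Submodule A (I.cocomplex.X i) :=
  gam J (I.cocomplex.X i) ⊓ LinearMap.ker (I.cocomplex.d i (i + 1)).hom

/-- the structure map of the colimit -/
noncomputable def lι (n : ℕ) :
    (((Ext A (ModuleCat.{u} A) i).obj (op (ModuleCat.of A (A ⧸ J ^ n)))).obj M) ⟶
      (localCohomology J i).obj M :=
  (colimit.ι (localCohomology.diagram (localCohomology.idealPowersDiagram J) i) (op (op n))).app M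

/-- the colimit cocone evaluated at M -/
noncomputable def lcCocone (M : ModuleCat.{u} A) :=
  ((evaluation _ _).obj M).mapCocone
    (colimit.cocone (localCohomology.diagram (localCohomology.idealPowersDiagram J) i))

noncomputable def lcCocone_isColimit (M : ModuleCat.{u} A) : IsColimit (lcCocone J i M) :=
  isColimitOfPreserves ((evaluation _ _).obj M) (colimit.isColimit _)

theorem presSmall (A : Type u) [CommRing A] :
    PreservesFilteredColimitsOfSize.{0, 0} (forget (ModuleCat.{u} A)) :=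
  @preservesSmallestFilteredColimits_of_preservesFilteredColimits _ _ _ _ (forget (ModuleCat.{u} A))
    (inferInstance : PreservesFilteredColimits (forget (ModuleCat.{u} A)))

attribute [local instance] presSmall

theorem filt : IsFiltered (ℕᵒᵖ)ᵒᵖ := isFiltered_op_of_isCofiltered _

attribute [local instance] filt

lemma lι_jointly_surjective (x : (localCohomology J i).obj M) :
    ∃ (n : ℕ) (y : _), (lι (M := M) J i n).hom y = x := by
  obtain ⟨j, y, h⟩ := Concrete.isColimit_exists_rep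
    (localCohomology.diagram (localCohomology.idealPowersDiagram J) i ⋙ (evaluation _ _).obj M)
      (lcCocone_isColimit J i M) x
  exact ⟨j.unop.unop, y, h⟩

/-- the quotient map `A/J^m ⟶ A/J^n` for `n ≤ m` -/
noncomputable def qmap {n m : ℕ} (h : n ≤ m) :
    ModuleCat.of A (A ⧸ J ^ m) ⟶ ModuleCat.of A (A ⧸ J ^ n) :=
  ModuleCat.ofHom (Submodule.mapQ _ _ LinearMap.id (Ideal.pow_le_pow_right h))

lemma lι_naturality {n m : ℕ} (h : n ≤ m)
    (y : (((Ext A (ModuleCat.{u} A) i).obj (op (ModuleCat.of A (A ⧸ J ^ n)))).obj M)) :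
    (lι J i m).hom ((((Ext A (ModuleCat.{u} A) i).map (qmap J h).op).app M).hom y) =
      (lι J i n).hom y := by
  have := (lcCocone J i M).w ((homOfLE h).op.op)
  exact LinearMap.congr_fun (congr_arg ModuleCat.Hom.hom this) y

lemma lι_eq_zero_iff {n : ℕ}
    (y : (((Ext A (ModuleCat.{u} A) i).obj (op (ModuleCat.of A (A ⧸ J ^ n)))).obj M)) :
    (lι J i n).hom y = 0 ↔ ∃ (m : ℕ) (h : n ≤ m),
      (((Ext A (ModuleCat.{u} A) i).map (qmap J h).op).app M).hom y = 0 := by
  constructor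
  · intro h
    have h1 : (((lcCocone J i M).ι.app (op (op n))).hom y : (lcCocone J i M).pt) =
        ((lcCocone J i M).ι.app (op (op n))).hom 0 := by
      refine Eq.trans h ?_
      exact (map_zero _).symm
    obtain ⟨k, f, g, hk⟩ := Concrete.isColimit_exists_of_rep_eq.{u}
      (localCohomology.diagram (localCohomology.idealPowersDiagram J) i ⋙ (evaluation _ _).obj M)
      (lcCocone_isColimit J i M) (i := op (op n)) (j := op (op n)) y 0 h1
    refine ⟨k.unop.unop, leOfHom f.unop.unop, ?_⟩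
    have h2 : (((localCohomology.diagram (localCohomology.idealPowersDiagram J) i ⋙
      (evaluation _ _).obj M).map f)).hom y = 0 := by
      refine Eq.trans hk ?_
      exact map_zero _
    exact h2
  · rintro ⟨m, h, hm⟩
    rw [← lι_naturality J i h, hm, map_zero]

/-- the morphism `A/J^n ⟶ X` given by an element killed by `J^n` -/
noncomputable def emap {X : ModuleCat.{u} A} (n : ℕ) (x : X) (hx : ∀ a ∈ J ^ n, a • x = 0) :
    ModuleCat.of A (A ⧸ J ^ n) ⟶ X :=
  ModuleCat.ofHom (Submodule.liftQ (J ^ n) (LinearMap.toSpanSingleton A X x)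
    (fun a ha => by rw [LinearMap.mem_ker, LinearMap.toSpanSingleton_apply]; exact hx a ha))

lemma emap_mk {X : ModuleCat.{u} A} (n : ℕ) (x : X) (hx : ∀ a ∈ J ^ n, a • x = 0) (a : A) :
    (emap J n x hx).hom (Submodule.Quotient.mk a) = a • x := rfl

lemma hom_ext_quot {X : ModuleCat.{u} A} {n : ℕ} {f g : ModuleCat.of A (A ⧸ J ^ n) ⟶ X}
    (h : f.hom (Submodule.Quotient.mk (1 : A)) = g.hom (Submodule.Quotient.mk (1 : A))) : f = g := by
  apply ModuleCat.hom_ext
  apply Submodule.linearMap_qext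
  apply LinearMap.ext_ring
  exact h

lemma qmap_emap {X : ModuleCat.{u} A} {n m : ℕ} (h : n ≤ m) (x : X) (hx : ∀ a ∈ J ^ n, a • x = 0) :
    qmap J h ≫ emap J n x hx = emap J m x (fun a ha => hx a (Ideal.pow_le_pow_right h ha)) := by
  apply hom_ext_quot
  rfl

lemma emap_comp {X Y : ModuleCat.{u} A} (n : ℕ) (x : X) (hx : ∀ a ∈ J ^ n, a • x = 0) (f : X ⟶ Y) :
    emap J n x hx ≫ f = emap J n (f.hom x) (fun a ha => by rw [← map_smul, hx a ha, map_zero]) := by
  apply hom_ext_quot
  change f.hom ((1 : A) • x) = (1 : A) • f.hom x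
  rw [one_smul, one_smul]

lemma exists_emap {X : ModuleCat.{u} A} {n : ℕ} (f : ModuleCat.of A (A ⧸ J ^ n) ⟶ X) :
    ∃ (x : X) (hx : ∀ a ∈ J ^ n, a • x = 0), f = emap J n x hx := by
  refine ⟨f.hom (Submodule.Quotient.mk (1 : A)), fun a ha => ?_, ?_⟩
  · rw [← map_smul]
    have : a • (Submodule.Quotient.mk (1 : A) : A ⧸ J ^ n) = 0 := by
      rw [← Submodule.Quotient.mk_smul, smul_eq_mul, mul_one]
      exact (Submodule.Quotient.mk_eq_zero _).2 ha
    rw [this, map_zero]
  · apply hom_ext_quot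
    exact (one_smul A _).symm

variable {J i} in
/-- a cocycle killed by `J^n` gives a morphism `A/J^n ⟶ I^i` -/
noncomputable def zmap (e : ZG I J i) (n : ℕ) (hn : ∀ a ∈ J ^ n, a • e.1 = 0) :
    ZX I (ModuleCat.of A (A ⧸ J ^ n)) i :=
  ⟨emap J n e.1 hn, by
    change _ ≫ _ = _
    rw [emap_comp]
    apply hom_ext_quot
    have h : (I.cocomplex.d i (i + 1)).hom e.1 = 0 := e.2.2
    change (1 : A) • (I.cocomplex.d i (i + 1)).hom e.1 = 0
    rw [h, smul_zero]⟩

variable {J i} in
lemma lι_zmap_eq (e : ZG I J i) {n m : ℕ} (hn : ∀ a ∈ J ^ n, a • e.1 = 0)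
    (hm : ∀ a ∈ J ^ m, a • e.1 = 0) :
    (lι J i n).hom (ecl I _ i (zmap I e n hn)) = (lι J i m).hom (ecl I _ i (zmap I e m hm)) := by
  wlog h : n ≤ m generalizing n m
  · exact (this hm hn (le_of_lt (not_le.1 h))).symm
  · rw [← lι_naturality J i h, map_ecl]
    congr 2
    exact Subtype.ext (qmap_emap J h e.1 hn)

/-- the local cohomology class of a cocycle in `Γ_J(I^i)` -/
noncomputable def lc : ZG I J i →ₗ[A] (localCohomology J i).obj M where
  toFun e := (lι J i e.2.1.choose).hom (ecl I _ i (zmap I e _ e.2.1.choose_spec))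
  map_add' e e' := by
    obtain ⟨n, hn⟩ := e.2.1
    obtain ⟨n', hn'⟩ := e'.2.1
    have h1 : ∀ a ∈ J ^ (n + n'), a • e.1 = 0 :=
      fun a ha => hn a (Ideal.pow_le_pow_right (Nat.le_add_right n n') ha)
    have h2 : ∀ a ∈ J ^ (n + n'), a • e'.1 = 0 :=
      fun a ha => hn' a (Ideal.pow_le_pow_right (Nat.le_add_left n' n) ha)
    have h3 : ∀ a ∈ J ^ (n + n'), a • (e + e').1 = 0 := by
      intro a ha
      change a • (e.1 + e'.1) = 0
      rw [smul_add, h1 a ha, h2 a ha, add_zero]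
    rw [lι_zmap_eq I e _ h1, lι_zmap_eq I e' _ h2, lι_zmap_eq I (e + e') _ h3, ← map_add, ← map_add]
    congr 2
    apply Subtype.ext
    apply hom_ext_quot
    change (1 : A) • (e.1 + e'.1) = (1 : A) • e.1 + (1 : A) • e'.1
    rw [smul_add]
  map_smul' a e := by
    obtain ⟨n, hn⟩ := e.2.1
    have h3 : ∀ b ∈ J ^ n, b • (a • e).1 = 0 := by
      intro b hb
      change b • a • e.1 = 0
      rw [smul_comm, hn b hb, smul_zero]
    rw [lι_zmap_eq I e _ hn, lι_zmap_eq I (a • e) _ h3, RingHom.id_apply, ← map_smul, ← map_smul]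
    congr 2
    apply Subtype.ext
    apply hom_ext_quot
    change (1 : A) • (a • e.1) = a • ((1 : A) • e.1)
    rw [smul_comm]

variable {J i} in
lemma lc_eq (e : ZG I J i) {n : ℕ} (hn : ∀ a ∈ J ^ n, a • e.1 = 0) :
    lc I J i e = (lι J i n).hom (ecl I _ i (zmap I e n hn)) :=
  lι_zmap_eq I e _ hn

lemma lc_surjective : Function.Surjective (lc I J i) := by
  intro x
  obtain ⟨n, y, rfl⟩ := lι_jointly_surjective J i x
  obtain ⟨⟨f, hf⟩, rfl⟩ := ecl_surjective I _ i y
  obtain ⟨x, hx, rfl⟩ := exists_emap J f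
  have hx2 : (I.cocomplex.d i (i + 1)).hom x = 0 := by
    have h : emap J n x hx ≫ I.cocomplex.d i (i + 1) = 0 := hf
    have h2 := congr_arg (fun t => t.hom (Submodule.Quotient.mk (1 : A))) h
    change (I.cocomplex.d i (i + 1)).hom ((1 : A) • x) = 0 at h2
    rwa [one_smul] at h2
  exact ⟨⟨x, ⟨n, hx⟩, hx2⟩, lc_eq I _ hx⟩

variable {J i} in
lemma lc_eq_zero_iff (e : ZG I J i) :
    lc I J i e = 0 ↔ ∃ y ∈ gam J (I.cocomplex.X (i - 1)), (I.cocomplex.d (i - 1) i).hom y = e.1 := by
  obtain ⟨n, hn⟩ := e.2.1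
  rw [lc_eq I e hn, lι_eq_zero_iff]
  constructor
  · rintro ⟨m, h, hm⟩
    rw [map_ecl, ecl_eq_zero_iff] at hm
    obtain ⟨g, hg⟩ := hm
    obtain ⟨y, hy, rfl⟩ := exists_emap J g
    refine ⟨y, ⟨m, hy⟩, ?_⟩
    have h2 := congr_arg (fun t => t.hom (Submodule.Quotient.mk (1 : A))) hg
    change (I.cocomplex.d (i - 1) i).hom ((1 : A) • y) = (1 : A) • e.1 at h2
    rwa [one_smul, one_smul] at h2
  · rintro ⟨y, ⟨k, hk⟩, hy⟩
    refine ⟨n + k, Nat.le_add_right n k, ?_⟩
    rw [map_ecl, ecl_eq_zero_iff]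
    refine ⟨emap J (n + k) y (fun a ha => hk a (Ideal.pow_le_pow_right (Nat.le_add_left k n) ha)), ?_⟩
    apply hom_ext_quot
    change (I.cocomplex.d (i - 1) i).hom ((1 : A) • y) = (1 : A) • e.1
    rw [one_smul, one_smul, hy]

/-- the comparison map on classes -/
lemma HmapOfLE_lc {J J' : Ideal A} (h : J ≤ J') (e : ZG I J' i) :
    ((Dual2.HmapOfLE h i).app M).hom (lc I J' i e) =
      lc I J i ⟨e.1, gam_antitone h e.2.1, e.2.2⟩ := by
  obtain ⟨n, hn⟩ := e.2.1
  have hn' : ∀ a ∈ J ^ n, a • e.1 = 0 := fun a ha => hn a (Ideal.pow_right_mono h n ha)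
  rw [lc_eq I e hn, lc_eq I ⟨e.1, gam_antitone h e.2.1, e.2.2⟩ hn']
  have h1 : lι (M := M) J' i n ≫ (Dual2.HmapOfLE h i).app M =
      ((Ext A (ModuleCat.{u} A) i).map ((Dual2.quotMapOfLE h).app (op n)).op).app M ≫ lι J i n := by
    have := congr_app (ι_colimMap (Functor.whiskerRight (NatTrans.op (Dual2.quotMapOfLE h))
      (Ext A (ModuleCat.{u} A) i)) (op (op n))) M
    exact this
  have h2 := LinearMap.congr_fun (congr_arg ModuleCat.Hom.hom h1) (ecl I _ i (zmap I e n hn))
  refine h2.trans ?_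
  change (lι J i n).hom ((((Ext A (ModuleCat.{u} A) i).map
    ((Dual2.quotMapOfLE h).app (op n)).op).app M).hom (ecl I _ i (zmap I e n hn))) = _
  congr 1
  refine (map_ecl I i ((Dual2.quotMapOfLE h).app (op n)) (zmap I e n hn)).trans ?_
  congr 1
  apply Subtype.ext
  apply hom_ext_quot
  rfl

end lc

end Groth.Agent.LoccohB.LCRes
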