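import Groth.Agent.LoccohB.LocDualTors
import Mathlib.Algebra.Category.ModuleCat.FilteredColimits
import Mathlib.CategoryTheory.Limits.Preserves.Filtered

/-!
# `T(N[i])` for `N` an `I`-power torsion module: zero for `i ≠ 0`, and `T(N) = N`.
-/

set_option autoImplicit false
universe v w u
open CategoryTheory Limits Opposite Pretriangulated
attribute [local instance] HasDerivedCategory.standard

namespace Groth.Agent.LoccohB.LocDualElt

open Groth.Agent.LoccohB.LocDualBasic Groth.Agent.LoccohB.LocDualDev Groth.Agent.LoccohB.LocDualVan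
  Groth.Agent.LoccohB.LocDualTors

section inst

theorem presAb (J : Type v) [SmallCategory J] [IsFiltered J] :
    PreservesColimitsOfShape J (forget (AddCommGrpCat.{max v w})) := by
  have h0 : PreservesFilteredColimitsOfSize.{max v w, max v w} (forget (AddCommGrpCat.{max v w})) :=
    inferInstance
  have : PreservesFilteredColimitsOfSize.{v, v} (forget (AddCommGrpCat.{max v w})) :=
    @preservesFilteredColimitsOfSize_shrink.{v, w, v, w} _ _ _ _ (forget (AddCommGrpCat.{max v w})) h0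
  exact PreservesFilteredColimitsOfSize.preserves_filtered_colimits J

/-- filtered colimits of size `0` in `ModuleCat.{u+1} A` are computed in types. -/
instance presN {A : Type u} [CommRing A] (J : Type) [SmallCategory J] [IsFiltered J] :
    PreservesColimitsOfShape J (forget (ModuleCat.{u + 1} A)) := by
  have h1 := presAb.{0, u + 1} J
  exact comp_preservesColimitsOfShape (forget₂ (ModuleCat.{u + 1} A) AddCommGrpCat.{u + 1})
    (forget (AddCommGrpCat.{u + 1}))

/-- filtered colimits of size `u` in `ModuleCat.{u+1} A` are computed in types. -/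
instance presU {A : Type u} [CommRing A] (J : Type u) [SmallCategory J] [IsFiltered J] :
    PreservesColimitsOfShape J (forget (ModuleCat.{u + 1} A)) := by
  have h1 := presAb.{u, u + 1} J
  exact comp_preservesColimitsOfShape (forget₂ (ModuleCat.{u + 1} A) AddCommGrpCat.{u + 1})
    (forget (AddCommGrpCat.{u + 1}))

end inst

variable {A : Type u} [CommRing A] (I : Ideal A)

/-- the diagram of powers of `I` -/
abbrev Dg : ℕᵒᵖ ⥤ Ideal A := localCohomology.idealPowersDiagram I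

/-- The functor `K ↦ colim_n Hom(A/I^n, K)`. `Dual2.HDI A I K i = (TI I).obj (K⟦i⟧)` by definition. -/
noncomputable abbrev TI : Dual.D A ⥤ ModuleCat.{u + 1} A := T (Dg I)

lemma HDI_eq (K : Dual.D A) (i : ℤ) : Dual2.HDI A I K i = (TI I).obj (K⟦i⟧) := rfl

/-- the functor `M ↦ M[0]` -/
noncomputable abbrev SF (A : Type u) [CommRing A] : ModuleCat.{u} A ⥤ Dual.D A :=
  DerivedCategory.singleFunctor (ModuleCat.{u} A) 0

/-- the transition map `A/I^m → A/I^n`, `n ≤ m`, in `D(A)`. -/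
noncomputable def tr {n m : ℕ} (h : n ≤ m) :
    Dual.inD A (A ⧸ I ^ m) ⟶ Dual.inD A (A ⧸ I ^ n) :=
  (SF A).map (ModuleCat.ofHom (Submodule.mapQ (I ^ m) (I ^ n) LinearMap.id
    (Ideal.pow_le_pow_right h)))

/-- the class in `T(K)` of `f : A/I^n → K`. -/
noncomputable def inclN {K : Dual.D A} (n : ℕ) :
    (Dual.inD A (A ⧸ I ^ n) ⟶ K) →ₗ[A] (TI I).obj K :=
  incl (Dg I) (op n)

lemma inclN_tr {K : Dual.D A} {n m : ℕ} (h : n ≤ m) (f : Dual.inD A (A ⧸ I ^ n) ⟶ K) :
    inclN I m (tr I h ≫ f) = inclN I n f :=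
  incl_comp (Dg I) (homOfLE h).op f

lemma TI_map_inclN {K L : Dual.D A} (g : K ⟶ L) (n : ℕ) (f : Dual.inD A (A ⧸ I ^ n) ⟶ K) :
    ((TI I).map g).hom (inclN I n f) = inclN I n (f ≫ g) :=
  map_incl (Dg I) g (op n) f

lemma exists_repN {K : Dual.D A} (x : (TI I).obj K) :
    ∃ (n : ℕ) (f : Dual.inD A (A ⧸ I ^ n) ⟶ K), inclN I n f = x := by
  obtain ⟨j, f, rfl⟩ := exists_rep (Dg I) x
  exact ⟨j.unop, f, rfl⟩

lemma inclN_eq_zero_iff {K : Dual.D A} (n : ℕ) (f : Dual.inD A (A ⧸ I ^ n) ⟶ K) :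
    inclN I n f = 0 ↔ ∃ (m : ℕ) (h : n ≤ m), tr I h ≫ f = 0 := by
  refine (incl_eq_zero_iff (Dg I) (op n) f).trans ?_
  constructor
  · rintro ⟨i, α, h⟩
    exact ⟨i.unop, leOfHom α.unop, h⟩
  · rintro ⟨m, h, h'⟩
    exact ⟨op m, (homOfLE h).op, h'⟩

/-- elements of `I^n` kill `Hom(A/I^n, K)` -/
lemma pow_smul_quotD {K : Dual.D A} (n : ℕ) (f : Dual.inD A (A ⧸ I ^ n) ⟶ K) (a : A)
    (ha : a ∈ I ^ n) : a • f = 0 := by
  refine smul_hom_eq_zero (N := A ⧸ I ^ n) (fun x => ?_) K f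
  obtain ⟨x, rfl⟩ := Ideal.Quotient.mk_surjective x
  exact Ideal.Quotient.eq_zero_iff_mem.2 (Ideal.mul_mem_right _ _ ha)

lemma isPowerTorsion_TI (K : Dual.D A) : LocCoh.IsPowerTorsion I ((TI I).obj K) := by
  intro x
  obtain ⟨n, f, rfl⟩ := exists_repN I x
  refine ⟨n, fun a ha => ?_⟩
  rw [← map_smul, pow_smul_quotD I n f a ha, map_zero]

section elt

variable {N : Type u} [AddCommGroup N] [Module A N]

/-- the linear map `A/I^n → N` given by an element killed by `I^n`. -/
noncomputable def eltLin (n : ℕ) (l : N) (h : ∀ a ∈ I ^ n, a • l = 0) : (A ⧸ I ^ n) →ₗ[A] N :=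
  Submodule.liftQ (I ^ n) (LinearMap.toSpanSingleton A N l) (fun a ha => h a ha)

lemma eltLin_mk (n : ℕ) (l : N) (h : ∀ a ∈ I ^ n, a • l = 0) (a : A) :
    eltLin I n l h (Submodule.Quotient.mk a) = a • l := rfl

/-- the morphism `A/I^n → N` in `D(A)` given by an element killed by `I^n`. -/
noncomputable def elt (n : ℕ) (l : N) (h : ∀ a ∈ I ^ n, a • l = 0) :
    Dual.inD A (A ⧸ I ^ n) ⟶ Dual.inD A N :=
  (SF A).map (ModuleCat.ofHom (eltLin I n l h))

lemma tr_elt {n m : ℕ} (hnm : n ≤ m) (l : N) (h : ∀ a ∈ I ^ n, a • l = 0) :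
    tr I hnm ≫ elt I n l h = elt I m l (fun a ha => h a (Ideal.pow_le_pow_right hnm ha)) := by
  unfold elt tr
  rw [← Functor.map_comp]
  congr 1
  apply ModuleCat.hom_ext
  apply LinearMap.ext
  intro x
  obtain ⟨x, rfl⟩ := Submodule.Quotient.mk_surjective _ x
  rfl

lemma elt_eq_zero_iff (n : ℕ) (l : N) (h : ∀ a ∈ I ^ n, a • l = 0) : elt I n l h = 0 ↔ l = 0 := by
  constructor
  · intro h0
    have h1 : ModuleCat.ofHom (eltLin I n l h) = 0 := by
      apply (SF A).map_injective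
      rw [Functor.map_zero]
      exact h0
    have h2 := congrArg (fun φ => φ.hom (Submodule.Quotient.mk (1 : A))) h1
    have h3 : (1 : A) • l = 0 := h2
    rwa [one_smul] at h3
  · rintro rfl
    have : ModuleCat.ofHom (eltLin I n (0 : N) h) = 0 := by
      apply ModuleCat.hom_ext
      apply LinearMap.ext
      intro x
      obtain ⟨x, rfl⟩ := Submodule.Quotient.mk_surjective _ x
      exact smul_zero x
    unfold elt
    rw [this, Functor.map_zero]

lemma exists_elt (n : ℕ) (f : Dual.inD A (A ⧸ I ^ n) ⟶ Dual.inD A N) :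
    ∃ (l : N) (h : ∀ a ∈ I ^ n, a • l = 0), f = elt I n l h := by
  obtain ⟨φ, rfl⟩ := (SF A).map_surjective f
  have hφ : ∀ a ∈ I ^ n, a • φ.hom (Submodule.Quotient.mk (1 : A)) = 0 := by
    intro a ha
    rw [← map_smul, ← Submodule.Quotient.mk_smul, smul_eq_mul, mul_one,
      (Submodule.Quotient.mk_eq_zero _).2 ha, map_zero]
  refine ⟨φ.hom (Submodule.Quotient.mk (1 : A)), hφ, ?_⟩
  unfold elt
  congr 1
  apply ModuleCat.hom_ext
  apply LinearMap.ext
  intro x
  obtain ⟨x, rfl⟩ := Submodule.Quotient.mk_surjective _ x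
  change φ.hom (Submodule.Quotient.mk x) = eltLin I n _ hφ (Submodule.Quotient.mk x)
  rw [eltLin_mk, ← map_smul, ← Submodule.Quotient.mk_smul, smul_eq_mul, mul_one]

lemma inclN_elt_eq_zero_iff (n : ℕ) (l : N) (h : ∀ a ∈ I ^ n, a • l = 0) :
    inclN I n (elt I n l h) = 0 ↔ l = 0 := by
  rw [inclN_eq_zero_iff]
  constructor
  · rintro ⟨m, hm, h0⟩
    rw [tr_elt, elt_eq_zero_iff] at h0
    exact h0
  · intro hl
    exact ⟨n, le_rfl, by rw [tr_elt, elt_eq_zero_iff]; exact hl⟩

lemma elt_add (n : ℕ) (l l' : N) (h : ∀ a ∈ I ^ n, a • l = 0) (h' : ∀ a ∈ I ^ n, a • l' = 0)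
    (h'' : ∀ a ∈ I ^ n, a • (l + l') = 0) :
    elt I n (l + l') h'' = elt I n l h + elt I n l' h' := by
  unfold elt
  rw [← Functor.map_add]
  congr 1
  apply ModuleCat.hom_ext
  apply LinearMap.ext
  intro x
  obtain ⟨x, rfl⟩ := Submodule.Quotient.mk_surjective _ x
  exact smul_add x l l'

lemma elt_smul (n : ℕ) (b : A) (l : N) (h : ∀ a ∈ I ^ n, a • l = 0)
    (h'' : ∀ a ∈ I ^ n, a • (b • l) = 0) :
    elt I n (b • l) h'' = b • elt I n l h := by
  unfold elt
  rw [← Functor.map_smul]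
  congr 1
  apply ModuleCat.hom_ext
  apply LinearMap.ext
  intro x
  obtain ⟨x, rfl⟩ := Submodule.Quotient.mk_surjective _ x
  exact smul_comm x b l

lemma elt_comp {M : Type u} [AddCommGroup M] [Module A M] (n : ℕ) (l : N)
    (h : ∀ a ∈ I ^ n, a • l = 0) (φ : N →ₗ[A] M) (h' : ∀ a ∈ I ^ n, a • φ l = 0) :
    elt I n l h ≫ (SF A).map (ModuleCat.ofHom φ) =
      elt I n (φ l) h' := by
  unfold elt
  rw [← Functor.map_comp]
  congr 1
  apply ModuleCat.hom_ext
  apply LinearMap.ext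
  intro x
  obtain ⟨x, rfl⟩ := Submodule.Quotient.mk_surjective _ x
  exact φ.map_smul x l

/-- `T` of a surjection of power torsion modules is surjective. -/
lemma TI_surjective_of_surjective {M : Type u} [AddCommGroup M] [Module A M]
    (hN : LocCoh.IsPowerTorsion I N) (φ : N →ₗ[A] M) (hφ : Function.Surjective φ) :
    Function.Surjective ((TI I).map
      ((SF A).map (ModuleCat.ofHom φ))).hom := by
  intro y
  obtain ⟨n, f, rfl⟩ := exists_repN I y
  obtain ⟨l, hl, rfl⟩ := exists_elt I n f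
  obtain ⟨x, rfl⟩ := hφ l
  obtain ⟨k, hk⟩ := hN x
  have hk' : ∀ a ∈ I ^ (max n k), a • x = 0 := fun a ha =>
    hk a (Ideal.pow_le_pow_right (le_max_right n k) ha)
  refine ⟨inclN I (max n k) (elt I (max n k) x hk'), ?_⟩
  rw [TI_map_inclN, elt_comp I _ _ hk' φ (fun a ha => by rw [← map_smul, hk' a ha, map_zero]),
    ← inclN_tr I (le_max_left n k), tr_elt]

end elt

section vanish

lemma TI_neg (N : Type u) [AddCommGroup N] [Module A N] (i : ℤ) (hi : i < 0)
    (x : (TI I).obj ((Dual.inD A N)⟦i⟧)) : x = 0 := by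
  obtain ⟨n, f, rfl⟩ := exists_repN I x
  have := (subsingleton_hom_neg (A ⧸ I ^ n) N i hi).elim f 0
  rw [this, map_zero]

lemma TI_pos_injective (J : Type u) [AddCommGroup J] [Module A J] (hJ : Module.Injective A J)
    (i : ℤ) (hi : 0 < i) (x : (TI I).obj ((Dual.inD A J)⟦i⟧)) : x = 0 := by
  obtain ⟨n, f, rfl⟩ := exists_repN I x
  have := (subsingleton_hom_injective (A ⧸ I ^ n) J hJ i hi).elim f 0
  rw [this, map_zero]

lemma TI_iso_zero {K L : Dual.D A} (e : K ≅ L) (h : ∀ x : (TI I).obj K, x = 0)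
    (x : (TI I).obj L) : x = 0 := by
  have h1 := h (((TI I).map e.inv).hom x)
  have h2 : ((TI I).map e.hom).hom (((TI I).map e.inv).hom x) = x := by
    rw [← T_map_comp_apply, e.inv_hom_id, (TI I).map_id]
    rfl
  rw [← h2, h1, map_zero]

/-- local cohomology of a power torsion module vanishes in positive degrees. -/
lemma TI_pos [IsNoetherianRing A] (i : ℕ) : ∀ (N : Type u) [AddCommGroup N] [Module A N],
    LocCoh.IsPowerTorsion I N → ∀ (x : (TI I).obj ((Dual.inD A N)⟦((i : ℤ) + 1)⟧)), x = 0 := by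
  induction i with
  | zero =>
    intro N _ _ hN
    obtain ⟨E, _, _, f, hE, hEi, hf⟩ := exists_embedding I N hN
    obtain ⟨δ, hδ⟩ := exists_triangle (A := A) f (Submodule.mkQ (LinearMap.range f)) hf
      (Submodule.mkQ_surjective _) (LinearMap.exact_map_mkQ_range _)
    refine TI_iso_zero I ((shiftFunctor (Dual.D A) (0 + 1 : ℤ)).mapIso (Iso.refl (Dual.inD A N))) ?_
    intro x
    -- x : T(N[1]) goes to zero in T(E[1])
    let X := Triangle.mk ((SF A).map (ModuleCat.ofHom f))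
        ((SF A).map
          (ModuleCat.ofHom (Submodule.mkQ (LinearMap.range f)))) δ
    have hX : X ∈ distTriang (Dual.D A) := hδ
    have h1 : ((TI I).map X.rotate.rotate.mor₂).hom x = 0 :=
      TI_pos_injective I E hEi 1 (by norm_num) _
    obtain ⟨y, hy⟩ := T_exact (Dg I) X.rotate.rotate
      (rot_of_distTriang _ (rot_of_distTriang _ hX)) x h1
    obtain ⟨z, hz⟩ := TI_surjective_of_surjective I hE (Submodule.mkQ (LinearMap.range f))
      (Submodule.mkQ_surjective _) y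
    rw [← hy, ← hz]
    exact T_map_comp_eq_zero (Dg I) X.rotate (rot_of_distTriang _ hX) z
  | succ i ih =>
    intro N _ _ hN
    obtain ⟨E, _, _, f, hE, hEi, hf⟩ := exists_embedding I N hN
    obtain ⟨δ, hδ⟩ := exists_triangle (A := A) f (Submodule.mkQ (LinearMap.range f)) hf
      (Submodule.mkQ_surjective _) (LinearMap.exact_map_mkQ_range _)
    let X := Triangle.mk ((SF A).map (ModuleCat.ofHom f))
        ((SF A).map
          (ModuleCat.ofHom (Submodule.mkQ (LinearMap.range f)))) δ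
    have hX : X ∈ distTriang (Dual.D A) := hδ
    have hQ : LocCoh.IsPowerTorsion I (E ⧸ LinearMap.range f) := by
      intro m
      obtain ⟨m, rfl⟩ := Submodule.mkQ_surjective _ m
      obtain ⟨n, hn⟩ := hE m
      exact ⟨n, fun a ha => by rw [← map_smul, hn a ha, map_zero]⟩
    let X' := (shiftFunctor (Triangle (Dual.D A)) ((i : ℤ) + 1)).obj X
    have hX' : X' ∈ distTriang (Dual.D A) := Triangle.shift_distinguished X hX _
    intro x
    -- transport x to T(N[i+1][1])
    let e : (Dual.inD A N)⟦((i + 1 : ℕ) : ℤ) + 1⟧ ≅ ((Dual.inD A N)⟦((i : ℤ) + 1)⟧)⟦(1 : ℤ)⟧ :=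
      (shiftFunctorAdd' (Dual.D A) ((i : ℤ) + 1) 1 _ (by push_cast; ring)).app _
    refine TI_iso_zero I e.symm ?_ x
    intro x
    have h0 : ∀ z : (TI I).obj (((Dual.inD A E)⟦((i : ℤ) + 1)⟧)⟦(1 : ℤ)⟧), z = 0 := by
      refine TI_iso_zero I ((shiftFunctorAdd' (Dual.D A) ((i : ℤ) + 1) 1 ((i : ℤ) + 2)
        (by ring)).app _) ?_
      exact TI_pos_injective I E hEi _ (by omega)
    obtain ⟨y, hy⟩ := T_exact (Dg I) X'.rotate.rotate
      (rot_of_distTriang _ (rot_of_distTriang _ hX')) x (h0 _)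
    have hy0 : y = 0 := ih (E ⧸ LinearMap.range f) hQ y
    subst hy0
    exact hy.symm.trans (((TI I).map X'.rotate.rotate.mor₁).hom.map_zero)

end vanish

end Groth.Agent.LoccohB.LocDualElt
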