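import Groth.Agent.PerfC.ExtNat
import Mathlib.Algebra.Homology.BifunctorShift

/-!
# Symmetry and shift of derived bifunctors

`T : D A ⥤ D A ⥤ D A` is a bifunctor with natural maps `κ : T(Q K, Q L) ⟶ Q (G(K, L))` which are isomorphisms when
`P K`.  A natural isomorphism `G ≅ G.flip` gives `T ≅ T.flip`, and compatible isomorphisms
`G(K⟦n⟧, L) ≅ G(K, L)⟦n⟧` give `T(F⟦n⟧, -) ≅ T(F, -)⟦n⟧`.
-/

set_option autoImplicit false

open CategoryTheory Category Limits

namespace Groth.Agent.LoccohB.LTXSymm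

open Groth.Agent.PerfC.ExtNat

universe w v u

variable {A : Type u} [Category.{v} A] [Abelian A] [HasDerivedCategory.{w} A]
  {P : ObjectProperty (CochainComplex A ℤ)}
  (T : DerivedCategory A ⥤ DerivedCategory A ⥤ DerivedCategory A)
  (G : CochainComplex A ℤ ⥤ CochainComplex A ℤ ⥤ CochainComplex A ℤ)

/-- The comparison maps. -/
structure Comp (P : ObjectProperty (CochainComplex A ℤ)) where
  κ : ∀ K L : CochainComplex A ℤ,
    ((T.obj (DerivedCategory.Q.obj K)).obj (DerivedCategory.Q.obj L) ⟶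
      DerivedCategory.Q.obj ((G.obj K).obj L))
  nat₁ : ∀ {K K' : CochainComplex A ℤ} (w : K ⟶ K') (L : CochainComplex A ℤ),
    (T.map (DerivedCategory.Q.map w)).app (DerivedCategory.Q.obj L) ≫ κ K' L =
      κ K L ≫ DerivedCategory.Q.map ((G.map w).app L)
  nat₂ : ∀ (K : CochainComplex A ℤ) {L L' : CochainComplex A ℤ} (w : L ⟶ L'),
    (T.obj (DerivedCategory.Q.obj K)).map (DerivedCategory.Q.map w) ≫ κ K L' =
      κ K L ≫ DerivedCategory.Q.map ((G.obj K).map w)
  isIso : ∀ (K : CochainComplex A ℤ) (_ : P K) (L : CochainComplex A ℤ), IsIso (κ K L)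

variable {T G}

/-- The symmetry on complexes of `P`. -/
noncomputable def symmNat (c : Comp T G P) (e : G ≅ G.flip) : PNat₂ P P T T.flip where
  app K hK L hL := c.κ K L ≫ DerivedCategory.Q.map ((e.hom.app K).app L) ≫
    @inv _ _ _ _ (c.κ L K) (c.isIso L hL K)
  nat₁ {K K'} hK hK' u L hL := by
    have := c.isIso L hL K
    have := c.isIso L hL K'
    have h1 : (T.flip.map (DerivedCategory.Q.map u)).app (DerivedCategory.Q.obj L) ≫ c.κ L K' =
        c.κ L K ≫ DerivedCategory.Q.map ((G.obj L).map u) := c.nat₂ L u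
    have h2 : (G.map u).app L ≫ (e.hom.app K').app L = (e.hom.app K).app L ≫ (G.obj L).map u :=
      congrArg (fun t => NatTrans.app t L) (e.hom.naturality u)
    have h3 : (T.map (DerivedCategory.Q.map u)).app (DerivedCategory.Q.obj L) ≫ c.κ K' L ≫
        DerivedCategory.Q.map ((e.hom.app K').app L) = c.κ K L ≫
        DerivedCategory.Q.map ((e.hom.app K).app L) ≫ DerivedCategory.Q.map ((G.obj L).map u) := by
      rw [← assoc, c.nat₁, assoc, ← Functor.map_comp, ← Functor.map_comp, h2]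
    have h4 : inv (c.κ L K) ≫ (T.flip.map (DerivedCategory.Q.map u)).app (DerivedCategory.Q.obj L) =
        DerivedCategory.Q.map ((G.obj L).map u) ≫ inv (c.κ L K') := by
      rw [IsIso.inv_comp_eq, ← assoc, IsIso.eq_comp_inv, h1]
    rw [assoc, assoc, h4, reassoc_of% h3]
  nat₂ K hK {L L'} hL hL' u := by
    have := c.isIso L hL K
    have := c.isIso L' hL' K
    have h1 : (T.flip.obj (DerivedCategory.Q.obj K)).map (DerivedCategory.Q.map u) ≫ c.κ L' K =
        c.κ L K ≫ DerivedCategory.Q.map ((G.map u).app K) := c.nat₁ u K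
    have h2 : (G.obj K).map u ≫ (e.hom.app K).app L' = (e.hom.app K).app L ≫ (G.map u).app K :=
      (e.hom.app K).naturality u
    have h3 : (T.obj (DerivedCategory.Q.obj K)).map (DerivedCategory.Q.map u) ≫ c.κ K L' ≫
        DerivedCategory.Q.map ((e.hom.app K).app L') = c.κ K L ≫
        DerivedCategory.Q.map ((e.hom.app K).app L) ≫ DerivedCategory.Q.map ((G.map u).app K) := by
      rw [← assoc, c.nat₂, assoc, ← Functor.map_comp, ← Functor.map_comp, h2]
    have h4 : inv (c.κ L K) ≫ (T.flip.obj (DerivedCategory.Q.obj K)).map (DerivedCategory.Q.map u) =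
        DerivedCategory.Q.map ((G.map u).app K) ≫ inv (c.κ L' K) := by
      rw [IsIso.inv_comp_eq, ← assoc, IsIso.eq_comp_inv, h1]
    rw [assoc, assoc, h4, reassoc_of% h3]

/-- A symmetry of `G` induces a symmetry of the derived bifunctor. -/
theorem nonempty_symm (c : Comp T G P) (hP : HasRes P) (e : G ≅ G.flip) : Nonempty (T ≅ T.flip) := by
  let τ : T ⟶ T.flip := (symmNat c e).ext hP hP
  have : IsIso τ := by
    refine (symmNat c e).isIso_ext hP hP (fun K hK L hL => ?_)
    have := c.isIso L hL K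
    have := c.isIso K hK L
    change IsIso (c.κ K L ≫ DerivedCategory.Q.map ((e.hom.app K).app L) ≫ inv (c.κ L K))
    infer_instance
  exact ⟨asIso τ⟩

section shift

variable {F F' : DerivedCategory A ⥤ DerivedCategory A}

/-- Functors on the derived category which agree on complexes of `P` are isomorphic. -/
theorem nonempty_iso_of (hP : HasRes P)
    (φ : ∀ (K : CochainComplex A ℤ) (_ : P K), F.obj (DerivedCategory.Q.obj K) ≅ F'.obj (DerivedCategory.Q.obj K))
    (nat : ∀ {K K' : CochainComplex A ℤ} (hK : P K) (hK' : P K') (u : K ⟶ K'),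
      F.map (DerivedCategory.Q.map u) ≫ (φ K' hK').hom = (φ K hK).hom ≫ F'.map (DerivedCategory.Q.map u)) :
    Nonempty (F ≅ F') := by
  let m : PNat P F F' := { app := fun K hK => (φ K hK).hom, nat := fun hK hK' u => nat hK hK' u }
  have : IsIso (m.ext hP) := m.isIso_ext hP (fun K hK => by
    change IsIso (φ K hK).hom
    infer_instance)
  exact ⟨asIso (m.ext hP)⟩

/-- `T(F⟦n⟧, -) ≅ T(F, -)⟦n⟧`. -/
theorem nonempty_shift (c : Comp T G P) (hP : HasRes P)
    (hPn : ∀ (K : CochainComplex A ℤ) (n : ℤ), P K → P (K⟦n⟧))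
    [∀ E : CochainComplex A ℤ, (G.flip.obj E).CommShift ℤ]
    [∀ {E E' : CochainComplex A ℤ} (g : E ⟶ E'), NatTrans.CommShift (G.flip.map g) ℤ]
    (X : DerivedCategory A) (n : ℤ) :
    Nonempty (T.obj (X⟦n⟧) ≅ T.obj X ⋙ shiftFunctor (DerivedCategory A) n) := by
  obtain ⟨K, hK, ⟨e⟩⟩ := hP.exists_iso X
  have i1 : T.obj (DerivedCategory.Q.obj (K⟦n⟧)) ≅ T.obj (X⟦n⟧) :=
    T.mapIso ((DerivedCategory.Q.commShiftIso n).app K ≪≫ (shiftFunctor _ n).mapIso e)
  have i2 : T.obj (DerivedCategory.Q.obj K) ⋙ shiftFunctor (DerivedCategory A) n ≅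
      T.obj X ⋙ shiftFunctor (DerivedCategory A) n := Functor.isoWhiskerRight (T.mapIso e) _
  obtain ⟨i3⟩ : Nonempty (T.obj (DerivedCategory.Q.obj (K⟦n⟧)) ≅
      T.obj (DerivedCategory.Q.obj K) ⋙ shiftFunctor (DerivedCategory A) n) := by
    have h1 := c.isIso K hK
    have h2 := c.isIso _ (hPn K n hK)
    refine nonempty_iso_of hP (fun L _ =>
      (asIso (c.κ (K⟦n⟧) L)) ≪≫ DerivedCategory.Q.mapIso (((G.flip.obj L).commShiftIso n).app K) ≪≫
        (DerivedCategory.Q.commShiftIso n).app ((G.obj K).obj L) ≪≫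
        (shiftFunctor _ n).mapIso (asIso (c.κ K L)).symm) ?_
    intro L L' hL hL' u
    have e1 := c.nat₂ (K⟦n⟧) u
    have e2 : (G.obj (K⟦n⟧)).map u ≫ ((G.flip.obj L').commShiftIso n).hom.app K =
        ((G.flip.obj L).commShiftIso n).hom.app K ≫ ((G.obj K).map u)⟦n⟧' :=
      (NatTrans.shift_app_comm (G.flip.map u) n K).symm
    have e3 : DerivedCategory.Q.map (((G.obj K).map u)⟦n⟧') ≫
        (DerivedCategory.Q.commShiftIso n).hom.app ((G.obj K).obj L') =
        (DerivedCategory.Q.commShiftIso n).hom.app ((G.obj K).obj L) ≫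
          (DerivedCategory.Q.map ((G.obj K).map u))⟦n⟧' :=
      (DerivedCategory.Q.commShiftIso n).hom.naturality ((G.obj K).map u)
    have e4 : DerivedCategory.Q.map ((G.obj K).map u) ≫ inv (c.κ K L') =
        inv (c.κ K L) ≫ (T.obj (DerivedCategory.Q.obj K)).map (DerivedCategory.Q.map u) := by
      rw [IsIso.eq_inv_comp, ← assoc, IsIso.comp_inv_eq, c.nat₂]
    have e5 : (DerivedCategory.Q.map ((G.obj K).map u))⟦n⟧' ≫ (inv (c.κ K L'))⟦n⟧' =
        (inv (c.κ K L))⟦n⟧' ≫
          ((T.obj (DerivedCategory.Q.obj K)).map (DerivedCategory.Q.map u))⟦n⟧' := by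
      rw [← Functor.map_comp, e4, Functor.map_comp]
    change (T.obj (DerivedCategory.Q.obj (K⟦n⟧))).map (DerivedCategory.Q.map u) ≫
        (c.κ (K⟦n⟧) L' ≫ DerivedCategory.Q.map (((G.flip.obj L').commShiftIso n).hom.app K) ≫
          (DerivedCategory.Q.commShiftIso n).hom.app ((G.obj K).obj L') ≫ (inv (c.κ K L'))⟦n⟧') =
      (c.κ (K⟦n⟧) L ≫ DerivedCategory.Q.map (((G.flip.obj L).commShiftIso n).hom.app K) ≫
          (DerivedCategory.Q.commShiftIso n).hom.app ((G.obj K).obj L) ≫ (inv (c.κ K L))⟦n⟧') ≫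
        ((T.obj (DerivedCategory.Q.obj K)).map (DerivedCategory.Q.map u))⟦n⟧'
    rw [reassoc_of% e1, ← DerivedCategory.Q.map_comp_assoc, e2, DerivedCategory.Q.map_comp_assoc,
      reassoc_of% e3, e5]
    simp only [assoc]
  exact ⟨i1.symm ≪≫ i3 ≪≫ i2⟩

/-- `T(F⟦n⟧, -) ≅ T(F, -)⟦n⟧`, for `G` induced by a bifunctor (with `G` a variable for the speed of the kernel). -/
theorem nonempty_shift' (B : A ⥤ A ⥤ A) [B.Additive] [∀ X₁, (B.obj X₁).Additive]
    [∀ (K₁ K₂ : CochainComplex A ℤ), CochainComplex.HasMapBifunctor K₁ K₂ B]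
    (hG : G = B.map₂CochainComplex) (c : Comp T G P) (hP : HasRes P)
    (hPn : ∀ (K : CochainComplex A ℤ) (n : ℤ), P K → P (K⟦n⟧)) (X : DerivedCategory A) (n : ℤ) :
    Nonempty (T.obj (X⟦n⟧) ≅ T.obj X ⋙ shiftFunctor (DerivedCategory A) n) := by
  subst hG
  exact nonempty_shift c hP hPn X n

end shift

end Groth.Agent.LoccohB.LTXSymm
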