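import Groth.Agent.PerfC.RHomD
import Groth.Agent.PerfC.TensFlip
import Groth.Agent.LoccohB.LTXSymm
import Groth.Agent.LoccohB.BiFormal

/-!
# The derived tensor product of `O_X`-modules is symmetric and commutes with shifts; formal biduality for `RHom`
-/

set_option autoImplicit false

universe u

open CategoryTheory Category Limits AlgebraicGeometry Pretriangulated

attribute [local instance] HasDerivedCategory.standard

namespace Groth.Agent.LoccohB.LTXInst

open DCoh Groth.Agent.PerfC.DTens Groth.Agent.PerfC.RHomD Groth.Agent.LoccohB.LTXSymm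
  Groth.Agent.LoccohB.BiFormal

variable {X : Scheme.{u}}

variable (X) in
/-- The comparison between the derived tensor product and the tensor product of complexes. -/
noncomputable def comp : Comp (LTX X) (tensorCx (X := X)) IsKFlat where
  κ := κX
  nat₁ w L := κX_nat₁ w L
  nat₂ K _ _ w := κX_nat₂ K w
  isIso K hK L := isIso_κX K L hK

variable (X) in
/-- The derived tensor product is symmetric. -/
theorem nonempty_symm : Nonempty (LTX X ≅ (LTX X).flip) :=
  LTXSymm.nonempty_symm (comp X) (hasRes X) Groth.Agent.PerfC.TensFlip.tensorCxFlip.symm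

/-- `F⟦n⟧ ⊗ᴸ - ≅ (F ⊗ᴸ -)⟦n⟧`. -/
theorem nonempty_shift (F : D X) (n : ℤ) :
    Nonempty ((LTX X).obj (F⟦n⟧) ≅ (LTX X).obj F ⋙ shiftFunctor (D X) n) :=
  LTXSymm.nonempty_shift' tensorBi tensorCx_eq (comp X) (hasRes X)
    (fun _ n hK => Groth.Agent.Dcoh.KFlatMod.isKFlat_shift hK n) F n

/-- The evaluation `RHom(L, K) ⊗ᴸ L ⟶ K`. -/
noncomputable def evRH (L K : D X) : ((LTX X).obj ((RH L).obj K)).obj L ⟶ K :=
  (rhAdj L).counit.app K

/-- `RHom(L, K)` is the dual of `L` with respect to `K`. -/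
theorem isDual (L K : D X) : IsDual (LTX X) (evRH L K) := by
  intro F
  have h1 : (fun g : F ⟶ (RH L).obj K => ((LTX X).map g).app L ≫ evRH L K) =
      ((rhAdj L).homEquiv F K).symm := by
    funext g
    rw [(rhAdj L).homEquiv_counit]
    rfl
  rw [h1]
  exact ((rhAdj L).homEquiv F K).symm.bijective

/-- The formal part of biduality: `η : L ⟶ DDL`, `p = D(η) : DDDL ⟶ DL` has a section. -/
theorem exists_retract (L K : D X) :
    ∃ (η : L ⟶ (RH ((RH L).obj K)).obj K)
      (p : (RH ((RH ((RH L).obj K)).obj K)).obj K ⟶ (RH L).obj K)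
      (i : (RH L).obj K ⟶ (RH ((RH ((RH L).obj K)).obj K)).obj K), i ≫ p = 𝟙 _ ∧
      ((LTX X).map p).app L ≫ evRH L K =
        ((LTX X).obj ((RH ((RH ((RH L).obj K)).obj K)).obj K)).map η ≫
          evRH ((RH ((RH L).obj K)).obj K) K := by
  obtain ⟨s⟩ := nonempty_symm X
  exact BiFormal.exists_retract s (isDual L K) (isDual ((RH L).obj K) K)
    (isDual ((RH ((RH L).obj K)).obj K) K)

/-- If `D(η)` is an isomorphism, then the dual of the cone of `η` vanishes. -/
theorem isZero_dual_cone (L K : D X) (η : L ⟶ (RH ((RH L).obj K)).obj K)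
    (p : (RH ((RH ((RH L).obj K)).obj K)).obj K ⟶ (RH L).obj K) [IsIso p]
    (hp : ((LTX X).map p).app L ≫ evRH L K =
        ((LTX X).obj ((RH ((RH ((RH L).obj K)).obj K)).obj K)).map η ≫
          evRH ((RH ((RH L).obj K)).obj K) K)
    {Z : D X} (g : (RH ((RH L).obj K)).obj K ⟶ Z) (δ : Z ⟶ L⟦(1 : ℤ)⟧)
    (hΔ : Triangle.mk η g δ ∈ distTriang (D X)) : IsZero ((RH Z).obj K) :=
  BiFormal.isZero_dual_cone (fun F => isTriang_LTX_obj F) (fun F => nonempty_shift F 1)
    (isDual L K) (isDual ((RH ((RH L).obj K)).obj K) K) η p hp g δ hΔ (isDual Z K)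

end Groth.Agent.LoccohB.LTXInst
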