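import Groth.Agent.LoccohB.RelT2
import Groth.Agent.LoccohB.HomCxDD2

/-!
# Base change of derived tensor products

`LBC (M ⊗^L_A X) ≅ (LBC M) ⊗^L_B (LBC X)`, naturally in `M`.
-/

set_option autoImplicit false

universe u

open CategoryTheory Limits MonoidalCategory CochainComplex CochainComplex.HomComplex

attribute [local instance] HasDerivedCategory.standard

namespace Groth.Agent.LoccohB.LTenBC

open TenCx DerivedCategory LTen ProjF ThetaHom RelT

variable {A B : Type u} [CommRing A] [CommRing B] (φ : A →+* B)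

lemma acyclic_homCx (P L : DRing.Cx A) [P.IsKProjective] (hL : L.Acyclic) :
    (DRing.homCx P L).Acyclic := by
  have h0 : QuasiIso (0 : L ⟶ L) := HomCx.quasiIso_of_acyclic _ hL hL
  have h1 : QuasiIso (DRing.homCxMap P (0 : L ⟶ L)) := quasiIso_homCxMap P _
  have e : DRing.homCxMap P (0 : L ⟶ L) = 0 := by
    refine HomologicalComplex.hom_ext _ _ fun n => ModuleCat.hom_ext (LinearMap.ext
      fun (z : Cochain P L n) => ?_)
    change z.comp (Cochain.ofHom (0 : L ⟶ L)) (add_zero n) = 0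
    simp
  rw [e] at h1
  intro n
  rw [HomologicalComplex.exactAt_iff_isZero_homology, Limits.IsZero.iff_id_eq_zero]
  have h2 : IsIso (HomologicalComplex.homologyMap
    (0 : DRing.homCx P L ⟶ DRing.homCx P L) n) := inferInstance
  rw [HomologicalComplex.homologyMap_zero] at h2
  rw [← IsIso.hom_inv_id (0 : (DRing.homCx P L).homology n ⟶ (DRing.homCx P L).homology n),
    zero_comp]

/-- The tensor product of K-projective complexes is K-projective. -/
instance isKProjective_tensor (N P : DRing.Cx A) [N.IsKProjective] [P.IsKProjective] :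
    (N ⊗ P : DRing.Cx A).IsKProjective where
  nonempty_homotopy_zero {L} f hL := by
    obtain ⟨h⟩ := IsKProjective.nonempty_homotopy_zero (curry f) (acyclic_homCx P L hL)
    have h2 := uncurryHomotopy h
    rw [uncurry_curry] at h2
    refine ⟨h2.trans (Homotopy.ofEq ?_)⟩
    refine cx_hom_ext fun p q n h x y => ?_
    exact uncurry_tmk 0 p q n h x y

section Kappa

variable (P : DRing.Cx A) (L : DRing.Cx B)

/-- adjunct of a cochain out of an extended complex -/
noncomputable def kapE (p : ℤ) : Cochain ((extCx φ).obj P) L p ≃ Cochain P ((resCx φ).obj L) p where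
  toFun z := Cochain.mk fun q n hq =>
    ((ModuleCat.extendRestrictScalarsAdj.{u, u, u} φ).homEquiv (P.X q) (L.X n)) (z.v q n hq)
  invFun w := Cochain.mk fun q n hq =>
    ((ModuleCat.extendRestrictScalarsAdj.{u, u, u} φ).homEquiv (P.X q) (L.X n)).symm (w.v q n hq)
  left_inv z := by
    ext q n hq : 1
    exact ((ModuleCat.extendRestrictScalarsAdj.{u, u, u} φ).homEquiv (P.X q)
      (L.X n)).symm_apply_apply (z.v q n hq)
  right_inv w := by
    ext q n hq : 1
    exact ((ModuleCat.extendRestrictScalarsAdj.{u, u, u} φ).homEquiv (P.X q)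
      (L.X n)).apply_symm_apply (w.v q n hq)

lemma evC_kapE (p q n : ℤ) (h : p + q = n) (z : Cochain ((extCx φ).obj P) L p) (x : P.X q) :
    evC P ((resCx φ).obj L) p q n h (kapE φ P L p z) x =
      evC ((extCx φ).obj P) L p q n h z (η φ P q x) := rfl

lemma kapE_add (p : ℤ) (z z' : Cochain ((extCx φ).obj P) L p) :
    kapE φ P L p (z + z') = kapE φ P L p z + kapE φ P L p z' := by
  refine ext_evC fun q n h y => ?_
  rw [map_add (evC P ((resCx φ).obj L) p q n h), LinearMap.add_apply]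
  have e : ∀ y : P.X q, evC ((extCx φ).obj P) L p q n h (z + z') (η φ P q y) =
      evC ((extCx φ).obj P) L p q n h z (η φ P q y) +
        evC ((extCx φ).obj P) L p q n h z' (η φ P q y) := fun y => by
    rw [map_add, LinearMap.add_apply]
  exact e y

lemma kapE_smul (p : ℤ) (a : A) (z : Cochain ((extCx φ).obj P) L p) :
    kapE φ P L p (φ a • z) = a • kapE φ P L p z := by
  refine ext_evC fun q n h y => ?_
  rw [map_smul (evC P ((resCx φ).obj L) p q n h), LinearMap.smul_apply]
  have e : ∀ y : P.X q, evC ((extCx φ).obj P) L p q n h (φ a • z) (η φ P q y) =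
      φ a • evC ((extCx φ).obj P) L p q n h z (η φ P q y) := fun y => by
    rw [map_smul, LinearMap.smul_apply]
  exact e y

lemma kapE_δ (p : ℤ) (z : Cochain ((extCx φ).obj P) L p) :
    kapE φ P L (p + 1) (δ p (p + 1) z) = δ p (p + 1) (kapE φ P L p z) := by
  refine ext_evC fun q n h y => ?_
  obtain ⟨n, rfl⟩ : ∃ n', n = n' + 1 := ⟨n - 1, by omega⟩
  have e : ∀ y : P.X q, evC ((extCx φ).obj P) L (p + 1) q (n + 1) h
      (δ p (p + 1) z) (η φ P q y) = (L.d n (n + 1)).hom
        (evC ((extCx φ).obj P) L p q n (by omega) z (η φ P q y)) -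
      p.negOnePow • evC ((extCx φ).obj P) L p (q + 1) (n + 1) (by omega) z
        (η φ P (q + 1) ((P.d q (q + 1)).hom y)) := fun y => by
    rw [evC_δ ((extCx φ).obj P) L p q n (by omega), η_d]
  exact (e y).trans (evC_δ P ((resCx φ).obj L) p q n (by omega) (kapE φ P L p z) y).symm

/-- the isomorphism `Hom(ext P, L)|_A ≅ Hom(P, L|_A)` -/
noncomputable def kapEX (p : ℤ) : ((resCx φ).obj (DRing.homCx ((extCx φ).obj P) L)).X p →ₗ[A]
    Cochain P ((resCx φ).obj L) p where
  toFun (z : Cochain ((extCx φ).obj P) L p) := kapE φ P L p z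
  map_add' (z z' : Cochain ((extCx φ).obj P) L p) := kapE_add φ P L p z z'
  map_smul' a (z : Cochain ((extCx φ).obj P) L p) := kapE_smul φ P L p a z

/-- the isomorphism `Hom(ext P, L)|_A ≅ Hom(P, L|_A)` -/
noncomputable def kapECx : (resCx φ).obj (DRing.homCx ((extCx φ).obj P) L) ⟶
    DRing.homCx P ((resCx φ).obj L) where
  f p := ModuleCat.ofHom (X := ((resCx φ).obj (DRing.homCx ((extCx φ).obj P) L)).X p)
    (Y := Cochain P ((resCx φ).obj L) p) (kapEX φ P L p)
  comm' := by
    rintro p _ rfl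
    exact ModuleCat.hom_ext (LinearMap.ext fun z => (kapE_δ φ P L p z).symm)

lemma kapECx_bijective (p : ℤ) : Function.Bijective ((kapECx φ P L).f p).hom :=
  (kapE φ P L p).bijective

instance isIso_kapECx : IsIso (kapECx φ P L) := by
  have : ∀ p, IsIso ((kapECx φ P L).f p) := fun p => by
    rw [ConcreteCategory.isIso_iff_bijective]
    exact kapECx_bijective φ P L p
  exact HomologicalComplex.Hom.isIso_of_components _

/-- `Hom(ext P, L)|_A ≅ Hom(P, L|_A)` -/
noncomputable def kapEIso : (resCx φ).obj (DRing.homCx ((extCx φ).obj P) L) ≅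
    DRing.homCx P ((resCx φ).obj L) := asIso (kapECx φ P L)

lemma kapE_comp {L' : DRing.Cx B} (g : L ⟶ L') (p : ℤ) (z : Cochain ((extCx φ).obj P) L p) :
    kapE φ P L' p (z.comp (Cochain.ofHom g) (add_zero p)) =
      (kapE φ P L p z).comp (Cochain.ofHom ((resCx φ).map g)) (add_zero p) := by
  refine ext_evC fun q n h y => ?_
  refine Eq.trans ?_ (evC_comp_ofHom P ((resCx φ).map g) p q n h (kapE φ P L p z) y).symm
  exact evC_comp_ofHom ((extCx φ).obj P) g p q n h z (η φ P q y)

/-- `Hom(ext P, -)|_A ≅ Hom(P, -|_A)`, as functors. -/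
noncomputable def kapENatIso : DRing.homCxFunctor ((extCx φ).obj P) ⋙ resCx φ ≅
    resCx φ ⋙ DRing.homCxFunctor P :=
  NatIso.ofComponents (fun L => kapEIso φ P L) (by
    intro L L' g
    refine HomologicalComplex.hom_ext _ _ fun p => ModuleCat.hom_ext (LinearMap.ext
      fun (z : Cochain ((extCx φ).obj P) L p) => ?_)
    exact kapE_comp φ P L g p z)

/-- `(N ⊗ P)_B ≅ N_B ⊗ P_B`, naturally in `N`. -/
noncomputable def extTenIso : tensorRight P ⋙ extCx φ ≅
    extCx φ ⋙ tensorRight ((extCx φ).obj P) :=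
  Adjunction.leftAdjointUniq
    (((thAdj P).comp (adjE φ)).ofNatIsoRight (kapENatIso φ P).symm)
    ((adjE φ).comp (thAdj ((extCx φ).obj P)))

end Kappa

section Derived

variable (P : DRing.Cx A) [DRing.HasLBaseChange φ] [DRing.HasLTensorCx A P]
  [DRing.HasLTensorCx B ((extCx φ).obj P)]

/-- `LBC (Q N ⊗^L P) ⟶ Q ((N ⊗ P)_B)` -/
noncomputable def alpha1 : Q ⋙ (DRing.LTensorCx A P ⋙ DRing.LBaseChange φ) ⟶
    (tensorRight P ⋙ extCx φ) ⋙ Q :=
  (Functor.associator _ _ _).inv ≫
    Functor.whiskerRight (ltenCounit P) (DRing.LBaseChange φ) ≫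
      Functor.whiskerLeft (tensorRight P) (LBC.lbcQCounit φ)

/-- `LBC (Q N) ⊗^L P_B ⟶ Q (N_B ⊗ P_B)` -/
noncomputable def alpha2 : Q ⋙ (DRing.LBaseChange φ ⋙ DRing.LTensorCx B ((extCx φ).obj P)) ⟶
    (extCx φ ⋙ tensorRight ((extCx φ).obj P)) ⋙ Q :=
  (Functor.associator _ _ _).inv ≫
    Functor.whiskerRight (LBC.lbcQCounit φ) (DRing.LTensorCx B ((extCx φ).obj P)) ≫
      Functor.whiskerLeft (extCx φ) (ltenCounit ((extCx φ).obj P))

omit [DRing.HasLTensorCx B ((extCx φ).obj P)] in
lemma isIso_alpha1 [P.IsKProjective] (N : DRing.Cx A) [N.IsKProjective] :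
    IsIso ((alpha1 φ P).app N) := by
  have h1 : IsIso ((DRing.LBaseChange φ).map ((ltenCounit P).app N)) := inferInstance
  have h2 : IsIso ((LBC.lbcQCounit φ).app (N ⊗ P : DRing.Cx A)) := inferInstance
  have e : (alpha1 φ P).app N = (DRing.LBaseChange φ).map ((ltenCounit P).app N) ≫
      (LBC.lbcQCounit φ).app (N ⊗ P : DRing.Cx A) := Category.id_comp _
  rw [e]
  exact IsIso.comp_isIso

omit [DRing.HasLTensorCx A P] in
lemma isIso_alpha2 (N : DRing.Cx A) [N.IsKProjective] :
    IsIso ((alpha2 φ P).app N) := by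
  have h1 : IsIso ((DRing.LTensorCx B ((extCx φ).obj P)).map ((LBC.lbcQCounit φ).app N)) :=
    inferInstance
  have h2 : IsIso ((ltenCounit ((extCx φ).obj P)).app ((extCx φ).obj N)) := inferInstance
  have e : (alpha2 φ P).app N =
      (DRing.LTensorCx B ((extCx φ).obj P)).map ((LBC.lbcQCounit φ).app N) ≫
      (ltenCounit ((extCx φ).obj P)).app ((extCx φ).obj N) := Category.id_comp _
  rw [e]
  exact IsIso.comp_isIso

/-- `LBC (M ⊗^L P) ≅ (LBC M) ⊗^L P_B`, for `P` K-projective. -/
noncomputable def ltenBCKProj [P.IsKProjective] :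
    DRing.LTensorCx A P ⋙ DRing.LBaseChange φ ≅
      DRing.LBaseChange φ ⋙ DRing.LTensorCx B ((extCx φ).obj P) := by
  letI : (DRing.LTensorCx A P ⋙ DRing.LBaseChange φ).IsLeftDerivedFunctor
      (alpha1 φ P ≫ Functor.whiskerRight (extTenIso φ P).hom Q)
      (HomologicalComplex.quasiIso (ModuleCat.{u} A) (ComplexShape.up ℤ)) := by
    apply KDer.isLeftDerivedFunctorCx_of_isIso _ (KDer.enoughKProjectives_moduleCat A)
    intro N hN
    have h1 := isIso_alpha1 φ P N
    rw [NatTrans.comp_app]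
    exact IsIso.comp_isIso
  letI : (DRing.LBaseChange φ ⋙ DRing.LTensorCx B ((extCx φ).obj P)).IsLeftDerivedFunctor
      (alpha2 φ P)
      (HomologicalComplex.quasiIso (ModuleCat.{u} A) (ComplexShape.up ℤ)) := by
    apply KDer.isLeftDerivedFunctorCx_of_isIso _ (KDer.enoughKProjectives_moduleCat A)
    intro N hN
    exact isIso_alpha2 φ P N
  exact Functor.leftDerivedUnique _ _ (alpha1 φ P ≫ Functor.whiskerRight (extTenIso φ P).hom Q)
    (alpha2 φ P) (HomologicalComplex.quasiIso (ModuleCat.{u} A) (ComplexShape.up ℤ))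

end Derived

/-- **Base change of derived tensor products**: `LBC (M ⊗^L_A X) ≅ (LBC M) ⊗^L_B Y`, naturally in
`M`, for any complex `Y` representing `LBC X`. -/
theorem ltenBC [DRing.HasLBaseChange φ] (X : DRing.Cx A) (Y : DRing.Cx B)
    [DRing.HasLTensorCx A X] [DRing.HasLTensorCx B Y]
    (e : Q.obj Y ≅ (DRing.LBaseChange φ).obj (Q.obj X)) :
    Nonempty (DRing.LTensorCx A X ⋙ DRing.LBaseChange φ ≅
      DRing.LBaseChange φ ⋙ DRing.LTensorCx B Y) := by
  obtain ⟨P, p, hP, hp, -, -⟩ := KProj.exists_kprojective X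
  have := hasLTensorCx P
  have := hasLTensorCx ((extCx φ).obj P)
  obtain ⟨e1⟩ := ltenCongr (E := X) (E' := P) (asIso (Q.map p)).symm
  obtain ⟨e2⟩ := ltenCongr (E := (extCx φ).obj P) (E' := Y)
    (((LBC.lbcQIso φ P).symm ≪≫ (DRing.LBaseChange φ).mapIso (asIso (Q.map p))) ≪≫ e.symm)
  exact ⟨Functor.isoWhiskerRight e1 _ ≪≫ ltenBCKProj φ P ≪≫ Functor.isoWhiskerLeft _ e2⟩

/-- Objectwise version. -/
theorem ltenBC_obj [DRing.HasLBaseChange φ] (X : DRing.Cx A) (Y : DRing.Cx B)
    [DRing.HasLTensorCx A X] [DRing.HasLTensorCx B Y]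
    (e : Q.obj Y ≅ (DRing.LBaseChange φ).obj (Q.obj X)) (M : Dual.D A) :
    Nonempty ((DRing.LBaseChange φ).obj ((DRing.LTensorCx A X).obj M) ≅
      (DRing.LTensorCx B Y).obj ((DRing.LBaseChange φ).obj M)) := by
  obtain ⟨f⟩ := ltenBC φ X Y e
  exact ⟨f.app M⟩

end Groth.Agent.LoccohB.LTenBC
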