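import Groth.Agent.LoccohB.VanOn
import Groth.Agent.LoccohB.RightAdj2
import Groth.Agent.PerfA.QCohD
import Groth.Agent.S0998
import Groth.Agent.S1766
import Mathlib.CategoryTheory.Adjunction.Restrict
import Mathlib.CategoryTheory.Adjunction.Mates

/-!
# Right adjoints of `Rf_*` on `D_QCoh` and restriction to opens of the target

`Rq f : DQCoh X ⥤ DQCoh Y`, `restQ j : DQCoh Y ⥤ DQCoh X`, `adjQ j : restQ j ⊣ Rq j`,
`a (Rj_* Q) ≅ Rj'_* (a_W Q)`.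
-/

set_option autoImplicit false

universe u

open CategoryTheory CategoryTheory.Limits AlgebraicGeometry Pretriangulated

attribute [local instance] HasDerivedCategory.standard

namespace Groth.Agent.LoccohB.LocAdj

open PerfA.Restrict VanOn

variable {X Y : Scheme.{u}}

/-- A morphism `f` for which `Rf_*` preserves `D_QCoh`. -/
def Pres (f : X ⟶ Y) [DCoh.HasRpush f] : Prop :=
  ∀ K : DCoh.D X, DCoh.IsQCohD K → DCoh.IsQCohD ((DCoh.Rpush f).obj K)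

/-- `Rf_*` on `D_QCoh`. -/
noncomputable abbrev Rq (f : X ⟶ Y) [DCoh.HasRpush f] (h : Pres f) : DCoh.DQCoh X ⥤ DCoh.DQCoh Y :=
  ObjectProperty.lift DCoh.IsQCohD (ObjectProperty.ι DCoh.IsQCohD ⋙ DCoh.Rpush f)
    (fun K => h K.obj K.property)

/-- restriction on `D_QCoh`. -/
noncomputable abbrev restQ (j : X ⟶ Y) [IsOpenImmersion j] : DCoh.DQCoh Y ⥤ DCoh.DQCoh X :=
  ObjectProperty.lift DCoh.IsQCohD (ObjectProperty.ι DCoh.IsQCohD ⋙ restrictD j)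
    (fun K => PerfA.QCohD.isQCohD_restrictD j K.property)

/-- `j^* ⊣ Rj_*` on `D_QCoh`. -/
noncomputable def adjQ (j : X ⟶ Y) [IsOpenImmersion j] [DCoh.HasRpush j] (h : Pres j) :
    restQ j ⊣ Rq j h :=
  (show restrictD j ⊣ DCoh.Rpush j from Dcoh.DerSch.restrictAdj j).restrictFullyFaithful
    (DCoh.IsQCohD (X := Y)).fullyFaithfulι (DCoh.IsQCohD (X := X)).fullyFaithfulι
    (Iso.refl _) (Iso.refl _)

/-- lifting isomorphisms of functors with values in a full subcategory. -/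
def liftIso {C D : Type*} [Category* C] [Category* D] (P : ObjectProperty D)
    (F G : C ⥤ P.FullSubcategory) (e : F ⋙ P.ι ≅ G ⋙ P.ι) : F ≅ G :=
  NatIso.ofComponents (fun K => P.isoMk (e.app K)) (fun {K L} f => by
    ext
    exact e.hom.naturality f)

section

variable (f : X ⟶ Y) [DCoh.HasRpush f] (h : Pres f) (W : Y.Opens)
  [DCoh.HasRpush (f ∣_ W)] (hW : Pres (f ∣_ W))

theorem exists_baseChange :
    Nonempty (Rq f h ⋙ restQ W.ι ≅ restQ (f ⁻¹ᵁ W).ι ⋙ Rq (f ∣_ W) hW) := by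
  obtain ⟨e⟩ := Dcoh.DerSch.exists_rpushRestrictIso f (f ∣_ W) (f ⁻¹ᵁ W).ι W.ι
    (isPullback_morphismRestrict f W).flip
  exact ⟨liftIso _ _ _ (Functor.isoWhiskerLeft (ObjectProperty.ι (DCoh.IsQCohD (X := X))) e)⟩

variable [DCoh.HasRpush W.ι] (hj : Pres W.ι) [DCoh.HasRpush (f ⁻¹ᵁ W).ι]
  (hj' : Pres (f ⁻¹ᵁ W).ι)
  (a : DCoh.DQCoh Y ⥤ DCoh.DQCoh X) (adj : Rq f h ⊣ a)
  (aW : DCoh.DQCoh W ⥤ DCoh.DQCoh (f ⁻¹ᵁ W)) (adjW : Rq (f ∣_ W) hW ⊣ aW)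

include adj adjW in
/-- `a (Rj_* Q) ≅ Rj'_* (a_W Q)`. -/
theorem exists_rightAdjoint_iso :
    Nonempty (Rq W.ι hj ⋙ a ≅ aW ⋙ Rq (f ⁻¹ᵁ W).ι hj') := by
  obtain ⟨e⟩ := exists_baseChange f h W hW
  exact ⟨conjugateIsoEquiv (adj.comp (adjQ W.ι hj)) ((adjQ (f ⁻¹ᵁ W).ι hj').comp adjW) e.symm⟩

end

end Groth.Agent.LoccohB.LocAdj
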