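import Groth.Agent.LoccohB.LocDualInj

/-!
# `H(W)` is an injective module
-/

set_option autoImplicit false
universe v w u
open CategoryTheory Limits Opposite Pretriangulated
attribute [local instance] HasDerivedCategory.standard

namespace Groth.Agent.LoccohB.LocDualBaer

open Groth.Agent.LoccohB.LocDualBasic Groth.Agent.LoccohB.LocDualDev Groth.Agent.LoccohB.LocDualVan
  Groth.Agent.LoccohB.LocDualTors Groth.Agent.LoccohB.LocDualElt Groth.Agent.LoccohB.LocDualLoc
  Groth.Agent.LoccohB.LocDualInj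

variable {A : Type u} [CommRing A] (p : Ideal A)

lemma inclN_elt_indep {W : Dual.D A} {L : Type u} [AddCommGroup L] [Module A L] (l : L) (k k' : ℕ)
    (hk : ∀ a ∈ p ^ k, a • l = 0) (hk' : ∀ a ∈ p ^ k', a • l = 0) (f : Dual.inD A L ⟶ W) :
    inclN p k (elt p k l hk ≫ f) = inclN p k' (elt p k' l hk' ≫ f) := by
  have h1 : inclN p k (elt p k l hk ≫ f) = inclN p (max k k')
      (elt p (max k k') l (fun a ha => hk a (Ideal.pow_le_pow_right (le_max_left _ _) ha)) ≫ f) := by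
    rw [← inclN_tr p (le_max_left k k'), ← Category.assoc, tr_elt]
  have h2 : inclN p k' (elt p k' l hk' ≫ f) = inclN p (max k k')
      (elt p (max k k') l (fun a ha => hk a (Ideal.pow_le_pow_right (le_max_left _ _) ha)) ≫ f) := by
    rw [← inclN_tr p (le_max_right k k'), ← Category.assoc, tr_elt]
  rw [h1, h2]

variable [hp : p.IsPrime]

/-- `θ(F) : L → H(W)` for `F : L → W`, `L` killed by `p^n`. -/
noncomputable def theta {W : Dual.D A} {L : Type u} [AddCommGroup L] [Module A L] (n : ℕ)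
    (hn : ∀ a ∈ p ^ n, ∀ x : L, a • x = 0) (F : Dual.inD A L ⟶ W) : L →ₗ[A] HL p W where
  toFun l := loc p W (inclN p n (elt p n l (fun a ha => hn a ha l) ≫ F))
  map_add' l l' := by
    rw [← map_add, ← map_add, ← Preadditive.add_comp]
    rw [elt_add p n l l' (fun a ha => hn a ha l) (fun a ha => hn a ha l')]
  map_smul' a l := by
    rw [RingHom.id_apply, ← map_smul, ← map_smul, ← Linear.smul_comp]
    rw [elt_smul p n a l (fun a ha => hn a ha l)]

lemma theta_apply {W : Dual.D A} {L : Type u} [AddCommGroup L] [Module A L] (n : ℕ)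
    (hn : ∀ a ∈ p ^ n, ∀ x : L, a • x = 0) (F : Dual.inD A L ⟶ W) (l : L) (k : ℕ)
    (hk : ∀ a ∈ p ^ k, a • l = 0) :
    theta p n hn F l = loc p W (inclN p k (elt p k l hk ≫ F)) := by
  change loc p W (inclN p n (elt p n l (fun a ha => hn a ha l) ≫ F)) = _
  rw [inclN_elt_indep p l n k (fun a ha => hn a ha l) hk]

lemma theta_add {W : Dual.D A} {L : Type u} [AddCommGroup L] [Module A L] (n : ℕ)
    (hn : ∀ a ∈ p ^ n, ∀ x : L, a • x = 0) (F G : Dual.inD A L ⟶ W) (l : L) :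
    theta p n hn (F + G) l = theta p n hn F l + theta p n hn G l := by
  change loc p W _ = loc p W _ + loc p W _
  rw [← map_add, ← map_add, Preadditive.comp_add]

lemma theta_smul {W : Dual.D A} {L : Type u} [AddCommGroup L] [Module A L] (n : ℕ)
    (hn : ∀ a ∈ p ^ n, ∀ x : L, a • x = 0) (s : A) (F : Dual.inD A L ⟶ W) (l : L) :
    theta p n hn (s • F) l = s • theta p n hn F l := by
  change loc p W _ = s • loc p W _
  rw [← map_smul, ← map_smul, Linear.comp_smul]

lemma theta_comp {W : Dual.D A} {L M : Type u} [AddCommGroup L] [Module A L] [AddCommGroup M]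
    [Module A M] (n : ℕ)
    (hn : ∀ a ∈ p ^ n, ∀ x : L, a • x = 0) (hn' : ∀ a ∈ p ^ n, ∀ x : M, a • x = 0)
    (φ : L →ₗ[A] M) (F : Dual.inD A M ⟶ W) (l : L) :
    theta p n hn (mm φ ≫ F) l = theta p n hn' F (φ l) := by
  change loc p W _ = loc p W _
  rw [← Category.assoc, elt_comp p n l (fun a ha => hn a ha l) φ (fun a ha => hn' a ha _)]

variable [IsNoetherianRing A]

/-- lifting: a map `X → W` extends to `Y → W` up to an element not in `p`. -/
lemma exists_extension {W : Dual.D A} (h3 : LZ p (Dual.inD A (A ⧸ p) ⟶ W⟦(1 : ℤ)⟧))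
    {X Y Z : Type u} [AddCommGroup X] [Module A X]
    [AddCommGroup Y] [Module A Y] [AddCommGroup Z] [Module A Z] [Module.Finite A Z] (n : ℕ)
    (hn : ∀ a ∈ p ^ n, ∀ x : Z, a • x = 0)
    (f : X →ₗ[A] Y) (g : Y →ₗ[A] Z) (hf : Function.Injective f) (hg : Function.Surjective g)
    (hfg : Function.Exact f g) (F : Dual.inD A X ⟶ W) :
    ∃ (t : A) (_ : t ∉ p) (G : Dual.inD A Y ⟶ W), t • F = mm f ≫ G := by
  obtain ⟨δ, hδ⟩ := exists_triangle (A := A) f g hf hg hfg
  let X' := Triangle.mk (mm f) (mm g) δ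
  have h4 : LZ p ((Dual.inD A Z)⟦(-1 : ℤ)⟧ ⟶ W) :=
    LZ.shift_left _ _ (-1) 1 (by norm_num) (LZ_hom_of_power _ h3 Z n hn)
  obtain ⟨t, ht, h5⟩ := h4 (X'.invRotate.mor₁ ≫ F)
  rw [← Linear.comp_smul] at h5
  obtain ⟨G, hG⟩ := X'.invRotate.yoneda_exact₂ (inv_rot_of_distTriang _ hδ) (t • F) h5
  exact ⟨t, ht, G, hG⟩

/-- Surjectivity of `Hom(L, W)_p → Hom_A(L, H(W))` for finite `L` killed by `p^n`. -/
theorem theta_surj (W : Dual.D A) (h1 : LZ p (Dual.inD A (A ⧸ p) ⟶ W⟦(-1 : ℤ)⟧))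
    (h3 : LZ p (Dual.inD A (A ⧸ p) ⟶ W⟦(1 : ℤ)⟧)) (n : ℕ)
    (L : Type u) [AddCommGroup L] [Module A L] [Module.Finite A L]
    (hL : ∀ a ∈ p ^ n, ∀ x : L, a • x = 0) (ψ : L →ₗ[A] HL p W) :
    ∃ (s : A) (_ : s ∉ p) (F : Dual.inD A L ⟶ W), ∀ l : L, s • ψ l = theta p n hL F l := by
  revert ψ hL
  refine (module_devissage (A := A) (fun L _ _ => Module.Finite A L → ∀ (hL : ∀ a ∈ p ^ n, ∀ x : L, a • x = 0)
    (ψ : L →ₗ[A] HL p W), ∃ (s : A) (_ : s ∉ p) (F : Dual.inD A L ⟶ W), ∀ l : L,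
      s • ψ l = theta p n hL F l) ?_ ?_ ?_ ?_ L) inferInstance
  · intro N N' _ _ _ _ e h hfin hL ψ
    have hL' : ∀ a ∈ p ^ n, ∀ x : N, a • x = 0 := by
      intro a ha x
      apply e.injective
      rw [map_smul, hL a ha, map_zero]
    obtain ⟨s, hs, F, hF⟩ := h (Module.Finite.equiv e.symm) hL' (ψ ∘ₗ e.toLinearMap)
    refine ⟨s, hs, mm e.symm.toLinearMap ≫ F, fun l => ?_⟩
    rw [theta_comp p n hL hL']
    have := hF (e.symm l)
    simpa using this
  · intro N _ _ _ _ hL ψ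
    refine ⟨1, fun h => hp.ne_top ((Ideal.eq_top_iff_one _).2 h), 0, fun l => ?_⟩
    rw [Subsingleton.elim l 0, map_zero, map_zero, smul_zero]
  · intro N₁ N₂ N₃ _ _ _ _ _ _ f g hf hg hfg H₁ H₃ hfin hL ψ
    have hL1 : ∀ a ∈ p ^ n, ∀ x : N₁, a • x = 0 := by
      intro a ha x
      apply hf
      rw [map_smul, hL a ha, map_zero]
    have hL3 : ∀ a ∈ p ^ n, ∀ x : N₃, a • x = 0 := by
      intro a ha x
      obtain ⟨y, rfl⟩ := hg x
      rw [← map_smul, hL a ha, map_zero]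
    have hfin1 : Module.Finite A N₁ := Module.Finite.of_injective f hf
    have hfin3 : Module.Finite A N₃ := Module.Finite.of_surjective g hg
    obtain ⟨s1, hs1, F1, hF1⟩ := H₁ hfin1 hL1 (ψ ∘ₗ f)
    obtain ⟨t, ht, G, hG⟩ := exists_extension p h3 n hL3 f g hf hg hfg F1
    -- ψ' = t s1 ψ - θ(G) vanishes on the range of f
    let ψ' : N₂ →ₗ[A] HL p W := (t * s1) • ψ - theta p n hL G
    have hψ' : LinearMap.ker g ≤ LinearMap.ker ψ' := by
      intro y hy
      obtain ⟨x, rfl⟩ := (hfg y).1 hy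
      change (t * s1) • ψ (f x) - theta p n hL G (f x) = 0
      rw [← theta_comp p n hL1 hL f G, ← hG, theta_smul, ← hF1, mul_smul]
      exact sub_self _
    let ψ'' : N₃ →ₗ[A] HL p W :=
      (Submodule.liftQ (LinearMap.ker g) ψ' hψ') ∘ₗ (g.quotKerEquivOfSurjective hg).symm.toLinearMap
    have hψ'' : ∀ y, ψ'' (g y) = ψ' y := by
      intro y
      change (Submodule.liftQ (LinearMap.ker g) ψ' hψ') ((g.quotKerEquivOfSurjective hg).symm (g y)) = _
      have : (g.quotKerEquivOfSurjective hg).symm (g y) = Submodule.Quotient.mk y := by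
        rw [LinearEquiv.symm_apply_eq]
        rfl
      rw [this]
      rfl
    obtain ⟨s3, hs3, F3, hF3⟩ := H₃ hfin3 hL3 ψ''
    refine ⟨s3 * (t * s1), fun h => (hp.mem_or_mem h).elim hs3
      (fun h => (hp.mem_or_mem h).elim ht hs1), s3 • G + mm g ≫ F3, fun l => ?_⟩
    rw [theta_add, theta_smul, theta_comp p n hL hL3, ← hF3, hψ'']
    change _ = _ + s3 • ((t * s1) • ψ l - theta p n hL G l)
    rw [smul_sub, add_sub_cancel, mul_smul]
  · intro q hq _ hfin hL ψ
    have hpq : p ≤ q := by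
      have h1 : p ^ n ≤ q := by
        intro a ha
        have := hL a ha (Ideal.Quotient.mk q 1)
        rw [Algebra.smul_def, map_one, mul_one] at this
        exact Ideal.Quotient.eq_zero_iff_mem.1 this
      exact Ideal.IsPrime.le_of_pow_le h1
    rcases hpq.eq_or_lt with rfl | hlt
    · obtain ⟨s, hs, f, k, hk, h5⟩ := socle p W h1 (ψ (Submodule.Quotient.mk 1)) (by
        intro y hy
        rw [← map_smul, ← Submodule.Quotient.mk_smul, smul_eq_mul, mul_one,
          (Submodule.Quotient.mk_eq_zero _).2 hy, map_zero])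
      refine ⟨s, hs, f, fun l => ?_⟩
      obtain ⟨a, rfl⟩ := Submodule.Quotient.mk_surjective _ l
      have h6 : (Submodule.Quotient.mk a : A ⧸ p) = a • Submodule.Quotient.mk 1 := by
        rw [← Submodule.Quotient.mk_smul, smul_eq_mul, mul_one]
      rw [h6, map_smul, map_smul, smul_comm, h5, theta_apply p n hL f _ k hk]
    · obtain ⟨s, hs, hs'⟩ := SetLike.exists_of_lt hlt
      refine ⟨s, hs', 0, fun l => ?_⟩
      have h7 : s • l = 0 := by
        obtain ⟨l, rfl⟩ := Ideal.Quotient.mk_surjective l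
        exact Ideal.Quotient.eq_zero_iff_mem.2 (Ideal.mul_mem_right _ _ hs)
      have h8 := theta_smul p n hL 0 (0 : Dual.inD A (A ⧸ q) ⟶ W) l
      rw [zero_smul, zero_smul] at h8
      rw [h8, ← map_smul, h7, map_zero]

omit [IsNoetherianRing A] in
lemma isPowerTorsion_HL (K : Dual.D A) : LocCoh.IsPowerTorsion p (HL p K) := by
  intro x
  obtain ⟨s, hs, n, f, hx⟩ := exists_repL p x
  refine ⟨n, fun a ha => smul_inj p hs _ ?_⟩
  rw [smul_comm, hx, ← map_smul, ← map_smul, pow_smul_quotD p n f a ha, map_zero, map_zero]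

/-- `H(W)` is injective. -/
theorem baer_HL (W : Dual.D A) (h1 : LZ p (Dual.inD A (A ⧸ p) ⟶ W⟦(-1 : ℤ)⟧))
    (h3 : LZ p (Dual.inD A (A ⧸ p) ⟶ W⟦(1 : ℤ)⟧)) : Module.Baer A (HL p W) := by
  refine baer_of_torsion p (isPowerTorsion_HL p W) ?_
  intro n L ψ
  have hkill : ∀ a ∈ p ^ n, ∀ x : A ⧸ p ^ n, a • x = 0 := by
    intro a ha x
    obtain ⟨x, rfl⟩ := Ideal.Quotient.mk_surjective x
    exact Ideal.Quotient.eq_zero_iff_mem.2 (Ideal.mul_mem_right _ _ ha)
  have hL : ∀ a ∈ p ^ n, ∀ x : L, a • x = 0 := fun a ha x => Subtype.ext (hkill a ha x)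
  obtain ⟨s, hs, F, hF⟩ := theta_surj p W h1 h3 n L hL ψ
  obtain ⟨t, ht, G, hG⟩ := exists_extension p h3 n (Z := (A ⧸ p ^ n) ⧸ L) (by
      intro a ha x
      obtain ⟨x, rfl⟩ := Submodule.mkQ_surjective _ x
      rw [← map_smul, hkill a ha, map_zero]) L.subtype L.mkQ (Submodule.injective_subtype _)
      (Submodule.mkQ_surjective _) (LinearMap.exact_subtype_mkQ L) F
  have hts : t * s ∉ p := fun h => (hp.mem_or_mem h).elim ht hs
  have hbij := (Module.End.isUnit_iff _).1 (IsLocalizedModule.map_units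
    (LocalizedModule.mkLinearMap p.primeCompl ((TI p).obj W)) (⟨t * s, hts⟩ : p.primeCompl))
  let e := LinearEquiv.ofBijective _ hbij
  refine ⟨e.symm.toLinearMap ∘ₗ theta p n hkill G, fun x => ?_⟩
  change e.symm (theta p n hkill G x) = ψ x
  rw [LinearEquiv.symm_apply_eq]
  change _ = (t * s) • ψ x
  rw [mul_smul, hF, ← theta_smul, hG, theta_comp p n hL hkill]
  rfl

end Groth.Agent.LoccohB.LocDualBaer
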