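import Groth.Prelude.Def_DualLC
import Mathlib.Algebra.Homology.ShortComplex.ModuleCat

/-!
# The functor `K ↦ colim_j Hom(A/D j, K)` on `D(A)` (elementwise API) and short exact sequences of modules in `D(A)`

`T D : D(A) ⥤ ModuleCat.{u+1} A`; `Dual2.HDI A I K i` is by definition `(T (idealPowersDiagram I)).obj (K⟦i⟧)` and
`Dual2.HDT A S K i` is `(T (idealsInDiagram S)).obj (K⟦i⟧)`.
-/

set_option autoImplicit false
universe v u
open CategoryTheory Limits Opposite Pretriangulated
attribute [local instance] HasDerivedCategory.standard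

namespace Groth.Agent.LoccohB.LocDualBasic

section

variable {A : Type u} [CommRing A] {J : Type v} [SmallCategory J] (D : J ⥤ Ideal A)

/-- The diagram `j ↦ (A / D j)[0]` in `D(A)`. -/
noncomputable abbrev quotD : J ⥤ Dual.D A :=
  localCohomology.ringModIdeals D ⋙ DerivedCategory.singleFunctor (ModuleCat.{u} A) 0

variable [HasColimitsOfShape Jᵒᵖ (ModuleCat.{u + 1} A)]

/-- The functor `K ↦ colim_j Hom(A/D j, K)`. -/
noncomputable def T : Dual.D A ⥤ ModuleCat.{u + 1} A where
  obj K := Limits.colimit ((quotD D).op ⋙ (linearYoneda A (Dual.D A)).obj K)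
  map g := Limits.colimMap (Functor.whiskerLeft _ ((linearYoneda A (Dual.D A)).map g))
  map_id K := by
    apply colimit.hom_ext
    intro j
    simp
  map_comp f g := by
    apply colimit.hom_ext
    intro j
    simp

/-- The class in `colim_j Hom(A/D j, K)` of a morphism. -/
noncomputable def incl {K : Dual.D A} (j : J) : ((quotD D).obj j ⟶ K) →ₗ[A] (T D).obj K :=
  (colimit.ι ((quotD D).op ⋙ (linearYoneda A (Dual.D A)).obj K) (op j)).hom

lemma map_incl {K L : Dual.D A} (g : K ⟶ L) (j : J) (f : (quotD D).obj j ⟶ K) :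
    ((T D).map g).hom (incl D j f) = incl D j (f ≫ g) := by
  have h := ι_colimMap (Functor.whiskerLeft (quotD D).op ((linearYoneda A (Dual.D A)).map g)) (op j)
  exact congrArg (fun φ => φ.hom f) h

lemma incl_comp {K : Dual.D A} {i j : J} (α : i ⟶ j) (f : (quotD D).obj j ⟶ K) :
    incl D i ((quotD D).map α ≫ f) = incl D j f := by
  have h := colimit.w ((quotD D).op ⋙ (linearYoneda A (Dual.D A)).obj K) α.op
  exact congrArg (fun φ => φ.hom f) h

section
variable [PreservesColimitsOfShape Jᵒᵖ (forget (ModuleCat.{u + 1} A))]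

lemma exists_rep {K : Dual.D A} (x : (T D).obj K) :
    ∃ (j : J) (f : (quotD D).obj j ⟶ K), incl D j f = x := by
  obtain ⟨j, f, hf⟩ := Concrete.colimit_exists_rep _ x
  exact ⟨j.unop, f, hf⟩

lemma incl_eq_zero_iff [IsFiltered Jᵒᵖ] {K : Dual.D A} (j : J) (f : (quotD D).obj j ⟶ K) :
    incl D j f = 0 ↔ ∃ (i : J) (α : i ⟶ j), (quotD D).map α ≫ f = 0 := by
  constructor
  · intro h
    have h' : (colimit.ι ((quotD D).op ⋙ (linearYoneda A (Dual.D A)).obj K) (op j)) f =
        (colimit.ι ((quotD D).op ⋙ (linearYoneda A (Dual.D A)).obj K) (op j))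
          (0 : (quotD D).obj j ⟶ K) := by
      have := (incl D (K := K) j).map_zero
      exact h.trans this.symm
    obtain ⟨k, a, b, hab⟩ := Concrete.colimit_exists_of_rep_eq _ _ _ h'
    refine ⟨k.unop, a.unop, ?_⟩
    refine (show _ from hab).trans ?_
    change (quotD D).map b.unop ≫ 0 = 0
    simp
  · rintro ⟨i, α, h⟩
    rw [← incl_comp D α, h, map_zero]

lemma T_map_add {K L : Dual.D A} (g g' : K ⟶ L) (x : (T D).obj K) :
    ((T D).map (g + g')).hom x = ((T D).map g).hom x + ((T D).map g').hom x := by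
  obtain ⟨j, f, rfl⟩ := exists_rep D x
  rw [map_incl, map_incl, map_incl, Preadditive.comp_add, map_add]

lemma T_map_smul {K L : Dual.D A} (a : A) (g : K ⟶ L) (x : (T D).obj K) :
    ((T D).map (a • g)).hom x = a • ((T D).map g).hom x := by
  obtain ⟨j, f, rfl⟩ := exists_rep D x
  rw [map_incl, map_incl, Linear.comp_smul, map_smul]

lemma T_map_zero {K L : Dual.D A} (x : (T D).obj K) :
    ((T D).map (0 : K ⟶ L)).hom x = 0 := by
  have := T_map_smul D 0 (0 : K ⟶ L) x
  simpa using this

lemma T_map_id_smul {K : Dual.D A} (a : A) (x : (T D).obj K) :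
    ((T D).map (a • 𝟙 K)).hom x = a • x := by
  rw [T_map_smul, (T D).map_id]
  rfl

omit [PreservesColimitsOfShape Jᵒᵖ (forget (ModuleCat.{u + 1} A))] in
lemma T_map_comp_apply {K L M : Dual.D A} (g : K ⟶ L) (g' : L ⟶ M) (x : (T D).obj K) :
    ((T D).map (g ≫ g')).hom x = ((T D).map g').hom (((T D).map g).hom x) := by
  rw [(T D).map_comp]
  rfl

/-- `T` is homological (elementwise form). -/
lemma T_exact [IsFiltered Jᵒᵖ] (X : Triangle (Dual.D A)) (hX : X ∈ distTriang (Dual.D A))
    (y : (T D).obj X.obj₂) (hy : ((T D).map X.mor₂).hom y = 0) :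
    ∃ x : (T D).obj X.obj₁, ((T D).map X.mor₁).hom x = y := by
  obtain ⟨j, f, rfl⟩ := exists_rep D y
  rw [map_incl, incl_eq_zero_iff] at hy
  obtain ⟨i, α, h⟩ := hy
  rw [← Category.assoc] at h
  obtain ⟨g, hg⟩ := X.coyoneda_exact₂ hX _ h
  refine ⟨incl D i g, ?_⟩
  rw [map_incl, ← hg, incl_comp]

lemma T_map_comp_eq_zero (X : Triangle (Dual.D A)) (hX : X ∈ distTriang (Dual.D A))
    (x : (T D).obj X.obj₁) : ((T D).map X.mor₂).hom (((T D).map X.mor₁).hom x) = 0 := by
  rw [← T_map_comp_apply, comp_distTriang_mor_zero₁₂ X hX, T_map_zero]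

/-- The pairing `T(K) × Hom(K, W) → T(W)`. -/
noncomputable def pairing (K W : Dual.D A) : (T D).obj K →ₗ[A] ((K ⟶ W) →ₗ[A] (T D).obj W) where
  toFun x :=
    { toFun := fun g => ((T D).map g).hom x
      map_add' := fun g g' => T_map_add D g g' x
      map_smul' := fun a g => T_map_smul D a g x }
  map_add' x y := by
    ext g
    exact ((T D).map g).hom.map_add x y
  map_smul' a x := by
    ext g
    exact ((T D).map g).hom.map_smul a x

@[simp]
lemma pairing_apply (K W : Dual.D A) (x : (T D).obj K) (g : K ⟶ W) :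
    pairing D K W x g = ((T D).map g).hom x := rfl

lemma pairing_incl (K W : Dual.D A) (j : J) (f : (quotD D).obj j ⟶ K) (g : K ⟶ W) :
    pairing D K W (incl D j f) g = incl D j (f ≫ g) := map_incl D g j f

end

end

section ses

variable {A : Type u} [CommRing A]

/-- A short exact sequence of modules gives a distinguished triangle in `D(A)`. -/
lemma exists_triangle {X Y Z : Type u} [AddCommGroup X] [Module A X] [AddCommGroup Y] [Module A Y]
    [AddCommGroup Z] [Module A Z] (f : X →ₗ[A] Y) (g : Y →ₗ[A] Z) (hf : Function.Injective f)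
    (hg : Function.Surjective g) (hfg : Function.Exact f g) :
    ∃ δ : Dual.inD A Z ⟶ (Dual.inD A X)⟦(1 : ℤ)⟧,
      Triangle.mk ((DerivedCategory.singleFunctor (ModuleCat.{u} A) 0).map (ModuleCat.ofHom f))
        ((DerivedCategory.singleFunctor (ModuleCat.{u} A) 0).map (ModuleCat.ofHom g)) δ ∈
          distTriang (Dual.D A) := by
  have hzero : ModuleCat.ofHom f ≫ ModuleCat.ofHom g = 0 := by
    ext x
    exact (hfg (f x)).2 ⟨x, rfl⟩
  let S : ShortComplex (ModuleCat.{u} A) := ShortComplex.mk (ModuleCat.ofHom f) (ModuleCat.ofHom g) hzero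
  have hS : S.ShortExact := by
    refine ShortComplex.ShortExact.mk' ?_ ?_ ?_
    · exact (ShortComplex.ShortExact.moduleCat_exact_iff_function_exact S).2 hfg
    · exact (ModuleCat.mono_iff_injective _).2 hf
    · exact (ModuleCat.epi_iff_surjective _).2 hg
  exact ⟨hS.singleδ, hS.singleTriangle_distinguished⟩

end ses

end Groth.Agent.LoccohB.LocDualBasic
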