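import Groth.Agent.LoccohB.LocDualMod
import Groth.Agent.LoccohB.Devissage

/-!
# Local duality for bounded complexes with finite cohomology: `Φ` is bijective.
-/

set_option autoImplicit false
universe v w u
open CategoryTheory Limits Opposite Pretriangulated
attribute [local instance] HasDerivedCategory.standard

namespace Groth.Agent.LoccohB.LocDualCx

open Groth.Agent.LoccohB.LocDualBasic Groth.Agent.LoccohB.LocDualDev Groth.Agent.LoccohB.LocDualVan
  Groth.Agent.LoccohB.LocDualTors Groth.Agent.LoccohB.LocDualElt Groth.Agent.LoccohB.LocDualLoc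
  Groth.Agent.LoccohB.LocDualInj Groth.Agent.LoccohB.LocDualBaer Groth.Agent.LoccohB.LocDualMod

variable {A : Type u} [CommRing A] (p : Ideal A) [hp : p.IsPrime]

/-- The property of all shifts satisfying `B`. -/
def allB (W : Dual.D A) : ObjectProperty (Dual.D A) := fun K => ∀ i : ℤ, B p W (K⟦i⟧)

instance (W : Dual.D A) : (allB p W).IsClosedUnderIsomorphisms where
  of_iso e h i := B.of_iso p ((shiftFunctor (Dual.D A) i).mapIso e) (h i)

lemma allB.zero (W : Dual.D A) (Z : Dual.D A) (hZ : IsZero Z) : allB p W Z := by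
  intro i
  refine B.of_smul_id p (s := 1) (fun h => hp.ne_top ((Ideal.eq_top_iff_one _).2 h)) ?_
  have h : IsZero (Z⟦i⟧) := (shiftFunctor (Dual.D A) i).map_isZero hZ
  exact h.eq_of_src _ _

lemma allB.ext {W : Dual.D A} (hW : Module.Baer A (HL p W)) (X : Triangle (Dual.D A))
    (hX : X ∈ distTriang (Dual.D A)) (h₁ : allB p W X.obj₁) (h₃ : allB p W X.obj₃) :
    allB p W X.obj₂ := by
  intro i
  refine B.five p hW _ (Triangle.shift_distinguished _ hX i) ?_ (h₁ i) (h₃ i) ?_
  · exact B.of_iso p ((shiftFunctorAdd' (Dual.D A) i (-1) (i + -1) rfl).app _) (h₃ (i + -1))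
  · exact B.of_iso p ((shiftFunctorAdd' (Dual.D A) i 1 (i + 1) rfl).app _) (h₁ (i + 1))

/-- `M[-i] ≅ (single i) M`. -/
noncomputable def singleIso (M : ModuleCat.{u} A) (i : ℤ) :
    (Dual.inD A M)⟦-i⟧ ≅ (DerivedCategory.singleFunctor (ModuleCat.{u} A) i).obj M :=
  ((DerivedCategory.singleFunctors (ModuleCat.{u} A)).shiftIso (-i) i 0 (by omega)).app M

lemma allB.single {W : Dual.D A} (M : ModuleCat.{u} A) (i : ℤ) (h : allB p W (Dual.inD A M)) :
    allB p W ((DerivedCategory.singleFunctor (ModuleCat.{u} A) i).obj M) := by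
  refine (allB p W).prop_of_iso (singleIso M i) ?_
  intro j
  exact B.of_iso p ((shiftFunctorAdd' (Dual.D A) (-i) j (-i + j) rfl).app _) (h (-i + j))

variable [IsNoetherianRing A] (W : Dual.D A)
  (h3 : ∀ i : ℤ, i ≠ 0 → LZ p (Dual.inD A (A ⧸ p) ⟶ W⟦i⟧))
  (e : Dual.inD A (A ⧸ p) ⟶ W) (he1 : ∀ s : A, s ∉ p → s • e ≠ 0)
  (he2 : ∀ g : Dual.inD A (A ⧸ p) ⟶ W, ∃ s : A, s ∉ p ∧ ∃ a : A, s • g = a • e)
  (hfin : ∀ (M : Type u) [AddCommGroup M] [Module A M] [Module.Finite A M] (i : ℤ),
      Module.Finite A (Dual.inD A M ⟶ W⟦i⟧))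

include h3 he1 he2 hfin in
/-- Local duality for bounded complexes with finite cohomology. -/
theorem B_complex (K : Dual.D A) (c d : ℤ) (hc : K.IsGE c) (hd : K.IsLE d)
    (hK : ∀ i : ℤ, Module.Finite A (Dual.HD A K i)) (i : ℤ) : B p W (K⟦i⟧) := by
  have hW : Module.Baer A (HL p W) := baer_HL p W (h3 (-1) (by norm_num)) (h3 1 (by norm_num))
  revert i
  refine Groth.Agent.LoccohB.Devissage.devissage (allB p W) (allB.zero p W)
    (fun T hT h1 h3 => allB.ext p hW T hT h1 h3) K c d ?_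
  intro j
  refine allB.single p _ j ?_
  intro i
  have := hK j
  exact B_module p W h3 e he1 he2 hfin
    ((DerivedCategory.homologyFunctor (ModuleCat.{u} A) j).obj K) i

end Groth.Agent.LoccohB.LocDualCx
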