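import Groth.Agent.LoccohB.LocDualBasic
import Mathlib.RingTheory.Ideal.AssociatedPrime.Finiteness
import Mathlib.RingTheory.Nakayama
import Mathlib.RingTheory.Localization.AtPrime.Basic
import Mathlib.Algebra.Module.LocalizedModule.Submodule

/-!
# Devissage for finite modules over Noetherian rings, "locally zero at p" modules, Nakayama, and
vanishing of `Hom(M, W[i])` locally at `p`.
-/

set_option autoImplicit false
universe v u
open CategoryTheory Limits Opposite Pretriangulated
attribute [local instance] HasDerivedCategory.standard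

namespace Groth.Agent.LoccohB.LocDualDev

open Groth.Agent.LoccohB.LocDualBasic

section devissage

variable {A : Type u} [CommRing A] [IsNoetherianRing A]

/-- Devissage for finite modules: a property of finite modules stable under isomorphisms and extensions holds for
all finite modules as soon as, for each prime `q`, it holds for `A/q` provided it holds for all finite modules
killed by some ideal strictly larger than `q`. -/
theorem module_devissage
    (motive : (N : Type u) → [AddCommGroup N] → [Module A N] → Prop)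
    (iso : ∀ (N N' : Type u) [AddCommGroup N] [Module A N] [AddCommGroup N'] [Module A N'],
      (N ≃ₗ[A] N') → motive N → motive N')
    (zero : ∀ (N : Type u) [AddCommGroup N] [Module A N] [Subsingleton N], motive N)
    (exact : ∀ (N₁ N₂ N₃ : Type u) [AddCommGroup N₁] [Module A N₁] [AddCommGroup N₂] [Module A N₂]
      [AddCommGroup N₃] [Module A N₃] (f : N₁ →ₗ[A] N₂) (g : N₂ →ₗ[A] N₃),
      Function.Injective f → Function.Surjective g → Function.Exact f g →
      motive N₁ → motive N₃ → motive N₂)
    (prime : ∀ q : Ideal A, q.IsPrime →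
      (∀ (N : Type u) [AddCommGroup N] [Module A N], Module.Finite A N →
        (∃ J : Ideal A, q < J ∧ ∀ a ∈ J, ∀ x : N, a • x = 0) → motive N) → motive (A ⧸ q))
    (N : Type u) [AddCommGroup N] [Module A N] [Module.Finite A N] : motive N := by
  have key : ∀ J : Ideal A, ∀ (N : Type u) [AddCommGroup N] [Module A N], Module.Finite A N →
      (∀ a ∈ J, ∀ x : N, a • x = 0) → motive N := by
    intro J
    induction J using WellFoundedGT.induction with
    | ind J ih =>
      intro N _ _ hN hJ
      refine IsNoetherianRing.induction_on_isQuotientEquivQuotientPrime A hN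
        (motive := fun N _ _ _ => (∀ a ∈ J, ∀ x : N, a • x = 0) → motive N) ?_ ?_ ?_ hJ
      · intro N _ _ _ _ _
        exact zero N
      · intro N _ _ _ q e hJN
        refine iso (A ⧸ q.1) N e.symm (prime q.1 q.2 ?_)
        intro N' _ _ hN' ⟨J', hJ', hkill⟩
        refine ih J' (lt_of_le_of_lt ?_ hJ') N' hN' hkill
        intro a ha
        have h1 := hJN a ha (e.symm 1)
        rw [← map_smul, map_eq_zero_iff e.symm e.symm.injective, Algebra.smul_def, mul_one] at h1
        exact Ideal.Quotient.eq_zero_iff_mem.1 h1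
      · intro N₁ _ _ _ N₂ _ _ _ N₃ _ _ _ f g hf hg hfg h₁ h₃ hJ₂
        refine exact N₁ N₂ N₃ f g hf hg hfg (h₁ ?_) (h₃ ?_)
        · intro a ha x
          apply hf
          rw [map_smul, hJ₂ a ha, map_zero]
        · intro a ha x
          obtain ⟨y, rfl⟩ := hg x
          rw [← map_smul, hJ₂ a ha, map_zero]
  exact key ⊥ N inferInstance (fun a ha x => by rw [(Submodule.mem_bot A).1 ha, zero_smul])

end devissage

section LZ

variable {A : Type u} [CommRing A] (p : Ideal A)

/-- `M` is locally zero at the prime `p`: every element is killed by some `s ∉ p`. -/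
def LZ (M : Type v) [AddCommGroup M] [Module A M] : Prop := ∀ x : M, ∃ s : A, s ∉ p ∧ s • x = 0

variable {p}

lemma LZ.of_smul {M : Type v} [AddCommGroup M] [Module A M] {s : A} (hs : s ∉ p)
    (h : ∀ x : M, s • x = 0) : LZ p M := fun x => ⟨s, hs, h x⟩

lemma LZ.of_subsingleton [hp : p.IsPrime] {M : Type v} [AddCommGroup M] [Module A M] [Subsingleton M] :
    LZ p M := fun _ => ⟨1, fun h => hp.ne_top ((Ideal.eq_top_iff_one _).2 h), Subsingleton.elim _ _⟩

lemma LZ.of_equiv {M N : Type v} [AddCommGroup M] [Module A M] [AddCommGroup N] [Module A N]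
    (e : M ≃ₗ[A] N) (h : LZ p M) : LZ p N := fun x => by
  obtain ⟨s, hs, hx⟩ := h (e.symm x)
  refine ⟨s, hs, ?_⟩
  rw [← map_smul, map_eq_zero_iff e.symm e.symm.injective] at hx
  exact hx

/-- Nakayama, elementwise: if `x ∈ p` and multiplication by `x` on the finite module `M` is surjective locally
at `p`, then `M` is locally zero at `p`. -/
lemma LZ.nakayama [p.IsPrime] {M : Type v} [AddCommGroup M] [Module A M] [Module.Finite A M] {x : A}
    (hx : x ∈ p) (h : ∀ m : M, ∃ s : A, s ∉ p ∧ ∃ m' : M, s • m = x • m') : LZ p M := by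
  let S := p.primeCompl
  let Ap := Localization.AtPrime p
  let Mp := LocalizedModule S M
  have hfin : Module.Finite Ap Mp := inferInstance
  have htop : (⊤ : Submodule Ap Mp) = ⊥ := by
    refine Submodule.eq_bot_of_le_smul_of_le_jacobson_bot (Ideal.span {algebraMap A Ap x}) ⊤ hfin.1 ?_ ?_
    · intro z _
      induction z using LocalizedModule.induction_on with
      | h m t =>
        obtain ⟨s, hs, m', hm'⟩ := h m
        have : LocalizedModule.mk m t =
            (algebraMap A Ap x) • (LocalizedModule.mk m' (⟨s, hs⟩ * t) : Mp) := by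
          rw [algebraMap_smul, LocalizedModule.smul'_mk, ← hm']
          exact (LocalizedModule.mk_cancel_common_left ⟨s, hs⟩ t m).symm
        rw [this]
        exact Submodule.smul_mem_smul (Ideal.mem_span_singleton_self _) trivial
    · rw [IsLocalRing.jacobson_eq_maximalIdeal ⊥ bot_ne_top]
      rw [Ideal.span_singleton_le_iff_mem]
      exact (IsLocalization.AtPrime.to_map_mem_maximal_iff Ap p x).2 hx
  intro m
  have : (LocalizedModule.mk m (1 : S) : Mp) = 0 := by
    have : (LocalizedModule.mk m (1 : S) : Mp) ∈ (⊤ : Submodule Ap Mp) := trivial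
    rw [htop] at this
    exact (Submodule.mem_bot _).1 this
  rw [← LocalizedModule.mkLinearMap_apply, IsLocalizedModule.eq_zero_iff S] at this
  obtain ⟨s, hs⟩ := this
  exact ⟨s.1, s.2, hs⟩

end LZ

section Hom

variable {A : Type u} [CommRing A] {p : Ideal A}

lemma LZ.hom_of_triangle [hp : p.IsPrime] (W : Dual.D A) (X : Triangle (Dual.D A)) (hX : X ∈ distTriang (Dual.D A))
    (h₁ : LZ p (X.obj₁ ⟶ W)) (h₃ : LZ p (X.obj₃ ⟶ W)) : LZ p (X.obj₂ ⟶ W) := by
  intro f
  obtain ⟨s, hs, h⟩ := h₁ (X.mor₁ ≫ f)
  rw [← Linear.comp_smul] at h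
  obtain ⟨g, hg⟩ := X.yoneda_exact₂ hX _ h
  obtain ⟨t, ht, h'⟩ := h₃ g
  refine ⟨t * s, fun hh => (hp.mem_or_mem hh).elim ht hs, ?_⟩
  rw [mul_smul, hg, ← Linear.comp_smul, h', comp_zero]

lemma LZ.hom_of_iso (W : Dual.D A) {K L : Dual.D A} (e : K ≅ L)
    (h : LZ p (K ⟶ W)) : LZ p (L ⟶ W) := by
  intro f
  obtain ⟨s, hs, h⟩ := h (e.hom ≫ f)
  refine ⟨s, hs, ?_⟩
  have := congrArg (fun z => e.inv ≫ z) h
  simpa using this

/-- An element killing `N` kills `Hom(N, W)`. -/
lemma smul_hom_eq_zero {N : Type u} [AddCommGroup N] [Module A N] {s : A} (hs : ∀ x : N, s • x = 0)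
    (W : Dual.D A) (f : Dual.inD A N ⟶ W) : s • f = 0 := by
  have h : s • 𝟙 (Dual.inD A N) = 0 := by
    have h0 : s • 𝟙 (ModuleCat.of A N) = 0 := by
      ext x
      exact hs x
    rw [← (DerivedCategory.singleFunctor (ModuleCat.{u} A) 0).map_id, ← Functor.map_smul, h0,
      Functor.map_zero]
  have := congrArg (fun z => z ≫ f) h
  simpa using this

variable [IsNoetherianRing A] [hp : p.IsPrime]

/-- If `Hom(A/p, W)` is locally zero at `p`, so is `Hom(N, W)` for all finite `N` killed by a power of `p`. -/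
lemma LZ_hom_of_power (W : Dual.D A) (h : LZ p (Dual.inD A (A ⧸ p) ⟶ W))
    (N : Type u) [AddCommGroup N] [Module A N] [Module.Finite A N] (n : ℕ)
    (hN : ∀ a ∈ p ^ n, ∀ x : N, a • x = 0) : LZ p (Dual.inD A N ⟶ W) := by
  revert hN
  refine module_devissage (A := A)
    (fun N _ _ => (∀ a ∈ p ^ n, ∀ x : N, a • x = 0) → LZ p (Dual.inD A N ⟶ W)) ?_ ?_ ?_ ?_ N
  · intro N N' _ _ _ _ e h1 h2
    refine LZ.hom_of_iso W ((DerivedCategory.singleFunctor (ModuleCat.{u} A) 0).mapIso
      e.toModuleIso) (h1 ?_)
    intro a ha x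
    apply e.injective
    rw [map_smul, h2 a ha, map_zero]
  · intro N _ _ _ _ f
    refine ⟨1, fun h => hp.ne_top ((Ideal.eq_top_iff_one _).2 h), ?_⟩
    exact smul_hom_eq_zero (fun x => Subsingleton.elim _ _) W f
  · intro N₁ N₂ N₃ _ _ _ _ _ _ f g hf hg hfg h₁ h₃ hN₂
    obtain ⟨δ, hδ⟩ := exists_triangle f g hf hg hfg
    refine LZ.hom_of_triangle W _ hδ (h₁ ?_) (h₃ ?_)
    · intro a ha x
      apply hf
      rw [map_smul, hN₂ a ha, map_zero]
    · intro a ha x
      obtain ⟨y, rfl⟩ := hg x
      rw [← map_smul, hN₂ a ha, map_zero]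
  · intro q hq _ hkill
    have hpq : p ≤ q := by
      have h1 : p ^ n ≤ q := by
        intro a ha
        have := hkill a ha 1
        rw [Algebra.smul_def, mul_one] at this
        exact Ideal.Quotient.eq_zero_iff_mem.1 this
      exact Ideal.IsPrime.le_of_pow_le h1
    rcases hpq.eq_or_lt with rfl | hlt
    · exact h
    · obtain ⟨s, hs, hs'⟩ := SetLike.exists_of_lt hlt
      refine LZ.of_smul hs' (smul_hom_eq_zero (fun x => ?_) W)
      obtain ⟨x, rfl⟩ := Ideal.Quotient.mk_surjective x
      rw [Algebra.smul_def]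
      change (Ideal.Quotient.mk q) s * _ = 0
      rw [Ideal.Quotient.eq_zero_iff_mem.2 hs, zero_mul]

end Hom

end Groth.Agent.LoccohB.LocDualDev
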