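import Groth.Agent.LoccohB.LocDualFinal

/-!
# Normalized dualizing complexes over a local ring: local cohomology of `ω` is an injective hull
-/

set_option autoImplicit false
universe v w u
open CategoryTheory Limits Opposite Pretriangulated
attribute [local instance] HasDerivedCategory.standard

namespace Groth.Agent.LoccohB.LocDualHull

open Groth.Agent.LoccohB.LocDualBasic Groth.Agent.LoccohB.LocDualDev Groth.Agent.LoccohB.LocDualVan
  Groth.Agent.LoccohB.LocDualTors Groth.Agent.LoccohB.LocDualElt Groth.Agent.LoccohB.LocDualLoc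
  Groth.Agent.LoccohB.LocDualInj Groth.Agent.LoccohB.LocDualBaer Groth.Agent.LoccohB.LocDualMod
  Groth.Agent.LoccohB.LocDualCx Groth.Agent.LoccohB.LocDualFinal
open IsLocalRing

section hull

variable {R : Type u} [CommRing R] {κ E : Type u} [AddCommGroup κ] [Module R κ]
  [AddCommGroup E] [Module R E] {T : Type v} [AddCommGroup T] [Module R T]

/-- Uniqueness of the injective hull, in different universes. -/
theorem equiv_of_hull (f : κ →ₗ[R] E) (hf : InjHull.IsInjectiveHull f) (hT : Module.Baer R T)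
    (g : κ →ₗ[R] T) (hg : Function.Injective g)
    (hess : ∀ x : T, x ≠ 0 → ∃ (a : R) (k : κ), a • x = g k ∧ g k ≠ 0) : Nonempty (E ≃ₗ[R] T) := by
  obtain ⟨φ, hφ⟩ := baer_extend_of_ker_le hT f g (by
    rw [LinearMap.ker_eq_bot.2 hf.injective]
    exact bot_le)
  have hφinj : Function.Injective φ := by
    rw [← LinearMap.ker_eq_bot]
    by_contra hne
    refine hf.essential _ hne ?_
    rw [eq_bot_iff]
    rintro x ⟨hx1, y, rfl⟩
    have h1 : g y = 0 := by
      rw [← hφ]
      exact hx1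
    have h2 : y = 0 := hg (h1.trans (map_zero g).symm)
    rw [h2, map_zero]
    exact Submodule.zero_mem _
  have hE : Module.Baer R E := Module.Baer.of_injective hf.isInjective
  -- retraction
  obtain ⟨r, hr⟩ := baer_extend_of_ker_le hE (LinearMap.range φ).subtype
    ((LinearEquiv.ofInjective φ hφinj).symm.toLinearMap) (by
      rw [Submodule.ker_subtype]
      exact bot_le)
  have hr' : ∀ x, r (φ x) = x := by
    intro x
    have := hr ⟨φ x, ⟨x, rfl⟩⟩
    rw [Submodule.subtype_apply] at this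
    rw [this]
    exact (LinearEquiv.ofInjective φ hφinj).symm_apply_apply x
  have hrinj : Function.Injective r := by
    rw [injective_iff_map_eq_zero]
    intro x hx
    by_contra hne
    obtain ⟨a, k, h1, h2⟩ := hess x hne
    have h3 : r (g k) = 0 := by rw [← h1, map_smul, hx, smul_zero]
    rw [← hφ, hr'] at h3
    apply h2
    rw [← hφ, h3, map_zero]
  exact ⟨LinearEquiv.ofBijective φ ⟨hφinj, fun x => ⟨r x, hrinj (hr' (r x))⟩⟩⟩

end hull

section theta

variable {A : Type u} [CommRing A] (p : Ideal A) [hp : p.IsPrime] [IsNoetherianRing A]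

/-- Injectivity of `Hom(L, W)_p → Hom_A(L, H(W))` for finite `L` killed by `p^n`. -/
theorem theta_inj (W : Dual.D A) (h1 : LZ p (Dual.inD A (A ⧸ p) ⟶ W⟦(-1 : ℤ)⟧)) (n : ℕ)
    (L : Type u) [AddCommGroup L] [Module A L] [Module.Finite A L]
    (hL : ∀ a ∈ p ^ n, ∀ x : L, a • x = 0) (F : Dual.inD A L ⟶ W)
    (hF : ∀ l, theta p n hL F l = 0) : ∃ s : A, s ∉ p ∧ s • F = 0 := by
  revert hL F
  refine module_devissage (A := A) (fun L _ _ => ∀ (hL : ∀ a ∈ p ^ n, ∀ x : L, a • x = 0)
    (F : Dual.inD A L ⟶ W), (∀ l, theta p n hL F l = 0) → ∃ s : A, s ∉ p ∧ s • F = 0)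
    ?_ ?_ ?_ ?_ L
  · intro N N' _ _ _ _ e h hL F hF
    have hL' : ∀ a ∈ p ^ n, ∀ x : N, a • x = 0 := by
      intro a ha x
      apply e.injective
      rw [map_smul, hL a ha, map_zero]
    obtain ⟨s, hs, h1⟩ := h hL' (mm e.toLinearMap ≫ F) (fun l => by
      rw [theta_comp p n hL' hL]
      exact hF _)
    refine ⟨s, hs, ?_⟩
    have h2 : mm e.symm.toLinearMap ≫ mm e.toLinearMap = 𝟙 (Dual.inD A N') := by
      rw [mm_comp, ← (SF A).map_id]
      unfold mm
      congr 1
      ext x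
      exact e.apply_symm_apply x
    have h3 : mm e.symm.toLinearMap ≫ (s • (mm e.toLinearMap ≫ F)) = 0 := by
      rw [h1, comp_zero]
    rw [Linear.comp_smul, ← Category.assoc, h2, Category.id_comp] at h3
    exact h3
  · intro N _ _ _ hL F hF
    refine ⟨1, fun h => hp.ne_top ((Ideal.eq_top_iff_one _).2 h), ?_⟩
    exact smul_hom_eq_zero (fun x => Subsingleton.elim _ _) _ F
  · intro N₁ N₂ N₃ _ _ _ _ _ _ f g hf hg hfg H₁ H₃ hL F hF
    have hL1 : ∀ a ∈ p ^ n, ∀ x : N₁, a • x = 0 := by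
      intro a ha x
      apply hf
      rw [map_smul, hL a ha, map_zero]
    have hL3 : ∀ a ∈ p ^ n, ∀ x : N₃, a • x = 0 := by
      intro a ha x
      obtain ⟨y, rfl⟩ := hg x
      rw [← map_smul, hL a ha, map_zero]
    obtain ⟨s, hs, h2⟩ := H₁ hL1 (mm f ≫ F) (fun l => by
      rw [theta_comp p n hL1 hL]
      exact hF _)
    obtain ⟨δ, hδ⟩ := exists_triangle (A := A) f g hf hg hfg
    rw [← Linear.comp_smul] at h2
    obtain ⟨G, hG⟩ := Triangle.yoneda_exact₂ _ hδ (s • F) h2
    have hG' : s • F = mm g ≫ G := hG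
    obtain ⟨t, ht, h3⟩ := H₃ hL3 G (fun l => by
      obtain ⟨l, rfl⟩ := hg l
      rw [← theta_comp p n hL hL3, ← hG', theta_smul, hF, smul_zero])
    refine ⟨t * s, fun h => (hp.mem_or_mem h).elim ht hs, ?_⟩
    rw [mul_smul, hG', ← Linear.comp_smul, h3, comp_zero]
  · intro q hq _ hL F hF
    have hpq : p ≤ q := by
      have h1 : p ^ n ≤ q := by
        intro a ha
        have := hL a ha (Ideal.Quotient.mk q 1)
        rw [Algebra.smul_def, map_one, mul_one] at this
        exact Ideal.Quotient.eq_zero_iff_mem.1 this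
      exact Ideal.IsPrime.le_of_pow_le h1
    rcases hpq.eq_or_lt with rfl | hlt
    · have h2 := hF (Submodule.Quotient.mk 1)
      rw [theta_apply p n hL F _ 1 (fun a ha => by
        rw [pow_one] at ha
        rw [← Submodule.Quotient.mk_smul, smul_eq_mul, mul_one]
        exact (Submodule.Quotient.mk_eq_zero _).2 ha), loc_inclN_eq_zero_iff] at h2
      obtain ⟨s, hs, m, hm, h⟩ := h2
      rw [← Category.assoc, tr_elt, ← Linear.comp_smul] at h
      have hkill : ∀ a ∈ p ^ m, ∀ x : A ⧸ p ^ m, a • x = 0 := by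
        intro a ha x
        obtain ⟨x, rfl⟩ := Ideal.Quotient.mk_surjective x
        exact Ideal.Quotient.eq_zero_iff_mem.2 (Ideal.mul_mem_right _ _ ha)
      obtain ⟨t, ht, h'⟩ := epi_cancel p W h1 m hkill _ (by
          intro y
          obtain ⟨y, rfl⟩ := Submodule.Quotient.mk_surjective _ y
          refine ⟨Submodule.Quotient.mk y, ?_⟩
          rw [eltLin_mk, ← Submodule.Quotient.mk_smul, smul_eq_mul, mul_one]) (s • F) h
      rw [smul_smul] at h'
      exact ⟨t * s, fun h => (hp.mem_or_mem h).elim ht hs, h'⟩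
    · obtain ⟨s, hs, hs'⟩ := SetLike.exists_of_lt hlt
      refine ⟨s, hs', smul_hom_eq_zero (fun x => ?_) _ F⟩
      obtain ⟨x, rfl⟩ := Ideal.Quotient.mk_surjective x
      exact Ideal.Quotient.eq_zero_iff_mem.2 (Ideal.mul_mem_right _ _ hs)

omit [IsNoetherianRing A] hp in
lemma exists_mul_socle {M : Type v} [AddCommGroup M] [Module A M]
    (hM : LocCoh.IsPowerTorsion p M) {x : M} (hx : x ≠ 0) :
    ∃ a : A, a • x ≠ 0 ∧ ∀ b ∈ p, b • a • x = 0 := by
  classical
  have h := hM x
  have hn := Nat.find_spec h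
  have hne : Nat.find h ≠ 0 := by
    intro h0
    rw [h0, pow_zero] at hn
    exact hx (by simpa using hn 1 (by simp))
  obtain ⟨k, hk⟩ := Nat.exists_eq_succ_of_ne_zero hne
  have hlt := Nat.find_min h (m := k) (by omega)
  push Not at hlt
  obtain ⟨a, ha, hax⟩ := hlt
  refine ⟨a, hax, fun b hb => ?_⟩
  rw [smul_smul]
  apply hn
  rw [hk, pow_succ']
  exact Ideal.mul_mem_mul hb ha

end theta

section loc

variable {A : Type u} [CommRing A] [IsLocalRing A]

lemma isUnit_of_notMem {s : A} (hs : s ∉ maximalIdeal A) : IsUnit s := by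
  by_contra h
  exact hs ((mem_maximalIdeal s).2 h)

lemma LZ.subsingleton {M : Type v} [AddCommGroup M] [Module A M] (h : LZ (maximalIdeal A) M) :
    Subsingleton M := by
  refine subsingleton_of_forall_eq 0 fun x => ?_
  obtain ⟨s, hs, hx⟩ := h x
  exact (isUnit_of_notMem hs).smul_eq_zero.1 hx

/-- For a local ring, localizing at the maximal ideal does nothing. -/
lemma loc_bijective (K : Dual.D A) : Function.Bijective (loc (maximalIdeal A) K) := by
  constructor
  · rw [injective_iff_map_eq_zero]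
    intro x hx
    obtain ⟨s, hs, h⟩ := (mk_eq_zero_iff (maximalIdeal A) x).1 hx
    exact (isUnit_of_notMem hs).smul_eq_zero.1 h
  · intro x
    obtain ⟨s, hs, m, h⟩ := exists_rep_loc (maximalIdeal A) x
    obtain ⟨u, hu⟩ := isUnit_of_notMem hs
    refine ⟨(u⁻¹ : Aˣ) • m, ?_⟩
    have h1 : loc (maximalIdeal A) K ((u⁻¹ : Aˣ) • m) = (u⁻¹ : Aˣ) • loc (maximalIdeal A) K m :=
      map_smul (loc (maximalIdeal A) K) ((u⁻¹ : Aˣ) : A) m
    have h2 : loc (maximalIdeal A) K m = u • x := h.symm.trans (congrArg (fun z => z • x) hu.symm)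
    rw [h1, h2, inv_smul_smul]

noncomputable def locEquiv (K : Dual.D A) :
    (TI (maximalIdeal A)).obj K ≃ₗ[A] HL (maximalIdeal A) K :=
  LinearEquiv.ofBijective _ (loc_bijective K)

/-- isomorphic objects have isomorphic `T`. -/
noncomputable def TIcongr (I : Ideal A) {K L : Dual.D A} (e : K ≅ L) :
    (TI I).obj K ≃ₗ[A] (TI I).obj L := ((TI I).mapIso e).toLinearEquiv

end loc

section norm

variable {A : Type u} [CommRing A] [IsLocalRing A] [IsNoetherianRing A]

open Groth.Agent.LoccohA.DzKappa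

/-- The data attached to a normalized dualizing complex over a local ring. -/
theorem normData (ω : Dual.D A) (hω : Dual.IsDualizing A ω) (hn : Dual.IsNormalized A ω) :
    (∀ i : ℤ, i ≠ 0 → LZ (maximalIdeal A) (Dual.inD A (A ⧸ maximalIdeal A) ⟶ ω⟦i⟧)) ∧
    (∃ e : Dual.inD A (A ⧸ maximalIdeal A) ⟶ ω, (∀ s : A, s ∉ maximalIdeal A → s • e ≠ 0) ∧
      (∀ g : Dual.inD A (A ⧸ maximalIdeal A) ⟶ ω, ∃ s : A, s ∉ maximalIdeal A ∧
        ∃ a : A, s • g = a • e)) ∧
    (∀ (M : Type u) [AddCommGroup M] [Module A M] [Module.Finite A M] (i : ℤ),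
      Module.Finite A (Dual.inD A M ⟶ ω⟦i⟧)) := by
  have h3 : ∀ i : ℤ, i ≠ 0 → Subsingleton (Dual.inD A (A ⧸ maximalIdeal A) ⟶ ω⟦i⟧) := hn
  refine ⟨?_, ?_, ?_⟩
  · intro i hi x
    have := h3 i hi
    exact ⟨1, fun h => (maximalIdeal.isMaximal A).ne_top ((Ideal.eq_top_iff_one _).2 h),
      Subsingleton.elim _ _⟩
  · obtain ⟨n, hn1, ⟨ψ⟩⟩ := ext_residueField hω (maximalIdeal A)
    have hn0 : n = 0 := by
      by_contra hne
      have := h3 n hne
      have h5 : Subsingleton (A ⧸ maximalIdeal A) := ψ.symm.toEquiv.subsingleton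
      exact (maximalIdeal.isMaximal A).ne_top (Ideal.Quotient.subsingleton_iff.1 h5)
    subst hn0
    let ψ' : (Dual.inD A (A ⧸ maximalIdeal A) ⟶ ω) ≃ₗ[A] (A ⧸ maximalIdeal A) :=
      (Linear.homCongr A (Iso.refl _) ((shiftFunctorZero (Dual.D A) ℤ).app ω).symm).trans ψ
    refine ⟨ψ'.symm (Ideal.Quotient.mk _ 1), ?_, ?_⟩
    · intro s hs h
      rw [← map_smul, LinearEquiv.map_eq_zero_iff] at h
      have h6 : Ideal.Quotient.mk (maximalIdeal A) (s * 1) = 0 := by
        rw [map_mul]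
        exact h
      rw [mul_one, Ideal.Quotient.eq_zero_iff_mem] at h6
      exact hs h6
    · intro g
      obtain ⟨a, ha⟩ := Ideal.Quotient.mk_surjective (ψ' g)
      refine ⟨1, fun h => (maximalIdeal.isMaximal A).ne_top ((Ideal.eq_top_iff_one _).2 h), a, ?_⟩
      rw [one_smul, ← map_smul, LinearEquiv.eq_symm_apply, ← ha]
      have h7 : a • Ideal.Quotient.mk (maximalIdeal A) 1 = Ideal.Quotient.mk (maximalIdeal A) (a * 1) := by
        rw [map_mul]
        rfl
      rw [h7, mul_one]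
  · intro M _ _ _ i
    obtain ⟨a, b, hab⟩ := hω.finite_injective_dimension
    exact Groth.Agent.LoccohA.DzDual.finite_E (a := a) (b := b) hab hω.finite_cohomology i
      (ModuleCat.of A M)

variable (ω : Dual.D A) (h3 : ∀ i : ℤ, i ≠ 0 →
    LZ (maximalIdeal A) (Dual.inD A (A ⧸ maximalIdeal A) ⟶ ω⟦i⟧))
  (e : Dual.inD A (A ⧸ maximalIdeal A) ⟶ ω) (he1 : ∀ s : A, s ∉ maximalIdeal A → s • e ≠ 0)
  (he2 : ∀ g : Dual.inD A (A ⧸ maximalIdeal A) ⟶ ω, ∃ s : A, s ∉ maximalIdeal A ∧
    ∃ a : A, s • g = a • e)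

include h3 he1 he2 in
/-- `H_m(ω)` is an injective hull of the residue field. -/
theorem nonempty_equiv_HL (E : Type u) [AddCommGroup E] [Module A E]
    (f : ResidueField A →ₗ[A] E) (hf : InjHull.IsInjectiveHull f) :
    Nonempty (E ≃ₗ[A] HL (maximalIdeal A) ω) := by
  have hpow : ∀ a ∈ maximalIdeal A, ∀ x : A ⧸ maximalIdeal A, a • x = 0 := by
    intro a ha x
    obtain ⟨x, rfl⟩ := Ideal.Quotient.mk_surjective x
    exact Ideal.Quotient.eq_zero_iff_mem.2 (Ideal.mul_mem_right _ _ ha)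
  have hkill : ∀ a ∈ (maximalIdeal A) ^ 1, ∀ x : A ⧸ maximalIdeal A, a • x = 0 :=
    fun a ha => hpow a (by rwa [pow_one] at ha)
  have hW : Module.Baer A (HL (maximalIdeal A) ω) :=
    baer_HL (maximalIdeal A) _ (h3 (-1) (by norm_num)) (h3 1 (by norm_num))
  let g : ResidueField A →ₗ[A] HL (maximalIdeal A) ω := theta (maximalIdeal A) 1 hkill e
  have hinj : Function.Injective g := by
    rw [injective_iff_map_eq_zero]
    intro x hx
    by_contra hne
    obtain ⟨a, rfl⟩ := Ideal.Quotient.mk_surjective x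
    have ha : a ∉ maximalIdeal A := fun h => hne (Ideal.Quotient.eq_zero_iff_mem.2 h)
    have h8 : ∀ b : A, (Ideal.Quotient.mk (maximalIdeal A) b) = b • Ideal.Quotient.mk (maximalIdeal A) 1 := by
      intro b
      have : b • Ideal.Quotient.mk (maximalIdeal A) 1 = Ideal.Quotient.mk (maximalIdeal A) (b * 1) := by
        rw [map_mul]
        rfl
      rw [this, mul_one]
    have h9 : theta (maximalIdeal A) 1 hkill e (Ideal.Quotient.mk (maximalIdeal A) 1) = 0 := by
      have h10 : theta (maximalIdeal A) 1 hkill e (Ideal.Quotient.mk (maximalIdeal A) a) = 0 := hx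
      rw [h8 a, map_smul] at h10
      exact (isUnit_of_notMem ha).smul_eq_zero.1 h10
    obtain ⟨s, hs, h11⟩ := theta_inj (maximalIdeal A) ω (h3 (-1) (by norm_num)) 1
      (A ⧸ maximalIdeal A) hkill e (fun l => by
        obtain ⟨b, rfl⟩ := Ideal.Quotient.mk_surjective l
        rw [h8 b, map_smul, h9, smul_zero])
    exact he1 s hs h11
  refine equiv_of_hull f hf hW g hinj ?_
  intro x hx
  obtain ⟨a, hax, ha⟩ := exists_mul_socle (maximalIdeal A) (isPowerTorsion_HL (maximalIdeal A) ω) hx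
  obtain ⟨s, hs, F, n, hn, h5⟩ := socle (maximalIdeal A) ω (h3 (-1) (by norm_num)) (a • x) ha
  obtain ⟨s', hs', a', h6⟩ := he2 F
  have h7 : (s' * s * a) • x = g (a' • (Submodule.Quotient.mk 1 : A ⧸ maximalIdeal A)) := by
    change _ = theta (maximalIdeal A) 1 hkill e
      (a' • (Submodule.Quotient.mk 1 : A ⧸ maximalIdeal A))
    rw [map_smul, ← theta_smul, ← h6, theta_smul,
      theta_apply (maximalIdeal A) 1 hkill F _ n hn, ← h5, smul_smul, smul_smul, mul_assoc]
  refine ⟨s' * s * a, _, h7, ?_⟩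
  rw [← h7, mul_smul, mul_smul]
  intro h8
  exact hax ((isUnit_of_notMem hs).smul_eq_zero.1 ((isUnit_of_notMem hs').smul_eq_zero.1 h8))

end norm

end Groth.Agent.LoccohB.LocDualHull
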