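import Groth.Agent.LoccohB.LocDualLoc

/-!
# `H(W)` is an injective module when `Hom(A/p, W[i])` vanishes locally at `p` for `i = ±1`.
-/

set_option autoImplicit false
universe v w u
open CategoryTheory Limits Opposite Pretriangulated
attribute [local instance] HasDerivedCategory.standard

namespace Groth.Agent.LoccohB.LocDualInj

open Groth.Agent.LoccohB.LocDualBasic Groth.Agent.LoccohB.LocDualDev Groth.Agent.LoccohB.LocDualVan
  Groth.Agent.LoccohB.LocDualTors Groth.Agent.LoccohB.LocDualElt Groth.Agent.LoccohB.LocDualLoc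

variable {A : Type u} [CommRing A] [IsNoetherianRing A] (p : Ideal A) [hp : p.IsPrime] (W : Dual.D A)

/-- the morphism in `D(A)` given by a linear map -/
noncomputable abbrev mm {M N : Type u} [AddCommGroup M] [Module A M] [AddCommGroup N] [Module A N]
    (φ : M →ₗ[A] N) : Dual.inD A M ⟶ Dual.inD A N := (SF A).map (ModuleCat.ofHom φ)

omit [IsNoetherianRing A] in
lemma mm_comp {M N L : Type u} [AddCommGroup M] [Module A M] [AddCommGroup N] [Module A N]
    [AddCommGroup L] [Module A L] (φ : M →ₗ[A] N) (ψ : N →ₗ[A] L) :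
    mm φ ≫ mm ψ = mm (ψ ∘ₗ φ) := by
  unfold mm
  rw [← Functor.map_comp]
  rfl

variable (h1 : LZ p (Dual.inD A (A ⧸ p) ⟶ W⟦(-1 : ℤ)⟧))
include h1

/-- epi cancellation: `π : X → Y` surjective between finite modules killed by a power of `p`;
`π ≫ h = 0` implies `h = 0` locally at `p`. -/
lemma epi_cancel {X Y : Type u} [AddCommGroup X] [Module A X] [Module.Finite A X] [AddCommGroup Y]
    [Module A Y] (n : ℕ) (hX : ∀ a ∈ p ^ n, ∀ x : X, a • x = 0) (π : X →ₗ[A] Y)
    (hπ : Function.Surjective π) (h : Dual.inD A Y ⟶ W) (h0 : mm π ≫ h = 0) :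
    ∃ t : A, t ∉ p ∧ t • h = 0 := by
  obtain ⟨δ, hδ⟩ := exists_triangle (A := A) (LinearMap.ker π).subtype π
    (Submodule.injective_subtype _) hπ (LinearMap.exact_subtype_ker_map π)
  obtain ⟨g, hg⟩ := Triangle.yoneda_exact₃ _ hδ h h0
  have h2 : LZ p ((Dual.inD A (LinearMap.ker π))⟦(1 : ℤ)⟧ ⟶ W) := by
    refine LZ.shift_left _ _ 1 (-1) (by norm_num) ?_
    refine LZ_hom_of_power _ h1 _ n ?_
    intro a ha x
    exact Subtype.ext (hX a ha x)
  obtain ⟨t, ht, h3⟩ := h2 g
  refine ⟨t, ht, ?_⟩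
  rw [hg]
  change t • (δ ≫ g) = 0
  rw [← Linear.comp_smul, h3, comp_zero]

/-- If `y f = 0` for all `y ∈ p`, `f : A/p^n → W`, then `t f` factors through `A/p`. -/
lemma factor_through (n : ℕ) (hn : n ≠ 0) (f : Dual.inD A (A ⧸ p ^ n) ⟶ W) (hf : ∀ y ∈ p, y • f = 0) :
    ∃ (t : A) (_ : t ∉ p) (f' : Dual.inD A (A ⧸ p) ⟶ W),
      t • f = mm (Submodule.mapQ (p ^ n) p LinearMap.id (Ideal.pow_le_self hn)) ≫ f' := by
  let Y0 : Submodule A (A ⧸ p ^ n) := Submodule.map (Submodule.mkQ (p ^ n)) p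
  have hkill : ∀ a ∈ p ^ n, ∀ x : A ⧸ p ^ n, a • x = 0 := by
    intro a ha x
    obtain ⟨x, rfl⟩ := Ideal.Quotient.mk_surjective x
    exact Ideal.Quotient.eq_zero_iff_mem.2 (Ideal.mul_mem_right _ _ ha)
  have key : ∀ Y : Submodule A (A ⧸ p ^ n), Y.FG → Y ≤ Y0 →
      ∃ t : A, t ∉ p ∧ t • (mm Y.subtype ≫ f) = 0 := by
    intro Y hY
    refine Submodule.fg_induction (motive := fun Y _ => Y ≤ Y0 →
      ∃ t : A, t ∉ p ∧ t • (mm Y.subtype ≫ f) = 0) ?_ ?_ Y hY
    · intro x hx
      have hx0 : x ∈ Y0 := hx (Submodule.mem_span_singleton_self x)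
      obtain ⟨y, hy, rfl⟩ := hx0
      let Y1 := Submodule.span A {(Submodule.mkQ (p ^ n)) y}
      let π : (A ⧸ p ^ n) →ₗ[A] Y1 := (LinearMap.lsmul A (A ⧸ p ^ n) y).codRestrict Y1 (by
        intro z
        obtain ⟨z, rfl⟩ := Submodule.Quotient.mk_surjective _ z
        refine Submodule.mem_span_singleton.2 ⟨z, ?_⟩
        change Submodule.Quotient.mk (z • y) = Submodule.Quotient.mk (y • z)
        rw [smul_eq_mul, smul_eq_mul, mul_comm])
      have hπ : Function.Surjective π := by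
        rintro ⟨z, hz⟩
        obtain ⟨a, rfl⟩ := Submodule.mem_span_singleton.1 hz
        refine ⟨Submodule.Quotient.mk a, Subtype.ext ?_⟩
        change Submodule.Quotient.mk (y • a) = Submodule.Quotient.mk (a • y)
        rw [smul_eq_mul, smul_eq_mul, mul_comm]
      refine epi_cancel p W h1 n hkill π hπ _ ?_
      rw [← Category.assoc, mm_comp]
      have h4 : Y1.subtype ∘ₗ π = LinearMap.lsmul A (A ⧸ p ^ n) y := rfl
      have h5 : mm (LinearMap.lsmul A (A ⧸ p ^ n) y) = y • 𝟙 (Dual.inD A (A ⧸ p ^ n)) := by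
        rw [← (SF A).map_id, ← Functor.map_smul]
        rfl
      rw [h4, h5, Linear.smul_comp, Category.id_comp, hf y hy]
    · intro Y1 Y2 _ _ H1 H2 H12
      obtain ⟨t1, ht1, e1⟩ := H1 (le_sup_left.trans H12)
      obtain ⟨t2, ht2, e2⟩ := H2 (le_sup_right.trans H12)
      let π : (Y1 × Y2) →ₗ[A] (Y1 ⊔ Y2 : Submodule A (A ⧸ p ^ n)) :=
        LinearMap.coprod (Submodule.inclusion le_sup_left) (Submodule.inclusion le_sup_right)
      have hπ : Function.Surjective π := by
        rintro ⟨z, hz⟩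
        obtain ⟨a, ha, b, hb, rfl⟩ := Submodule.mem_sup.1 hz
        exact ⟨(⟨a, ha⟩, ⟨b, hb⟩), rfl⟩
      obtain ⟨t3, ht3, e3⟩ := epi_cancel p W h1 n (X := Y1 × Y2) (by
        intro a ha x
        refine Prod.ext (Subtype.ext ?_) (Subtype.ext ?_)
        · exact hkill a ha _
        · exact hkill a ha _) π hπ ((t1 * t2) • (mm (Y1 ⊔ Y2).subtype ≫ f)) (by
          rw [Linear.comp_smul, ← Category.assoc, mm_comp]
          have h6 : (Y1 ⊔ Y2).subtype ∘ₗ π = Y1.subtype ∘ₗ LinearMap.fst A Y1 Y2 +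
              Y2.subtype ∘ₗ LinearMap.snd A Y1 Y2 := by
            apply LinearMap.ext
            intro x
            rfl
          have h7 : mm (Y1.subtype ∘ₗ LinearMap.fst A Y1 Y2 + Y2.subtype ∘ₗ LinearMap.snd A Y1 Y2) =
              mm (Y1.subtype ∘ₗ LinearMap.fst A Y1 Y2) + mm (Y2.subtype ∘ₗ LinearMap.snd A Y1 Y2) := by
            unfold mm
            rw [← Functor.map_add]
            rfl
          rw [h6, h7, ← mm_comp, ← mm_comp, Preadditive.add_comp, smul_add, Category.assoc,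
            Category.assoc, mul_smul, smul_comm t1 t2, mul_smul t1 t2, ← Linear.comp_smul,
            ← Linear.comp_smul, e1, ← Linear.comp_smul, e2]
          simp)
      refine ⟨t3 * (t1 * t2), fun h => (hp.mem_or_mem h).elim ht3
        (fun h => (hp.mem_or_mem h).elim ht1 ht2), ?_⟩
      rw [mul_smul]
      exact e3
  obtain ⟨t, ht, e⟩ := key Y0 (IsNoetherian.noetherian _) le_rfl
  obtain ⟨δ, hδ⟩ := exists_triangle (A := A) Y0.subtype
    (Submodule.mapQ (p ^ n) p LinearMap.id (Ideal.pow_le_self hn))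
    (Submodule.injective_subtype _) (by
      intro x
      obtain ⟨x, rfl⟩ := Submodule.Quotient.mk_surjective _ x
      exact ⟨Submodule.Quotient.mk x, rfl⟩) (by
      intro x
      obtain ⟨x, rfl⟩ := Submodule.Quotient.mk_surjective _ x
      constructor
      · intro hx
        have hx' : (Submodule.Quotient.mk x : A ⧸ p) = 0 := hx
        rw [Submodule.Quotient.mk_eq_zero] at hx'
        exact ⟨⟨Submodule.Quotient.mk x, ⟨x, hx', rfl⟩⟩, rfl⟩
      · rintro ⟨⟨y, ⟨z, hz, rfl⟩⟩, hy⟩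
        rw [← hy]
        change (Submodule.Quotient.mk z : A ⧸ p) = 0
        exact (Submodule.Quotient.mk_eq_zero _).2 hz)
  rw [← Linear.comp_smul] at e
  obtain ⟨f', hf'⟩ := Triangle.yoneda_exact₂ _ hδ (t • f) e
  exact ⟨t, ht, f', hf'⟩

/-- elements of `H(W)` killed by `p` come from `Hom(A/p, W)`. -/
lemma socle (x : HL p W) (hx : ∀ y ∈ p, y • x = 0) :
    ∃ (s : A) (_ : s ∉ p) (f : Dual.inD A (A ⧸ p) ⟶ W) (n : ℕ)
      (hn : ∀ a ∈ p ^ n, a • (Submodule.Quotient.mk 1 : A ⧸ p) = 0),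
      s • x = loc p W (inclN p n (elt p n (Submodule.Quotient.mk 1 : A ⧸ p) hn ≫ f)) := by
  obtain ⟨s0, hs0, n0, f0, h0⟩ := exists_repL p x
  -- uniform killing
  have key : ∀ Y : Ideal A, Y.FG → Y ≤ p → ∃ (s : A) (_ : s ∉ p) (m : ℕ) (hm : n0 ≤ m),
      ∀ y ∈ Y, y • (s • (tr p hm ≫ f0)) = 0 := by
    intro Y hY
    refine Submodule.fg_induction (R := A) (M := A) (motive := fun Y _ => Y ≤ p →
      ∃ (s : A) (_ : s ∉ p) (m : ℕ) (hm : n0 ≤ m),
      ∀ y ∈ Y, y • (s • (tr p hm ≫ f0)) = 0) ?_ ?_ Y hY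
    · intro y hy
      have hy' : y ∈ p := hy (Submodule.mem_span_singleton_self y)
      have h2 : loc p W (inclN p n0 (y • f0)) = 0 := by
        rw [map_smul, map_smul, ← h0, smul_comm, hx y hy', smul_zero]
      rw [loc_inclN_eq_zero_iff] at h2
      obtain ⟨s, hs, m, hm, h3⟩ := h2
      refine ⟨s, hs, m, hm, ?_⟩
      intro z hz
      obtain ⟨c, rfl⟩ := Submodule.mem_span_singleton.1 hz
      rw [Linear.comp_smul] at h3
      rw [smul_eq_mul, mul_smul, smul_comm y s, h3, smul_zero]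
    · intro Y1 Y2 _ _ H1 H2 H12
      obtain ⟨s1, hs1, m1, hm1, e1⟩ := H1 (le_sup_left.trans H12)
      obtain ⟨s2, hs2, m2, hm2, e2⟩ := H2 (le_sup_right.trans H12)
      have htr1 : tr p (hm1.trans (le_max_left m1 m2)) = tr p (le_max_left m1 m2) ≫ tr p hm1 := by
        unfold tr
        rw [← Functor.map_comp]
        congr 1
        apply ModuleCat.hom_ext
        apply LinearMap.ext
        intro x
        obtain ⟨x, rfl⟩ := Submodule.Quotient.mk_surjective _ x
        rfl
      have htr2 : tr p (hm1.trans (le_max_left m1 m2)) = tr p (le_max_right m1 m2) ≫ tr p hm2 := by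
        unfold tr
        rw [← Functor.map_comp]
        congr 1
        apply ModuleCat.hom_ext
        apply LinearMap.ext
        intro x
        obtain ⟨x, rfl⟩ := Submodule.Quotient.mk_surjective _ x
        rfl
      refine ⟨s1 * s2, fun h => (hp.mem_or_mem h).elim hs1 hs2, max m1 m2,
        hm1.trans (le_max_left _ _), ?_⟩
      intro y hy
      obtain ⟨y1, hy1, y2, hy2, rfl⟩ := Submodule.mem_sup.1 hy
      have k1 : y1 • ((s1 * s2) • (tr p (hm1.trans (le_max_left m1 m2)) ≫ f0)) = 0 := by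
        have := congrArg (fun z => tr p (le_max_left m1 m2) ≫ (s2 • z)) (e1 y1 hy1)
        simp only [smul_zero, comp_zero] at this
        rw [htr1, Category.assoc, mul_comm s1 s2, mul_smul, smul_comm y1 s2, ← this,
          Linear.comp_smul, Linear.comp_smul, Linear.comp_smul]
      have k2 : y2 • ((s1 * s2) • (tr p (hm1.trans (le_max_left m1 m2)) ≫ f0)) = 0 := by
        have := congrArg (fun z => tr p (le_max_right m1 m2) ≫ (s1 • z)) (e2 y2 hy2)
        simp only [smul_zero, comp_zero] at this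
        rw [htr2, Category.assoc, mul_smul, smul_comm y2 s1, ← this,
          Linear.comp_smul, Linear.comp_smul, Linear.comp_smul]
      rw [add_smul, k1, k2, add_zero]
  obtain ⟨s, hs, m, hm, h3⟩ := key p (IsNoetherian.noetherian p) le_rfl
  -- enlarge m to be nonzero
  have htr : tr p (hm.trans (Nat.le_succ m)) = tr p (Nat.le_succ m) ≫ tr p hm := by
    unfold tr
    rw [← Functor.map_comp]
    congr 1
    apply ModuleCat.hom_ext
    apply LinearMap.ext
    intro x
    obtain ⟨x, rfl⟩ := Submodule.Quotient.mk_surjective _ x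
    rfl
  obtain ⟨t, ht, f', hf'⟩ := factor_through p W h1 (m + 1) (Nat.succ_ne_zero m)
    (s • (tr p (hm.trans (Nat.le_succ m)) ≫ f0)) (by
      intro y hy
      have := congrArg (fun z => tr p (Nat.le_succ m) ≫ z) (h3 y hy)
      simp only [comp_zero] at this
      rw [htr, Category.assoc, ← this, Linear.comp_smul, Linear.comp_smul])
  have hone : ∀ a ∈ p ^ (m + 1), a • (Submodule.Quotient.mk 1 : A ⧸ p) = 0 := by
    intro a ha
    rw [← Submodule.Quotient.mk_smul, smul_eq_mul, mul_one]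
    exact (Submodule.Quotient.mk_eq_zero _).2 (Ideal.pow_le_self (Nat.succ_ne_zero m) ha)
  refine ⟨t * (s * s0), fun h => (hp.mem_or_mem h).elim ht
    (fun h => (hp.mem_or_mem h).elim hs hs0), f', m + 1, hone, ?_⟩
  have h8 : elt p (m + 1) (Submodule.Quotient.mk 1 : A ⧸ p) hone =
      mm (Submodule.mapQ (p ^ (m + 1)) p LinearMap.id (Ideal.pow_le_self (Nat.succ_ne_zero m))) := by
    unfold elt mm
    congr 1
    apply ModuleCat.hom_ext
    apply LinearMap.ext
    intro x
    obtain ⟨x, rfl⟩ := Submodule.Quotient.mk_surjective _ x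
    change x • (Submodule.Quotient.mk 1 : A ⧸ p) = (Submodule.Quotient.mk x : A ⧸ p)
    rw [← Submodule.Quotient.mk_smul, smul_eq_mul, mul_one]
  rw [h8, ← hf', mul_smul, mul_smul, h0, map_smul, map_smul, map_smul, map_smul, inclN_tr]

end Groth.Agent.LoccohB.LocDualInj
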