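import Groth.Agent.LoccohB.LocDualElt

/-!
# The functor `H(K) = (colim_n Hom(A/p^n, K))_p`, the pairing `Φ : H(K) → Hom_A(Hom(K, W), H(W))`
-/

set_option autoImplicit false
universe v w u
open CategoryTheory Limits Opposite Pretriangulated
attribute [local instance] HasDerivedCategory.standard

namespace Groth.Agent.LoccohB.LocDualLoc

open Groth.Agent.LoccohB.LocDualBasic Groth.Agent.LoccohB.LocDualDev Groth.Agent.LoccohB.LocDualVan
  Groth.Agent.LoccohB.LocDualTors Groth.Agent.LoccohB.LocDualElt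

variable {A : Type u} [CommRing A] (p : Ideal A) [hp : p.IsPrime]

/-- `H(K) = (colim_n Hom(A/p^n, K))_p` -/
abbrev HL (K : Dual.D A) : Type (u + 1) := LocalizedModule p.primeCompl ((TI p).obj K)

/-- `T(K) → H(K)` -/
noncomputable abbrev loc (K : Dual.D A) : (TI p).obj K →ₗ[A] HL p K :=
  LocalizedModule.mkLinearMap p.primeCompl ((TI p).obj K)

/-- functoriality of `H` -/
noncomputable def Hmap {K L : Dual.D A} (g : K ⟶ L) : HL p K →ₗ[A] HL p L :=
  IsLocalizedModule.map p.primeCompl (loc p K) (loc p L) ((TI p).map g).hom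

lemma Hmap_loc {K L : Dual.D A} (g : K ⟶ L) (x : (TI p).obj K) :
    Hmap p g (loc p K x) = loc p L (((TI p).map g).hom x) :=
  IsLocalizedModule.map_apply p.primeCompl (loc p K) (loc p L) ((TI p).map g).hom x

lemma smul_inj {M : Type v} [AddCommGroup M] [Module A M] {s : A} (hs : s ∉ p)
    (x : LocalizedModule p.primeCompl M) (h : s • x = 0) : x = 0 := by
  have h1 := IsLocalizedModule.smul_injective (LocalizedModule.mkLinearMap p.primeCompl M)
    (⟨s, hs⟩ : p.primeCompl)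
  refine h1 (a₁ := x) (a₂ := 0) ?_
  change s • x = s • (0 : LocalizedModule p.primeCompl M)
  rw [h, smul_zero]

lemma exists_smul_eq {M : Type v} [AddCommGroup M] [Module A M] {s : A} (hs : s ∉ p)
    (x : LocalizedModule p.primeCompl M) : ∃ y : LocalizedModule p.primeCompl M, s • y = x := by
  have h1 := (Module.End.isUnit_iff _).1 (IsLocalizedModule.map_units
    (LocalizedModule.mkLinearMap p.primeCompl M) (⟨s, hs⟩ : p.primeCompl))
  obtain ⟨y, hy⟩ := h1.2 x
  exact ⟨y, hy⟩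

lemma exists_rep_loc {M : Type v} [AddCommGroup M] [Module A M]
    (x : LocalizedModule p.primeCompl M) :
    ∃ (s : A) (_ : s ∉ p) (m : M), s • x = LocalizedModule.mkLinearMap p.primeCompl M m := by
  obtain ⟨⟨m, s⟩, h⟩ := IsLocalizedModule.surj p.primeCompl
    (LocalizedModule.mkLinearMap p.primeCompl M) x
  exact ⟨s.1, s.2, m, h⟩

lemma mk_eq_zero_iff {M : Type v} [AddCommGroup M] [Module A M] (m : M) :
    LocalizedModule.mkLinearMap p.primeCompl M m = 0 ↔ ∃ s : A, s ∉ p ∧ s • m = 0 := by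
  rw [IsLocalizedModule.eq_zero_iff p.primeCompl]
  constructor
  · rintro ⟨s, hs⟩
    exact ⟨s.1, s.2, hs⟩
  · rintro ⟨s, hs, h⟩
    exact ⟨⟨s, hs⟩, h⟩

lemma exists_repL {K : Dual.D A} (x : HL p K) :
    ∃ (s : A) (_ : s ∉ p) (n : ℕ) (f : Dual.inD A (A ⧸ p ^ n) ⟶ K), s • x = loc p K (inclN p n f) := by
  obtain ⟨s, hs, m, h⟩ := exists_rep_loc p x
  obtain ⟨n, f, rfl⟩ := exists_repN p m
  exact ⟨s, hs, n, f, h⟩

lemma loc_inclN_eq_zero_iff {K : Dual.D A} (n : ℕ) (f : Dual.inD A (A ⧸ p ^ n) ⟶ K) :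
    loc p K (inclN p n f) = 0 ↔ ∃ (s : A) (_ : s ∉ p) (m : ℕ) (h : n ≤ m), s • (tr p h ≫ f) = 0 := by
  rw [mk_eq_zero_iff]
  constructor
  · rintro ⟨s, hs, h⟩
    rw [← map_smul, inclN_eq_zero_iff] at h
    obtain ⟨m, hm, h⟩ := h
    exact ⟨s, hs, m, hm, by rw [← Linear.comp_smul, h]⟩
  · rintro ⟨s, hs, m, hm, h⟩
    refine ⟨s, hs, ?_⟩
    rw [← map_smul, inclN_eq_zero_iff]
    exact ⟨m, hm, by rw [Linear.comp_smul, h]⟩

lemma Hmap_loc_inclN {K L : Dual.D A} (g : K ⟶ L) (n : ℕ) (f : Dual.inD A (A ⧸ p ^ n) ⟶ K) :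
    Hmap p g (loc p K (inclN p n f)) = loc p L (inclN p n (f ≫ g)) := by
  rw [Hmap_loc, TI_map_inclN]

/-- extensionality for elements of `H`: enough on elements `loc (inclN n f)`. -/
lemma HL_ind {K : Dual.D A} {M : Type v} [AddCommGroup M] [Module A M]
    (hM : ∀ s : A, s ∉ p → ∀ m : M, s • m = 0 → m = 0) (φ ψ : HL p K →ₗ[A] M)
    (h : ∀ (n : ℕ) (f : Dual.inD A (A ⧸ p ^ n) ⟶ K), φ (loc p K (inclN p n f)) = ψ (loc p K (inclN p n f)))
    (x : HL p K) : φ x = ψ x := by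
  obtain ⟨s, hs, n, f, hx⟩ := exists_repL p x
  rw [← sub_eq_zero]
  refine hM s hs _ ?_
  rw [smul_sub, ← map_smul, ← map_smul, hx, h, sub_self]

lemma Hmap_add {K L : Dual.D A} (g g' : K ⟶ L) (x : HL p K) :
    Hmap p (g + g') x = Hmap p g x + Hmap p g' x := by
  refine HL_ind p (fun s hs m hm => smul_inj p hs m hm) (Hmap p (g + g')) (Hmap p g + Hmap p g') ?_ x
  intro n f
  rw [LinearMap.add_apply, Hmap_loc_inclN, Hmap_loc_inclN, Hmap_loc_inclN, Preadditive.comp_add,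
    map_add, map_add]

lemma Hmap_smul {K L : Dual.D A} (a : A) (g : K ⟶ L) (x : HL p K) :
    Hmap p (a • g) x = a • Hmap p g x := by
  refine HL_ind p (fun s hs m hm => smul_inj p hs m hm) (Hmap p (a • g)) (a • Hmap p g) ?_ x
  intro n f
  rw [LinearMap.smul_apply, Hmap_loc_inclN, Hmap_loc_inclN, Linear.comp_smul, map_smul, map_smul]

lemma Hmap_comp {K L M : Dual.D A} (g : K ⟶ L) (g' : L ⟶ M) (x : HL p K) :
    Hmap p (g ≫ g') x = Hmap p g' (Hmap p g x) := by
  refine HL_ind p (fun s hs m hm => smul_inj p hs m hm) (Hmap p (g ≫ g'))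
    ((Hmap p g').comp (Hmap p g)) ?_ x
  intro n f
  rw [LinearMap.comp_apply, Hmap_loc_inclN, Hmap_loc_inclN, Hmap_loc_inclN, Category.assoc]

lemma Hmap_id {K : Dual.D A} (x : HL p K) : Hmap p (𝟙 K) x = x := by
  refine HL_ind p (fun s hs m hm => smul_inj p hs m hm) (Hmap p (𝟙 K)) LinearMap.id ?_ x
  intro n f
  rw [Hmap_loc_inclN, Category.comp_id]
  rfl

lemma Hmap_zero {K L : Dual.D A} (x : HL p K) : Hmap p (0 : K ⟶ L) x = 0 := by
  have := Hmap_smul p 0 (0 : K ⟶ L) x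
  simpa using this

/-- `H` is homological. -/
lemma Hmap_exact (X : Triangle (Dual.D A)) (hX : X ∈ distTriang (Dual.D A)) :
    Function.Exact (Hmap p X.mor₁) (Hmap p X.mor₂) := by
  intro y
  constructor
  · intro hy
    obtain ⟨s, hs, n, f, hsy⟩ := exists_repL p y
    have h1 : loc p _ (inclN p n (f ≫ X.mor₂)) = 0 := by
      rw [← Hmap_loc_inclN, ← hsy, map_smul, hy, smul_zero]
    rw [loc_inclN_eq_zero_iff] at h1
    obtain ⟨t, ht, m, hm, h1⟩ := h1
    have h2 : (t • (tr p hm ≫ f)) ≫ X.mor₂ = 0 := by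
      rw [Linear.smul_comp, Category.assoc, h1]
    obtain ⟨g, hg⟩ := X.coyoneda_exact₂ hX _ h2
    have hts : t * s ∉ p := fun h => (hp.mem_or_mem h).elim ht hs
    obtain ⟨z, hz⟩ := exists_smul_eq p hts (loc p _ (inclN p m g))
    refine ⟨z, ?_⟩
    rw [← sub_eq_zero]
    refine smul_inj p hts _ ?_
    rw [smul_sub, ← map_smul, hz, Hmap_loc_inclN, ← hg, mul_smul, hsy, map_smul, map_smul,
      inclN_tr, sub_self]
  · rintro ⟨x, rfl⟩
    rw [← Hmap_comp, comp_distTriang_mor_zero₁₂ X hX, Hmap_zero]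

/-- The pairing `Φ : H(K) → Hom_A(Hom(K, W), H(W))`. -/
noncomputable def Phi (W K : Dual.D A) : HL p K →ₗ[A] ((K ⟶ W) →ₗ[A] HL p W) where
  toFun x :=
    { toFun := fun g => Hmap p g x
      map_add' := fun g g' => Hmap_add p g g' x
      map_smul' := fun a g => Hmap_smul p a g x }
  map_add' x y := by
    ext g
    exact (Hmap p g).map_add x y
  map_smul' a x := by
    ext g
    exact (Hmap p g).map_smul a x

@[simp]
lemma Phi_apply (W K : Dual.D A) (x : HL p K) (g : K ⟶ W) : Phi p W K x g = Hmap p g x := rfl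

/-- precomposition `Hom(L, W) → Hom(K, W)` -/
noncomputable abbrev pre (W : Dual.D A) {K L : Dual.D A} (g : K ⟶ L) : (L ⟶ W) →ₗ[A] (K ⟶ W) :=
  Linear.leftComp A W g

/-- `R(K) → R(L)`, `R(K) = Hom_A(Hom(K, W), H(W))` -/
noncomputable abbrev Rmap (W : Dual.D A) {K L : Dual.D A} (g : K ⟶ L) :
    ((K ⟶ W) →ₗ[A] HL p W) →ₗ[A] ((L ⟶ W) →ₗ[A] HL p W) :=
  LinearMap.lcomp A (HL p W) (pre W g)

lemma Phi_natural (W : Dual.D A) {K L : Dual.D A} (g : K ⟶ L) (x : HL p K) :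
    Rmap p W g (Phi p W K x) = Phi p W L (Hmap p g x) := by
  ext h
  exact Hmap_comp p g h x

/-- `R` is homological as soon as `H(W)` is injective. -/
lemma Rmap_exact (W : Dual.D A) (hW : Module.Baer A (HL p W)) (X : Triangle (Dual.D A))
    (hX : X ∈ distTriang (Dual.D A)) :
    Function.Exact (Rmap p W X.mor₁) (Rmap p W X.mor₂) := by
  intro ψ
  constructor
  · intro hψ
    obtain ⟨χ, hχ⟩ := baer_extend_of_ker_le hW (pre W X.mor₁) ψ (by
      intro y hy
      have hy' : X.mor₁ ≫ y = 0 := hy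
      obtain ⟨z, rfl⟩ := X.yoneda_exact₂ hX y hy'
      exact congrArg (fun φ => φ z) hψ)
    exact ⟨χ, by ext y; exact hχ y⟩
  · rintro ⟨χ, rfl⟩
    ext z
    change χ (X.mor₁ ≫ (X.mor₂ ≫ z)) = 0
    rw [← Category.assoc, comp_distTriang_mor_zero₁₂ X hX, zero_comp, map_zero]

/-- The statement "`Φ_K` is bijective". -/
def B (W K : Dual.D A) : Prop := Function.Bijective (Phi p W K)

lemma B.of_iso {W K L : Dual.D A} (e : K ≅ L) (h : B p W K) : B p W L := by
  have e1 : Function.Bijective (Hmap p e.inv) := by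
    refine Function.bijective_iff_has_inverse.2 ⟨Hmap p e.hom, ?_, ?_⟩
    · intro x; rw [← Hmap_comp, e.inv_hom_id, Hmap_id]
    · intro x; rw [← Hmap_comp, e.hom_inv_id, Hmap_id]
  have e2 : Function.Bijective (Rmap p W e.hom) := by
    refine Function.bijective_iff_has_inverse.2 ⟨Rmap p W e.inv, ?_, ?_⟩
    · intro ψ
      ext g
      change ψ (e.hom ≫ (e.inv ≫ g)) = ψ g
      rw [e.hom_inv_id_assoc]
    · intro ψ
      ext g
      change ψ (e.inv ≫ (e.hom ≫ g)) = ψ g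
      rw [e.inv_hom_id_assoc]
  have : (Phi p W L : HL p L → _) = Rmap p W e.hom ∘ Phi p W K ∘ Hmap p e.inv := by
    funext x
    change Phi p W L x = Rmap p W e.hom (Phi p W K (Hmap p e.inv x))
    rw [Phi_natural, ← Hmap_comp, e.inv_hom_id, Hmap_id]
  unfold B
  rw [this]
  exact e2.comp (Function.Bijective.comp h e1)

/-- five lemma for `Φ`. -/
lemma B.five {W : Dual.D A} (hW : Module.Baer A (HL p W)) (X : Triangle (Dual.D A))
    (hX : X ∈ distTriang (Dual.D A)) (h₀ : B p W (X.obj₃⟦(-1 : ℤ)⟧)) (h₁ : B p W X.obj₁)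
    (h₃ : B p W X.obj₃) (h₄ : B p W (X.obj₁⟦(1 : ℤ)⟧)) : B p W X.obj₂ := by
  have hX' := inv_rot_of_distTriang _ hX
  have hX'' := rot_of_distTriang _ hX
  refine LinearMap.bijective_of_surjective_of_bijective_of_bijective_of_injective
    (f₁ := Hmap p X.invRotate.mor₁) (f₂ := Hmap p X.mor₁) (f₃ := Hmap p X.mor₂) (f₄ := Hmap p X.mor₃)
    (g₁ := Rmap p W X.invRotate.mor₁) (g₂ := Rmap p W X.mor₁) (g₃ := Rmap p W X.mor₂)
    (g₄ := Rmap p W X.mor₃)
    (i₁ := Phi p W _) (i₂ := Phi p W _) (i₃ := Phi p W _) (i₄ := Phi p W _) (i₅ := Phi p W _)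
    ?_ ?_ ?_ ?_ ?_ ?_ ?_ ?_ ?_ ?_ h₀.2 h₁ h₃ h₄.1
  · ext x : 1; exact Phi_natural p W _ x
  · ext x : 1; exact Phi_natural p W _ x
  · ext x : 1; exact Phi_natural p W _ x
  · ext x : 1; exact Phi_natural p W _ x
  · exact Hmap_exact p X.invRotate hX'
  · exact Hmap_exact p X hX
  · exact Hmap_exact p X.rotate hX''
  · exact Rmap_exact p W hW X.invRotate hX'
  · exact Rmap_exact p W hW X hX
  · exact Rmap_exact p W hW X.rotate hX''

/-- if both sides vanish locally then `Φ` is bijective. -/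
lemma B.of_LZ {W K : Dual.D A} (h1 : LZ p ((TI p).obj K)) (h2 : LZ p (K ⟶ W)) : B p W K := by
  constructor
  · intro x y _
    have key : ∀ x : HL p K, x = 0 := by
      intro x
      obtain ⟨s, hs, m, hm⟩ := exists_rep_loc p x
      obtain ⟨t, ht, htm⟩ := h1 m
      have : LocalizedModule.mkLinearMap p.primeCompl ((TI p).obj K) m = 0 :=
        (mk_eq_zero_iff p m).2 ⟨t, ht, htm⟩
      exact smul_inj p hs _ (hm.trans this)
    rw [key x, key y]
  · intro ψ
    refine ⟨0, ?_⟩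
    rw [map_zero]
    ext g
    obtain ⟨s, hs, hg⟩ := h2 g
    have h3 : ψ g = 0 := smul_inj p hs _ (by rw [← map_smul, hg, map_zero])
    rw [h3]
    rfl

end Groth.Agent.LoccohB.LocDualLoc
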