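import Groth.Agent.LoccohB.LocDualBaer

/-!
# Local duality for finite modules: `Φ` is bijective for `M[i]`.
-/

set_option autoImplicit false
universe v w u
open CategoryTheory Limits Opposite Pretriangulated
attribute [local instance] HasDerivedCategory.standard

namespace Groth.Agent.LoccohB.LocDualMod

open Groth.Agent.LoccohB.LocDualBasic Groth.Agent.LoccohB.LocDualDev Groth.Agent.LoccohB.LocDualVan
  Groth.Agent.LoccohB.LocDualTors Groth.Agent.LoccohB.LocDualElt Groth.Agent.LoccohB.LocDualLoc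
  Groth.Agent.LoccohB.LocDualInj Groth.Agent.LoccohB.LocDualBaer

section prelim

variable {A : Type u} [CommRing A]

/-- `Hom(K, L[c]) → Hom(K[a], L)`, `c + a = 0`. -/
noncomputable def shiftLin (K L : Dual.D A) (a c : ℤ) (h : c + a = 0) :
    (K ⟶ L⟦c⟧) →ₗ[A] (K⟦a⟧ ⟶ L) where
  toFun f := f⟦a⟧' ≫ (shiftFunctorCompIsoId (Dual.D A) c a h).hom.app L
  map_add' f g := by rw [Functor.map_add, Preadditive.add_comp]
  map_smul' r f := by rw [Functor.map_smul, Linear.smul_comp, RingHom.id_apply]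

lemma shiftLin_bijective (K L : Dual.D A) (a c : ℤ) (h : c + a = 0) :
    Function.Bijective (shiftLin K L a c h) := by
  constructor
  · intro f g hfg
    have h1 : f⟦a⟧' = g⟦a⟧' := by
      rw [← cancel_mono ((shiftFunctorCompIsoId (Dual.D A) c a h).hom.app L)]
      exact hfg
    exact (shiftFunctor (Dual.D A) a).map_injective h1
  · intro g
    obtain ⟨f, hf⟩ := (shiftFunctor (Dual.D A) a).map_surjective
      (g ≫ (shiftFunctorCompIsoId (Dual.D A) c a h).inv.app L)
    refine ⟨f, ?_⟩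
    change f⟦a⟧' ≫ _ = g
    rw [hf, Category.assoc, Iso.inv_hom_id_app]
    exact Category.comp_id g

/-- the linear equivalence `Hom(K, L[c]) ≃ Hom(K[a], L)`, `c + a = 0`. -/
noncomputable def shiftEquiv (K L : Dual.D A) (a c : ℤ) (h : c + a = 0) :
    (K ⟶ L⟦c⟧) ≃ₗ[A] (K⟦a⟧ ⟶ L) :=
  LinearEquiv.ofBijective (shiftLin K L a c h) (shiftLin_bijective K L a c h)

lemma finite_shift (K L : Dual.D A) (a c : ℤ) (h : c + a = 0)
    (hf : Module.Finite A (K ⟶ L⟦c⟧)) : Module.Finite A (K⟦a⟧ ⟶ L) :=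
  Module.Finite.equiv (shiftEquiv K L a c h)

lemma TI_smul_eq_zero (I : Ideal A) {K : Dual.D A} {s : A} (hs : s • 𝟙 K = 0)
    (x : (TI I).obj K) : s • x = 0 := by
  rw [← T_map_id_smul (Dg I) s x, hs, T_map_zero]

lemma smul_id_shift {K : Dual.D A} {s : A} (hs : s • 𝟙 K = 0) (i : ℤ) : s • 𝟙 (K⟦i⟧) = 0 := by
  rw [← (shiftFunctor (Dual.D A) i).map_id, ← Functor.map_smul, hs, Functor.map_zero]

lemma smul_id_inD {N : Type u} [AddCommGroup N] [Module A N] {s : A} (hs : ∀ x : N, s • x = 0) :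
    s • 𝟙 (Dual.inD A N) = 0 := by
  have h0 : s • 𝟙 (ModuleCat.of A N) = 0 := by
    ext x
    exact hs x
  rw [← (DerivedCategory.singleFunctor (ModuleCat.{u} A) 0).map_id, ← Functor.map_smul, h0,
    Functor.map_zero]

end prelim

variable {A : Type u} [CommRing A] (p : Ideal A) [hp : p.IsPrime]

lemma B.of_smul_id {W K : Dual.D A} {s : A} (hs : s ∉ p) (h : s • 𝟙 K = 0) : B p W K := by
  refine B.of_LZ p (fun x => ⟨s, hs, TI_smul_eq_zero p h x⟩) (fun f => ⟨s, hs, ?_⟩)
  have := congrArg (fun z => z ≫ f) h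
  simpa using this

/-- the step `N ↦ N[1]`. -/
lemma B.step {W N : Dual.D A} (hW : Module.Baer A (HL p W)) (hN : B p W N)
    (hC : ∀ k : ℕ, ∃ c ∈ p ^ k, ∃ (C : Dual.D A) (g : N ⟶ C) (δ : C ⟶ N⟦(1 : ℤ)⟧),
      Triangle.mk (c • 𝟙 N) g δ ∈ distTriang (Dual.D A) ∧ B p W C)
    (hfin : Module.Finite A (N⟦(1 : ℤ)⟧ ⟶ W)) : B p W (N⟦(1 : ℤ)⟧) := by
  constructor
  · rw [injective_iff_map_eq_zero]
    intro z hz
    obtain ⟨k, hk⟩ := isPowerTorsion_HL p _ z
    obtain ⟨c, hc, C, g, δ, hT, hBC⟩ := hC k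
    let X := Triangle.mk (c • 𝟙 N) g δ
    have hX1 := rot_of_distTriang _ hT
    have hX2 := rot_of_distTriang _ hX1
    have h1 : Hmap p X.rotate.rotate.mor₂ z = 0 := by
      have h2 : X.rotate.rotate.mor₂ = (-c) • 𝟙 (N⟦(1 : ℤ)⟧) := by
        change -((c • 𝟙 N)⟦(1 : ℤ)⟧') = _
        rw [Functor.map_smul, (shiftFunctor (Dual.D A) (1 : ℤ)).map_id, neg_smul]
      have h3 : Hmap p ((-c) • 𝟙 (N⟦(1 : ℤ)⟧)) z = 0 := by
        rw [Hmap_smul, Hmap_id, neg_smul, hk c hc, neg_zero]
      exact (congrArg (fun g => Hmap p g z) h2).trans h3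
    obtain ⟨w, hw⟩ := (Hmap_exact p X.rotate.rotate hX2 z).1 h1
    have hw' : Hmap p δ w = z := hw
    have h2 : Rmap p W X.rotate.mor₂ (Phi p W C w) = 0 := by
      change Rmap p W δ (Phi p W C w) = 0
      rw [Phi_natural, hw', hz]
    obtain ⟨ν, hν⟩ := (Rmap_exact p W hW X.rotate hX1 _).1 h2
    obtain ⟨v, rfl⟩ := hN.2 ν
    have h3 : w = Hmap p g v := by
      apply hBC.1
      rw [← Phi_natural, ← hν]
      rfl
    rw [← hw', h3, ← Hmap_comp]
    have : g ≫ δ = 0 := comp_distTriang_mor_zero₂₃ X hT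
    rw [this, Hmap_zero]
  · intro ψ
    obtain ⟨k, hk⟩ := exists_pow_smul_eq_zero (isPowerTorsion_HL p W) ψ
    obtain ⟨c, hc, C, g, δ, hT, hBC⟩ := hC k
    let X := Triangle.mk (c • 𝟙 N) g δ
    have hX1 := rot_of_distTriang _ hT
    have hX2 := rot_of_distTriang _ hX1
    have h1 : Rmap p W X.rotate.rotate.mor₂ ψ = 0 := by
      have h2 : X.rotate.rotate.mor₂ = (-c) • 𝟙 (N⟦(1 : ℤ)⟧) := by
        change -((c • 𝟙 N)⟦(1 : ℤ)⟧') = _
        rw [Functor.map_smul, (shiftFunctor (Dual.D A) (1 : ℤ)).map_id, neg_smul]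
      have h4 : ∀ h : N⟦(1 : ℤ)⟧ ⟶ W, ψ (((-c) • 𝟙 (N⟦(1 : ℤ)⟧)) ≫ h) = 0 := by
        intro h
        rw [Linear.smul_comp, Category.id_comp, map_smul, neg_smul, hk c hc, neg_zero]
      ext h
      exact (congrArg (fun g => ψ (g ≫ h)) h2).trans (h4 h)
    obtain ⟨χ, hχ⟩ := (Rmap_exact p W hW X.rotate.rotate hX2 _).1 h1
    obtain ⟨w, rfl⟩ := hBC.2 χ
    refine ⟨Hmap p δ w, ?_⟩
    rw [← Phi_natural]
    exact hχ

section main

variable [IsNoetherianRing A] (W : Dual.D A)
  (h3 : ∀ i : ℤ, i ≠ 0 → LZ p (Dual.inD A (A ⧸ p) ⟶ W⟦i⟧))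
  (e : Dual.inD A (A ⧸ p) ⟶ W) (he1 : ∀ s : A, s ∉ p → s • e ≠ 0)
  (he2 : ∀ g : Dual.inD A (A ⧸ p) ⟶ W, ∃ s : A, s ∉ p ∧ ∃ a : A, s • g = a • e)

include h3 he1 he2 in
/-- `Φ` is bijective for `A/p`. -/
lemma B_residue : B p W (Dual.inD A (A ⧸ p)) := by
  have hpow : ∀ (n : ℕ), n ≠ 0 → ∀ a ∈ p ^ n, ∀ x : A ⧸ p, a • x = 0 := by
    intro n hn a ha x
    obtain ⟨x, rfl⟩ := Ideal.Quotient.mk_surjective x
    exact Ideal.Quotient.eq_zero_iff_mem.2 (Ideal.mul_mem_right _ _ (Ideal.pow_le_self hn ha))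
  have h1 := h3 (-1) (by norm_num)
  let one : A ⧸ p := Submodule.Quotient.mk 1
  have hone : ∀ a ∈ p ^ 1, a • one = 0 := fun a ha => hpow 1 one_ne_zero a ha one
  have hmk : ∀ a : A, (Submodule.Quotient.mk a : A ⧸ p) = a • one := by
    intro a
    change _ = a • (Submodule.Quotient.mk 1 : A ⧸ p)
    rw [← Submodule.Quotient.mk_smul, smul_eq_mul, mul_one]
  -- key: loc (inclN 1 (elt one ≫ f)) = 0 iff f = 0 locally
  have key : ∀ f : Dual.inD A (A ⧸ p) ⟶ W, loc p W (inclN p 1 (elt p 1 one hone ≫ f)) = 0 →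
      ∃ s : A, s ∉ p ∧ s • f = 0 := by
    intro f hf
    rw [loc_inclN_eq_zero_iff] at hf
    obtain ⟨s, hs, m, hm, h⟩ := hf
    rw [← Category.assoc, tr_elt, ← Linear.comp_smul] at h
    have hkill : ∀ a ∈ p ^ m, ∀ x : A ⧸ p ^ m, a • x = 0 := by
      intro a ha x
      obtain ⟨x, rfl⟩ := Ideal.Quotient.mk_surjective x
      exact Ideal.Quotient.eq_zero_iff_mem.2 (Ideal.mul_mem_right _ _ ha)
    obtain ⟨t, ht, h'⟩ := epi_cancel p W h1 m hkill
      (eltLin p m one (fun a ha => hone a (Ideal.pow_le_pow_right hm ha))) (by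
        intro y
        obtain ⟨y, rfl⟩ := Submodule.Quotient.mk_surjective _ y
        refine ⟨Submodule.Quotient.mk y, ?_⟩
        rw [eltLin_mk, hmk]) (s • f) h
    exact ⟨t * s, fun h => (hp.mem_or_mem h).elim ht hs, by rw [mul_smul]; exact h'⟩
  constructor
  · rw [injective_iff_map_eq_zero]
    intro x hx
    obtain ⟨s, hs, n, f, hsx⟩ := exists_repL p x
    obtain ⟨l, hl, rfl⟩ := exists_elt p n f
    obtain ⟨a, rfl⟩ := Submodule.Quotient.mk_surjective _ l
    -- rewrite inclN n (elt n (mk a)) = a • inclN 1 (elt 1 one)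
    have h5 : inclN p n (elt p n (Submodule.Quotient.mk a : A ⧸ p) hl) =
        a • inclN p 1 (elt p 1 one hone) := by
      have h6 := inclN_elt_indep p (W := Dual.inD A (A ⧸ p)) (Submodule.Quotient.mk a : A ⧸ p) n 1 hl
        (fun b hb => hpow 1 one_ne_zero b hb _) (𝟙 _)
      rw [Category.comp_id, Category.comp_id] at h6
      rw [h6, ← map_smul, ← elt_smul p 1 a one hone (fun b hb => hpow 1 one_ne_zero b hb _)]
      congr 2
      exact hmk a
    have h7 : a • loc p W (inclN p 1 (elt p 1 one hone ≫ e)) = 0 := by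
      have h8 : Hmap p e (s • x) = 0 := by
        rw [map_smul]
        have : Hmap p e x = 0 := congrArg (fun φ => φ e) hx
        rw [this, smul_zero]
      rw [hsx, h5, map_smul, map_smul, Hmap_loc_inclN] at h8
      exact h8
    rw [← map_smul, ← map_smul, ← Linear.comp_smul] at h7
    obtain ⟨t, ht, h9⟩ := key (a • e) h7
    have ha : a ∈ p := by
      by_contra ha
      rw [smul_smul] at h9
      exact he1 (t * a) (fun h => (hp.mem_or_mem h).elim ht ha) h9
    have h10 : s • x = 0 := by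
      rw [hsx, h5]
      have : a • inclN p 1 (elt p 1 one hone) = 0 := by
        rw [← map_smul, pow_smul_quotD p 1 _ a (by rwa [pow_one]), map_zero]
      rw [this, map_zero]
    exact smul_inj p hs _ h10
  · intro ψ
    obtain ⟨s, hs, f, n, hn, h5⟩ := socle p W h1 (ψ e) (by
      intro y hy
      have : y • e = 0 := smul_hom_eq_zero (fun x => by
        have := hpow 1 one_ne_zero y (by rwa [pow_one]) x
        exact this) W e
      rw [← map_smul, this, map_zero])
    obtain ⟨s', hs', a, h6⟩ := he2 f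
    have hss' : s' * s ∉ p := fun h => (hp.mem_or_mem h).elim hs' hs
    obtain ⟨x, hx⟩ := exists_smul_eq p hss' (loc p _ (a • inclN p 1 (elt p 1 one hone)))
    have hxe : Hmap p e x = ψ e := by
      rw [← sub_eq_zero]
      refine smul_inj p hss' _ ?_
      rw [smul_sub, ← map_smul, hx, mul_smul, h5]
      have h7 : inclN p n (elt p n (Submodule.Quotient.mk 1 : A ⧸ p) hn ≫ f) =
          inclN p 1 (elt p 1 one hone ≫ f) := inclN_elt_indep p one n 1 hn hone f
      have hL : Hmap p e (loc p _ (a • inclN p 1 (elt p 1 one hone))) =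
          a • loc p W (inclN p 1 (elt p 1 one hone ≫ e)) := by
        rw [map_smul, map_smul, Hmap_loc_inclN]
      have hR : s' • loc p W (inclN p 1 (elt p 1 one hone ≫ f)) =
          a • loc p W (inclN p 1 (elt p 1 one hone ≫ e)) := by
        rw [← map_smul, ← map_smul, ← Linear.comp_smul, h6, Linear.comp_smul, map_smul, map_smul]
      rw [h7, hL, hR, sub_self]
    refine ⟨x, ?_⟩
    ext g
    obtain ⟨s'', hs'', a'', h8⟩ := he2 g
    rw [← sub_eq_zero]
    refine smul_inj p hs'' _ ?_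
    change s'' • (Hmap p g x - ψ g) = 0
    rw [smul_sub, ← Hmap_smul, h8, Hmap_smul, hxe, ← map_smul, ← map_smul, h8, sub_self]

variable (hfin : ∀ (M : Type u) [AddCommGroup M] [Module A M] [Module.Finite A M] (i : ℤ),
      Module.Finite A (Dual.inD A M ⟶ W⟦i⟧))

include h3 he1 he2 hfin in
/-- Local duality for finite modules. -/
theorem B_module (M : Type u) [AddCommGroup M] [Module A M] [Module.Finite A M] (i : ℤ) :
    B p W ((Dual.inD A M)⟦i⟧) := by
  have hW : Module.Baer A (HL p W) := baer_HL p W (h3 (-1) (by norm_num)) (h3 1 (by norm_num))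
  revert i
  refine module_devissage (A := A) (fun M _ _ => ∀ i : ℤ, B p W ((Dual.inD A M)⟦i⟧)) ?_ ?_ ?_ ?_ M
  · intro N N' _ _ _ _ e h i
    exact B.of_iso p ((shiftFunctor (Dual.D A) i).mapIso ((SF A).mapIso e.toModuleIso)) (h i)
  · intro N _ _ _ i
    refine B.of_smul_id p (s := 1) (fun h => hp.ne_top ((Ideal.eq_top_iff_one _).2 h)) ?_
    exact smul_id_shift (smul_id_inD (fun x => Subsingleton.elim _ _)) i
  · intro N₁ N₂ N₃ _ _ _ _ _ _ f g hf hg hfg h₁ h₃ i
    obtain ⟨δ, hδ⟩ := exists_triangle f g hf hg hfg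
    refine B.five p hW _ (Triangle.shift_distinguished _ hδ i) ?_ (h₁ i) (h₃ i) ?_
    · exact B.of_iso p ((shiftFunctorAdd' (Dual.D A) i (-1) (i + -1) rfl).app _) (h₃ (i + -1))
    · exact B.of_iso p ((shiftFunctorAdd' (Dual.D A) i 1 (i + 1) rfl).app _) (h₁ (i + 1))
  · intro q hq ih i
    by_cases hqp : q ≤ p
    · rcases hqp.eq_or_lt with rfl | hlt
      · have hpt : LocCoh.IsPowerTorsion q (A ⧸ q) := by
          intro x
          refine ⟨1, fun a ha => ?_⟩
          rw [pow_one] at ha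
          obtain ⟨x, rfl⟩ := Ideal.Quotient.mk_surjective x
          exact Ideal.Quotient.eq_zero_iff_mem.2 (Ideal.mul_mem_right _ _ ha)
        rcases lt_trichotomy i 0 with hi | rfl | hi
        · refine B.of_LZ q (fun x => ⟨1, fun h => hp.ne_top ((Ideal.eq_top_iff_one _).2 h), ?_⟩) ?_
          · rw [one_smul]
            exact TI_neg q (A ⧸ q) i hi x
          · exact LZ.shift_left _ _ i (-i) (by omega) (h3 (-i) (by omega))
        · exact B.of_iso q ((shiftFunctorZero (Dual.D A) ℤ).symm.app _) (B_residue q W h3 e he1 he2)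
        · refine B.of_LZ q (fun x => ⟨1, fun h => hp.ne_top ((Ideal.eq_top_iff_one _).2 h), ?_⟩) ?_
          · rw [one_smul]
            obtain ⟨k, rfl⟩ : ∃ k : ℕ, i = (k : ℤ) + 1 := ⟨(i - 1).toNat, by omega⟩
            exact TI_pos q k (A ⧸ q) hpt x
          · exact LZ.shift_left _ _ i (-i) (by omega) (h3 (-i) (by omega))
      · obtain ⟨x, hx, hxq⟩ := SetLike.exists_of_lt hlt
        have hneg : ∀ i : ℤ, i < 0 → B p W ((Dual.inD A (A ⧸ q))⟦i⟧) := by
          intro i hi
          refine B.of_LZ p (fun x => ⟨1, fun h => hp.ne_top ((Ideal.eq_top_iff_one _).2 h), ?_⟩) ?_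
          · rw [one_smul]
            exact TI_neg p (A ⧸ q) i hi x
          · exact LZ.shift_left _ _ i (-i) (by omega)
              (LZ_hom_pos W hfin (fun j hj => h3 j (by omega)) (A ⧸ q) (-i) (by omega))
        have hstep : ∀ i : ℤ, B p W ((Dual.inD A (A ⧸ q))⟦i⟧) →
            B p W ((Dual.inD A (A ⧸ q))⟦i + 1⟧) := by
          intro i hi
          refine B.of_iso p ((shiftFunctorAdd' (Dual.D A) i 1 (i + 1) rfl).symm.app _)
            (B.step p hW hi ?_ ?_)
          · intro k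
            have hxk : x ^ k ∉ q := fun h => hxq (hq.mem_of_pow_mem k h)
            obtain ⟨g, δ, hT⟩ := exists_triangle_smul (A := A) (M := A ⧸ q) (x ^ k)
              (fun m hm => quot_prime_smul hxk m hm)
            have hT' := Triangle.shift_distinguished _ hT i
            let X' := (shiftFunctor (Triangle (Dual.D A)) i).obj (Triangle.mk
              (x ^ k • 𝟙 (Dual.inD A (A ⧸ q))) g δ)
            have hB : B p W X'.obj₃ := by
              refine ih _ inferInstance ⟨q ⊔ Ideal.span {x ^ k}, ?_, ?_⟩ i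
              · refine lt_of_le_of_ne le_sup_left (fun h => hxk ?_)
                rw [h]
                exact Ideal.mem_sup_right (Ideal.mem_span_singleton_self _)
              · intro a ha y
                refine quot_smul_eq_zero' (x ^ k) ?_ a ha y
                intro a ha m
                obtain ⟨m, rfl⟩ := Ideal.Quotient.mk_surjective m
                exact Ideal.Quotient.eq_zero_iff_mem.2 (Ideal.mul_mem_right _ _ ha)
            have hmor : ∃ c ∈ p ^ k, X'.mor₁ = c • 𝟙 ((Dual.inD A (A ⧸ q))⟦i⟧) := by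
              have h0 : X'.mor₁ = i.negOnePow • ((x ^ k • 𝟙 (Dual.inD A (A ⧸ q)))⟦i⟧') := rfl
              have h0' : ((x ^ k • 𝟙 (Dual.inD A (A ⧸ q)))⟦i⟧') =
                  x ^ k • 𝟙 ((Dual.inD A (A ⧸ q))⟦i⟧) := by
                rw [Functor.map_smul, (shiftFunctor (Dual.D A) i).map_id]
              rcases Int.units_eq_one_or i.negOnePow with h | h
              · refine ⟨x ^ k, Ideal.pow_mem_pow hx k, ?_⟩
                rw [h0, h, one_smul, h0']
              · refine ⟨-x ^ k, neg_mem (Ideal.pow_mem_pow hx k), ?_⟩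
                rw [h0, h, h0', neg_smul, Units.neg_smul, one_smul]
            obtain ⟨c, hc, hcm⟩ := hmor
            refine ⟨c, hc, X'.obj₃, X'.mor₂, X'.mor₃, ?_, hB⟩
            have : Triangle.mk X'.mor₁ X'.mor₂ X'.mor₃ ∈ distTriang (Dual.D A) := hT'
            rw [hcm] at this
            exact this
          · have h5 : Module.Finite A ((Dual.inD A (A ⧸ q))⟦i + 1⟧ ⟶ W) :=
              finite_shift _ _ (i + 1) (-(i + 1)) (by omega) (hfin _ _)
            let eiso := (shiftFunctorAdd' (Dual.D A) i 1 (i + 1) rfl).app (Dual.inD A (A ⧸ q))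
            refine Module.Finite.of_surjective (pre W eiso.inv) ?_
            intro f
            refine ⟨eiso.hom ≫ f, ?_⟩
            change eiso.inv ≫ eiso.hom ≫ f = f
            rw [eiso.inv_hom_id_assoc]
        rcases lt_or_ge i 0 with hi | hi
        · exact hneg i hi
        · obtain ⟨k, rfl⟩ := Int.eq_ofNat_of_zero_le hi
          induction k with
          | zero =>
            have := hstep (-1) (hneg (-1) (by norm_num))
            exact this
          | succ k ihk =>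
            have := hstep (k : ℤ) (ihk (by omega))
            exact_mod_cast this
    · obtain ⟨s, hs, hsp⟩ := SetLike.not_le_iff_exists.1 hqp
      refine B.of_smul_id p hsp (smul_id_shift (smul_id_inD (fun x => ?_)) i)
      obtain ⟨x, rfl⟩ := Ideal.Quotient.mk_surjective x
      exact Ideal.Quotient.eq_zero_iff_mem.2 (Ideal.mul_mem_right _ _ hs)

end main

end Groth.Agent.LoccohB.LocDualMod
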