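import Groth.Agent.LoccohB.LocDualVan
import Mathlib.Algebra.Module.Injective
import Mathlib.RingTheory.Filtration
import Mathlib.Algebra.Category.ModuleCat.EnoughInjectives
import Mathlib.Algebra.Category.ModuleCat.Injective
import Mathlib.Algebra.Homology.DerivedCategory.Ext.EnoughInjectives
import Mathlib.Algebra.Homology.DerivedCategory.TStructure

/-!
# Power torsion injective modules and `T(N[i]) = 0` for `N` power torsion, `i ≠ 0`.
-/

set_option autoImplicit false
universe v w u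
open CategoryTheory Limits Opposite Pretriangulated
attribute [local instance] HasDerivedCategory.standard

namespace Groth.Agent.LoccohB.LocDualTors

open Groth.Agent.LoccohB.LocDualBasic Groth.Agent.LoccohB.LocDualDev Groth.Agent.LoccohB.LocDualVan

section baer

variable {R : Type u} [CommRing R] {Q : Type v} [AddCommGroup Q] [Module R Q]

lemma baer_extend_of_ker_le (hQ : Module.Baer R Q) {M N : Type w} [AddCommGroup M] [Module R M]
    [AddCommGroup N] [Module R N] (f : M →ₗ[R] N) (g : M →ₗ[R] Q)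
    (h : LinearMap.ker f ≤ LinearMap.ker g) : ∃ h' : N →ₗ[R] Q, ∀ x, h' (f x) = g x := by
  let g1 : LinearMap.range f →ₗ[R] Q :=
    (Submodule.liftQ (LinearMap.ker f) g h) ∘ₗ (f.quotKerEquivRange.symm).toLinearMap
  obtain ⟨h', hh'⟩ := hQ.extension_property (LinearMap.range f).subtype
    (Submodule.injective_subtype _) g1
  refine ⟨h', fun x => ?_⟩
  have h1 := congrArg (fun φ => φ (⟨f x, ⟨x, rfl⟩⟩ : LinearMap.range f)) hh'
  have h2 : f.quotKerEquivRange.symm (⟨f x, ⟨x, rfl⟩⟩ : LinearMap.range f) =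
      Submodule.Quotient.mk x := by
    rw [LinearEquiv.symm_apply_eq]
    rfl
  have h3 : g1 (⟨f x, ⟨x, rfl⟩⟩ : LinearMap.range f) = g x := by
    change (Submodule.liftQ (LinearMap.ker f) g h) (f.quotKerEquivRange.symm _) = _
    rw [h2]
    rfl
  exact h1.trans h3

/-- power torsion and finiteness: a uniform exponent. -/
lemma exists_pow_smul_eq_zero {I : Ideal R} (hQ : LocCoh.IsPowerTorsion I Q) {M : Type w}
    [AddCommGroup M] [Module R M] [Module.Finite R M] (φ : M →ₗ[R] Q) :
    ∃ n : ℕ, ∀ a ∈ I ^ n, ∀ m : M, a • φ m = 0 := by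
  obtain ⟨S, hS⟩ := (Module.finite_def (R := R) (M := M)).1 inferInstance
  choose n hn using fun m : M => hQ (φ m)
  refine ⟨S.sup n, fun a ha m => ?_⟩
  have hm : m ∈ Submodule.span R (S : Set M) := by rw [hS]; trivial
  induction hm using Submodule.span_induction with
  | mem x hx => exact hn x a (Ideal.pow_le_pow_right (Finset.le_sup (f := n) hx) ha)
  | zero => rw [map_zero, smul_zero]
  | add x y _ _ hx hy => rw [map_add, smul_add, hx, hy, add_zero]
  | smul r x _ hx => rw [map_smul, smul_comm, hx, smul_zero]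

/-- Baer test for power torsion modules over a Noetherian ring. -/
lemma baer_of_torsion [IsNoetherianRing R] (I : Ideal R) (hQ : LocCoh.IsPowerTorsion I Q)
    (h : ∀ (n : ℕ) (L : Submodule R (R ⧸ I ^ n)) (g : L →ₗ[R] Q),
      ∃ g' : (R ⧸ I ^ n) →ₗ[R] Q, ∀ x : L, g' x = g x) : Module.Baer R Q := by
  intro 𝔞 g
  obtain ⟨n, hn⟩ := exists_pow_smul_eq_zero hQ g
  obtain ⟨k, hk⟩ := I.exists_pow_inf_eq_pow_smul (M := R) 𝔞
  have hAR : ∀ (x : R) (hx : x ∈ 𝔞), x ∈ I ^ (n + k) → g ⟨x, hx⟩ = 0 := by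
    intro x hx hxI
    have h1 : x ∈ (I ^ (n + k) • ⊤ ⊓ 𝔞 : Submodule R R) := ⟨by simpa using hxI, hx⟩
    rw [hk (n + k) (Nat.le_add_left _ _), Nat.add_sub_cancel] at h1
    have h2 : x ∈ (I ^ n • 𝔞 : Submodule R R) := Submodule.smul_mono le_rfl inf_le_right h1
    have h3 : ∀ (y : R) (hy : y ∈ (I ^ n • 𝔞 : Submodule R R)),
        ∃ hy' : y ∈ 𝔞, g ⟨y, hy'⟩ = 0 := by
      intro y hy
      induction hy using Submodule.smul_induction_on' with
      | smul r hr z hz =>
        refine ⟨Submodule.smul_mem 𝔞 r hz, ?_⟩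
        have : (⟨r • z, Submodule.smul_mem 𝔞 r hz⟩ : 𝔞) = r • ⟨z, hz⟩ := rfl
        rw [this, map_smul]
        exact hn r hr _
      | add y _ z _ hy hz =>
        obtain ⟨hy1, hy2⟩ := hy
        obtain ⟨hz1, hz2⟩ := hz
        refine ⟨Submodule.add_mem 𝔞 hy1 hz1, ?_⟩
        have : (⟨y + z, Submodule.add_mem 𝔞 hy1 hz1⟩ : 𝔞) = ⟨y, hy1⟩ + ⟨z, hz1⟩ := rfl
        rw [this, map_add, hy2, hz2, add_zero]
    obtain ⟨_, h4⟩ := h3 x h2
    exact h4
  let ψ : 𝔞 →ₗ[R] (R ⧸ I ^ (n + k)) := (Submodule.mkQ (I ^ (n + k))) ∘ₗ 𝔞.subtype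
  have hker : LinearMap.ker ψ ≤ LinearMap.ker g := by
    rintro ⟨x, hx⟩ hx'
    refine hAR x hx ?_
    have : Submodule.mkQ (I ^ (n + k)) x = 0 := hx'
    exact (Submodule.Quotient.mk_eq_zero _).1 this
  -- descend g to range ψ
  let g1 : LinearMap.range ψ →ₗ[R] Q :=
    (Submodule.liftQ (LinearMap.ker ψ) g hker) ∘ₗ (ψ.quotKerEquivRange.symm).toLinearMap
  obtain ⟨g', hg'⟩ := h (n + k) (LinearMap.range ψ) g1
  refine ⟨g' ∘ₗ Submodule.mkQ (I ^ (n + k)), fun x hx => ?_⟩
  have h2 : ψ.quotKerEquivRange.symm (⟨ψ ⟨x, hx⟩, ⟨⟨x, hx⟩, rfl⟩⟩ : LinearMap.range ψ) =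
      Submodule.Quotient.mk ⟨x, hx⟩ := by
    rw [LinearEquiv.symm_apply_eq]
    rfl
  have h3 : g1 (⟨ψ ⟨x, hx⟩, ⟨⟨x, hx⟩, rfl⟩⟩ : LinearMap.range ψ) = g ⟨x, hx⟩ := by
    change (Submodule.liftQ (LinearMap.ker ψ) g hker) (ψ.quotKerEquivRange.symm _) = _
    rw [h2]
    rfl
  exact (hg' _).trans h3

/-- the submodule of `I`-power torsion elements (any universe). -/
def tors (I : Ideal R) (Q : Type v) [AddCommGroup Q] [Module R Q] : Submodule R Q where
  carrier := {m | ∃ n : ℕ, ∀ a ∈ I ^ n, a • m = 0}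
  zero_mem' := ⟨0, fun a _ => smul_zero a⟩
  add_mem' := by
    rintro m m' ⟨n, hn⟩ ⟨n', hn'⟩
    refine ⟨n + n', fun a ha => ?_⟩
    rw [smul_add, hn a (Ideal.pow_le_pow_right (Nat.le_add_right n n') ha),
      hn' a (Ideal.pow_le_pow_right (Nat.le_add_left n' n) ha), add_zero]
  smul_mem' := by
    rintro c m ⟨n, hn⟩
    exact ⟨n, fun a ha => by rw [smul_comm, hn a ha, smul_zero]⟩

lemma isPowerTorsion_tors (I : Ideal R) : LocCoh.IsPowerTorsion I (tors I Q) := by
  rintro ⟨m, n, hn⟩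
  exact ⟨n, fun a ha => Subtype.ext (hn a ha)⟩

/-- S0301-like: over a Noetherian ring the power torsion submodule of an injective module is injective. -/
lemma baer_tors [IsNoetherianRing R] (hQ : Module.Baer R Q) (I : Ideal R) :
    Module.Baer R (tors I Q) := by
  refine baer_of_torsion I (isPowerTorsion_tors I) ?_
  intro n L g
  obtain ⟨g', hg'⟩ := hQ.extension_property L.subtype (Submodule.injective_subtype _)
    ((tors I Q).subtype ∘ₗ g)
  have hmem : ∀ y, g' y ∈ tors I Q := by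
    intro y
    refine ⟨n, fun a ha => ?_⟩
    obtain ⟨y, rfl⟩ := Ideal.Quotient.mk_surjective y
    rw [← map_smul]
    have : a • (Ideal.Quotient.mk (I ^ n)) y = 0 :=
      Ideal.Quotient.eq_zero_iff_mem.2 (Ideal.mul_mem_right _ _ ha)
    rw [this, map_zero]
  refine ⟨g'.codRestrict (tors I Q) hmem, fun x => Subtype.ext ?_⟩
  exact congrArg (fun φ => φ x) hg'

/-- embedding of a power torsion module in a power torsion injective module. -/
lemma exists_embedding [IsNoetherianRing R] (I : Ideal R) (N : Type u) [AddCommGroup N] [Module R N]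
    (hN : LocCoh.IsPowerTorsion I N) :
    ∃ (E : Type u) (_ : AddCommGroup E) (_ : Module R E) (f : N →ₗ[R] E),
      LocCoh.IsPowerTorsion I E ∧ Module.Injective R E ∧ Function.Injective f := by
  obtain ⟨⟨J, hJinj, ι, hmono⟩⟩ := (inferInstance : EnoughInjectives (ModuleCat.{u} R)).presentation
    (ModuleCat.of R N)
  have hJ : Module.Injective R J := by
    have : CategoryTheory.Injective (ModuleCat.of R J) := hJinj
    exact Module.injective_module_of_injective_object R J
  have hι : Function.Injective ι.hom := (ModuleCat.mono_iff_injective ι).1 hmono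
  refine ⟨tors I J, inferInstance, inferInstance, ι.hom.codRestrict (tors I J) ?_,
    isPowerTorsion_tors I, (baer_tors (Module.Baer.of_injective hJ) I).injective, ?_⟩
  · intro x
    obtain ⟨n, hn⟩ := hN x
    refine ⟨n, fun a ha => ?_⟩
    rw [← map_smul, hn a ha, map_zero]
  · intro x y hxy
    exact hι (congrArg Subtype.val hxy)

end baer

section hom

variable {A : Type u} [CommRing A]

lemma subsingleton_hom_neg (X N : Type u) [AddCommGroup X] [Module A X] [AddCommGroup N] [Module A N]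
    (i : ℤ) (hi : i < 0) : Subsingleton (Dual.inD A X ⟶ (Dual.inD A N)⟦i⟧) := by
  refine ⟨fun f g => ?_⟩
  have h1 : DerivedCategory.TStructure.t.IsLE (Dual.inD A X) 0 :=
    inferInstanceAs (((DerivedCategory.singleFunctor (ModuleCat.{u} A) 0).obj (ModuleCat.of A X)).IsLE 0)
  have h2 : DerivedCategory.TStructure.t.IsGE ((Dual.inD A N)⟦i⟧) (-i) := by
    have h3 : DerivedCategory.TStructure.t.IsGE (Dual.inD A N) 0 :=
      inferInstanceAs (((DerivedCategory.singleFunctor (ModuleCat.{u} A) 0).obj (ModuleCat.of A N)).IsGE 0)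
    exact DerivedCategory.TStructure.t.isGE_shift _ 0 i (-i) (by omega)
  rw [DerivedCategory.TStructure.t.zero f 0 (-i) (by omega),
    DerivedCategory.TStructure.t.zero g 0 (-i) (by omega)]

lemma subsingleton_hom_injective (X J : Type u) [AddCommGroup X] [Module A X] [AddCommGroup J]
    [Module A J] (hJ : Module.Injective A J) (i : ℤ) (hi : 0 < i) :
    Subsingleton (Dual.inD A X ⟶ (Dual.inD A J)⟦i⟧) := by
  obtain ⟨n, rfl⟩ : ∃ n : ℕ, i = ((n + 1 : ℕ) : ℤ) := ⟨(i - 1).toNat, by omega⟩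
  have : CategoryTheory.Injective (ModuleCat.of A J) := Module.injective_object_of_injective_module A J
  have h1 : Subsingleton (Abelian.Ext (ModuleCat.of A X) (ModuleCat.of A J) (n + 1)) :=
    Abelian.Ext.subsingleton_of_injective _ _ n
  exact (Abelian.Ext.homEquiv (X := ModuleCat.of A X) (Y := ModuleCat.of A J) (n := n + 1)).symm.subsingleton

end hom

end Groth.Agent.LoccohB.LocDualTors
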