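import Groth.Agent.LoccohB.HDIBasic
import Groth.Agent.LoccohB.LocDualElt
import Groth.Agent.LoccohB.KInjD
import Groth.Agent.LoccohB.InjRep
import Groth.Agent.LoccohB.FinInj
import Groth.Agent.PerfA.HomologyLinear
import Groth.Agent.S1812
import Groth.Agent.S1813

/-!
# Vanishing statements for unbounded complexes

* `hdi_vanish`: `H^j_I(K) = 0` for `j > c + r` if `H^i(K) = 0` for `i > c` and `I` has `r` generators.
* `hom_eq_zero_of_injRange`: `Hom(K, ω[j]) = 0` if `K ∈ D^{≥ s}`, `ω` of injective amplitude `[a, b]`, `b < j + s`.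
-/

set_option autoImplicit false
universe v w u
open CategoryTheory Limits Opposite Pretriangulated
attribute [local instance] HasDerivedCategory.standard

namespace Groth.Agent.LoccohB.LocDualVanish

open Groth.Agent.LoccohB.LocTri Groth.Agent.LoccohB.HDIBasic

variable {A : Type u} [CommRing A]

lemma smul_homology_bijective (f : A) (C : Dual.D A) (hC : IsIso (f • 𝟙 C)) (i : ℤ) :
    Function.Bijective (fun x : Dual.HD A C i => f • x) := by
  have h1 : IsIso ((DerivedCategory.homologyFunctor (ModuleCat.{u} A) i).map (f • 𝟙 C)) := inferInstance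
  have h2 := (ConcreteCategory.isIso_iff_bijective _).1 h1
  have h3 : (DerivedCategory.homologyFunctor (ModuleCat.{u} A) i).map (f • 𝟙 C) =
      f • 𝟙 ((DerivedCategory.homologyFunctor (ModuleCat.{u} A) i).obj C) :=
    Groth.Agent.PerfA.HomologyLinear.homologyFunctor_map_smul_id C f i
  rw [h3] at h2
  exact h2

/-- Vanishing step. -/
lemma zero_step {G K C : Dual.D A} {α : G ⟶ K} {β : K ⟶ C} {γ : C ⟶ G⟦(1 : ℤ)⟧}
    (hT : Triangle.mk α β γ ∈ distTriang (Dual.D A)) (f : A) (hC : IsIso (f • 𝟙 C)) (n₀ n₁ : ℤ)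
    (h : n₀ + 1 = n₁) (hG : ElTor f (Dual.HD A G n₁)) (h₀ : Subsingleton (Dual.HD A K n₀))
    (h₁ : Subsingleton (Dual.HD A K n₁)) : Subsingleton (Dual.HD A G n₁) := by
  have e1 := DerivedCategory.HomologySequence.exact₁ _ hT n₀ n₁ h
  have e3 := DerivedCategory.HomologySequence.exact₃ _ hT n₀ n₁ h
  rw [ShortComplex.moduleCat_exact_iff] at e1 e3
  refine subsingleton_of_forall_eq 0 fun x => ?_
  obtain ⟨y, hy⟩ := e1 x (@Subsingleton.elim _ h₁ _ _)
  obtain ⟨k, hk⟩ := hG x
  obtain ⟨z, hz⟩ := e3 (f ^ k • y) (by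
    rw [map_smul]
    exact (congrArg (fun w => f ^ k • w) hy).trans hk)
  have hz0 : z = 0 := @Subsingleton.elim _ h₀ _ _
  rw [hz0, map_zero] at hz
  have hy0 : y = 0 := by
    have key : ∀ (m : ℕ) (w : Dual.HD A C n₀), f ^ m • w = 0 → w = 0 := by
      intro m
      induction m with
      | zero => intro w hw; simpa using hw
      | succ m ih =>
        intro w hw
        apply ih
        apply (smul_homology_bijective f C hC n₀).1
        change f • f ^ m • w = f • (0 : Dual.HD A C n₀)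
        rw [smul_smul, ← pow_succ', hw, smul_zero]
    exact key k y hz.symm
  rw [← hy, hy0]
  exact map_zero _

/-- Iterating the localization triangle, keeping track of bounds. -/
theorem exists_torsion_bounded (l : List A) (K : Dual.D A) (c : ℤ)
    (hK : ∀ j : ℤ, c < j → Subsingleton (Dual.HD A K j)) :
    ∃ G : Dual.D A, (∀ f ∈ l, ∀ i, ElTor f (Dual.HD A G i)) ∧
      (∀ j : ℤ, c + l.length < j → Subsingleton (Dual.HD A G j)) ∧
      ∀ I : Ideal A, (∀ f ∈ l, f ∈ I) → ∀ j : ℤ,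
        Nonempty (Dual2.HDI A I G j ≅ Dual2.HDI A I K j) := by
  induction l with
  | nil => exact ⟨K, by simp, by simpa using hK, fun _ _ _ => ⟨Iso.refl _⟩⟩
  | cons f l ih =>
    obtain ⟨G₁, h₁, h₂, h₃⟩ := ih
    obtain ⟨G, C, α, β, γ, hT, hC, hG₁, hG₂⟩ := exists_locTri f G₁
    refine ⟨G, ?_, ?_, ?_⟩
    · intro g hg
      rcases List.mem_cons.1 hg with rfl | hg
      · exact hG₁
      · exact hG₂ g (h₁ g hg)
    · intro j hj
      rw [List.length_cons] at hj
      push_cast at hj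
      exact zero_step hT f hC (j - 1) j (by omega) (hG₁ j) (h₂ _ (by omega)) (h₂ _ (by omega))
    · intro I hI j
      have := isIso_hdiMap_of_tri I hT (fun n j =>
        subsingleton_of_isIso I f (hI f List.mem_cons_self) C hC n j) j
      obtain ⟨e⟩ := h₃ I (fun g hg => hI g (List.mem_cons_of_mem _ hg)) j
      exact ⟨asIso (hdiMap I α j) ≪≫ e⟩

/-- Local cohomology of complexes bounded above vanishes in large degrees. -/
theorem hdi_vanish [IsNoetherianRing A] (l : List A) (K : Dual.D A) (c : ℤ)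
    (hK : ∀ j : ℤ, c < j → Subsingleton (Dual.HD A K j)) (j : ℤ) (hj : c + l.length < j) :
    Subsingleton (Dual2.HDI A (Ideal.span {x | x ∈ l}) K j) := by
  obtain ⟨G, h1, h2, h3⟩ := exists_torsion_bounded l K c hK
  obtain ⟨e⟩ := h3 (Ideal.span {x | x ∈ l}) (fun f hf => Ideal.subset_span hf) j
  have htors : ∀ i : ℤ, LocCoh.IsPowerTorsion (Ideal.span {x | x ∈ l}) (Dual.HD A G i) :=
    fun i => isPowerTorsion_of_elTor l _ rfl _ (fun f hf => h1 f hf i)
  have hiso := Groth.Agent.S1813.result A (Ideal.span {x | x ∈ l}) G htors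
  obtain ⟨e2⟩ := Groth.Agent.S1812.result A (Ideal.span {x | x ∈ l}) (IsNoetherian.noetherian _) G j
  let e3 := (DerivedCategory.homologyFunctor (ModuleCat.{u} A) j).mapIso
    (asIso ((DRing.RgammaIε (Ideal.span {x | x ∈ l})).app G))
  have h4 : Subsingleton (Dual.HD A G j) := h2 j hj
  have h5 : Subsingleton (Dual.HD A ((DRing.RgammaI (Ideal.span {x | x ∈ l})).obj G) j) :=
    @Equiv.subsingleton _ _ e3.toLinearEquiv.toEquiv h4
  have h6 : Subsingleton (Dual2.HDI A (Ideal.span {x | x ∈ l}) G j) := e2.symm.toEquiv.subsingleton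
  exact e.toLinearEquiv.symm.toEquiv.subsingleton

open DerivedCategory CochainComplex HomComplex

/-- `Hom(K, ω[j]) = 0` if `K ∈ D^{≥ s}`, `ω` of injective amplitude `[a, b]`, `b < j + s`. -/
theorem hom_eq_zero_of_injRange (ω : Dual.D A) (a b : ℤ)
    (h : ∀ (M : Type u) [AddCommGroup M] [Module A M] (i : ℤ), (i < a ∨ b < i) →
      Subsingleton (Dual.inD A M ⟶ ω⟦i⟧)) (K : Dual.D A) (s j : ℤ) (hK : K.IsGE s)
    (hj : b < s + j) : Subsingleton (K ⟶ ω⟦j⟧) := by
  obtain ⟨J, hJ1, hJ2, hJ3, ⟨e⟩⟩ :=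
    Groth.Agent.LoccohB.InjRep.exists_injective_representative_of_subsingleton ω a b h
  have hJ4 : J.IsKInjective := CochainComplex.isKInjective_of_injective J a
  obtain ⟨L, hL, ⟨eK⟩⟩ := DerivedCategory.exists_iso_Q_obj_of_isGE K s
  refine subsingleton_of_forall_eq 0 fun f => ?_
  obtain ⟨z, hz⟩ := Groth.Agent.LoccohB.InjRep.ofCocycle_surjective_of_isKInjective (K := L) (L := J)
    (n := j) (eK.inv ≫ f ≫ e.inv⟦j⟧')
  have hz0 : z = 0 := by
    refine Cocycle.ext (Cochain.ext _ _ fun p q hpq => ?_)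
    by_cases hp : p < s
    · exact (L.isZero_of_isStrictlyGE s p hp).eq_of_src _ _
    · exact (J.isZero_of_isStrictlyLE b q (by omega)).eq_of_tgt _ _
  rw [hz0, Groth.Agent.LoccohB.InjRep.ofCocycle_zero] at hz
  have h5 : eK.hom ≫ (eK.inv ≫ f ≫ e.inv⟦j⟧') ≫ e.hom⟦j⟧' = 0 := by
    rw [← hz, zero_comp, comp_zero]
  rw [Category.assoc, Category.assoc, ← Functor.map_comp, e.inv_hom_id,
    CategoryTheory.Functor.map_id, Category.comp_id, eK.hom_inv_id_assoc] at h5
  exact h5

end Groth.Agent.LoccohB.LocDualVanish
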