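import Groth.Agent.LoccohB.LocDualHull
import Groth.Agent.LoccohB.LocDualVanish
import Groth.Agent.Localalg.Matlis5

/-!
# Local duality over a complete local ring for complexes with finite cohomology
-/

set_option autoImplicit false
universe v w u
open CategoryTheory Limits Opposite Pretriangulated
attribute [local instance] HasDerivedCategory.standard

namespace Groth.Agent.LoccohB.LocDualUnb

open Groth.Agent.LoccohB.LocDualBasic Groth.Agent.LoccohB.LocDualDev Groth.Agent.LoccohB.LocDualVan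
  Groth.Agent.LoccohB.LocDualTors Groth.Agent.LoccohB.LocDualElt Groth.Agent.LoccohB.LocDualLoc
  Groth.Agent.LoccohB.LocDualInj Groth.Agent.LoccohB.LocDualBaer Groth.Agent.LoccohB.LocDualMod
  Groth.Agent.LoccohB.LocDualCx Groth.Agent.LoccohB.LocDualFinal Groth.Agent.LoccohB.LocDualHull
  Groth.Agent.LoccohB.LocDualVanish
open IsLocalRing

section tri

variable {A : Type u} [CommRing A] (X : Triangle (Dual.D A)) (hX : X ∈ distTriang (Dual.D A))
include hX

lemma pre_bijective₁ (W : Dual.D A) (h : Subsingleton (X.obj₃ ⟶ W))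
    (h' : Subsingleton (X.obj₃⟦(-1 : ℤ)⟧ ⟶ W)) : Function.Bijective (pre W X.mor₁) := by
  constructor
  · rw [injective_iff_map_eq_zero]
    intro f hf
    obtain ⟨g, hg⟩ := X.yoneda_exact₂ hX f hf
    rw [hg, @Subsingleton.elim _ h g 0, comp_zero]
  · intro f
    obtain ⟨g, hg⟩ := X.invRotate.yoneda_exact₂ (inv_rot_of_distTriang _ hX) f
      (@Subsingleton.elim _ h' _ _)
    exact ⟨g, hg.symm⟩

lemma pre_bijective₂ (W : Dual.D A) (h : Subsingleton (X.obj₁ ⟶ W))
    (h' : Subsingleton (X.obj₁⟦(1 : ℤ)⟧ ⟶ W)) : Function.Bijective (pre W X.mor₂) := by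
  constructor
  · rw [injective_iff_map_eq_zero]
    intro f hf
    obtain ⟨g, hg⟩ := X.yoneda_exact₃ hX f hf
    rw [hg, @Subsingleton.elim _ h' g 0, comp_zero]
  · intro f
    obtain ⟨g, hg⟩ := X.yoneda_exact₂ hX f (@Subsingleton.elim _ h _ _)
    exact ⟨g, hg.symm⟩

lemma TI_bijective₁ (I : Ideal A) (h : Subsingleton ((TI I).obj X.obj₃))
    (h' : Subsingleton ((TI I).obj (X.obj₃⟦(-1 : ℤ)⟧))) :
    Function.Bijective ((TI I).map X.mor₁).hom := by
  constructor
  · rw [injective_iff_map_eq_zero]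
    intro x hx
    obtain ⟨w, hw⟩ := T_exact (Dg I) X.invRotate (inv_rot_of_distTriang _ hX) x hx
    rw [← hw, @Subsingleton.elim _ h' w 0]
    exact map_zero _
  · intro y
    exact T_exact (Dg I) X hX y (@Subsingleton.elim _ h _ _)

lemma TI_bijective₂ (I : Ideal A) (h : Subsingleton ((TI I).obj X.obj₁))
    (h' : Subsingleton ((TI I).obj (X.obj₁⟦(1 : ℤ)⟧))) :
    Function.Bijective ((TI I).map X.mor₂).hom := by
  constructor
  · rw [injective_iff_map_eq_zero]
    intro x hx
    obtain ⟨w, hw⟩ := T_exact (Dg I) X hX x hx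
    rw [← hw, @Subsingleton.elim _ h w 0]
    exact map_zero _
  · intro y
    exact T_exact (Dg I) X.rotate (rot_of_distTriang _ hX) y (@Subsingleton.elim _ h' _ _)

end tri

section van

variable {A : Type u} [CommRing A]

/-- `T_I(K) = 0` for `K ∈ D^{≥ 1}`. -/
lemma TI_isGE (I : Ideal A) (K : Dual.D A) (s : ℤ) (hs : 0 < s) (hK : K.IsGE s) :
    Subsingleton ((TI I).obj K) := by
  refine subsingleton_of_forall_eq 0 fun x => ?_
  obtain ⟨n, f, rfl⟩ := exists_repN I x
  have h1 : Subsingleton (Dual.inD A (A ⧸ I ^ n) ⟶ K⟦(0 : ℤ)⟧) :=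
    Groth.Agent.LoccohB.FinInj.subsingleton_of_isGE (A ⧸ I ^ n) K s 0 hs
  have h2 : f = 0 := by
    have h3 : f ≫ (shiftFunctorZero (Dual.D A) ℤ).inv.app K = 0 := Subsingleton.elim _ _
    have h4 := congrArg (fun z => z ≫ (shiftFunctorZero (Dual.D A) ℤ).hom.app K) h3
    simpa using h4
  rw [h2]
  exact map_zero (inclN I n)

/-- `T_I(K) = 0` for `K ∈ D^{≤ c}`, `c + r < 0`. -/
lemma TI_isLE [IsNoetherianRing A] (l : List A) (K : Dual.D A) (c : ℤ) (hc : c + l.length < 0)
    (hK : K.IsLE c) : Subsingleton ((TI (Ideal.span {x | x ∈ l})).obj K) := by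
  have h1 : ∀ j : ℤ, c < j → Subsingleton (Dual.HD A K j) := by
    intro j hj
    have := K.isZero_of_isLE c j hj
    exact ModuleCat.subsingleton_of_isZero this
  have h2 := hdi_vanish l K c h1 0 hc
  exact @Equiv.subsingleton _ _ (TIcongr (Ideal.span {x | x ∈ l})
    ((shiftFunctorZero (Dual.D A) ℤ).app K)).symm.toEquiv h2

end van

section fin

variable {A : Type u} [CommRing A] [IsNoetherianRing A] (W : Dual.D A)
  (hfin : ∀ (M : Type u) [AddCommGroup M] [Module A M] [Module.Finite A M] (i : ℤ),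
      Module.Finite A (Dual.inD A M ⟶ W⟦i⟧))

/-- all `Hom(K, W[j])` are finite. -/
def allFin : ObjectProperty (Dual.D A) := fun K => ∀ j : ℤ, Module.Finite A (K ⟶ W⟦j⟧)

omit [IsNoetherianRing A] in
lemma finite_of_iso {K L L' : Dual.D A} (e : K ≅ L) (h : Module.Finite A (K ⟶ L')) :
    Module.Finite A (L ⟶ L') :=
  Module.Finite.equiv (Linear.homCongr A e (Iso.refl L'))

omit [IsNoetherianRing A] in
lemma finite_of_iso_right {K L L' : Dual.D A} (e : L ≅ L') (h : Module.Finite A (K ⟶ L)) :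
    Module.Finite A (K ⟶ L') :=
  Module.Finite.equiv (Linear.homCongr A (Iso.refl K) e)

instance : (allFin W).IsClosedUnderIsomorphisms where
  of_iso e h j := finite_of_iso e (h j)

include hfin in
/-- finiteness of `Hom(K, W[j])` for `K` bounded with finite cohomology. -/
theorem finite_complex (K : Dual.D A) (c d : ℤ) (hc : K.IsGE c) (hd : K.IsLE d)
    (hK : ∀ i : ℤ, Module.Finite A (Dual.HD A K i)) (j : ℤ) : Module.Finite A (K ⟶ W⟦j⟧) := by
  revert j
  refine Groth.Agent.LoccohB.Devissage.devissage (allFin W) ?_ ?_ K c d ?_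
  · intro Z hZ j
    have : Subsingleton (Z ⟶ W⟦j⟧) := ⟨fun f g => hZ.eq_of_src f g⟩
    infer_instance
  · intro X hX h₁ h₃ j
    have h1 := h₁ j
    have h3 := h₃ j
    have := Groth.Agent.LoccohB.FinInj.isNoetherian_middle X hX (W⟦j⟧)
      (isNoetherian_of_isNoetherianRing_of_finite A _) (isNoetherian_of_isNoetherianRing_of_finite A _)
    infer_instance
  · intro k j
    have h1 := hK k
    have h2 : Module.Finite A (Dual.inD A ((DerivedCategory.homologyFunctor (ModuleCat.{u} A) k).obj K)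
        ⟶ W⟦j + k⟧) := hfin ((DerivedCategory.homologyFunctor (ModuleCat.{u} A) k).obj K) (j + k)
    exact finite_of_iso (singleIso ((DerivedCategory.homologyFunctor (ModuleCat.{u} A) k).obj K) k)
      (finite_shift _ _ (-k) k (by omega)
        (finite_of_iso_right ((shiftFunctorAdd' (Dual.D A) j k (j + k) rfl).app W) h2))

end fin

section bounded

variable {A : Type u} [CommRing A] [IsLocalRing A] [IsNoetherianRing A]
  [IsAdicComplete (maximalIdeal A) A]

/-- The bounded case. -/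
theorem bounded (ω : Dual.D A) (hω : Dual.IsDualizing A ω) (hn : Dual.IsNormalized A ω)
    (E : Type u) [AddCommGroup E] [Module A E]
    (f : ResidueField A →ₗ[A] E) (hf : InjHull.IsInjectiveHull f) (K : Dual.D A)
    (c d : ℤ) (hc : K.IsGE c) (hd : K.IsLE d)
    (hK : ∀ i : ℤ, Module.Finite A (Dual.HD A K i)) :
    Nonempty ((K ⟶ ω) ≃ₗ[A] ((TI (maximalIdeal A)).obj K →ₗ[A] E)) := by
  obtain ⟨h3, ⟨e, he1, he2⟩, hfin⟩ := normData ω hω hn
  obtain ⟨ψ⟩ := nonempty_equiv_HL ω h3 e he1 he2 E f hf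
  have hB0 := B_complex (maximalIdeal A) ω h3 e he1 he2 hfin K c d hc hd hK 0
  have hB : B (maximalIdeal A) ω K :=
    B.of_iso (maximalIdeal A) ((shiftFunctorZero (Dual.D A) ℤ).app K) hB0
  have hX0 := finite_complex ω hfin K c d hc hd hK 0
  have hX : Module.Finite A (K ⟶ ω) :=
    finite_of_iso_right ((shiftFunctorZero (Dual.D A) ℤ).app ω) hX0
  let e1 : HL (maximalIdeal A) K ≃ₗ[A] ((K ⟶ ω) →ₗ[A] E) :=
    (LinearEquiv.ofBijective _ hB).trans (LinearEquiv.congrRight ψ.symm)
  let e2 : (TI (maximalIdeal A)).obj K ≃ₗ[A] ((K ⟶ ω) →ₗ[A] E) := (locEquiv K).trans e1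
  have h4 := Groth.Agent.Localalg.Matlis.applyₗ_bijective_of_finite hf (K ⟶ ω)
  exact ⟨(LinearEquiv.ofBijective _ h4).trans (LinearEquiv.congrLeft E A e2.symm)⟩

omit [IsLocalRing A] [IsNoetherianRing A] [IsAdicComplete (maximalIdeal A) A] in
lemma subsingleton_of_iso_right {K L L' : Dual.D A} (e : L ≅ L') (h : Subsingleton (K ⟶ L)) :
    Subsingleton (K ⟶ L') := (Linear.homCongr A (Iso.refl K) e).symm.toEquiv.subsingleton

/-- Local duality for complexes with finite cohomology, bounded above. -/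
theorem boundedAbove (ω : Dual.D A) (hω : Dual.IsDualizing A ω) (hn : Dual.IsNormalized A ω)
    (E : Type u) [AddCommGroup E] [Module A E]
    (f : ResidueField A →ₗ[A] E) (hf : InjHull.IsInjectiveHull f) (K : Dual.D A) (d : ℤ)
    (hd : K.IsLE d)
    (hK : ∀ i : ℤ, Module.Finite A (Dual.HD A K i)) :
    Nonempty ((K ⟶ ω) ≃ₗ[A] ((TI (maximalIdeal A)).obj K →ₗ[A] E)) := by
  obtain ⟨a, b, hab⟩ := hω.finite_injective_dimension
  -- generators of `m`
  obtain ⟨S, hS⟩ := (IsNoetherian.noetherian (maximalIdeal A) : (maximalIdeal A).FG)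
  have hl : Ideal.span {x | x ∈ S.toList} = maximalIdeal A := by
    rw [← hS]
    congr 1
    ext x
    simp
  have hωa : ω.IsGE a := by
    rw [DerivedCategory.isGE_iff]
    intro i hi
    exact Groth.Agent.LoccohB.InjRep.isZero_homology_of_subsingleton ω i (hab A i (Or.inl hi))
  -- lower truncation
  obtain ⟨t, ht1, ht2⟩ : ∃ t : ℤ, t < a ∧ t + S.toList.length < 0 :=
    ⟨min (a - 1) (-1 - S.toList.length), by omega, by omega⟩
  obtain ⟨Y, hY, hY2, hY1le, hY3ge, hY1iso, hY3iso⟩ :=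
    Groth.Agent.LoccohB.Devissage.exists_trunc K t (t + 1) rfl
  subst hY2
  have hY1le' : (Y.obj₁⟦(1 : ℤ)⟧).IsLE (t - 1) :=
    DerivedCategory.TStructure.t.isLE_shift Y.obj₁ t 1 (t - 1) (by omega)
  have hYle : Y.obj₃.IsLE (max t d) := by
    rw [DerivedCategory.isLE_iff]
    intro i hi
    have := hY3iso i (by omega)
    exact (Y.obj₂.isZero_of_isLE d i (by omega)).of_iso
      (asIso ((DerivedCategory.homologyFunctor (ModuleCat.{u} A) i).map Y.mor₂)).symm
  have hYfin : ∀ i : ℤ, Module.Finite A (Dual.HD A Y.obj₃ i) := by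
    intro i
    by_cases hi : t + 1 ≤ i
    · have h1 := hY3iso i hi
      have := hK i
      exact Module.Finite.equiv (asIso ((DerivedCategory.homologyFunctor
        (ModuleCat.{u} A) i).map Y.mor₂)).toLinearEquiv
    · have h1 : Subsingleton (Dual.HD A Y.obj₃ i) :=
        ModuleCat.subsingleton_of_isZero (Y.obj₃.isZero_of_isGE (t + 1) i (by omega))
      infer_instance
  have hTI := TI_bijective₂ Y hY (maximalIdeal A)
    (by rw [← hl]; exact TI_isLE S.toList _ t ht2 hY1le)
    (by rw [← hl]; exact TI_isLE S.toList _ (t - 1) (by omega) hY1le')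
  have hpre := pre_bijective₂ Y hY ω
    ⟨fun g g' => (sub_eq_zero.1
      (DerivedCategory.TStructure.t.zero_of_isLE_of_isGE (g - g') t a ht1 hY1le hωa))⟩
    ⟨fun g g' => (sub_eq_zero.1
      (DerivedCategory.TStructure.t.zero_of_isLE_of_isGE (g - g') (t - 1) a (by omega) hY1le' hωa))⟩
  obtain ⟨e⟩ := bounded ω hω hn E f hf Y.obj₃ (t + 1) (max t d) hY3ge hYle hYfin
  exact ⟨((LinearEquiv.ofBijective _ hpre).symm.trans e).trans
    (LinearEquiv.congrLeft E A (LinearEquiv.ofBijective _ hTI).symm)⟩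

/-- Local duality for all complexes with finite cohomology. -/
theorem unbounded (ω : Dual.D A) (hω : Dual.IsDualizing A ω) (hn : Dual.IsNormalized A ω)
    (E : Type u) [AddCommGroup E] [Module A E]
    (f : ResidueField A →ₗ[A] E) (hf : InjHull.IsInjectiveHull f) (K : Dual.D A)
    (hK : ∀ i : ℤ, Module.Finite A (Dual.HD A K i)) :
    Nonempty ((K ⟶ ω) ≃ₗ[A] ((TI (maximalIdeal A)).obj K →ₗ[A] E)) := by
  obtain ⟨a, b, hab⟩ := hω.finite_injective_dimension
  -- upper truncation
  obtain ⟨X, hX, hX2, hX1le, hX3ge, hX1iso, hX3iso⟩ :=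
    Groth.Agent.LoccohB.Devissage.exists_trunc K (max 0 b) (max 0 b + 1) rfl
  subst hX2
  have hX3ge' : (X.obj₃⟦(-1 : ℤ)⟧).IsGE (max 0 b + 2) :=
    DerivedCategory.TStructure.t.isGE_shift X.obj₃ (max 0 b + 1) (-1) (max 0 b + 2) (by omega)
  have hXfin : ∀ i : ℤ, Module.Finite A (Dual.HD A X.obj₁ i) := by
    intro i
    by_cases hi : i ≤ max 0 b
    · have h1 := hX1iso i hi
      have := hK i
      exact Module.Finite.equiv (asIso ((DerivedCategory.homologyFunctor
        (ModuleCat.{u} A) i).map X.mor₁)).toLinearEquiv.symm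
    · have h1 : Subsingleton (Dual.HD A X.obj₁ i) :=
        ModuleCat.subsingleton_of_isZero (X.obj₁.isZero_of_isLE (max 0 b) i (by omega))
      infer_instance
  have hTI := TI_bijective₁ X hX (maximalIdeal A)
    (TI_isGE _ _ (max 0 b + 1) (by omega) hX3ge) (TI_isGE _ _ (max 0 b + 2) (by omega) hX3ge')
  have hpre := pre_bijective₁ X hX ω
    (subsingleton_of_iso_right ((shiftFunctorZero (Dual.D A) ℤ).app ω)
      (hom_eq_zero_of_injRange ω a b hab X.obj₃ (max 0 b + 1) 0 hX3ge (by omega)))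
    (subsingleton_of_iso_right ((shiftFunctorZero (Dual.D A) ℤ).app ω)
      (hom_eq_zero_of_injRange ω a b hab _ (max 0 b + 2) 0 hX3ge' (by omega)))
  obtain ⟨e⟩ := boundedAbove ω hω hn E f hf X.obj₁ (max 0 b) hX1le hXfin
  exact ⟨((LinearEquiv.ofBijective _ hpre).trans e).trans
    (LinearEquiv.congrLeft E A (LinearEquiv.ofBijective _ hTI))⟩

end bounded

end Groth.Agent.LoccohB.LocDualUnb
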