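import Groth.Agent.LoccohB.LocDualDev

/-!
# Vanishing of `Hom(M, W[i])` locally at `p` for `i > 0`, and shift lemmas.
-/

set_option autoImplicit false
universe v u
open CategoryTheory Limits Opposite Pretriangulated
attribute [local instance] HasDerivedCategory.standard

namespace Groth.Agent.LoccohB.LocDualVan

open Groth.Agent.LoccohB.LocDualBasic Groth.Agent.LoccohB.LocDualDev

section shift

variable {A : Type u} [CommRing A] {p : Ideal A}

lemma LZ.of_shift (K L : Dual.D A) (n : ℤ) (h : LZ p (K⟦n⟧ ⟶ L⟦n⟧)) : LZ p (K ⟶ L) := by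
  intro f
  obtain ⟨s, hs, hf⟩ := h (f⟦n⟧')
  refine ⟨s, hs, ?_⟩
  apply (shiftFunctor (Dual.D A) n).map_injective
  rw [Functor.map_smul, hf, Functor.map_zero]

lemma LZ.hom_of_iso_right {K L L' : Dual.D A} (e : L ≅ L') (h : LZ p (K ⟶ L)) : LZ p (K ⟶ L') := by
  intro f
  obtain ⟨s, hs, h⟩ := h (f ≫ e.inv)
  refine ⟨s, hs, ?_⟩
  have := congrArg (fun z => z ≫ e.hom) h
  simpa using this

lemma LZ.shift (K L : Dual.D A) (n : ℤ) (h : LZ p (K ⟶ L)) : LZ p (K⟦n⟧ ⟶ L⟦n⟧) := by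
  intro f
  obtain ⟨g, rfl⟩ := (shiftFunctor (Dual.D A) n).map_surjective f
  obtain ⟨s, hs, hg⟩ := h g
  refine ⟨s, hs, ?_⟩
  rw [← Functor.map_smul, hg, Functor.map_zero]

/-- `Hom(K[a], L[b])` is locally zero if `Hom(K, L[c])` is, `c = b - a`. -/
lemma LZ.shift' (K L : Dual.D A) (a b c : ℤ) (hc : c + a = b) (h : LZ p (K ⟶ L⟦c⟧)) :
    LZ p (K⟦a⟧ ⟶ L⟦b⟧) :=
  LZ.hom_of_iso_right ((shiftFunctorAdd' (Dual.D A) c a b hc).symm.app L) (LZ.shift _ _ a h)

/-- `Hom(K[a], L)` is locally zero if `Hom(K, L[-a])` is. -/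
lemma LZ.shift_left (K L : Dual.D A) (a c : ℤ) (hc : c + a = 0) (h : LZ p (K ⟶ L⟦c⟧)) :
    LZ p (K⟦a⟧ ⟶ L) :=
  LZ.hom_of_iso_right ((shiftFunctorZero (Dual.D A) ℤ).app L) (LZ.shift' K L a 0 c hc h)

lemma LZ.of_shift_left (K L : Dual.D A) (a c : ℤ) (hc : c + a = 0) (h : LZ p (K⟦a⟧ ⟶ L)) :
    LZ p (K ⟶ L⟦c⟧) := by
  have h1 : LZ p ((K⟦a⟧)⟦c⟧ ⟶ L⟦c⟧) := LZ.shift _ _ c h
  exact LZ.hom_of_iso _ ((shiftFunctorCompIsoId (Dual.D A) a c (by omega)).app K) h1

end shift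

section van

variable {A : Type u} [CommRing A] {p : Ideal A}

/-- for `x` a nonzerodivisor on `M`, the triangle `M → M → M/xM → M[1]`. -/
lemma exists_triangle_smul {M : Type u} [AddCommGroup M] [Module A M] (x : A)
    (hx : ∀ m : M, x • m = 0 → m = 0) :
    ∃ (g : Dual.inD A M ⟶ Dual.inD A (M ⧸ LinearMap.range (LinearMap.lsmul A M x)))
      (δ : Dual.inD A (M ⧸ LinearMap.range (LinearMap.lsmul A M x)) ⟶ (Dual.inD A M)⟦(1 : ℤ)⟧),
      Triangle.mk (x • 𝟙 (Dual.inD A M)) g δ ∈ distTriang (Dual.D A) := by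
  obtain ⟨δ, hδ⟩ := exists_triangle (A := A) (LinearMap.lsmul A M x)
    (Submodule.mkQ (LinearMap.range (LinearMap.lsmul A M x)))
    ((injective_iff_map_eq_zero _).2 (fun m hm => hx m hm))
    (Submodule.mkQ_surjective _) (LinearMap.exact_map_mkQ_range _)
  refine ⟨(DerivedCategory.singleFunctor (ModuleCat.{u} A) 0).map (ModuleCat.ofHom
    (Submodule.mkQ (LinearMap.range (LinearMap.lsmul A M x)))), δ, ?_⟩
  have : (x • 𝟙 (Dual.inD A M)) = (DerivedCategory.singleFunctor (ModuleCat.{u} A) 0).map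
      (ModuleCat.ofHom (LinearMap.lsmul A M x)) := by
    rw [← (DerivedCategory.singleFunctor (ModuleCat.{u} A) 0).map_id, ← Functor.map_smul]
    rfl
  rw [this]
  exact hδ

lemma quot_smul_eq_zero {M : Type u} [AddCommGroup M] [Module A M] (x : A)
    (y : M ⧸ LinearMap.range (LinearMap.lsmul A M x)) : x • y = 0 := by
  obtain ⟨y, rfl⟩ := Submodule.mkQ_surjective _ y
  rw [← map_smul]
  exact (Submodule.Quotient.mk_eq_zero _).2 ⟨y, rfl⟩

lemma quot_smul_eq_zero' {M : Type u} [AddCommGroup M] [Module A M] (x : A) {J : Ideal A}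
    (hJ : ∀ a ∈ J, ∀ m : M, a • m = 0) (a : A) (ha : a ∈ J ⊔ Ideal.span {x})
    (y : M ⧸ LinearMap.range (LinearMap.lsmul A M x)) : a • y = 0 := by
  obtain ⟨b, hb, c, hc, rfl⟩ := Submodule.mem_sup.1 ha
  obtain ⟨d, rfl⟩ := Ideal.mem_span_singleton'.1 hc
  have h1 : (d * x) • y = 0 := by
    rw [mul_smul]
    exact (congrArg (fun z => d • z) (quot_smul_eq_zero x y)).trans (smul_zero d)
  have h2 : b • y = 0 := by
    obtain ⟨y, rfl⟩ := Submodule.mkQ_surjective _ y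
    exact ((LinearMap.map_smul _ b y).symm.trans (congrArg _ (hJ b hb y))).trans (LinearMap.map_zero _)
  exact (add_smul b (d * x) y).trans (by rw [h1, h2, add_zero])

lemma quot_prime_smul {q : Ideal A} [hq : q.IsPrime] {x : A} (hx : x ∉ q) (m : A ⧸ q)
    (h : x • m = 0) : m = 0 := by
  obtain ⟨m, rfl⟩ := Ideal.Quotient.mk_surjective m
  have h1 : (Ideal.Quotient.mk q) (x * m) = 0 := by
    rw [map_mul]
    exact h
  rw [Ideal.Quotient.eq_zero_iff_mem] at h1 ⊢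
  exact (hq.mem_or_mem h1).resolve_left hx

variable [IsNoetherianRing A] [hp : p.IsPrime]

/-- (h2) from (h1) and (h3): for `M` finite and `i > 0`, `Hom(M, W[i])` is locally zero at `p`. -/
theorem LZ_hom_pos (W : Dual.D A)
    (h1 : ∀ (M : Type u) [AddCommGroup M] [Module A M] [Module.Finite A M] (i : ℤ),
      Module.Finite A (Dual.inD A M ⟶ W⟦i⟧))
    (h3 : ∀ i : ℤ, 0 < i → LZ p (Dual.inD A (A ⧸ p) ⟶ W⟦i⟧))
    (M : Type u) [AddCommGroup M] [Module A M] [Module.Finite A M] (i : ℤ) (hi : 0 < i) :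
    LZ p (Dual.inD A M ⟶ W⟦i⟧) := by
  revert i hi
  refine module_devissage (A := A)
    (fun N _ _ => ∀ i : ℤ, 0 < i → LZ p (Dual.inD A N ⟶ W⟦i⟧)) ?_ ?_ ?_ ?_ M
  · intro N N' _ _ _ _ e h i hi
    exact LZ.hom_of_iso _ ((DerivedCategory.singleFunctor (ModuleCat.{u} A) 0).mapIso
      e.toModuleIso) (h i hi)
  · intro N _ _ _ i hi f
    refine ⟨1, fun h => hp.ne_top ((Ideal.eq_top_iff_one _).2 h), ?_⟩
    exact smul_hom_eq_zero (fun x => Subsingleton.elim _ _) _ f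
  · intro N₁ N₂ N₃ _ _ _ _ _ _ f g hf hg hfg h₁ h₃ i hi
    obtain ⟨δ, hδ⟩ := exists_triangle f g hf hg hfg
    exact LZ.hom_of_triangle _ _ hδ (h₁ i hi) (h₃ i hi)
  · intro q hq ih i hi
    by_cases hqp : q ≤ p
    · rcases hqp.eq_or_lt with rfl | hlt
      · exact h3 i hi
      · obtain ⟨x, hx, hxq⟩ := SetLike.exists_of_lt hlt
        obtain ⟨g, δ, hT⟩ := exists_triangle_smul (A := A) (M := A ⧸ q) x
          (fun m hm => quot_prime_smul hxq m hm)
        have hfin : Module.Finite A (Dual.inD A (A ⧸ q) ⟶ W⟦i⟧) := h1 _ i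
        refine LZ.nakayama hx ?_
        intro y
        have h4 : LZ p (Dual.inD A ((A ⧸ q) ⧸ LinearMap.range (LinearMap.lsmul A (A ⧸ q) x)) ⟶
            W⟦i + 1⟧) := by
          refine ih _ inferInstance ⟨q ⊔ Ideal.span {x}, ?_, ?_⟩ (i + 1) (by omega)
          · refine lt_of_le_of_ne le_sup_left (fun h => hxq ?_)
            rw [h]
            exact Ideal.mem_sup_right (Ideal.mem_span_singleton_self _)
          · intro a ha y
            refine quot_smul_eq_zero' x ?_ a ha y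
            intro a ha m
            obtain ⟨m, rfl⟩ := Ideal.Quotient.mk_surjective m
            exact Ideal.Quotient.eq_zero_iff_mem.2 (Ideal.mul_mem_right _ _ ha)
        have h5 : LZ p ((Dual.inD A ((A ⧸ q) ⧸ LinearMap.range (LinearMap.lsmul A (A ⧸ q) x)))⟦(-1 : ℤ)⟧ ⟶
            W⟦i⟧) := LZ.shift' _ _ _ _ (i + 1) (by omega) h4
        let T := Triangle.mk (x • 𝟙 (Dual.inD A (A ⧸ q))) g δ
        obtain ⟨s, hs, h6⟩ := h5 (T.invRotate.mor₁ ≫ y)
        rw [← Linear.comp_smul] at h6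
        obtain ⟨y', hy'⟩ := T.invRotate.yoneda_exact₂ (inv_rot_of_distTriang _ hT) (s • y) h6
        refine ⟨s, hs, y', ?_⟩
        rw [hy']
        change (x • 𝟙 (Dual.inD A (A ⧸ q))) ≫ y' = _
        rw [Linear.smul_comp, Category.id_comp]
    · obtain ⟨s, hs, hsp⟩ := SetLike.not_le_iff_exists.1 hqp
      refine LZ.of_smul hsp (smul_hom_eq_zero (fun x => ?_) _)
      obtain ⟨x, rfl⟩ := Ideal.Quotient.mk_surjective x
      exact Ideal.Quotient.eq_zero_iff_mem.2 (Ideal.mul_mem_right _ _ hs)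

end van

end Groth.Agent.LoccohB.LocDualVan
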