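import Groth.Agent.LoccohB.FinLocFreeFrame
import Groth.Agent.LoccohB.HHmap

/-!
# Factoring a power of `f` through a free module
-/

set_option autoImplicit false
universe u

open CategoryTheory AlgebraicGeometry TopologicalSpace Opposite CategoryTheory.Limits
open Groth.Agent.LoccohB.GlueHom Groth.Agent.LoccohB.FrameExt Groth.Agent.LoccohB.FinLocFreeFrame
open Groth.Agent.LoccohB.HHmap

namespace Groth.Agent.LoccohB.LocFreeFactor

variable {X : Scheme.{u}}

/-- The one-element frame of the structure sheaf. -/
noncomputable def frameOne (X : Scheme.{u}) (W : X.Opens) :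
    Frame (Coh.structureModule X) W 1 where
  e _ := one X W
  bij V h := by
    have : (fun c : Fin 1 → Γ(X, V) => ∑ k, c k • res (Coh.structureModule X) h (one X W)) =
        fun c => (show Γ(Coh.structureModule X, V) from c 0) := by
      funext c
      rw [Fin.sum_univ_one, res_one]
      exact FinLocFreeFrame.smul_one V (c 0)
    rw [this]
    constructor
    · intro c c' h
      funext k
      rw [Subsingleton.elim k 0]
      exact h
    · intro s
      exact ⟨fun _ => s, rfl⟩

lemma good_structure {W : X.Opens} (hW : IsAffineOpen W) (f : Γ(X, ⊤)) :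
    Good (Coh.structureModule X) f W :=
  (frameOne X W).good hW f

/-- Let `F` be finite locally free with frames on a finite affine cover (with affine pairwise
intersections), one member of which is `D(f)`.  Then a power of `f` on `F` factors through a
finite free module. -/
theorem exists_factor {F : X.Modules} {ι : Type u} [Finite ι]
    (W : ι → X.Opens) (hW : iSup W = ⊤) (n : ι → ℕ) (fr : ∀ i, Frame F (W i) (n i))
    (haff : ∀ i, IsAffineOpen (W i)) (haff' : ∀ i j, IsAffineOpen (W i ⊓ W j))
    (f : Γ(X, ⊤)) (i₀ : ι) (h₀ : W i₀ = X.basicOpen f) :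
    ∃ (K : ℕ) (r : ℕ) (β : Fin r → (F ⟶ Coh.structureModule X))
      (α : Fin r → (Coh.structureModule X ⟶ F)),
      ∀ (V : X.Opens) (s : Γ(F, V)),
        (∑ k, β k ≫ α k).app V s = resO (le_top : V ≤ ⊤) f ^ K • s := by
  classical
  have goodF : ∀ i, Good F f (W i) := fun i => (fr i).good (haff i) f
  have goodF' : ∀ i j, Good F f (W i ⊓ W j) := fun i j =>
    ((fr i).restrict inf_le_left).good (haff' i j) f
  have fr₀ : Frame F (X.basicOpen f) (n i₀) := h₀ ▸ fr i₀
  -- the sections
  let A : ∀ k : Fin (n i₀), LHom (Coh.structureModule X) F (X.basicOpen f) := fun k =>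
    (frameOne X (X.basicOpen f)).hom F (fun _ => fr₀.e k)
  have hA : ∀ k (V : X.Opens) (hV : V ≤ X.basicOpen f) (c : Γ(X, V)),
      (A k).app V hV (show Γ(Coh.structureModule X, V) from c) = c • res F hV (fr₀.e k) := by
    intro k V hV c
    have h0 : (A k).app V hV (c • one X V) = c • res F hV (fr₀.e k) := by
      rw [_root_.map_smul]
      congr 1
      have := (frameOne X (X.basicOpen f)).hom_app_e F (fun _ => fr₀.e k) hV 0
      rw [← this]
      congr 1
      exact (res_one hV).symm
    rw [← h0]
    exact congrArg _ (FinLocFreeFrame.smul_one V c).symm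
  choose N1 α hα using fun k => exists_extend W hW (fun _ => 1) (fun i => frameOne X (W i))
    goodF goodF' (A k)
  -- the functionals
  let B : ∀ k : Fin (n i₀), LHom F (Coh.structureModule X) (X.basicOpen f) := fun k =>
    fr₀.hom (Coh.structureModule X) (fun j => if j = k then one X (X.basicOpen f) else 0)
  have hB : ∀ k (V : X.Opens) (hV : V ≤ X.basicOpen f) (s : Γ(F, V)),
      (B k).app V hV s = (show Γ(Coh.structureModule X, V) from (fr₀.equiv hV).symm s k) := by
    intro k V hV s
    change (fr₀.hom (Coh.structureModule X)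
      (fun j => if j = k then one X (X.basicOpen f) else 0)).app V hV s = _
    rw [Frame.hom_app, Finset.sum_eq_single k]
    · rw [if_pos rfl, res_one, FinLocFreeFrame.smul_one]
    · intro j _ hj
      rw [if_neg hj, map_zero, smul_zero]
    · exact fun h => absurd (Finset.mem_univ k) h
  choose N2 β hβ using fun k => exists_extend W hW n fr
    (fun i => good_structure (haff i) f) (fun i j => good_structure (haff' i j) f) (B k)
  have h1 : ∀ k (V : X.Opens) (hV : V ≤ X.basicOpen f) (s : Γ(F, V)),
      (β k ≫ α k).app V s = resO (le_top : V ≤ ⊤) f ^ (N1 k + N2 k) •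
        (fr₀.equiv hV).symm s k • res F hV (fr₀.e k) := by
    intro k V hV s
    change (α k).app V ((β k).app V s) = _
    rw [hβ k V hV, Scheme.Modules.Hom.app_smul, hα k V hV, hB k V hV, hA k V hV, smul_smul,
      ← pow_add, add_comm]
  set N := ∑ k, (N1 k + N2 k) with hN
  have h2 : ∀ (V : X.Opens), V ≤ X.basicOpen f → ∀ (s : Γ(F, V)),
      (∑ k, (smulHom F (f ^ (N - (N1 k + N2 k))) ≫ β k) ≫ α k).app V s =
        (smulHom F (f ^ N)).app V s := by
    intro V hV s
    rw [app_sum, smulHom_app, map_pow]
    conv_rhs => rw [← fr₀.sum_symm hV s, Finset.smul_sum]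
    refine Finset.sum_congr rfl fun k _ => ?_
    have hk : N1 k + N2 k ≤ N := Finset.single_le_sum (f := fun k => N1 k + N2 k)
      (fun _ _ => Nat.zero_le _) (Finset.mem_univ k)
    rw [Category.assoc]
    change (β k ≫ α k).app V ((smulHom F (f ^ (N - (N1 k + N2 k)))).app V s) = _
    rw [smulHom_app, Scheme.Modules.Hom.app_smul, h1 k V hV, smul_smul, map_pow, ← pow_add,
      Nat.sub_add_cancel hk]
  obtain ⟨M, hM⟩ := exists_pow_smul_eq W hW n fr goodF _ _ h2
  refine ⟨M + N, n i₀, fun k => smulHom F (f ^ M) ≫ smulHom F (f ^ (N - (N1 k + N2 k))) ≫ β k, α,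
    fun V s => ?_⟩
  have h3 := hM V s
  rw [smulHom_app, smul_smul, map_pow, ← pow_add] at h3
  rw [← h3, app_sum, app_sum, Finset.smul_sum]
  refine Finset.sum_congr rfl fun k _ => ?_
  rw [Category.assoc]
  change ((smulHom F (f ^ (N - (N1 k + N2 k))) ≫ β k) ≫ α k).app V
    ((smulHom F (f ^ M)).app V s) = _
  rw [smulHom_app, Scheme.Modules.Hom.app_smul, map_pow]

end Groth.Agent.LoccohB.LocFreeFactor
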