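import Groth.Agent.LoccohB.HomBC2
import Groth.Agent.LoccohB.HomCxHD
import Groth.Agent.LoccohB.HomCxK
import Groth.Agent.CurvesB.LocShriek
import Groth.Prelude.Def_DRing2

/-!
# Flat base change of `Hom_{D(A)}(X, Z)` for unbounded `X` and `Z` of finite injective dimension
-/

set_option autoImplicit false
universe u

open CategoryTheory CategoryTheory.Limits Pretriangulated DerivedCategory TensorProduct

attribute [local instance] HasDerivedCategory.standard

namespace Groth.Agent.LoccohB.LocHom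

open HomBC Devissage FlatLBC

section Abs

variable {C : Type*} [Category* C] [Abelian C] [HasDerivedCategory C]

/-- `Z` receives no nonzero morphisms from objects concentrated in degrees `> c`. -/
def InjLE (Z : DerivedCategory C) (c : ℤ) : Prop :=
  ∀ (Y : DerivedCategory C) (n : ℤ), c < n → Y.IsGE n → Subsingleton (Y ⟶ Z)

lemma InjLE.of_iso {Z Z' : DerivedCategory C} (e : Z ≅ Z') {c : ℤ} (h : InjLE Z c) :
    InjLE Z' c := fun Y n hn hY => ⟨fun f g => by
  have := (h Y n hn hY).elim (f ≫ e.inv) (g ≫ e.inv)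
  exact (cancel_mono e.inv).1 this⟩

lemma InjLE.mono {Z : DerivedCategory C} {c c' : ℤ} (h : InjLE Z c) (hc : c ≤ c') :
    InjLE Z c' := fun Y n hn hY => h Y n (by lia) hY

lemma InjLE.shift {Z : DerivedCategory C} {c : ℤ} (h : InjLE Z c) (m : ℤ) :
    InjLE (Z⟦m⟧) (c - m) := fun Y n hn hY => by
  have h1 : (Y⟦(-m)⟧).IsGE (n + m) :=
    (TStructure.t : Triangulated.TStructure (DerivedCategory C)).isGE_shift Y n (-m) _ (by lia)
  have h2 := h (Y⟦(-m)⟧) (n + m) (by lia) h1
  refine ⟨fun f g => ?_⟩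
  have e : (Z⟦m⟧)⟦(-m)⟧ ≅ Z := (shiftFunctorCompIsoId (DerivedCategory C) m (-m) (by lia)).app Z
  have h3 := h2.elim (f⟦(-m)⟧' ≫ e.hom) (g⟦(-m)⟧' ≫ e.hom)
  exact (shiftFunctor (DerivedCategory C) (-m)).map_injective ((cancel_mono e.hom).1 h3)

end Abs

variable {A : Type u} [CommRing A]

/-- Bounded complexes of injectives have finite injective amplitude. -/
lemma injLE_of_isStrictlyLE (I : DRing.Cx A) (b : ℤ) [I.IsKInjective] [I.IsStrictlyLE b] :
    InjLE (Q.obj I) b := by
  intro Y n hn hY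
  obtain ⟨K, hK, ⟨e⟩⟩ := Y.exists_iso_Q_obj_of_isGE n
  have h1 := HomCx.homCx_isLE K I b n (b - n) (by lia)
  have h2 : IsZero ((DRing.homCx K I).homology 0) := by
    rw [← HomologicalComplex.exactAt_iff_isZero_homology]
    exact (DRing.homCx K I).exactAt_of_isLE (b - n) 0 (by lia)
  have h3 : Subsingleton ((DRing.homCx K I).homology 0) := (ModuleCat.isZero_iff_subsingleton).1 h2
  have h4 : Subsingleton (Q.obj K ⟶ (Q.obj I)⟦(0 : ℤ)⟧) :=
    (HomCxHD.homologyEquiv K I 0 (HomCxHD.computes_of_isKInjective K I)).symm.toEquiv.subsingleton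
  let e0 : (Q.obj I)⟦(0 : ℤ)⟧ ≅ Q.obj I := (shiftFunctorZero (Dual.D A) ℤ).app (Q.obj I)
  refine ⟨fun f g => ?_⟩
  have h5 := h4.elim (e.inv ≫ f ≫ e0.inv) (e.inv ≫ g ≫ e0.inv)
  rw [cancel_epi, cancel_mono] at h5
  exact h5

variable (B : Type u) [CommRing B] [Algebra A B] (h : (algebraMap A B).Flat)

lemma bc_bijective_of_subsingleton (X K : Dual.D A) (h1 : Subsingleton (X ⟶ K))
    (h2 : Subsingleton ((flatBC (algebraMap A B) h).obj X ⟶ (flatBC (algebraMap A B) h).obj K)) :
    Function.Bijective (bc A B (flatBC (algebraMap A B) h) X K) := by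
  have h3 : ∀ t : B ⊗[A] (X ⟶ K), t = 0 := by
    intro t
    induction t using TensorProduct.induction_on with
    | zero => rfl
    | tmul b f => rw [h1.elim f 0, TensorProduct.tmul_zero]
    | add x y hx hy => rw [hx, hy, add_zero]
  exact ⟨fun s t _ => by rw [h3 s, h3 t], fun f => ⟨0, h2.elim _ _⟩⟩

lemma bc_bijective_of_triangle {T : Triangle (Dual.D A)} (hT : T ∈ distTriang _) (K : Dual.D A)
    (h1 : Function.Bijective (bc A B (flatBC (algebraMap A B) h) T.obj₁ K))
    (h1' : Function.Bijective (bc A B (flatBC (algebraMap A B) h) (T.obj₁⟦(1 : ℤ)⟧) K))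
    (h3 : Function.Bijective (bc A B (flatBC (algebraMap A B) h) T.obj₃ K))
    (h3' : Function.Bijective (bc A B (flatBC (algebraMap A B) h) (T.obj₃⟦(-1 : ℤ)⟧) K)) :
    Function.Bijective (bc A B (flatBC (algebraMap A B) h) T.obj₂ K) := by
  have hfl : Module.Flat A B := (RingHom.flat_algebraMap_iff).1 h
  have hT' := inv_rot_of_distTriang _ hT
  have e : (T.obj₃⟦(-1 : ℤ)⟧)⟦(1 : ℤ)⟧ ≅ T.obj₃ :=
    (shiftFunctorCompIsoId (Dual.D A) (-1) 1 (by lia)).app T.obj₃
  have h3'' : Function.Bijective (bc A B (flatBC (algebraMap A B) h) ((T.obj₃⟦(-1 : ℤ)⟧)⟦(1 : ℤ)⟧) K) :=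
    ⟨bc_injective_of_iso_left A B _ e.symm h3.1, bc_surjective_of_iso_left A B _ e.symm h3.2⟩
  exact ⟨bc_injective₃ A B _ hT' K h1'.2 h3''.1 h1.1,
    bc_surjective₃ A B _ hT' K h3''.2 h1.2 h3'.1⟩

/-- Flat base change for Hom, `X` bounded above. -/
theorem goodPlus_of_isLE [IsNoetherianRing A] (X : Dual.D A) (b : ℤ) [X.IsLE b]
    (hX : ∀ i, Module.Finite A (Dual.HD A X i)) : GoodPlus B h X := by
  intro K k hK
  obtain ⟨T, hT, hT2, h1, h3, i1, i3⟩ := exists_trunc X (k - 3) (k - 2) (by lia)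
  subst hT2
  have hb : T.obj₃.IsLE (max b (k - 3)) := by
    rw [isLE_iff]
    intro i hi
    have := i3 i (by lia)
    exact (T.obj₂.isZero_of_isLE b i (by lia)).of_iso
      (asIso ((homologyFunctor _ i).map T.mor₂)).symm
  have hX3 : ∀ i, Module.Finite A (Dual.HD A T.obj₃ i) := by
    intro i
    by_cases hi : k - 2 ≤ i
    · have := i3 i hi
      have := hX i
      exact Module.Finite.equiv (asIso ((homologyFunctor _ i).map T.mor₂)).toLinearEquiv
    · have : IsZero ((homologyFunctor _ i).obj T.obj₃) := T.obj₃.isZero_of_isGE (k - 2) i (by lia)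
      have := (ModuleCat.isZero_iff_subsingleton).1 this
      infer_instance
  have key : GoodPlus B h T.obj₃ := fun K' k' hK' =>
    bc_bijective_of_bounded B h T.obj₃ (k - 2) (max b (k - 3)) hX3 K' k'
  have h1s : (T.obj₁⟦(1 : ℤ)⟧).IsLE (k - 4) :=
    (TStructure.t : Triangulated.TStructure (Dual.D A)).isLE_shift T.obj₁ (k - 3) 1 _ (by lia)
  exact bc_bijective_of_triangle B h hT K
    (bc_bijective_of_isLE_of_isGE B h _ K (k - 3) k (by lia))
    (bc_bijective_of_isLE_of_isGE B h _ K (k - 4) k (by lia))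
    (key K k hK) (goodPlus_shift B h _ (-1) key K k hK)

/-- Flat base change for Hom, `X` unbounded with finite cohomology, `Z` bounded below and of finite
injective amplitude (over `A` and after base change). -/
theorem bc_bijective_of_injLE [IsNoetherianRing A] (X : Dual.D A)
    (hX : ∀ i, Module.Finite A (Dual.HD A X i)) (Z : Dual.D A) (k c : ℤ) [Z.IsGE k]
    (hZ : InjLE Z c) (hZ' : InjLE ((flatBC (algebraMap A B) h).obj Z) c) :
    Function.Bijective (bc A B (flatBC (algebraMap A B) h) X Z) := by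
  obtain ⟨T, hT, hT2, h1, h3, i1, i3⟩ := exists_trunc X (c + 1) (c + 2) (by lia)
  subst hT2
  have hX1 : ∀ i, Module.Finite A (Dual.HD A T.obj₁ i) := by
    intro i
    by_cases hi : i ≤ c + 1
    · have := i1 i hi
      have := hX i
      exact Module.Finite.equiv (asIso ((homologyFunctor _ i).map T.mor₁)).symm.toLinearEquiv
    · have : IsZero ((homologyFunctor _ i).obj T.obj₁) := T.obj₁.isZero_of_isLE (c + 1) i (by lia)
      have := (ModuleCat.isZero_iff_subsingleton).1 this
      infer_instance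
  have key : GoodPlus B h T.obj₁ := goodPlus_of_isLE B h T.obj₁ (c + 1) hX1
  have h3s : (T.obj₃⟦(-1 : ℤ)⟧).IsGE (c + 3) :=
    (TStructure.t : Triangulated.TStructure (Dual.D A)).isGE_shift T.obj₃ (c + 2) (-1) _ (by lia)
  exact bc_bijective_of_triangle B h hT Z (key Z k inferInstance)
    (goodPlus_shift B h _ 1 key Z k inferInstance)
    (bc_bijective_of_subsingleton B h _ _ (hZ _ (c + 2) (by lia) h3)
      (hZ' _ (c + 2) (by lia) (isGE_flatBC B h _ _)))
    (bc_bijective_of_subsingleton B h _ _ (hZ _ (c + 3) (by lia) h3s)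
      (hZ' _ (c + 3) (by lia) (isGE_flatBC B h _ _)))

/-- Finite injective amplitude, over `A` and over a localization of the Noetherian ring `A`. -/
theorem exists_injLE [IsNoetherianRing A] (S : Submonoid A) [IsLocalization S B] (L : Dual.D A)
    (hL : DRing.HasFiniteInjDim A L) : ∃ k c : ℤ, L.IsGE k ∧ InjLE L c ∧
      InjLE ((flatBC (algebraMap A B) h).obj L) c := by
  obtain ⟨a, b, E, hE, hEi, ⟨e⟩⟩ := hL
  have h1 : E.IsStrictlyGE a := by
    rw [CochainComplex.isStrictlyGE_iff]
    exact fun i hi => hE i (Or.inl hi)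
  have h2 : E.IsStrictlyLE b := by
    rw [CochainComplex.isStrictlyLE_iff]
    exact fun i hi => hE i (Or.inr hi)
  have hEi' : ∀ n, Injective (E.X n) := fun n => by
    have := hEi n
    exact Module.injective_object_of_injective_module A _
  have h3 : E.IsKInjective := CochainComplex.isKInjective_of_injective E a
  have := ModuleCat.preservesFiniteLimits_extendScalars_of_flat h
  let E' : DRing.Cx B :=
    ((ModuleCat.extendScalars.{u, u, u} (algebraMap A B)).mapHomologicalComplex
      (ComplexShape.up ℤ)).obj E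
  have h1' : E'.IsStrictlyGE a := by
    rw [CochainComplex.isStrictlyGE_iff]
    exact fun i hi => (ModuleCat.extendScalars.{u, u, u} (algebraMap A B)).map_isZero
      (E.isZero_of_isStrictlyGE a i hi)
  have h2' : E'.IsStrictlyLE b := by
    rw [CochainComplex.isStrictlyLE_iff]
    exact fun i hi => (ModuleCat.extendScalars.{u, u, u} (algebraMap A B)).map_isZero
      (E.isZero_of_isStrictlyLE b i hi)
  have hEi'' : ∀ n, Injective (E'.X n) := fun n =>
    CurvesB.LocShriek.injective_ext A B S (E.X n)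
  have h3' : E'.IsKInjective := CochainComplex.isKInjective_of_injective E' a
  refine ⟨a, b, ?_, ?_, ?_⟩
  · exact TStructure.t.isGE_of_iso e a
  · exact (injLE_of_isStrictlyLE E b).of_iso e
  · refine (injLE_of_isStrictlyLE E' b).of_iso ?_
    exact ((ModuleCat.extendScalars.{u, u, u} (algebraMap A B)).mapDerivedCategoryFactors.app E).symm ≪≫
      (flatBC (algebraMap A B) h).mapIso e

end Groth.Agent.LoccohB.LocHom
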