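import Mathlib.Algebra.Homology.HomotopyCategory
import Mathlib.Algebra.Homology.Additive
import Mathlib.CategoryTheory.Adjunction.Basic

/-!
# An adjunction between additive functors induces adjunctions on complexes and on homotopy categories
-/

set_option autoImplicit false

open CategoryTheory Category

namespace Groth.Agent.LoccohB.MapAdj

set_option backward.isDefEq.respectTransparency false

universe v₁ v₂ u₁ u₂

variable {V : Type u₁} {W : Type u₂} [Category.{v₁} V] [Category.{v₂} W] [Preadditive V]
  [Preadditive W] {G : V ⥤ W} {F : W ⥤ V} (adj : G ⊣ F) [G.Additive] [F.Additive]
  {ι : Type*} (c : ComplexShape ι)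

/-- The adjunction on complexes. -/
@[simps]
def mapComplexAdj : G.mapHomologicalComplex c ⊣ F.mapHomologicalComplex c where
  unit :=
    { app := fun K =>
        { f := fun i => adj.unit.app (K.X i)
          comm' := fun i j _ => by
            dsimp
            exact (adj.unit.naturality (K.d i j)).symm }
      naturality := fun K L f => by
        ext i
        dsimp
        exact adj.unit.naturality (f.f i) }
  counit :=
    { app := fun K =>
        { f := fun i => adj.counit.app (K.X i)
          comm' := fun i j _ => by
            dsimp
            exact (adj.counit.naturality (K.d i j)).symm }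
      naturality := fun K L f => by
        ext i
        dsimp
        exact adj.counit.naturality (f.f i) }
  left_triangle_components := fun K => by
    ext i
    dsimp
    exact adj.left_triangle_components (K.X i)
  right_triangle_components := fun K => by
    ext i
    dsimp
    exact adj.right_triangle_components (K.X i)

/-- The adjunction on homotopy categories. -/
def mapHomotopyAdj : G.mapHomotopyCategory c ⊣ F.mapHomotopyCategory c where
  unit :=
    { app := fun K => (HomotopyCategory.quotient V c).map ((mapComplexAdj adj c).unit.app K.as)
      naturality := by
        rintro ⟨K⟩ ⟨L⟩ ⟨f : K ⟶ L⟩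
        exact ((HomotopyCategory.quotient V c).map_comp _ _).symm.trans
          ((congrArg (fun t => (HomotopyCategory.quotient V c).map t)
            ((mapComplexAdj adj c).unit.naturality f)).trans
            ((HomotopyCategory.quotient V c).map_comp _ _)) }
  counit :=
    { app := fun K => (HomotopyCategory.quotient W c).map ((mapComplexAdj adj c).counit.app K.as)
      naturality := by
        rintro ⟨K⟩ ⟨L⟩ ⟨f : K ⟶ L⟩
        exact ((HomotopyCategory.quotient W c).map_comp _ _).symm.trans
          ((congrArg (fun t => (HomotopyCategory.quotient W c).map t)
            ((mapComplexAdj adj c).counit.naturality f)).trans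
            ((HomotopyCategory.quotient W c).map_comp _ _)) }
  left_triangle_components := by
    rintro ⟨K⟩
    exact ((HomotopyCategory.quotient W c).map_comp _ _).symm.trans
      ((congrArg (fun t => (HomotopyCategory.quotient W c).map t)
        ((mapComplexAdj adj c).left_triangle_components K)).trans
        ((HomotopyCategory.quotient W c).map_id _))
  right_triangle_components := by
    rintro ⟨K⟩
    exact ((HomotopyCategory.quotient V c).map_comp _ _).symm.trans
      ((congrArg (fun t => (HomotopyCategory.quotient V c).map t)
        ((mapComplexAdj adj c).right_triangle_components K)).trans
        ((HomotopyCategory.quotient V c).map_id _))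

lemma mapHomotopyAdj_unit_app_quotient (K : HomologicalComplex V c) :
    (mapHomotopyAdj adj c).unit.app ((HomotopyCategory.quotient V c).obj K) =
      (HomotopyCategory.quotient V c).map ((mapComplexAdj adj c).unit.app K) := rfl

lemma mapHomotopyAdj_counit_app_quotient (K : HomologicalComplex W c) :
    (mapHomotopyAdj adj c).counit.app ((HomotopyCategory.quotient W c).obj K) =
      (HomotopyCategory.quotient W c).map ((mapComplexAdj adj c).counit.app K) := rfl

end Groth.Agent.LoccohB.MapAdj
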