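import Mathlib.Algebra.Homology.LocalCohomology
import Mathlib.CategoryTheory.Abelian.Projective.Ext
import Mathlib.Algebra.Category.ModuleCat.Ext.HasExt
import Mathlib.Algebra.Homology.ShortComplex.ModuleCat

universe v u
open CategoryTheory Limits Opposite Abelian

namespace Groth.Agent.LoccohB.OldExt

variable {R : Type v} [CommRing R] {C : Type u} [Category.{v} C] [Abelian C] [Linear R C] [EnoughProjectives C]

/-- the functor whose left derived functors define the old `Ext` -/
noncomputable abbrev homF (R : Type v) [CommRing R] {C : Type u} [Category.{v} C] [Abelian C] [Linear R C] (Y : C) : C ⥤ (ModuleCat.{v} R)ᵒᵖ := ((linearYoneda R C).obj Y).rightOp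

section

variable {X : C} (P : ProjectiveResolution X) {Y : C}

/-- the complex `Hom(P, Y)`, in the opposite category of modules -/
noncomputable def homK (R : Type v) [CommRing R] {C : Type u} [Category.{v} C] [Abelian C] [Linear R C] [EnoughProjectives C]
    {X : C} (P : ProjectiveResolution X) (Y : C) : ChainComplex (ModuleCat.{v} R)ᵒᵖ ℕ :=
  ((homF R Y).mapHomologicalComplex _).obj P.complex

variable (R)

lemma unop_congr {M N : (ModuleCat.{v} R)ᵒᵖ} {φ ψ : M ⟶ N} (h : φ = ψ) (z : N.unop) : φ.unop.hom z = ψ.unop.hom z := by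
  rw [h]

lemma exists_opcycle (n : ℕ) (f : P.complex.X n ⟶ Y) (hf : P.complex.d (n + 1) n ≫ f = 0) :
    ∃ z : ((homK R P Y).opcycles n).unop, ((homK R P Y).pOpcycles n).unop.hom z = f := by
  have h1 : (ShortComplex.mk ((homK R P Y).d (n+1) n) ((homK R P Y).pOpcycles n) (by simp)).Exact :=
    ShortComplex.exact_of_g_is_cokernel _ ((homK R P Y).opcyclesIsCokernel (n+1) n (by simp))
  have h2 := h1.unop
  rw [ShortComplex.moduleCat_exact_iff] at h2
  exact h2 f hf

lemma pOpcycles_unop_injective (n : ℕ) : Function.Injective ((homK R P Y).pOpcycles n).unop.hom := by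
  have : Mono ((homK R P Y).pOpcycles n).unop := inferInstance
  rwa [ModuleCat.mono_iff_injective] at this

/-- the computation of the old `Ext` by a projective resolution -/
noncomputable def eIso (Y : C) (n : ℕ) : ((homF R Y).leftDerived n).obj X ≅ (homK R P Y).homology n :=
  P.isoLeftDerivedObj (homF R Y) n

lemma eIso_naturality {X' : C} (P' : ProjectiveResolution X') (g : X' ⟶ X) (φ : P'.complex ⟶ P.complex)
    (hφ : φ.f 0 ≫ P.π.f 0 = P'.π.f 0 ≫ g) (n : ℕ) (ψ : homK R P' Y ⟶ homK R P Y)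
    (hψ : ψ = ((homF R Y).mapHomologicalComplex _).map φ) :
    ((homF R Y).leftDerived n).map g ≫ (eIso R P Y n).hom = (eIso R P' Y n).hom ≫ HomologicalComplex.homologyMap ψ n := by
  subst hψ
  exact ProjectiveResolution.isoLeftDerivedObj_hom_naturality g P' P φ hφ (homF R Y) n

/-- the class map from opcycles -/
noncomputable def clsMap (n : ℕ) : ((homK R P Y).opcycles n).unop ⟶ ((_root_.Ext R C n).obj (op X)).obj Y :=
  ((homK R P Y).homologyι n).unop ≫ (eIso R P Y n).hom.unop

instance epi_clsMap (n : ℕ) : Epi (clsMap R P (Y := Y) n) := by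
  have h1 : Epi ((homK R P Y).homologyι n).unop := inferInstance
  have h2 : IsIso (eIso R P Y n).hom.unop := inferInstance
  exact @epi_comp _ _ _ _ _ _ h1 _ (@IsIso.epi_of_iso _ _ _ _ _ h2)

/-- the class of a cocycle in the old `Ext` -/
noncomputable def cls (n : ℕ) (f : P.complex.X n ⟶ Y) (hf : P.complex.d (n + 1) n ≫ f = 0) :
    ((_root_.Ext R C n).obj (op X)).obj Y :=
  (clsMap R P n).hom (exists_opcycle R P n f hf).choose

lemma cls_eq (n : ℕ) (f : P.complex.X n ⟶ Y) (hf : P.complex.d (n + 1) n ≫ f = 0)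
    (z : ((homK R P Y).opcycles n).unop) (hz : ((homK R P Y).pOpcycles n).unop.hom z = f) :
    cls R P n f hf = (clsMap R P n).hom z := by
  have : (exists_opcycle R P n f hf).choose = z :=
    pOpcycles_unop_injective R P n (by rw [(exists_opcycle R P n f hf).choose_spec, hz])
  rw [cls, this]

lemma cls_surjective (n : ℕ) (x : ((_root_.Ext R C n).obj (op X)).obj Y) :
    ∃ (f : P.complex.X n ⟶ Y) (hf : P.complex.d (n + 1) n ≫ f = 0), cls R P n f hf = x := by
  have := epi_clsMap R P (Y := Y) n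
  rw [ModuleCat.epi_iff_surjective] at this
  obtain ⟨z, hz⟩ := this x
  refine ⟨((homK R P Y).pOpcycles n).unop.hom z, ?_, ?_⟩
  · have : ((homK R P Y).d (n+1) n ≫ (homK R P Y).pOpcycles n) = 0 := by simp
    exact unop_congr _ this z
  · rw [cls_eq _ _ _ _ _ z rfl]
    exact hz

lemma cls_eq_zero_iff (p n : ℕ) (hp : p + 1 = n) (f : P.complex.X n ⟶ Y) (hf : P.complex.d (n + 1) n ≫ f = 0) :
    cls R P n f hf = 0 ↔ ∃ g : P.complex.X p ⟶ Y, P.complex.d n p ≫ g = f := by
  subst hp
  obtain ⟨z, hz⟩ := exists_opcycle R P _ f hf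
  rw [cls_eq R P _ f hf z hz]
  have h1 : (ShortComplex.mk ((homK R P Y).homologyι (p+1)) ((homK R P Y).fromOpcycles (p+1) p) (by simp)).Exact :=
    ShortComplex.exact_of_f_is_kernel _ ((homK R P Y).homologyIsKernel (p+1) p (by simp))
  have h2 := h1.unop
  rw [ShortComplex.moduleCat_exact_iff] at h2
  constructor
  · intro h
    have h3 : ((homK R P Y).homologyι (p+1)).unop.hom z = 0 := by
      have h4 : Mono (eIso R P Y (p+1)).hom.unop := inferInstance
      rw [ModuleCat.mono_iff_injective] at h4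
      apply h4
      rw [map_zero]
      exact h
    obtain ⟨g, hg⟩ := h2 z h3
    refine ⟨g, ?_⟩
    rw [← hz]
    refine Eq.trans ?_ (congrArg _ hg)
    exact (unop_congr _ ((homK R P Y).p_fromOpcycles (p+1) p) g).symm
  · rintro ⟨g, hg⟩
    have h6 := unop_congr _ ((homK R P Y).p_fromOpcycles (p+1) p) g
    have h7 : z = ((homK R P Y).fromOpcycles (p+1) p).unop.hom g := by
      apply pOpcycles_unop_injective R P
      rw [hz, ← hg]
      exact h6.symm
    rw [h7]
    have h8 : ((eIso R P Y (p+1)).hom ≫ (homK R P Y).homologyι (p+1)) ≫ ((homK R P Y).fromOpcycles (p+1) p) = 0 := by simp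
    exact unop_congr _ h8 g

lemma map_cls {X' : C} (P' : ProjectiveResolution X') (g : X' ⟶ X) (φ : P'.complex ⟶ P.complex)
    (hφ : φ.f 0 ≫ P.π.f 0 = P'.π.f 0 ≫ g) (n : ℕ) (f : P.complex.X n ⟶ Y) (hf : P.complex.d (n + 1) n ≫ f = 0) :
    (((_root_.Ext R C n).map g.op).app Y).hom (cls R P n f hf) = cls R P' n (φ.f n ≫ f) (by
      rw [← φ.comm_assoc, hf, comp_zero]) := by
  obtain ⟨z, hz⟩ := exists_opcycle R P _ f hf
  rw [cls_eq R P _ f hf z hz]
  set ψ : homK R P' Y ⟶ homK R P Y := ((homF R Y).mapHomologicalComplex _).map φ with hψ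
  have h1 := eIso_naturality R P P' (Y := Y) g φ hφ n ψ hψ
  have h2 : ((homF R Y).leftDerived n).map g ≫ (eIso R P Y n).hom ≫ (homK R P Y).homologyι n
     = ((eIso R P' Y n).hom ≫ (homK R P' Y).homologyι n) ≫ HomologicalComplex.opcyclesMap ψ n := by
    rw [reassoc_of% h1, Category.assoc, HomologicalComplex.homologyι_naturality ψ n]
  have h4 : (homK R P' Y).pOpcycles n ≫ HomologicalComplex.opcyclesMap ψ n = ψ.f n ≫ (homK R P Y).pOpcycles n := by simp
  refine (unop_congr _ h2 z).trans ?_
  rw [cls_eq R P' n _ _ ((HomologicalComplex.opcyclesMap ψ n).unop.hom z)]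
  · rfl
  · refine (unop_congr _ h4 z).trans ?_
    change φ.f n ≫ (((homK R P Y).pOpcycles n).unop.hom z : P.complex.X n ⟶ Y) = _
    rw [hz]

end

end Groth.Agent.LoccohB.OldExt
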