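import Groth.Agent.LoccohB.OldExt
import Mathlib.Algebra.Category.ModuleCat.FilteredColimits
import Mathlib.CategoryTheory.Limits.ConcreteCategory.WithAlgebraicStructures

universe v u
open CategoryTheory Limits Opposite Abelian

namespace Groth.Agent.LoccohB.OldExt
variable {A : Type u} [CommRing A]

/-- the transition map `A/I^n → A/I^m` -/
noncomputable abbrev quotMap (I : Ideal A) {m n : ℕ} (h : m ≤ n) : ModuleCat.of A (A ⧸ I ^ n) ⟶ ModuleCat.of A (A ⧸ I ^ m) :=
  ModuleCat.ofHom (Submodule.mapQ (I^n) (I^m) LinearMap.id (Ideal.pow_le_pow_right h))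

lemma exists_map_eq_zero (I : Ideal A) (i : ℕ) (M : ModuleCat.{u} A)
    (h : Subsingleton ((localCohomology I i).obj M)) (m : ℕ)
    (x : ((_root_.Ext A (ModuleCat.{u} A) i).obj (op (ModuleCat.of A (A ⧸ I ^ m)))).obj M) :
    ∃ (n : ℕ) (hmn : m ≤ n), (((_root_.Ext A (ModuleCat.{u} A) i).map (quotMap I hmn).op).app M).hom x = 0 := by
  let F : (ℕᵒᵖ)ᵒᵖ ⥤ ModuleCat.{u} A :=
    localCohomology.diagram (localCohomology.idealPowersDiagram I) i ⋙ (evaluation _ _).obj M
  let c : Cocone F := ((evaluation _ _).obj M).mapCocone (colimit.cocone (localCohomology.diagram (localCohomology.idealPowersDiagram I) i))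
  have hc : IsColimit c := isColimitOfPreserves _ (colimit.isColimit _)
  have hsub : Subsingleton c.pt := h
  let x' : F.obj (op (op m)) := x
  have h1 : (c.ι.app (op (op m)) x' : c.pt) = (c.ι.app (op (op m)) (0 : F.obj (op (op m))) : c.pt) := @Subsingleton.elim _ hsub _ _
  have : PreservesFilteredColimitsOfSize.{0, 0} (forget (ModuleCat.{u} A)) :=
      preservesFilteredColimitsOfSize_shrink.{0, u, 0, u} _
  obtain ⟨j, f, g, hfg⟩ := Concrete.isColimit_exists_of_rep_eq F hc _ _ h1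
  have hmn : m ≤ unop (unop j) := leOfHom f.unop.unop
  refine ⟨unop (unop j), hmn, ?_⟩
  have h2 : g = f := Subsingleton.elim _ _
  subst h2
  rw [map_zero] at hfg
  exact hfg

lemma exists_comp_eq_zero (I : Ideal A) (i : ℕ) (hi : 0 < i) (M : ModuleCat.{u} A)
    (h : Subsingleton ((localCohomology I i).obj M)) (m : ℕ)
    (α : Abelian.Ext.{u} (ModuleCat.of A (A ⧸ I ^ m)) M i) :
    ∃ (n : ℕ) (hmn : m ≤ n), (Ext.mk₀ (quotMap I hmn)).comp α (zero_add i) = 0 := by
  let P := projectiveResolution (ModuleCat.of A (A ⧸ I ^ m))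
  obtain ⟨f, hf, rfl⟩ := P.extMk_surjective α (i+1) rfl
  obtain ⟨n, hmn, h1⟩ := exists_map_eq_zero I i M h m (cls A P i f hf)
  refine ⟨n, hmn, ?_⟩
  let P' := projectiveResolution (ModuleCat.of A (A ⧸ I ^ n))
  let φ := ProjectiveResolution.lift (quotMap I hmn) P' P
  have hφ : φ.f 0 ≫ P.π.f 0 = P'.π.f 0 ≫ quotMap I hmn := ProjectiveResolution.lift_commutes_zero _ _ _
  rw [map_cls A P P' _ φ hφ] at h1
  obtain ⟨p, rfl⟩ : ∃ p, i = p + 1 := ⟨i - 1, by omega⟩
  rw [cls_eq_zero_iff A P' p (p+1) rfl] at h1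
  have h2 := ProjectiveResolution.mk₀_comp_extMk (R := P) (R' := P') f (p+1+1) rfl hf (g := quotMap I hmn) ⟨φ, hφ⟩
  rw [h2, ProjectiveResolution.extMk_eq_zero_iff _ _ _ _ _ p rfl]
  exact h1

end Groth.Agent.LoccohB.OldExt
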