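import Groth.Agent.CalgB.PsCoh
import Groth.Agent.LoccohB.RAdjFin
import Groth.Agent.PerfB.ExactHomology
import Groth.Agent.PerfB.BoundedInd
import Mathlib.Algebra.Homology.DerivedCategory.SingleTriangle

/-!
# Pseudo-coherence and restriction of scalars (Stacks 064Z)

`ψ : C → B` with `B` pseudo-coherent over `C`: an object `K` of `D(B)` whose restriction to `D(C)` is
pseudo-coherent is pseudo-coherent.
-/

set_option autoImplicit false

universe u

open CategoryTheory CategoryTheory.Limits CategoryTheory.Pretriangulated ZeroObject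

attribute [local instance] HasDerivedCategory.standard

namespace Groth.Agent.LoccohB.PCChange

open Groth.Agent.CalgB.PsCohGen Groth.Agent.CalgB.PsCoh

section Modules

variable (C : Type u) [CommRing C]

/-- Pseudo-coherent modules. -/
def PCMod (M : ModuleCat.{u} C) : Prop :=
  ∀ m : ℤ, PC (ffree C) m ((DerivedCategory.singleFunctor (ModuleCat.{u} C) 0).obj M)

variable {C}

lemma PCMod.of_iso {M N : ModuleCat.{u} C} (e : M ≅ N) (h : PCMod C M) : PCMod C N := fun m =>
  (h m).of_iso ((DerivedCategory.singleFunctor (ModuleCat.{u} C) 0).mapIso e)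

lemma PCMod.of_isZero {M : ModuleCat.{u} C} (h : IsZero M) : PCMod C M := fun m => by
  refine PC.single (isProjClass_ffree C) ((isProjClass_ffree C).zero h) 0 m

lemma PCMod.X₂ {S : ShortComplex (ModuleCat.{u} C)} (hS : S.ShortExact) (h₁ : PCMod C S.X₁)
    (h₃ : PCMod C S.X₃) : PCMod C S.X₂ := fun m =>
  PC.obj₂ (isProjClass_ffree C) hS.singleTriangle_distinguished (h₁ m) (h₃ m)

lemma PCMod.single {M : ModuleCat.{u} C} (h : PCMod C M) (n m : ℤ) :
    PC (ffree C) m ((DerivedCategory.singleFunctor (ModuleCat.{u} C) n).obj M) := by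
  have e : ((DerivedCategory.singleFunctor (ModuleCat.{u} C) 0).obj M)⟦(-n)⟧ ≅
      (DerivedCategory.singleFunctor (ModuleCat.{u} C) n).obj M :=
    ((DerivedCategory.singleFunctors (ModuleCat.{u} C)).shiftIso (-n) n 0 (by simp)).app M
  exact ((h (m + -n)).shift (-n) m rfl).of_iso e

end Modules

variable {C B : Type u} [CommRing C] [CommRing B] (ψ : C →+* B)

lemma pcMod_pi (hB : PCMod C ((ModuleCat.restrictScalars.{u} ψ).obj (ModuleCat.of B B))) (k : ℕ) :
    PCMod C ((ModuleCat.restrictScalars.{u} ψ).obj (ModuleCat.of B (Fin k → B))) := by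
  induction k with
  | zero =>
    apply PCMod.of_isZero
    refine (ModuleCat.restrictScalars.{u} ψ).map_isZero ?_
    exact ModuleCat.isZero_of_subsingleton _
  | succ k ih =>
    let f : ModuleCat.of B B ⟶ ModuleCat.of B (Fin (k + 1) → B) :=
      ModuleCat.ofHom (LinearMap.single B (fun _ => B) 0)
    let g : ModuleCat.of B (Fin (k + 1) → B) ⟶ ModuleCat.of B (Fin k → B) :=
      ModuleCat.ofHom (LinearMap.funLeft B B Fin.succ)
    have w : f ≫ g = 0 := by
      apply ModuleCat.hom_ext
      apply LinearMap.ext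
      intro x
      funext i
      change (Pi.single (M := fun _ : Fin (k + 1) => B) 0 x) i.succ = 0
      exact Pi.single_eq_of_ne (Fin.succ_ne_zero i) x
    have hS : (ShortComplex.mk f g w).ShortExact :=
      { exact := by
          rw [ShortComplex.ShortExact.moduleCat_exact_iff_function_exact]
          intro x
          constructor
          · intro hx
            let x' : Fin (k + 1) → B := x
            refine ⟨x' 0, ?_⟩
            change (Pi.single (M := fun _ : Fin (k + 1) => B) 0 (x' 0)) = x'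
            funext i
            refine Fin.cases ?_ (fun i => ?_) i
            · exact Pi.single_eq_same _ _
            · have h1 : x' i.succ = 0 := congrFun hx i
              rw [h1]
              exact Pi.single_eq_of_ne (Fin.succ_ne_zero i) _
          · rintro ⟨y, rfl⟩
            exact LinearMap.congr_fun (congrArg ModuleCat.Hom.hom w) y
        mono_f := by
          rw [ModuleCat.mono_iff_injective]
          exact Pi.single_injective (M := fun _ : Fin (k + 1) => B) 0
        epi_g := by
          rw [ModuleCat.epi_iff_surjective]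
          exact LinearMap.funLeft_surjective_of_injective B B _ (Fin.succ_injective k) }
    exact PCMod.X₂ (hS.map_of_exact (ModuleCat.restrictScalars.{u} ψ)) hB ih

lemma pcMod_ffree (hB : PCMod C ((ModuleCat.restrictScalars.{u} ψ).obj (ModuleCat.of B B)))
    {F : ModuleCat.{u} B} (hF : ffree B F) : PCMod C ((ModuleCat.restrictScalars.{u} ψ).obj F) := by
  obtain ⟨h1, h2⟩ := hF
  let b := (Module.Free.chooseBasis B F).reindex (Fintype.equivFin _)
  have e : ModuleCat.of B (Fin _ → B) ≅ F := b.equivFun.symm.toModuleIso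
  exact (pcMod_pi ψ hB _).of_iso ((ModuleCat.restrictScalars.{u} ψ).mapIso e)

/-- Objects of `D(B)` with pseudo-coherent restriction to `D(C)`. -/
def T : ObjectProperty (Dual.D B) := fun K => ∀ m : ℤ, PC (ffree C) m ((DRing.restrictD ψ).obj K)

/-- `H^n` of the restriction. -/
noncomputable def hRes (K : Dual.D B) (n : ℤ) :
    (DerivedCategory.homologyFunctor (ModuleCat.{u} C) n).obj ((DRing.restrictD ψ).obj K) ≅
      (ModuleCat.restrictScalars.{u} ψ).obj ((DerivedCategory.homologyFunctor (ModuleCat.{u} B) n).obj K) :=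
  Groth.Agent.PerfB.ExactHomology.homologyObjIso (ModuleCat.restrictScalars.{u} ψ) K n

lemma isZero_restrictScalars_iff (M : ModuleCat.{u} B) :
    IsZero ((ModuleCat.restrictScalars.{u} ψ).obj M) ↔ IsZero M := by
  constructor
  · intro h
    have h1 : Subsingleton ((ModuleCat.restrictScalars.{u} ψ).obj M) := ModuleCat.subsingleton_of_isZero h
    have h2 : Subsingleton M := h1
    exact ModuleCat.isZero_of_subsingleton M
  · intro h
    exact (ModuleCat.restrictScalars.{u} ψ).map_isZero h

lemma isLE_restrictD_iff (K : Dual.D B) (n : ℤ) : ((DRing.restrictD ψ).obj K).IsLE n ↔ K.IsLE n := by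
  rw [DerivedCategory.isLE_iff, DerivedCategory.isLE_iff]
  refine forall_congr' fun i => forall_congr' fun _ => ?_
  rw [(hRes ψ K i).isZero_iff, isZero_restrictScalars_iff]

theorem resolutionData (hB : PCMod C ((ModuleCat.restrictScalars.{u} ψ).obj (ModuleCat.of B B))) :
    Groth.Agent.CalgB.DerRes.ResolutionData (ffree B) (T ψ) where
  P_iso := (isProjClass_ffree B).iso
  P_zero := (isProjClass_ffree B).zero
  P_sum := (isProjClass_ffree B).sum
  P_proj := (isProjClass_ffree B).proj
  T_iso e h := fun m => (h m).of_iso ((DRing.restrictD ψ).mapIso e)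
  T_top {X} n h hn := by
    have h1 := finite_homology_top (h n) ((isLE_restrictD_iff ψ X n).2 hn)
    have h2 : Module.Finite C ((ModuleCat.restrictScalars.{u} ψ).obj
        ((DerivedCategory.homologyFunctor (ModuleCat.{u} B) n).obj X)) :=
      Module.Finite.equiv (hRes ψ X n).toLinearEquiv
    apply exists_epi_of_finite
    let _ := Module.compHom ((DerivedCategory.homologyFunctor (ModuleCat.{u} B) n).obj X) ψ
    let _ := ψ.toAlgebra
    have : IsScalarTower C B ((DerivedCategory.homologyFunctor (ModuleCat.{u} B) n).obj X) :=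
      ⟨fun c b x => by rw [Algebra.smul_def, mul_smul]; rfl⟩
    have h3 : Module.Finite C ((DerivedCategory.homologyFunctor (ModuleCat.{u} B) n).obj X) := h2
    exact Module.Finite.of_restrictScalars_finite C B _
  T_cone {Δ} n F hΔ hF e _ h₂ := fun m => by
    have hΔ' := (DRing.restrictD ψ).map_distinguished Δ hΔ
    refine PC.obj₃ (isProjClass_ffree C) hΔ' rfl ?_ (h₂ m)
    refine ((pcMod_ffree ψ hB hF).single n (m + 1)).of_iso ?_
    exact (RAdjFin.restrictDSingle ψ n F).symm ≪≫ (DRing.restrictD ψ).mapIso e.symm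

lemma pcMod_self (hB : DRing.IsPseudoCoherent' C ((DRing.restrictD ψ).obj (Dual.inD B B))) :
    PCMod C ((ModuleCat.restrictScalars.{u} ψ).obj (ModuleCat.of B B)) := fun m =>
  ((forall_PC_iff (isProjClass_ffree C) _).2 (by
    obtain ⟨E, b, h1, h2, h3⟩ := hB
    exact ⟨E, b, h1, h2, h3⟩) m).of_iso (RAdjFin.restrictDSingle ψ 0 (ModuleCat.of B B))

/-- **Stacks Tag 064Z.** -/
theorem isPseudoCoherent'_of_restrictD
    (hB : DRing.IsPseudoCoherent' C ((DRing.restrictD ψ).obj (Dual.inD B B))) (K : Dual.D B)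
    (hK : DRing.IsPseudoCoherent' C ((DRing.restrictD ψ).obj K)) : DRing.IsPseudoCoherent' B K := by
  have hB' := pcMod_self ψ hB
  have hK' : T ψ K := (forall_PC_iff (isProjClass_ffree C) _).2 (by
    obtain ⟨E, b, h1, h2, h3⟩ := hK
    exact ⟨E, b, h1, h2, h3⟩)
  obtain ⟨b, hb⟩ := (hK' 0).exists_isLE
  rw [isLE_restrictD_iff] at hb
  obtain ⟨E, f, hf, hE, hE'⟩ := Groth.Agent.CalgB.DerRes.exists_resolution (resolutionData ψ hB')
    (DerivedCategory.Q.objPreimage K) b
    ((resolutionData ψ hB').T_iso (DerivedCategory.Q.objObjPreimageIso K).symm hK')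
    (DerivedCategory.TStructure.t.isLE_of_iso (DerivedCategory.Q.objObjPreimageIso K).symm b)
  exact ⟨E, b, hE', hE, ⟨asIso (DerivedCategory.Q.map f) ≪≫ DerivedCategory.Q.objObjPreimageIso K⟩⟩

instance : (T ψ).IsClosedUnderIsomorphisms where
  of_iso e h := fun m => (h m).of_iso ((DRing.restrictD ψ).mapIso e)

instance : (T ψ).IsTriangulated where
  exists_zero := ⟨0, isZero_zero _, fun m => PC.of_isLE (isProjClass_ffree C)
    ((isLE_restrictD_iff ψ 0 (m - 1)).2 ((DerivedCategory.isLE_iff _ _).2 fun i _ =>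
      (DerivedCategory.homologyFunctor (ModuleCat.{u} B) i).map_isZero (isZero_zero _)))⟩
  isStableUnderShiftBy a := { le_shift := fun X hX m =>
    ((hX (m + a)).shift a m rfl).of_iso (((DRing.restrictD ψ).commShiftIso a).app X).symm }
  toIsTriangulatedClosed₂ := ObjectProperty.IsTriangulatedClosed₂.mk' (fun Δ hΔ h₁ h₃ m =>
    PC.obj₂ (isProjClass_ffree C) ((DRing.restrictD ψ).map_distinguished Δ hΔ) (h₁ m) (h₃ m))

/-- Converse: restriction preserves pseudo-coherence when `B` is pseudo-coherent over `C`. -/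
theorem isPseudoCoherent'_restrictD
    (hB : DRing.IsPseudoCoherent' C ((DRing.restrictD ψ).obj (Dual.inD B B))) (K : Dual.D B)
    (hK : DRing.IsPseudoCoherent' B K) : DRing.IsPseudoCoherent' C ((DRing.restrictD ψ).obj K) := by
  have hB' := pcMod_self ψ hB
  have hK' : ∀ m, PC (ffree B) m K := (forall_PC_iff (isProjClass_ffree B) _).2 (by
    obtain ⟨E, b, h1, h2, h3⟩ := hK
    exact ⟨E, b, h1, h2, h3⟩)
  suffices h : ∀ m, PC (ffree C) m ((DRing.restrictD ψ).obj K) by
    obtain ⟨E, b, h1, h2, h3⟩ := (forall_PC_iff (isProjClass_ffree C) _).1 h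
    exact ⟨E, b, h1, h2, h3⟩
  intro m
  obtain ⟨E, b, N, α, β, γ, hΔ, hE, hEP, hN⟩ := (hK' m).exists_triangle (isProjClass_ffree B)
  have hΔ' := (DRing.restrictD ψ).map_distinguished _ hΔ
  have hE' : T ψ (DerivedCategory.Q.obj E) :=
    PerfB.BoundedInd.bounded_induction (T ψ) E m b hE (fun i m =>
      ((pcMod_ffree ψ hB' (hEP i)) m).of_iso (RAdjFin.restrictDSingle ψ 0 (E.X i)).symm)
  exact PC.obj₂ (isProjClass_ffree C) hΔ' (hE' m)
    (PC.of_isLE (isProjClass_ffree C) ((isLE_restrictD_iff ψ N (m - 1)).2 hN))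

/-- `B` pseudo-coherent over `C`: pseudo-coherence can be tested over `C`. -/
theorem isPseudoCoherent'_restrictD_iff
    (hB : DRing.IsPseudoCoherent' C ((DRing.restrictD ψ).obj (Dual.inD B B))) (K : Dual.D B) :
    DRing.IsPseudoCoherent' C ((DRing.restrictD ψ).obj K) ↔ DRing.IsPseudoCoherent' B K :=
  ⟨isPseudoCoherent'_of_restrictD ψ hB K, isPseudoCoherent'_restrictD ψ hB K⟩

end Groth.Agent.LoccohB.PCChange
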