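import Groth.Agent.LoccohB.FlatPerf

/-!
# Bounded finite projective resolutions of prescribed length

`exists_finiteProjective`: a module of type `FP_{n+1}` and flat dimension `≤ n` has a resolution by
finite projective modules in degrees `[-n, 0]`.
-/

set_option autoImplicit false

universe u

open CategoryTheory CategoryTheory.Limits Pretriangulated DerivedCategory

attribute [local instance] HasDerivedCategory.standard

namespace Groth.Agent.LoccohB.PerfAmp

open Flat2H Flat2H.TorDim

variable {A : Type u} [CommRing A]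

/-- `K` is represented by a complex of finite projective modules in degrees `[a, b]`. -/
def PerfIn (A : Type u) [CommRing A] (a b : ℤ) (K : Dual.D A) : Prop :=
  ∃ E : DRing.Cx A, DRing.VanishesOutside E a b ∧ DRing.TermwiseFiniteProjective E ∧
    Nonempty (DRing.toD E ≅ K)

lemma perfIn_of_iso {a b : ℤ} {K L : Dual.D A} (e : K ≅ L) (h : PerfIn A a b K) :
    PerfIn A a b L := by
  obtain ⟨E, h1, h2, ⟨i⟩⟩ := h
  exact ⟨E, h1, h2, ⟨i ≪≫ e⟩⟩

lemma perfIn_mono {a b a' b' : ℤ} {K : Dual.D A} (ha : a' ≤ a) (hb : b ≤ b') (h : PerfIn A a b K) :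
    PerfIn A a' b' K := by
  obtain ⟨E, h1, h2, e⟩ := h
  exact ⟨E, fun i hi => h1 i (by omega), h2, e⟩

lemma perfIn_shift {a b : ℤ} {K : Dual.D A} (n : ℤ) (h : PerfIn A a b K) :
    PerfIn A (a - n) (b - n) (K⟦n⟧) := by
  obtain ⟨E, h1, h2, ⟨i⟩⟩ := h
  exact ⟨E⟦n⟧, fun i hi => h1 (i + n) (by omega), fun i => h2 (i + n),
    ⟨(DerivedCategory.Q.commShiftIso n).app E ≪≫ (shiftFunctor (Dual.D A) n).mapIso i⟩⟩

/-- Cones. -/
lemma perfIn_obj₃ {a b : ℤ} {T : Triangle (Dual.D A)} (hT : T ∈ distTriang (Dual.D A))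
    (h1 : PerfIn A (a + 1) (b + 1) T.obj₁) (h2 : PerfIn A a b T.obj₂) : PerfIn A a b T.obj₃ := by
  obtain ⟨E, hE, hE', ⟨i⟩⟩ := h1
  obtain ⟨F, hF, hF', ⟨j⟩⟩ := h2
  have : E.IsKProjective :=
    PerfTri.isKProjective_of_vanishesAbove (fun i hi => hE i (Or.inr hi)) (fun i => (hE' i).2)
  obtain ⟨f, hf⟩ := KDer.liftsFrom_Q E (i.hom ≫ T.mor₁ ≫ j.inv)
  have h := DerivedCategory.mappingCone_triangle_distinguished f
  have e := isoTriangleOfIso₁₂ _ _ h hT i j (by
    change DerivedCategory.Q.map f ≫ j.hom = i.hom ≫ T.mor₁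
    erw [hf]; simp)
  refine ⟨CochainComplex.mappingCone f, fun i hi => ?_, fun i => ?_, ⟨Triangle.π₃.mapIso e⟩⟩
  · exact PerfTri.isZero_mappingCone_X f i (hE _ (by omega)) (hF _ (by omega))
  · have := (hE' (i + 1)).1
    have := (hE' (i + 1)).2
    have := (hF' i).1
    have := (hF' i).2
    exact ⟨PerfTri.finite_cone f i, PerfTri.projective_cone f i⟩

lemma perfIn_of_projective (M : Type u) [AddCommGroup M] [Module A M]
    [Module.Finite A M] [Module.Projective A M] : PerfIn A 0 0 (Dual.inD A M) :=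
  ⟨_, PerfTri.vanishesOutside_single M 0, PerfTri.termwiseFiniteProjective_single M 0,
    ⟨Iso.refl _⟩⟩

/-- A module of type `FP_{n+1}` and of flat dimension `≤ n` has a finite projective resolution
of length `n`. -/
theorem exists_finiteProjective (n : ℕ) :
    ∀ (M : Type u) [AddCommGroup M] [Module A M], FPn A (n + 1) M → DRing.HasTorDimLE A n M →
      PerfIn A (-(n : ℤ)) 0 (Dual.inD A M) := by
  induction n with
  | zero =>
    intro M _ _ h hd
    have := (hasTorDimLE_zero_iff (A := A) (M := M)).1 hd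
    obtain ⟨k, f, hf, hk⟩ := h
    have hk' : Module.Finite A (LinearMap.ker f) := hk
    have : Module.FinitePresentation A M :=
      Module.finitePresentation_of_surjective f hf ((Module.Finite.iff_fg).1 hk')
    have : Module.Projective A M := Module.Flat.projective_of_finitePresentation
    exact perfIn_of_projective M
  | succ n ih =>
    intro M _ _ h hd
    obtain ⟨k, f, hf, hk⟩ := h
    have h1 := (hasTorDimLE_succ_iff_ker f hf n).1 hd
    have h2 := ih _ hk h1
    obtain ⟨T, hT, e1, e2, e3⟩ := PerfTri.exists_triangle (LinearMap.ker f).subtype f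
      (Submodule.subtype_injective _) (by intro x; simp) hf
    rw [← e3]
    refine perfIn_obj₃ hT ?_ ?_
    · rw [e1]
      exact perfIn_mono (by push_cast; omega) (by omega) h2
    · rw [e2]
      exact perfIn_mono (by push_cast; omega) le_rfl (perfIn_of_projective _)

/-- A finite module over `R[x_1..x_n]`, `R` Noetherian, which is flat over `R`. -/
theorem perfIn_mvPolynomial {R : Type u} [CommRing R] [IsNoetherianRing R]
    {n : ℕ} (N : Type u) [AddCommGroup N] [Module (MvPolynomial (Fin n) R) N] [Module R N]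
    [IsScalarTower R (MvPolynomial (Fin n) R) N] [Module.Flat R N]
    [Module.Finite (MvPolynomial (Fin n) R) N] :
    PerfIn (MvPolynomial (Fin n) R) (-(n : ℤ)) 0 (Dual.inD _ N) :=
  exists_finiteProjective n N (FPInf.of_isNoetherianRing N _)
    (FlatPoly.hasTorDimLE_mvPolynomial N)

section Restrict

variable {R A : Type u} [CommRing R] [CommRing A] [Algebra R A] {n : ℕ}
    (ψ : MvPolynomial (Fin n) R →ₐ[R] A)

/-- `A` has a resolution of length `n` by finite projective modules over `R[x_1..x_n]`, for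
`R → A` flat of finite type, `R` Noetherian. -/
theorem perfIn_restrictD [IsNoetherianRing R] [Module.Flat R A] (hψ : Function.Surjective ψ) :
    PerfIn (MvPolynomial (Fin n) R) (-(n : ℤ)) 0
      ((DRing.restrictD ψ.toRingHom).obj (Dual.inD A A)) := by
  let := ψ.toRingHom.toAlgebra
  have : IsScalarTower R (MvPolynomial (Fin n) R) A :=
    IsScalarTower.of_algebraMap_eq (fun r => (ψ.commutes r).symm)
  have : Module.Finite (MvPolynomial (Fin n) R) A :=
    Module.Finite.of_surjective (Algebra.linearMap (MvPolynomial (Fin n) R) A) hψ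
  exact perfIn_of_iso (FlatPerf.restrictDInD ψ.toRingHom A).symm (perfIn_mvPolynomial A)

end Restrict

end Groth.Agent.LoccohB.PerfAmp
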