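import Groth.Agent.LoccohB.PerfTri
import Groth.Agent.LoccohB.HomCxHD
import Groth.Agent.LoccohB.BidualD
import Groth.Agent.LoccohB.HomCxBase
import Mathlib.LinearAlgebra.Dual.Lemmas

/-!
# The dual of a perfect complex is perfect

`isPerfect_homCx`: if `I` is a K-injective resolution of `A[0]` and `K` is perfect then `Hom(K, I)` is perfect.
-/

set_option autoImplicit false

universe u

open CategoryTheory CategoryTheory.Limits Pretriangulated CochainComplex CochainComplex.HomComplex

attribute [local instance] HasDerivedCategory.standard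

namespace Groth.Agent.LoccohB.PerfDual

open HomCx

variable {A : Type u} [CommRing A]

/-- `Cochain E (A[0]) n = Hom(E^{-n}, A)`. -/
noncomputable def cochainEquiv (E : DRing.Cx A) (n m : ℤ) (h : m + n = 0) :
    (DRing.homCx E (S0 A)).X n ≃ₗ[A] (E.X m →ₗ[A] (S0 A).X 0) where
  toFun := fun (z : Cochain E (S0 A) n) => (z.v m 0 h).hom
  map_add' := fun (z z' : Cochain E (S0 A) n) => rfl
  map_smul' := fun a (z : Cochain E (S0 A) n) => rfl
  invFun := fun f => Cochain.mk (fun p q hpq =>
    if hq : q = 0 then eqToHom (by rw [show p = m by lia]) ≫ ModuleCat.ofHom f ≫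
      eqToHom (by rw [hq]) else 0)
  left_inv := fun (z : Cochain E (S0 A) n) => by
    refine Cochain.ext _ _ fun p q hpq => ?_
    by_cases hq : q = 0
    · obtain rfl : q = 0 := hq
      obtain rfl : p = m := by lia
      simp
    · exact (isZero_S0_X q hq).eq_of_tgt _ _
  right_inv := fun f => by
    simp

lemma termwiseFiniteProjective_homCx {E : DRing.Cx A} (hE : DRing.TermwiseFiniteProjective E) :
    DRing.TermwiseFiniteProjective (DRing.homCx E (S0 A)) := by
  intro n
  have h1 := (hE (-n)).1
  have h2 := (hE (-n)).2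
  let e : (DRing.homCx E (S0 A)).X n ≃ₗ[A] Module.Dual A (E.X (-n)) :=
    cochainEquiv E n (-n) (by lia) ≪≫ₗ
      LinearEquiv.congrRight (s0Iso A).toLinearEquiv
  exact ⟨Module.Finite.equiv e.symm, Module.Projective.of_equiv e.symm⟩

lemma vanishesOutside_homCx {E : DRing.Cx A} {a b : ℤ} (hE : DRing.VanishesOutside E a b) :
    DRing.VanishesOutside (DRing.homCx E (S0 A)) (-b) (-a) := by
  intro i hi
  refine isZero_homCx_X E (S0 A) i fun p => ?_
  by_cases hp : p = -i
  · exact Or.inl (hE p (by lia))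
  · exact Or.inr (isZero_S0_X _ (by lia))

/-- `Hom(E, -)` preserves quasi-isomorphisms for `E` K-projective. -/
lemma quasiIso_homCxMap (E : DRing.Cx A) [E.IsKProjective] {L L' : DRing.Cx A} (f : L ⟶ L')
    [QuasiIso f] : QuasiIso (DRing.homCxMap E f) := by
  rw [quasiIso_iff]
  intro n
  rw [quasiIsoAt_iff_isIso_homologyMap, ConcreteCategory.isIso_iff_bijective]
  let h1 := HomCxHD.computes_of_isKProjective E L
  let h2 := HomCxHD.computes_of_isKProjective E L'
  have h3 : ⇑(HomCxHD.homologyEquiv E L' n h2) ∘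
      ⇑(HomologicalComplex.homologyMap (DRing.homCxMap E f) n).hom =
      (fun y => y ≫ (DerivedCategory.Q.map f)⟦n⟧') ∘ ⇑(HomCxHD.homologyEquiv E L n h1) := by
    ext y
    exact HomCxHD.homologyEquiv_post f n h1 h2 y
  have h4 : Function.Bijective ((fun y : DerivedCategory.Q.obj E ⟶ (DerivedCategory.Q.obj L)⟦n⟧ =>
      y ≫ (DerivedCategory.Q.map f)⟦n⟧') ∘ ⇑(HomCxHD.homologyEquiv E L n h1)) := by
    refine Function.Bijective.comp ?_ (LinearEquiv.bijective _)
    exact ((Iso.refl _).homCongr (asIso ((DerivedCategory.Q.map f)⟦n⟧'))).bijective.comp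
      (f := fun y => y) Function.bijective_id |> fun h => by
        convert h using 1
        ext y
        simp
  rw [← h3] at h4
  exact (Function.Bijective.of_comp_iff' (LinearEquiv.bijective _) _).1 h4

theorem isPerfect_homCx {I : DRing.Cx A} [I.IsKInjective] (s : S0 A ⟶ I) [QuasiIso s]
    (K : DRing.Cx A) (hK : DRing.IsPerfect A (DRing.toD K)) :
    DRing.IsPerfect A (DRing.toD (DRing.homCx K I)) := by
  obtain ⟨E, a, b, hE, hE', ⟨e⟩⟩ := hK
  obtain ⟨e1⟩ := BidualD.nonempty_homCx_iso I e
  have : E.IsKProjective := PerfTri.isKProjective_of_vanishesAbove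
    (fun i hi => hE i (Or.inr hi)) (fun i => (hE' i).2)
  have := quasiIso_homCxMap E s
  exact ⟨DRing.homCx E (S0 A), -b, -a, vanishesOutside_homCx hE, termwiseFiniteProjective_homCx hE',
    ⟨asIso (DerivedCategory.Q.map (DRing.homCxMap E s)) ≪≫ e1⟩⟩

end Groth.Agent.LoccohB.PerfDual
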