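import Groth.Agent.LoccohB.AdjIso
import Groth.Agent.LoccohB.DQCohTri
import Groth.Agent.Dcoh.DerPull
import Groth.Agent.CurvesC.HomHV
import Groth.Agent.PerfA.TildeMain
import Groth.Agent.PerfB.TildeExact
import Groth.Agent.PerfB.TwistDer
import Groth.Agent.Fga.UnitRestrict
import Groth.Agent.Dcoh.KFlatMod
import Groth.Agent.Fdesc.LocGen

/-!
# `D_QCoh` of an affine scheme is generated by the structure sheaf; `Lf^* O = O`
-/

set_option autoImplicit false

universe u

open CategoryTheory CategoryTheory.Limits AlgebraicGeometry Pretriangulated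

attribute [local instance] HasDerivedCategory.standard

namespace Groth.Agent.LoccohB.PnDual287

/-- `O_X` in the derived category. -/
noncomputable abbrev OD (X : Scheme.{u}) : DCoh.D X := DCoh.inD X (Coh.structureModule X)

section Affine

variable (R : CommRingCat.{u})

/-- On an affine scheme the structure sheaf generates `D_QCoh`. -/
theorem isZero_of_hom_OD_eq_zero (K : DCoh.D (Spec R)) (hK : DCoh.IsQCohD K)
    (h : ∀ (m : ℤ) (φ : (OD (Spec R))⟦m⟧ ⟶ K), φ = 0) : IsZero K := by
  have := PerfB.TildeExact.preservesFiniteLimits_tilde R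
  obtain ⟨M, ⟨e⟩⟩ := PerfA.TildeMain.exists_iso R K hK
  have hM : IsZero M := by
    refine PerfA.TildeAbs.isZero_of_hom_single (PerfA.QCohAcyc.detects_self R) M ?_
    rintro m G ⟨eG⟩ φ
    apply (PerfA.TildeMain.bijective_map R _ M).1
    dsimp only
    rw [Functor.map_zero]
    let e1 : (OD (Spec R))⟦-m⟧ ≅
        (DerivedCategory.singleFunctor (Spec R).Modules m).obj (Coh.structureModule (Spec R)) :=
      ((DerivedCategory.singleFunctors (Spec R).Modules).shiftIso (-m) m 0 (by lia)).app _
    let e2 : (DerivedCategory.singleFunctor (Spec R).Modules m).obj (Coh.structureModule (Spec R)) ≅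
        (DerivedCategory.singleFunctor (Spec R).Modules m).obj ((tilde.functor R).obj G) :=
      (DerivedCategory.singleFunctor (Spec R).Modules m).mapIso ((tilde.functor R).mapIso eG).symm
    let e3 := ((tilde.functor R).mapDerivedCategorySingleFunctor m).app G
    have h1 := h (-m) (e1.hom ≫ e2.hom ≫ e3.inv ≫ (tilde.functor R).mapDerivedCategory.map φ ≫ e.hom)
    rw [← cancel_epi e3.inv, ← cancel_epi e2.hom, ← cancel_epi e1.hom, ← cancel_mono e.hom,
      Category.assoc, Category.assoc, Category.assoc, h1]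
    simp
  exact (Functor.map_isZero (tilde.functor R).mapDerivedCategory hM).of_iso e.symm

/-- Criterion for isomorphisms in `D_QCoh` of an affine scheme. -/
theorem isIso_of_bijective {N M : DCoh.D (Spec R)} (hN : DCoh.IsQCohD N) (hM : DCoh.IsQCohD M)
    (φ : N ⟶ M) (hbij : ∀ m : ℤ, Function.Bijective (fun u : (OD (Spec R))⟦m⟧ ⟶ N => u ≫ φ)) :
    IsIso φ :=
  AdjIso.isIso_of_generators (fun _ : Unit => OD (Spec R)) φ
    (fun Z _ _ hT hZ => isZero_of_hom_OD_eq_zero R Z
      (ObjectProperty.ext_of_isTriangulatedClosed₃ DCoh.IsQCohD _ hT hN hM) (fun m φ => hZ () m φ))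
    (fun _ => hbij)

end Affine

section Unit

variable {X S : Scheme.{u}} (f : X ⟶ S)

/-- `Lf^* O_S ≅ O_X`, compatible with endomorphisms. -/
theorem exists_lpull_OD [DCoh.HasLpull f] : ∃ e : (DCoh.Lpull f).obj (OD S) ≅ OD X,
    ∀ (a : Coh.structureModule S ⟶ Coh.structureModule S)
      (b : Coh.structureModule X ⟶ Coh.structureModule X),
      (Scheme.Modules.pullback f).map a ≫ Fga.UnitRestrict.pullbackUnitHom f =
        Fga.UnitRestrict.pullbackUnitHom f ≫ b →
      (DCoh.Lpull f).map ((DerivedCategory.singleFunctor S.Modules 0).map a) ≫ e.hom =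
        e.hom ≫ (DerivedCategory.singleFunctor X.Modules 0).map b := by
  let s := CochainComplex.singleFunctor S.Modules 0
  let sX := CochainComplex.singleFunctor X.Modules 0
  have hK : DCoh.IsKFlat (s.obj (Coh.structureModule S)) :=
    Dcoh.KFlatMod.isKFlat_single _
      (PerfB.TensInv.isFlat_of_isInvertible Fdesc.LocGen.isInvertible_structureModule) 0
  have := Dcoh.DerPull.isIso_lpullCounitQ_app f _ hK
  let i1 := DerivedCategory.singleFunctorIsoCompQ S.Modules 0
  let i5 := DerivedCategory.singleFunctorIsoCompQ X.Modules 0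
  let c := Dcoh.DerPull.lpullCounitQ f
  let j := HomologicalComplex.singleMapHomologicalComplex (Scheme.Modules.pullback f)
    (ComplexShape.up ℤ) 0
  let P := (Scheme.Modules.pullback f).mapHomologicalComplex (ComplexShape.up ℤ)
  let e1 : (DCoh.Lpull f).obj (OD S) ≅
      (DCoh.Lpull f).obj (DerivedCategory.Q.obj (s.obj (Coh.structureModule S))) :=
    (DCoh.Lpull f).mapIso (i1.app (Coh.structureModule S))
  let e2 : (DCoh.Lpull f).obj (DerivedCategory.Q.obj (s.obj (Coh.structureModule S))) ≅
      DerivedCategory.Q.obj (P.obj (s.obj (Coh.structureModule S))) :=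
    asIso (c.app (s.obj (Coh.structureModule S)))
  let e3 : DerivedCategory.Q.obj (P.obj (s.obj (Coh.structureModule S))) ≅
      DerivedCategory.Q.obj (sX.obj ((Scheme.Modules.pullback f).obj (Coh.structureModule S))) :=
    DerivedCategory.Q.mapIso (j.app (Coh.structureModule S))
  let e4 : DerivedCategory.Q.obj (sX.obj ((Scheme.Modules.pullback f).obj (Coh.structureModule S))) ≅
      DerivedCategory.Q.obj (sX.obj (Coh.structureModule X)) :=
    DerivedCategory.Q.mapIso (sX.mapIso (Fga.UnitRestrict.pullbackUnitIso f))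
  let e5 : DerivedCategory.Q.obj (sX.obj (Coh.structureModule X)) ≅ OD X :=
    (i5.app (Coh.structureModule X)).symm
  refine ⟨e1 ≪≫ e2 ≪≫ e3 ≪≫ e4 ≪≫ e5, fun a b hab => ?_⟩
  have h1 : (DCoh.Lpull f).map ((DerivedCategory.singleFunctor S.Modules 0).map a) ≫ e1.hom =
      e1.hom ≫ (DCoh.Lpull f).map (DerivedCategory.Q.map (s.map a)) := by
    have := congrArg (DCoh.Lpull f).map (i1.hom.naturality a)
    rw [Functor.map_comp, Functor.map_comp] at this
    exact this
  have h2 : (DCoh.Lpull f).map (DerivedCategory.Q.map (s.map a)) ≫ e2.hom =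
      e2.hom ≫ DerivedCategory.Q.map (P.map (s.map a)) := c.naturality (s.map a)
  have h3 : DerivedCategory.Q.map (P.map (s.map a)) ≫ e3.hom =
      e3.hom ≫ DerivedCategory.Q.map (sX.map ((Scheme.Modules.pullback f).map a)) := by
    have := congrArg DerivedCategory.Q.map (j.hom.naturality a)
    rw [Functor.map_comp, Functor.map_comp] at this
    exact this
  have h4 : DerivedCategory.Q.map (sX.map ((Scheme.Modules.pullback f).map a)) ≫ e4.hom =
      e4.hom ≫ DerivedCategory.Q.map (sX.map b) := by
    have := congrArg (fun t => DerivedCategory.Q.map (sX.map t)) hab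
    simp only [Functor.map_comp] at this
    exact this
  have h5 : DerivedCategory.Q.map (sX.map b) ≫ e5.hom =
      e5.hom ≫ (DerivedCategory.singleFunctor X.Modules 0).map b := i5.inv.naturality b
  simp only [Iso.trans_hom, Category.assoc]
  rw [reassoc_of% h1, reassoc_of% h2, reassoc_of% h3, reassoc_of% h4, h5]

end Unit

section Scalars

variable (A : Type u) [CommRing A]

lemma unitToPush_smulMod (X : Scheme.{u}) [X.Over (Spec (CommRingCat.of A))] (a : A) :
    Formal.smulMod A (Coh.structureModule (Spec (CommRingCat.of A))) a ≫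
      Fga.UnitRestrict.unitToPush (X ↘ Spec (CommRingCat.of A)) =
    Fga.UnitRestrict.unitToPush (X ↘ Spec (CommRingCat.of A)) ≫
      (Scheme.Modules.pushforward (X ↘ Spec (CommRingCat.of A))).map
        (Formal.smulMod A (Coh.structureModule X) a) := by
  set f : X ⟶ Spec (CommRingCat.of A) := X ↘ Spec (CommRingCat.of A) with hf
  apply Scheme.Modules.hom_ext
  intro U
  ext t
  let r : Γ(Spec (CommRingCat.of A), ⊤) := (Scheme.ΓSpecIso (CommRingCat.of A)).inv.hom a
  have e2 : f.app U ((Spec (CommRingCat.of A)).presheaf.map (homOfLE le_top : U ⟶ ⊤).op r) =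
      X.presheaf.map (homOfLE le_top : f ⁻¹ᵁ U ⟶ ⊤).op (f.appTop r) :=
    ConcreteCategory.congr_hom (f.naturality (homOfLE le_top : U ⟶ ⊤).op) r
  have e3 : (Spec (CommRingCat.of A) ↘ Spec (CommRingCat.of A)).appTop r = r := rfl
  let t' : Γ(Spec (CommRingCat.of A), U) := t
  change f.app U ((Spec (CommRingCat.of A)).presheaf.map (homOfLE le_top : U ⟶ ⊤).op
      ((Spec (CommRingCat.of A) ↘ Spec (CommRingCat.of A)).appTop r) * t') =
    X.presheaf.map (homOfLE le_top : f ⁻¹ᵁ U ⟶ ⊤).op (f.appTop r) * f.app U t'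
  rw [e3, map_mul, e2]

lemma pullback_map_smulMod (X : Scheme.{u}) [X.Over (Spec (CommRingCat.of A))] (a : A) :
    (Scheme.Modules.pullback (X ↘ Spec (CommRingCat.of A))).map
      (Formal.smulMod A (Coh.structureModule (Spec (CommRingCat.of A))) a) ≫
        Fga.UnitRestrict.pullbackUnitHom (X ↘ Spec (CommRingCat.of A)) =
      Fga.UnitRestrict.pullbackUnitHom (X ↘ Spec (CommRingCat.of A)) ≫
        Formal.smulMod A (Coh.structureModule X) a := by
  apply ((Scheme.Modules.pullbackPushforwardAdjunction (X ↘ Spec (CommRingCat.of A))).homEquiv _ _).injective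
  rw [Adjunction.homEquiv_naturality_left, Adjunction.homEquiv_naturality_right,
    Adjunction.homEquiv_unit, Fga.UnitRestrict.unit_pullbackUnitHom]
  exact unitToPush_smulMod A X a

/-- Every endomorphism of the structure sheaf of `Spec A` is a multiplication by an element of `A`. -/
lemma exists_smulMod (u : Coh.structureModule (Spec (CommRingCat.of A)) ⟶
    Coh.structureModule (Spec (CommRingCat.of A))) :
    ∃ a : A, u = Formal.smulMod A (Coh.structureModule (Spec (CommRingCat.of A))) a := by
  let r : Γ(Spec (CommRingCat.of A), ⊤) := u.app ⊤ (Dcoh.Restrict.one ⊤)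
  refine ⟨(Scheme.ΓSpecIso (CommRingCat.of A)).hom.hom r, ?_⟩
  apply Dcoh.Restrict.unit_hom_ext
  let r' : Γ(Spec (CommRingCat.of A), ⊤) :=
    (Scheme.ΓSpecIso (CommRingCat.of A)).inv.hom ((Scheme.ΓSpecIso (CommRingCat.of A)).hom.hom r)
  have e1 : r' = r := ConcreteCategory.congr_hom (Scheme.ΓSpecIso (CommRingCat.of A)).hom_inv_id r
  have e2 : (Spec (CommRingCat.of A)).presheaf.map (homOfLE le_top :
      (⊤ : (Spec (CommRingCat.of A)).Opens) ⟶ ⊤).op r' = r' :=
    ConcreteCategory.congr_hom ((Spec (CommRingCat.of A)).presheaf.map_id _) r'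
  have e3 : (Spec (CommRingCat.of A) ↘ Spec (CommRingCat.of A)).appTop r' = r' := rfl
  change r = (Spec (CommRingCat.of A)).presheaf.map (homOfLE le_top :
      (⊤ : (Spec (CommRingCat.of A)).Opens) ⟶ ⊤).op
        ((Spec (CommRingCat.of A) ↘ Spec (CommRingCat.of A)).appTop r') *
          (1 : Γ(Spec (CommRingCat.of A), ⊤))
  rw [e3, mul_one, e2, e1]

end Scalars

end Groth.Agent.LoccohB.PnDual287
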