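import Groth.Agent.LoccohB.PnDual287
import Groth.Agent.PerfA.QCohD
import Groth.Agent.CohqA.AffineVanish

/-!
# `Rf_* N ≅ O` when `RΓ(X, N) ≅ A`
-/

set_option autoImplicit false

universe u

open CategoryTheory CategoryTheory.Limits AlgebraicGeometry Pretriangulated

attribute [local instance] HasDerivedCategory.standard

namespace Groth.Agent.LoccohB.PnDual287

section Shift

variable {D : Type*} [Category* D] [HasShift D ℤ]

/-- maps `X⟦m⟧ ⟶ K` and maps `X ⟶ K⟦-m⟧`. -/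
noncomputable def shiftHomEquiv (X K : D) (m : ℤ) : (X⟦m⟧ ⟶ K) ≃ (X ⟶ K⟦-m⟧) :=
  (shiftEquiv D m).toAdjunction.homEquiv X K

lemma subsingleton_of_shift {X K : D} (m : ℤ) (h : Subsingleton (X ⟶ K⟦-m⟧)) :
    Subsingleton (X⟦m⟧ ⟶ K) := (shiftHomEquiv X K m).subsingleton

omit [HasShift D ℤ] in
lemma subsingleton_of_iso {X X' K K' : D} (e : X ≅ X') (e' : K ≅ K') (h : Subsingleton (X ⟶ K)) :
    Subsingleton (X' ⟶ K') :=
  ⟨fun x y => by
    rw [← cancel_epi e.hom, ← cancel_mono e'.inv]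
    exact h.elim _ _⟩

/-- Homs into a double shift. -/
lemma subsingleton_shift_shift {X K : D} (a b c : ℤ) (hc : a + b = c) (h : Subsingleton (X ⟶ K⟦c⟧)) :
    Subsingleton (X ⟶ (K⟦a⟧)⟦b⟧) :=
  subsingleton_of_iso (Iso.refl X) ((shiftFunctorAdd' D a b c hc).app K) h

/-- maps between shifts -/
lemma subsingleton_both {X K : D} (h : ∀ k : ℤ, Subsingleton (X ⟶ K⟦k⟧)) (a b : ℤ) :
    Subsingleton (X⟦a⟧ ⟶ K⟦b⟧) :=
  subsingleton_of_shift a (subsingleton_shift_shift b (-a) _ rfl (h _))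

lemma bijective_map_shift {D' : Type*} [Category* D'] [HasShift D' ℤ] (T : D ⥤ D') [T.CommShift ℤ]
    (G : D) (h : ∀ K, Function.Bijective (fun u : G ⟶ K => T.map u)) (m : ℤ) (K : D) :
    Function.Bijective (fun u : G⟦m⟧ ⟶ K => T.map u) := by
  let c : (K⟦-m⟧)⟦m⟧ ≅ K := (shiftFunctorCompIsoId D (-m) m (by lia)).app K
  let σ : T.obj (G⟦m⟧) ≅ (T.obj G)⟦m⟧ := (T.commShiftIso m).app G
  let τ : T.obj ((K⟦-m⟧)⟦m⟧) ≅ (T.obj (K⟦-m⟧))⟦m⟧ := (T.commShiftIso m).app (K⟦-m⟧)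
  have key : ∀ v : G ⟶ K⟦-m⟧, T.map (v⟦m⟧') = σ.hom ≫ (T.map v)⟦m⟧' ≫ τ.inv := by
    intro v
    have h1 : T.map (v⟦m⟧') ≫ τ.hom = σ.hom ≫ (T.map v)⟦m⟧' := (T.commShiftIso m).hom.naturality v
    rw [← Category.assoc, Iso.eq_comp_inv, h1]
  constructor
  · intro u u' huu'
    dsimp only at huu'
    obtain ⟨v, hv⟩ := (shiftFunctor D m).map_surjective (u ≫ c.inv)
    obtain ⟨v', hv'⟩ := (shiftFunctor D m).map_surjective (u' ≫ c.inv)
    have h2 : T.map (v⟦m⟧') = T.map (v'⟦m⟧') := by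
      rw [hv, hv', T.map_comp, T.map_comp, huu']
    rw [key, key, cancel_epi, cancel_mono] at h2
    have h3 : v = v' := (h _).1 ((shiftFunctor D' m).map_injective h2)
    rw [← cancel_mono c.inv, ← hv, ← hv', h3]
  · intro y
    obtain ⟨w, hw⟩ := (shiftFunctor D' m).map_surjective (σ.inv ≫ y ≫ T.map c.inv ≫ τ.hom)
    obtain ⟨v, hv⟩ := (h _).2 w
    dsimp only at hv
    refine ⟨v⟦m⟧' ≫ c.hom, ?_⟩
    dsimp only
    rw [T.map_comp, key, hv, hw]
    simp only [Category.assoc, Iso.hom_inv_id_assoc, Iso.hom_inv_id, Category.comp_id]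
    rw [← T.map_comp, c.inv_hom_id, T.map_id, Category.comp_id]

end Shift

section Cohomology

variable (X : Scheme.{u})

/-- Vanishing of `Hom(O_X, M[k])` in terms of cohomology. -/
theorem subsingleton_hom (M : X.Modules) (k : ℤ)
    (h : ∀ q : ℕ, (q : ℤ) = k → Subsingleton (Coh.HH X M q)) :
    Subsingleton (OD X ⟶ (DCoh.inD X M)⟦k⟧) := by
  rcases lt_or_ge k 0 with hk | hk
  · have h1 : (OD X).IsLE 0 := inferInstance
    have h2 : (DCoh.inD X M).IsGE 0 := inferInstance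
    have h3 : ((DCoh.inD X M)⟦k⟧).IsGE (-k) :=
      DerivedCategory.TStructure.t.isGE_shift (DCoh.inD X M) 0 k (-k) (by lia)
    have h4 : ∀ f : OD X ⟶ (DCoh.inD X M)⟦k⟧, f = 0 := fun f =>
      DerivedCategory.TStructure.t.zero f 0 (-k) (by lia)
    exact ⟨fun x y => (h4 x).trans (h4 y).symm⟩
  · obtain ⟨q, rfl⟩ := Int.eq_ofNat_of_zero_le hk
    have h1 : Subsingleton (Coh.HH X M q) := h q rfl
    have h2 : Subsingleton (CurvesC.HV X M q) := h1
    exact (CurvesC.HomHV.homHV M q).toEquiv.subsingleton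

/-- `Hom(O, M[k]) = 0` for `k ≠ 0` on an affine scheme. -/
theorem subsingleton_hom_of_isAffine [IsAffine X] (M : X.Modules) (hM : Coh.IsQCoh M) (k : ℤ)
    (hk : k ≠ 0) : Subsingleton (OD X ⟶ (DCoh.inD X M)⟦k⟧) :=
  subsingleton_hom X M k fun q hq =>
    CohqA.AffineVanish.HH_subsingleton X M q (by lia)

theorem isQCohD_OD : DCoh.IsQCohD (OD X) :=
  PerfA.QCohD.isQCohD_inD _ (PerfB.TensInv.isQCoh_of_isInvertible Fdesc.LocGen.isInvertible_structureModule)

end Cohomology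

section Main

variable (A : Type u) [CommRing A]

/-- Multiplication by `a` on `O_X` in the derived category. -/
noncomputable abbrev mD (X : Scheme.{u}) [X.Over (Spec (CommRingCat.of A))] (a : A) : OD X ⟶ OD X :=
  (DerivedCategory.singleFunctor X.Modules 0).map (Formal.smulMod A (Coh.structureModule X) a)

/-- Every endomorphism of `O` in `D(Spec A)` is a multiplication. -/
theorem exists_mD (u : OD (Spec (CommRingCat.of A)) ⟶ OD (Spec (CommRingCat.of A))) :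
    ∃ a : A, u = mD A (Spec (CommRingCat.of A)) a := by
  obtain ⟨v, rfl⟩ := (DerivedCategory.singleFunctor (Spec (CommRingCat.of A)).Modules 0).map_surjective u
  obtain ⟨a, rfl⟩ := exists_smulMod A v
  exact ⟨a, rfl⟩

/-- If `Hom(O, P)` is free of rank one over `A` and `Hom(O, P[k]) = 0` for `k ≠ 0` then `P ≅ O`. -/
theorem exists_isIso (P : DCoh.D (Spec (CommRingCat.of A))) (hP : DCoh.IsQCohD P)
    (h0 : ∀ k : ℤ, k ≠ 0 → Subsingleton (OD (Spec (CommRingCat.of A)) ⟶ P⟦k⟧))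
    (ψ : (OD (Spec (CommRingCat.of A)) ⟶ P) ≃ A)
    (hψ : ∀ (a : A) (g : OD (Spec (CommRingCat.of A)) ⟶ P), ψ (mD A _ a ≫ g) = a * ψ g) :
    ∃ g : OD (Spec (CommRingCat.of A)) ⟶ P, IsIso g := by
  refine ⟨ψ.symm 1, isIso_of_bijective (CommRingCat.of A) (isQCohD_OD _) hP _ fun m => ?_⟩
  by_cases hm : m = 0
  · subst hm
    let e := (shiftFunctorZero (DCoh.D (Spec (CommRingCat.of A))) ℤ).app (OD (Spec (CommRingCat.of A)))
    constructor
    · intro x y hxy
      obtain ⟨a, ha⟩ := exists_mD A (e.inv ≫ x)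
      obtain ⟨b, hb⟩ := exists_mD A (e.inv ≫ y)
      have h1 : ψ ((e.inv ≫ x) ≫ ψ.symm 1) = ψ ((e.inv ≫ y) ≫ ψ.symm 1) := by
        rw [Category.assoc, Category.assoc]
        dsimp only at hxy
        rw [hxy]
      rw [ha, hb, hψ, hψ, Equiv.apply_symm_apply, mul_one, mul_one] at h1
      rw [← cancel_epi e.inv, ha, hb, h1]
    · intro y
      refine ⟨e.hom ≫ mD A _ (ψ (e.inv ≫ y)), ?_⟩
      dsimp only
      rw [Category.assoc, ← cancel_epi e.inv, Iso.inv_hom_id_assoc]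
      apply ψ.injective
      rw [hψ, Equiv.apply_symm_apply, mul_one]
  · have h1 : Subsingleton ((OD (Spec (CommRingCat.of A)))⟦m⟧ ⟶ OD (Spec (CommRingCat.of A))) :=
      subsingleton_of_shift m (subsingleton_hom_of_isAffine _ _
        (PerfB.TensInv.isQCoh_of_isInvertible Fdesc.LocGen.isInvertible_structureModule) _ (by lia))
    have h2 : Subsingleton ((OD (Spec (CommRingCat.of A)))⟦m⟧ ⟶ P) :=
      subsingleton_of_shift m (h0 _ (by lia))
    exact ⟨fun x y _ => h1.elim x y, fun y => ⟨0, h2.elim _ _⟩⟩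

end Main

end Groth.Agent.LoccohB.PnDual287
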