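import Groth.Agent.LoccohB.PnDual287b

/-!
# `Rf_* N ≅ O` when `RΓ(X, N) ≅ A`: the adjunction
-/

set_option autoImplicit false

universe u

open CategoryTheory CategoryTheory.Limits AlgebraicGeometry Pretriangulated

attribute [local instance] HasDerivedCategory.standard

namespace Groth.Agent.LoccohB.PnDual287

variable {A : Type u} [CommRing A] {X : Scheme.{u}} [X.Over (Spec (CommRingCat.of A))]
  {f : X ⟶ Spec (CommRingCat.of A)} [DCoh.HasRpush f]

/-- A left adjoint of `Rf_*` with its value on `O`. -/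
theorem exists_adj (hf : X ↘ Spec (CommRingCat.of A) = f) :
    ∃ (L : DCoh.D (Spec (CommRingCat.of A)) ⥤ DCoh.D X) (_ : L ⊣ DCoh.Rpush f)
      (e : L.obj (OD (Spec (CommRingCat.of A))) ≅ OD X),
      ∀ a : A, L.map (mD A (Spec (CommRingCat.of A)) a) ≫ e.hom = e.hom ≫ mD A X a := by
  subst hf
  have := Dcoh.DerPull.hasLpull (X ↘ Spec (CommRingCat.of A))
  obtain ⟨e, he⟩ := exists_lpull_OD (X ↘ Spec (CommRingCat.of A))
  exact ⟨DCoh.Lpull (X ↘ Spec (CommRingCat.of A)),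
    Dcoh.DerPull.lpullAdj (X ↘ Spec (CommRingCat.of A)), e,
    fun a => he _ _ (pullback_map_smulMod A X a)⟩

variable {L : DCoh.D (Spec (CommRingCat.of A)) ⥤ DCoh.D X} (ad : L ⊣ DCoh.Rpush f)
  (e : L.obj (OD (Spec (CommRingCat.of A))) ≅ OD X)

/-- `Hom(O_S, Rf_* N) = Hom(O_X, N)`. -/
noncomputable def homEquivOD (N : DCoh.D X) :
    (OD (Spec (CommRingCat.of A)) ⟶ (DCoh.Rpush f).obj N) ≃ (OD X ⟶ N) :=
  ((ad.homEquiv _ N).symm).trans
    { toFun := fun u => e.inv ≫ u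
      invFun := fun u => e.hom ≫ u
      left_inv := fun u => by simp
      right_inv := fun u => by simp }

lemma homEquivOD_mD (he : ∀ a : A, L.map (mD A (Spec (CommRingCat.of A)) a) ≫ e.hom = e.hom ≫ mD A X a)
    (N : DCoh.D X) (a : A) (g : OD (Spec (CommRingCat.of A)) ⟶ (DCoh.Rpush f).obj N) :
    homEquivOD ad e N (mD A _ a ≫ g) = mD A X a ≫ homEquivOD ad e N g := by
  change e.inv ≫ (ad.homEquiv _ N).symm (mD A _ a ≫ g) = mD A X a ≫ e.inv ≫ (ad.homEquiv _ N).symm g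
  rw [Adjunction.homEquiv_naturality_left_symm, ← cancel_epi e.hom, Iso.hom_inv_id_assoc,
    ← Category.assoc e.hom, ← he a]
  simp only [Category.assoc, Iso.hom_inv_id_assoc]

include ad e

omit [X.Over (Spec (CommRingCat.of A))] in
lemma subsingleton_hom_Rpush (N : DCoh.D X) (k : ℤ) (h : Subsingleton (OD X ⟶ N⟦k⟧)) :
    Subsingleton (OD (Spec (CommRingCat.of A)) ⟶ ((DCoh.Rpush f).obj N)⟦k⟧) := by
  let := Dcoh.DerSch.rpushCommShift f
  exact subsingleton_of_iso (Iso.refl _) (((DCoh.Rpush f).commShiftIso k).app N)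
    (homEquivOD ad e (N⟦k⟧)).subsingleton

/-- `O ≅ Rf_* N` if `RΓ(X, N) ≅ A`. -/
theorem exists_isIso_Rpush
    (he : ∀ a : A, L.map (mD A (Spec (CommRingCat.of A)) a) ≫ e.hom = e.hom ≫ mD A X a)
    (N : DCoh.D X) (hN : DCoh.IsQCohD ((DCoh.Rpush f).obj N))
    (h0 : ∀ k : ℤ, k ≠ 0 → Subsingleton (OD X ⟶ N⟦k⟧)) (ψ : (OD X ⟶ N) ≃ A)
    (hψ : ∀ (a : A) (g : OD X ⟶ N), ψ (mD A X a ≫ g) = a * ψ g) :
    ∃ g : OD (Spec (CommRingCat.of A)) ⟶ (DCoh.Rpush f).obj N, IsIso g := by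
  refine exists_isIso A _ hN (fun k hk => subsingleton_hom_Rpush ad e N k (h0 k hk))
    ((homEquivOD ad e N).trans ψ) fun a g => ?_
  change ψ (homEquivOD ad e N _) = a * ψ (homEquivOD ad e N g)
  rw [homEquivOD_mD ad e he, hψ]

omit ad e [DCoh.HasRpush f] in
lemma mD_comm (a b : A) :
    mD A X a ≫ mD A X b = mD A X b ≫ mD A X a := by
  rw [← Functor.map_comp, ← Functor.map_comp]
  congr 1
  have h1 := FormalB.ModPow.smulMod_mul (A := A) (Coh.structureModule X) a b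
  have h2 := FormalB.ModPow.smulMod_mul (A := A) (Coh.structureModule X) b a
  rw [← h2, ← h1, mul_comm]

/-- The unit is an isomorphism at `O` as soon as `O ≅ Rf_* O` in some way. -/
theorem isIso_unit (g : OD (Spec (CommRingCat.of A)) ⟶ (DCoh.Rpush f).obj (OD X)) [IsIso g] :
    IsIso (ad.unit.app (OD (Spec (CommRingCat.of A)))) := by
  let g₂ : OD (Spec (CommRingCat.of A)) ≅ (DCoh.Rpush f).obj (L.obj (OD (Spec (CommRingCat.of A)))) :=
    asIso g ≪≫ (DCoh.Rpush f).mapIso e.symm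
  let w := (ad.homEquiv (OD (Spec (CommRingCat.of A))) _).symm g₂.hom
  have hw : ad.unit.app _ ≫ (DCoh.Rpush f).map w = g₂.hom := by
    have h0 : ad.homEquiv (OD (Spec (CommRingCat.of A))) _ w = g₂.hom := Equiv.apply_symm_apply _ _
    rw [Adjunction.homEquiv_unit] at h0
    exact h0
  let v : OD (Spec (CommRingCat.of A)) ⟶ OD (Spec (CommRingCat.of A)) :=
    ad.unit.app (OD (Spec (CommRingCat.of A))) ≫ g₂.inv
  let v' := g₂.hom ≫ (DCoh.Rpush f).map w ≫ g₂.inv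
  have h1 : v ≫ v' = 𝟙 _ := by
    change (ad.unit.app (OD (Spec (CommRingCat.of A))) ≫ g₂.inv) ≫ g₂.hom ≫
      (DCoh.Rpush f).map w ≫ g₂.inv = 𝟙 _
    rw [Category.assoc, Iso.inv_hom_id_assoc, ← Category.assoc]
    exact (congrArg (· ≫ g₂.inv) hw).trans g₂.hom_inv_id
  obtain ⟨a, ha⟩ := exists_mD A v
  obtain ⟨b, hb⟩ := exists_mD A v'
  have h2 : v' ≫ v = 𝟙 _ := by
    rw [← h1, ha, hb, mD_comm]
  have hv : IsIso v := ⟨v', h1, h2⟩
  have h3 : ad.unit.app (OD (Spec (CommRingCat.of A))) = v ≫ g₂.hom := by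
    change _ = (ad.unit.app (OD (Spec (CommRingCat.of A))) ≫ g₂.inv) ≫ g₂.hom
    rw [Category.assoc, Iso.inv_hom_id, Category.comp_id]
  rw [h3]
  infer_instance

/-- `Rf_*` is fully faithful on maps out of shifts of `O_X`. -/
theorem bijective_map (g : OD (Spec (CommRingCat.of A)) ⟶ (DCoh.Rpush f).obj (OD X)) [IsIso g]
    (m : ℤ) (K : DCoh.D X) :
    Function.Bijective (fun u : (OD X)⟦m⟧ ⟶ K => (DCoh.Rpush f).map u) := by
  let := Dcoh.DerSch.rpushCommShift f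
  have := isIso_unit ad e g
  exact bijective_map_shift (DCoh.Rpush f) (OD X)
    (fun K => AdjIso.bijective_map_of_iso e (AdjIso.bijective_map_of_unit ad _ K)) m K

end Groth.Agent.LoccohB.PnDual287
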