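import Groth.Agent.LoccohB.PnDual287c

/-!
# Twists on projective space in the derived category
-/

set_option autoImplicit false

universe u

open CategoryTheory CategoryTheory.Limits AlgebraicGeometry Pretriangulated

attribute [local instance] HasDerivedCategory.standard

namespace Groth.Agent.LoccohB.PnDual287

open PerfB.TwistDer

section Psi

variable {A : Type u} [CommRing A] {X : Scheme.{u}} [X.Over (Spec (CommRingCat.of A))]

/-- `Hom(O_X, M[q])` for `H^q(X, M) ≅ A`. -/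
theorem exists_psi (M : X.Modules) (q : ℕ) (l : Coh.HH X M q ≃ₗ[A] A) (N : DCoh.D X)
    (eN : N ≅ (DCoh.inD X M)⟦(q : ℤ)⟧) :
    ∃ ψ : (OD X ⟶ N) ≃ A, ∀ (a : A) (g : OD X ⟶ N), ψ (mD A X a ≫ g) = a * ψ g := by
  let E : (OD X ⟶ N) ≃ (OD X ⟶ (DCoh.inD X M)⟦(q : ℤ)⟧) :=
    { toFun := fun g => g ≫ eN.hom
      invFun := fun g => g ≫ eN.inv
      left_inv := fun g => by simp
      right_inv := fun g => by simp }
  refine ⟨(E.trans (CurvesC.HomHV.homHV M q).toEquiv).trans
    ((CurvesC.HV.equiv A M q).trans l).toEquiv, fun a g => ?_⟩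
  change l (CurvesC.HV.equiv A M q (CurvesC.HomHV.homHV M q ((mD A X a ≫ g) ≫ eN.hom))) =
    a * l (CurvesC.HV.equiv A M q (CurvesC.HomHV.homHV M q (g ≫ eN.hom)))
  rw [Category.assoc, CurvesC.HomHV.homHV_smul, LinearEquiv.map_smul, LinearEquiv.map_smul, smul_eq_mul]

end Psi

section Fun

variable {D D' : Type*} [Category* D] [HasShift D ℤ] [Category* D'] [HasShift D' ℤ]

lemma subsingleton_map {X K : D} (h : ∀ k : ℤ, Subsingleton (X ⟶ K⟦k⟧)) (G : D ⥤ D') [G.Full]
    [G.CommShift ℤ] {X' K' : D'} (eX : G.obj X ≅ X') (eK : G.obj K ≅ K') (k : ℤ) :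
    Subsingleton (X' ⟶ K'⟦k⟧) := by
  have h1 : Subsingleton (G.obj X ⟶ G.obj (K⟦k⟧)) := ⟨fun x y => by
    obtain ⟨x, rfl⟩ := G.map_surjective x
    obtain ⟨y, rfl⟩ := G.map_surjective y
    rw [(h k).elim x y]⟩
  exact subsingleton_of_iso eX ((G.commShiftIso k).app K ≪≫ (shiftFunctor D' k).mapIso eK) h1

end Fun

section Twist

variable (n : ℕ) (R : Type u) [CommRing R]

instance full_twD (d : ℤ) : (twD n R d).Full :=
  inferInstanceAs (twDEquiv n R d).functor.Full

/-- `O_X ≅ O(0)` in the derived category. -/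
noncomputable def ODIso (z : ℤ) (hz : z = 0) : OD (CohB1.ProjSpace n R) ≅ DCoh.inD _ (tw n R z) :=
  (DerivedCategory.singleFunctor _ 0).mapIso (twZero n R ≪≫ eqToIso (by rw [hz]))

/-- Vanishing of `Hom(O(d), O(e)[k])`. -/
theorem subsingleton_tw (d e : ℤ)
    (h : ∀ q : ℕ, Subsingleton (Coh.HH (CohB1.ProjSpace n R) (tw n R (e - d)) q)) (k : ℤ) :
    Subsingleton (DCoh.inD _ (tw n R d) ⟶ (DCoh.inD _ (tw n R e))⟦k⟧) :=
  subsingleton_map (fun k => subsingleton_hom _ (tw n R (e - d)) k fun q _ => h q) (twD n R d)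
    ((twD n R d).mapIso (ODIso n R 0 rfl) ≪≫ twDSingle n R 0 d d (by ring))
    (twDSingle n R (e - d) d e (by ring)) k

/-- Homogeneous polynomials of degree zero. -/
noncomputable def homog0 : ↥(MvPolynomial.homogeneousSubmodule (Fin (n + 1)) R 0) ≃ₗ[R] R :=
  LinearEquiv.ofBijective
    ((MvPolynomial.lcoeff R (0 : Fin (n + 1) →₀ ℕ)).comp
      (MvPolynomial.homogeneousSubmodule (Fin (n + 1)) R 0).subtype) (by
    constructor
    · intro p q hpq
      have h1 : ∀ p : ↥(MvPolynomial.homogeneousSubmodule (Fin (n + 1)) R 0),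
          p.1 = MvPolynomial.C (MvPolynomial.coeff 0 p.1) := by
        intro p
        exact MvPolynomial.totalDegree_eq_zero_iff_eq_C.1
          ((MvPolynomial.totalDegree_zero_iff_isHomogeneous _).2 p.2)
      apply Subtype.ext
      rw [h1 p, h1 q]
      exact congrArg MvPolynomial.C hpq
    · intro r
      refine ⟨⟨MvPolynomial.C r, MvPolynomial.isHomogeneous_C _ r⟩, ?_⟩
      exact MvPolynomial.coeff_zero_C r)

end Twist

end Groth.Agent.LoccohB.PnDual287
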