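import Mathlib.CategoryTheory.Triangulated.Yoneda
import Mathlib.CategoryTheory.Triangulated.HomologicalFunctor
import Mathlib.CategoryTheory.Shift.Linear
import Mathlib.CategoryTheory.Linear.Basic
import Mathlib.Algebra.BigOperators.Intervals
import Mathlib.Tactic.Abel

/-!
# Towers in triangulated categories which are pro-zero for an object `P`

`PZ P F`: for all `e, n` there is `m ≥ n` such that `Hom(P, F(m)[e]) → Hom(P, F(n)[e])` is zero.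
-/

set_option autoImplicit false

universe v u w

open CategoryTheory Limits Pretriangulated Opposite

namespace Groth.Agent.LoccohB.ProZ

variable {T : Type u} [Category.{v} T] [Preadditive T] [HasZeroObject T] [HasShift T ℤ]
  [∀ n : ℤ, (shiftFunctor T n).Additive] [Pretriangulated T]

section LES

variable {X Y Z : T} {f : X ⟶ Y} {g : Y ⟶ Z} {h : Z ⟶ X⟦(1 : ℤ)⟧}
  (hT : Triangle.mk f g h ∈ distTriang T) (P : T)

include hT

lemma les₂ (n : ℤ) (x : P ⟶ Y⟦n⟧) (hx : x ≫ g⟦n⟧' = 0) : ∃ y : P ⟶ X⟦n⟧, y ≫ f⟦n⟧' = x := by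
  have := (preadditiveCoyoneda.obj (op P)).homologySequence_exact₂ _ hT n
  rw [ShortComplex.ab_exact_iff] at this
  exact this x hx

lemma les₃ (n : ℤ) (x : P ⟶ Z⟦n⟧) (hx : x ≫ h⟦n⟧' = 0) : ∃ y : P ⟶ Y⟦n⟧, y ≫ g⟦n⟧' = x := by
  have := (preadditiveCoyoneda.obj (op P)).homologySequence_exact₃ _ hT n (n + 1) rfl
  rw [ShortComplex.ab_exact_iff] at this
  refine this x ?_
  change (preadditiveCoyoneda.obj (op P)).homologySequenceδ (Triangle.mk f g h) n (n + 1) rfl x = 0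
  rw [preadditiveCoyoneda_homologySequenceδ_apply]
  change x ≫ h⟦n⟧' ≫ _ = 0
  rw [reassoc_of% hx, zero_comp]

lemma les₁ (n m : ℤ) (hnm : n + 1 = m) (x : P ⟶ X⟦m⟧) (hx : x ≫ f⟦m⟧' = 0) :
    ∃ y : P ⟶ Z⟦n⟧, y ≫ h⟦n⟧' ≫ (shiftFunctorAdd' T 1 n m (by omega)).inv.app X = x := by
  have := (preadditiveCoyoneda.obj (op P)).homologySequence_exact₁ _ hT n m hnm
  rw [ShortComplex.ab_exact_iff] at this
  obtain ⟨y, hy⟩ := this x hx
  refine ⟨y, ?_⟩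
  rw [← hy]
  exact (preadditiveCoyoneda_homologySequenceδ_apply (Triangle.mk f g h) n m hnm
    (A := op P) y).symm

lemma comp₁₂ (n : ℤ) : f⟦n⟧' ≫ g⟦n⟧' = 0 := by
  rw [← Functor.map_comp]
  have : f ≫ g = 0 := comp_distTriang_mor_zero₁₂ _ hT
  rw [this, Functor.map_zero]

lemma comp₂₃ (n : ℤ) : g⟦n⟧' ≫ h⟦n⟧' = 0 := by
  rw [← Functor.map_comp]
  have : g ≫ h = 0 := comp_distTriang_mor_zero₂₃ _ hT
  rw [this, Functor.map_zero]

lemma comp₃₁ (n m : ℤ) (hnm : n + 1 = m) :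
    h⟦n⟧' ≫ (shiftFunctorAdd' T 1 n m (by omega)).inv.app X ≫ f⟦m⟧' = 0 := by
  have h1 : h ≫ f⟦(1 : ℤ)⟧' = 0 := comp_distTriang_mor_zero₃₁ _ hT
  have h2 := (shiftFunctorAdd' T 1 n m (by omega)).inv.naturality f
  dsimp at h2
  rw [← h2, ← Category.assoc, ← Functor.map_comp, h1, Functor.map_zero, zero_comp]

end LES

/-- transition maps of towers -/
abbrev tr (F : ℕᵒᵖ ⥤ T) {n m : ℕ} (h : n ≤ m) : F.obj (op m) ⟶ F.obj (op n) := F.map (homOfLE h).op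

omit [Preadditive T] [HasZeroObject T] [HasShift T ℤ] [∀ n : ℤ, (shiftFunctor T n).Additive]
  [Pretriangulated T] in
lemma tr_tr (F : ℕᵒᵖ ⥤ T) {n m k : ℕ} (h : n ≤ m) (h' : m ≤ k) :
    tr F h' ≫ tr F h = tr F (h.trans h') := by
  rw [← F.map_comp]
  rfl

/-- A tower is pro-zero for the object `P`. -/
def PZ (P : T) (F : ℕᵒᵖ ⥤ T) : Prop :=
  ∀ (e : ℤ) (n : ℕ), ∃ (m : ℕ) (h : n ≤ m), ∀ x : P ⟶ (F.obj (op m))⟦e⟧, x ≫ (tr F h)⟦e⟧' = 0

lemma PZ.of_iso {P : T} {F G : ℕᵒᵖ ⥤ T} (hF : PZ P F) (α : F ≅ G) : PZ P G := by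
  intro e n
  obtain ⟨m, h, hm⟩ := hF e n
  refine ⟨m, h, fun x => ?_⟩
  have h1 := hm (x ≫ (α.inv.app (op m))⟦e⟧')
  have h2 := α.inv.naturality (homOfLE h).op
  rw [← cancel_mono ((α.inv.app (op n))⟦e⟧'), zero_comp, Category.assoc, ← Functor.map_comp]
  change x ≫ (G.map (homOfLE h).op ≫ α.inv.app (op n))⟦e⟧' = 0
  rw [h2, Functor.map_comp, ← Category.assoc]
  exact h1

section Fiber

variable {A : Type w} [CommRing A] [Linear A T] [∀ n : ℤ, (shiftFunctor T n).Linear A]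

lemma pow_smul_eq_zero_of_isIso {g : A} {X Y : T} (hY : IsIso (g • 𝟙 Y)) (k : ℕ) (x : X ⟶ Y)
    (hx : g ^ k • x = 0) : x = 0 := by
  induction k with
  | zero => simpa using hx
  | succ k ih =>
    apply ih
    rw [← cancel_mono (g • 𝟙 Y), Linear.comp_smul, Category.comp_id, zero_comp, smul_smul,
      ← pow_succ', hx]

omit [HasZeroObject T] [Pretriangulated T] [∀ n : ℤ, (shiftFunctor T n).Additive] in
lemma isIso_smul_shift {g : A} {Y : T} (hY : IsIso (g • 𝟙 Y)) (n : ℤ) :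
    IsIso (g • 𝟙 (Y⟦n⟧)) := by
  have : g • 𝟙 (Y⟦n⟧) = (g • 𝟙 Y)⟦n⟧' := by
    rw [Functor.map_smul, CategoryTheory.Functor.map_id]
  rw [this]
  infer_instance

/-- If `G Y → Y` has cone on which `g` is invertible and morphisms `P → (G Y)[e]` are
`g`-power torsion, then `G` preserves towers which are pro-zero for `P`. -/
theorem PZ.comp_of_cone {P : T} {F : ℕᵒᵖ ⥤ T} (hF : PZ P F) (g : A) (G : T ⥤ T) (ε : G ⟶ 𝟭 T)
    (hε : ∀ Y : T, ∃ (C : T) (β : Y ⟶ C) (γ : C ⟶ (G.obj Y)⟦(1 : ℤ)⟧),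
      Triangle.mk (ε.app Y) β γ ∈ distTriang T ∧ IsIso (g • 𝟙 C))
    (hP : ∀ (Y : T) (e : ℤ) (x : P ⟶ (G.obj Y)⟦e⟧), ∃ k : ℕ, g ^ k • x = 0) :
    PZ P (F ⋙ G) := by
  intro e n
  obtain ⟨m₁, h₁, H₁⟩ := hF (e - 1) n
  obtain ⟨m₂, h₂, H₂⟩ := hF e m₁
  refine ⟨m₂, h₁.trans h₂, fun x => ?_⟩
  obtain ⟨C, β, γ, hT, hC⟩ := hε (F.obj (op n))
  obtain ⟨C₁, β₁, γ₁, hT₁, hC₁⟩ := hε (F.obj (op m₁))
  let x₁ : P ⟶ (G.obj (F.obj (op m₁)))⟦e⟧ := x ≫ (G.map (tr F h₂))⟦e⟧'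
  have e1 : x₁ ≫ (ε.app (F.obj (op m₁)))⟦e⟧' = 0 := by
    have h3 := ε.naturality (tr F h₂)
    have h4 := H₂ (x ≫ (ε.app (F.obj (op m₂)))⟦e⟧')
    dsimp [x₁] at h3 ⊢
    rw [Category.assoc, ← Functor.map_comp, h3, Functor.map_comp, ← Category.assoc]
    exact h4
  obtain ⟨y, hy⟩ := les₁ hT₁ P (e - 1) e (by omega) x₁ e1
  -- the morphism of cones
  obtain ⟨c, hc₁, hc₂⟩ := complete_distinguished_triangle_morphism _ _ hT₁ hT
    (G.map (tr F h₁)) (tr F h₁) (ε.naturality (tr F h₁)).symm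
  change C₁ ⟶ C at c
  change β₁ ≫ c = tr F h₁ ≫ β at hc₁
  change γ₁ ≫ (G.map (tr F h₁))⟦(1 : ℤ)⟧' = c ≫ γ at hc₂
  -- `y ≫ c = 0`
  have e2 : y ≫ c⟦e - 1⟧' = 0 := by
    obtain ⟨k, hk⟩ := hP _ _ x₁
    have e3 : (g ^ k • y) ≫ γ₁⟦e - 1⟧' = 0 := by
      rw [← cancel_mono ((shiftFunctorAdd' T 1 (e - 1) e (by omega)).inv.app _), zero_comp,
        Category.assoc, Linear.smul_comp, hy, hk]
    obtain ⟨z, hz⟩ := les₃ hT₁ P (e - 1) _ e3
    have e4 : g ^ k • (y ≫ c⟦e - 1⟧') = 0 := by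
      rw [← Linear.smul_comp, ← hz, Category.assoc, ← Functor.map_comp, hc₁, Functor.map_comp,
        ← Category.assoc, H₁ z, zero_comp]
    exact pow_smul_eq_zero_of_isIso (isIso_smul_shift hC _) k _ e4
  have e5 : (tr (F ⋙ G) (h₁.trans h₂)) = G.map (tr F h₂) ≫ G.map (tr F h₁) := by
    rw [← G.map_comp, tr_tr]
    rfl
  rw [e5, Functor.map_comp, ← Category.assoc]
  change x₁ ≫ _ = 0
  have h6 := (shiftFunctorAdd' T 1 (e - 1) e (by omega)).inv.naturality (G.map (tr F h₁))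
  dsimp at h6
  rw [← hy, Category.assoc, Category.assoc, ← h6, ← Functor.map_comp_assoc, hc₂,
    Functor.map_comp, Category.assoc, reassoc_of% e2, zero_comp]

end Fiber

section Milnor

/-- `1 - shift` is surjective on the product of a tower of abelian groups which is pro-isomorphic
to a constant tower. -/
theorem exists_sub_tr {H : ℕ → Type*} [∀ n, AddCommGroup (H n)]
    (t : ∀ {n m : ℕ}, n ≤ m → H m →+ H n)
    (t_refl : ∀ (n : ℕ) (x : H n), t le_rfl x = x)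
    (t_t : ∀ {n m k : ℕ} (h : n ≤ m) (h' : m ≤ k) (x : H k), t h (t h' x) = t (h.trans h') x)
    {X : Type*} [AddCommGroup X] (p : ∀ n, X →+ H n)
    (hp : ∀ {n m : ℕ} (h : n ≤ m) (x : X), t h (p m x) = p n x)
    (hS : ∀ n, ∃ (m : ℕ) (h : n ≤ m), ∀ y : H m, ∃ x, t h y = p n x) (z : ∀ n, H n) :
    ∃ w : ∀ n, H n, ∀ n, w n - t (Nat.le_succ n) (w (n + 1)) = z n := by
  classical
  choose m hm hS using hS
  let M : ℕ → ℕ := fun n => Nat.rec (m 0 + 1) (fun n M => max M (m (n + 1) + 1)) n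
  have hM : ∀ n, M (n + 1) = max (M n) (m (n + 1) + 1) := fun n => rfl
  have hM1 : ∀ n, m n + 1 ≤ M n := by
    intro n
    cases n with
    | zero => exact le_rfl
    | succ n => rw [hM]; exact le_max_right _ _
  have hM2 : ∀ n, M n ≤ M (n + 1) := fun n => by rw [hM]; exact le_max_left _ _
  let z' : ∀ n, ℕ → H n := fun n k => if h : n ≤ k then t h (z k) else 0
  have hz' : ∀ {n k : ℕ} (h : n ≤ k), z' n k = t h (z k) := fun h => dif_pos h
  let s : ℕ → ∀ n, H n := fun M n => ∑ k ∈ Finset.Ico n M, z' n k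
  have hs1 : ∀ (M n : ℕ), n + 1 ≤ M → s M n - t (Nat.le_succ n) (s M (n + 1)) = z n := by
    intro M n hn
    have h1 : s M n = z' n n + ∑ k ∈ Finset.Ico (n + 1) M, z' n k := by
      change ∑ k ∈ Finset.Ico n M, z' n k = _
      rw [← Finset.sum_Ico_consecutive (fun k => z' n k) (Nat.le_succ n) hn]
      simp
    have h2 : t (Nat.le_succ n) (s M (n + 1)) = ∑ k ∈ Finset.Ico (n + 1) M, z' n k := by
      change t (Nat.le_succ n) (∑ k ∈ Finset.Ico (n + 1) M, z' (n + 1) k) = _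
      rw [map_sum]
      refine Finset.sum_congr rfl fun k hk => ?_
      have hk' : n + 1 ≤ k := (Finset.mem_Ico.1 hk).1
      rw [hz' hk', hz' ((Nat.le_succ n).trans hk'), t_t]
    rw [h1, h2, add_sub_cancel_right, hz' le_rfl, t_refl]
  have hs2 : ∀ n, ∃ x, s (M n) n - s (M (n + 1)) n = p n x := by
    intro n
    have h1 : n ≤ M n := (hm n).trans ((Nat.le_succ _).trans (hM1 n))
    have h2 : ∀ k ∈ Finset.Ico (M n) (M (n + 1)), ∃ x, z' n k = p n x := by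
      intro k hk
      have h3 : m n ≤ k := (Nat.le_succ _).trans ((hM1 n).trans (Finset.mem_Ico.1 hk).1)
      rw [hz' ((hm n).trans h3), ← t_t (hm n) h3]
      exact hS n _
    have h4 : ∃ x, ∑ k ∈ Finset.Ico (M n) (M (n + 1)), z' n k = p n x := by
      refine Finset.sum_induction _ (fun y => ∃ x, y = p n x) ?_ ⟨0, by simp⟩ h2
      rintro _ _ ⟨x, rfl⟩ ⟨y, rfl⟩
      exact ⟨x + y, by simp⟩
    obtain ⟨x, hx⟩ := h4
    refine ⟨-x, ?_⟩
    rw [map_neg, ← hx]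
    change (∑ k ∈ Finset.Ico n (M n), z' n k) - (∑ k ∈ Finset.Ico n (M (n + 1)), z' n k) = _
    rw [← Finset.sum_Ico_consecutive (fun k => z' n k) h1 (hM2 n)]
    abel
  choose ρ hρ using hs2
  let q : ℕ → X := fun n => Nat.rec 0 (fun n q => q - ρ n) n
  have hq : ∀ n, q (n + 1) = q n - ρ n := fun n => rfl
  refine ⟨fun n => s (M n) n - p n (q n), fun n => ?_⟩
  have h1 : n + 1 ≤ M (n + 1) := (hm (n + 1)).trans ((Nat.le_succ _).trans (hM1 (n + 1)))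
  have h2 := hs1 (M (n + 1)) n h1
  have h3 := hρ n
  change (s (M n) n - p n (q n)) -
    t (Nat.le_succ n) (s (M (n + 1)) (n + 1) - p (n + 1) (q (n + 1))) = z n
  rw [map_sub, hp, hq, map_sub, ← h2, ← h3]
  generalize s (M n) n = a
  generalize s (M (n + 1)) n = b
  generalize t (Nat.le_succ n) (s (M (n + 1)) (n + 1)) = c
  generalize p n (q n) = d
  abel

end Milnor

section Prod

omit [HasZeroObject T] [Pretriangulated T] [Preadditive T] [∀ n : ℤ, (shiftFunctor T n).Additive] in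
lemma prod_ext {ι : Type} (K : ι → T) [HasProduct K] {P : T} (e : ℤ) {x y : P ⟶ (∏ᶜ K)⟦e⟧}
    (h : ∀ n, x ≫ (Pi.π K n)⟦e⟧' = y ≫ (Pi.π K n)⟦e⟧') : x = y := by
  refine Fan.IsLimit.hom_ext (isLimitOfHasProductOfPreservesLimit (shiftFunctor T e) K) _ _ ?_
  intro n
  exact h n

omit [HasZeroObject T] [Pretriangulated T] [Preadditive T] [∀ n : ℤ, (shiftFunctor T n).Additive] in
lemma prod_lift {ι : Type} (K : ι → T) [HasProduct K] {P : T} (e : ℤ) (x : ∀ n, P ⟶ (K n)⟦e⟧) :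
    ∃ y : P ⟶ (∏ᶜ K)⟦e⟧, ∀ n, y ≫ (Pi.π K n)⟦e⟧' = x n :=
  ⟨Fan.IsLimit.lift (isLimitOfHasProductOfPreservesLimit (shiftFunctor T e) K) x,
    fun n => Fan.IsLimit.fac _ _ _⟩

end Prod

section Cone

variable {X Y Z : T} {f : X ⟶ Y} {g : Y ⟶ Z} {h : Z ⟶ X⟦(1 : ℤ)⟧}
  (hT : Triangle.mk f g h ∈ distTriang T) (P : T)

include hT

/-- If `f` is bijective on all `Hom(P, -[e])` then `Hom(P, -[e])` vanishes on the cone. -/
lemma eq_zero_of_bijective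
    (hf : ∀ e : ℤ, Function.Bijective (fun x : P ⟶ X⟦e⟧ => x ≫ f⟦e⟧')) (e : ℤ)
    (x : P ⟶ Z⟦e⟧) : x = 0 := by
  have h1 : x ≫ h⟦e⟧' = 0 := by
    rw [← cancel_mono ((shiftFunctorAdd' T 1 e (e + 1) (by omega)).inv.app _), zero_comp]
    apply (hf (e + 1)).1
    dsimp only
    rw [zero_comp, Category.assoc, Category.assoc, comp₃₁ hT e (e + 1) rfl, comp_zero]
  obtain ⟨y, rfl⟩ := les₃ hT P e x h1
  obtain ⟨z, rfl⟩ := (hf e).2 y
  dsimp only
  rw [Category.assoc, comp₁₂ hT, comp_zero]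

end Cone

section Rlim

variable {F' F'' : ℕᵒᵖ ⥤ T} {X : T} (a : ∀ n, F'.obj (op n) ⟶ X)
  (p : ∀ n, X ⟶ F''.obj (op n))
  (c : ∀ n, F''.obj (op n) ⟶ (F'.obj (op n))⟦(1 : ℤ)⟧)
  (ha : ∀ {n m : ℕ} (h : n ≤ m), tr F' h ≫ a n = a m)
  (hp : ∀ {n m : ℕ} (h : n ≤ m), p m ≫ tr F'' h = p n)
  (hc : ∀ {n m : ℕ} (h : n ≤ m), tr F'' h ≫ c n = c m ≫ (tr F' h)⟦(1 : ℤ)⟧')
  (hT : ∀ n, Triangle.mk (a n) (p n) (c n) ∈ distTriang T)
  {P : T} (hF' : PZ P F')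

include ha hT hF' in
lemma exists_inj_p (e : ℤ) :
    ∃ m₀ : ℕ, ∀ m, m₀ ≤ m → ∀ x : P ⟶ X⟦e⟧, x ≫ (p m)⟦e⟧' = 0 → x = 0 := by
  obtain ⟨m₀, h, H⟩ := hF' e 0
  refine ⟨m₀, fun m hm x hx => ?_⟩
  obtain ⟨y, hy⟩ := les₂ (hT m) P e x hx
  rw [← hy, ← ha hm, ← ha h, Functor.map_comp, Functor.map_comp, ← Category.assoc,
    ← Category.assoc, H, zero_comp]

include hc hT hF' in
lemma exists_surj_p (e : ℤ) (n : ℕ) : ∃ (m : ℕ) (h : n ≤ m),
    ∀ y : P ⟶ (F''.obj (op m))⟦e⟧, ∃ x : P ⟶ X⟦e⟧,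
      y ≫ (tr F'' h)⟦e⟧' = x ≫ (p n)⟦e⟧' := by
  obtain ⟨m, h, H⟩ := hF' (e + 1) n
  refine ⟨m, h, fun y => ?_⟩
  have h1 : (y ≫ (tr F'' h)⟦e⟧') ≫ (c n)⟦e⟧' = 0 := by
    have h2 := (shiftFunctorAdd' T 1 e (e + 1) (by omega)).inv.naturality (tr F' h)
    dsimp at h2
    have h3 : (y ≫ (tr F'' h)⟦e⟧') ≫ (c n)⟦e⟧' =
        y ≫ (c m)⟦e⟧' ≫ ((tr F' h)⟦(1 : ℤ)⟧')⟦e⟧' := by
      rw [Category.assoc, ← Functor.map_comp, hc, Functor.map_comp]
    rw [← cancel_mono ((shiftFunctorAdd' T 1 e (e + 1) (by omega)).inv.app _), zero_comp, h3,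
      Category.assoc, Category.assoc, h2, ← Category.assoc, ← Category.assoc]
    exact H _
  obtain ⟨x, hx⟩ := les₃ (hT n) P e _ h1
  exact ⟨x, hx.symm⟩

variable [HasProduct fun n => F''.obj (op n)] {N : T}
  (α : N ⟶ ∏ᶜ fun n => F''.obj (op n)) (γ : (∏ᶜ fun n => F''.obj (op n)) ⟶ N⟦(1 : ℤ)⟧)
  (hN : Triangle.mk α (Pi.lift fun n => Pi.π (fun n => F''.obj (op n)) n -
    Pi.π (fun n => F''.obj (op n)) (n + 1) ≫ tr F'' n.le_succ) γ ∈ distTriang T)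
  (φ : X ⟶ N) (hφ : ∀ n, φ ≫ α ≫ Pi.π (fun n => F''.obj (op n)) n = p n)

include hN in
lemma compat_α {n m : ℕ} (h : n ≤ m) : α ≫ Pi.π (fun n => F''.obj (op n)) m ≫ tr F'' h =
    α ≫ Pi.π (fun n => F''.obj (op n)) n := by
  have h1 : ∀ n, α ≫ Pi.π (fun n => F''.obj (op n)) (n + 1) ≫ tr F'' n.le_succ =
    α ≫ Pi.π (fun n => F''.obj (op n)) n := by
    intro n
    have h2 : α ≫ (Pi.lift fun n => Pi.π (fun n => F''.obj (op n)) n -
      Pi.π (fun n => F''.obj (op n)) (n + 1) ≫ tr F'' n.le_succ) = 0 :=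
      comp_distTriang_mor_zero₁₂ _ hN
    have h3 := congrArg (fun u => u ≫ Pi.π (fun n => F''.obj (op n)) n) h2
    simp only [Category.assoc, Limits.Pi.lift_π, zero_comp, Preadditive.comp_sub] at h3
    exact (sub_eq_zero.1 h3).symm
  induction m, h using Nat.le_induction with
  | base =>
    have : tr F'' (le_refl n) = 𝟙 _ := F''.map_id _
    rw [this, Category.comp_id]
  | succ m hm ih =>
    have h3 := h1 m
    rw [← tr_tr F'' hm m.le_succ, ← ih, ← Category.assoc, ← Category.assoc, Category.assoc α, h3,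
      Category.assoc]

include ha hp hc hT hF' hN hφ in
/-- A constant tower pro-isomorphic to `F''` for `P` maps isomorphically to the derived limit,
as seen by `P`. -/
theorem bijective_of_rlim (e : ℤ) :
    Function.Bijective (fun x : P ⟶ X⟦e⟧ => x ≫ φ⟦e⟧') := by
  obtain ⟨m₀, H₀⟩ := exists_inj_p a p c ha hT hF' e
  have hφ' : ∀ n (x : P ⟶ X⟦e⟧), x ≫ φ⟦e⟧' ≫ α⟦e⟧' ≫
      (Pi.π (fun n => F''.obj (op n)) n)⟦e⟧' = x ≫ (p n)⟦e⟧' := by
    intro n x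
    rw [← Functor.map_comp, ← Functor.map_comp, hφ]
  constructor
  · intro x y hxy
    dsimp only at hxy
    rw [← sub_eq_zero]
    apply H₀ m₀ le_rfl
    rw [Preadditive.sub_comp, ← hφ', ← hφ', reassoc_of% hxy, sub_self]
  · intro y
    let q : ∀ n, P ⟶ (F''.obj (op n))⟦e⟧ := fun n => y ≫ α⟦e⟧' ≫
      (Pi.π (fun n => F''.obj (op n)) n)⟦e⟧'
    have hq : ∀ {n m : ℕ} (h : n ≤ m), q m ≫ (tr F'' h)⟦e⟧' = q n := by
      intro n m h
      change (y ≫ α⟦e⟧' ≫ (Pi.π (fun n => F''.obj (op n)) m)⟦e⟧') ≫ (tr F'' h)⟦e⟧' =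
        y ≫ α⟦e⟧' ≫ (Pi.π (fun n => F''.obj (op n)) n)⟦e⟧'
      rw [Category.assoc, Category.assoc, ← Functor.map_comp, ← Functor.map_comp,
        compat_α α γ hN h, Functor.map_comp]
    have hp' : ∀ {n m : ℕ} (h : n ≤ m) (x : P ⟶ X⟦e⟧),
        x ≫ (p m)⟦e⟧' ≫ (tr F'' h)⟦e⟧' = x ≫ (p n)⟦e⟧' := by
      intro n m h x
      rw [← Functor.map_comp, hp]
    have hq' : ∀ n, ∃ x : P ⟶ X⟦e⟧, q n = x ≫ (p n)⟦e⟧' := by
      intro n
      obtain ⟨m, h, H⟩ := exists_surj_p a p c hc hT hF' e n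
      obtain ⟨x, hx⟩ := H (q m)
      exact ⟨x, by rw [← hx, hq]⟩
    obtain ⟨x, hx⟩ := hq' m₀
    have key : ∀ n, x ≫ (p n)⟦e⟧' = q n := by
      intro n
      rcases le_total n m₀ with h | h
      · rw [← hp' h, ← Category.assoc, ← hx, hq]
      · obtain ⟨x', hx'⟩ := hq' n
        have : x' - x = 0 := by
          apply H₀ m₀ le_rfl
          rw [Preadditive.sub_comp, ← hp' h x', ← Category.assoc, ← hx', hq h, hx, sub_self]
        rw [hx', sub_eq_zero.1 this]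
    -- the difference
    have h1 : (y - x ≫ φ⟦e⟧') ≫ α⟦e⟧' = 0 := by
      apply prod_ext
      intro n
      rw [Category.assoc, Preadditive.sub_comp, Category.assoc, hφ', key, zero_comp, sub_self]
    obtain ⟨v, hv⟩ := les₁ hN P (e - 1) e (by omega) _ h1
    -- solve `w_n - w_{n+1} = v_n`
    obtain ⟨w, hw⟩ := exists_sub_tr (H := fun n => P ⟶ (F''.obj (op n))⟦e - 1⟧)
      (fun {n m} h => AddMonoidHom.mk' (fun x => x ≫ (tr F'' h)⟦e - 1⟧')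
        (fun x y => Preadditive.add_comp _ _ _ _ _ _))
      (fun n x => by
        change x ≫ (F''.map (𝟙 (op n)))⟦e - 1⟧' = x
        rw [F''.map_id, CategoryTheory.Functor.map_id, Category.comp_id])
      (fun {n m k} h h' x => by
        change (x ≫ (tr F'' h')⟦e - 1⟧') ≫ (tr F'' h)⟦e - 1⟧' = x ≫ (tr F'' (h.trans h'))⟦e - 1⟧'
        rw [Category.assoc, ← Functor.map_comp, tr_tr])
      (fun n => AddMonoidHom.mk' (fun x : P ⟶ X⟦e - 1⟧ => x ≫ (p n)⟦e - 1⟧')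
        (fun x y => Preadditive.add_comp _ _ _ _ _ _))
      (fun {n m} h x => by
        change (x ≫ (p m)⟦e - 1⟧') ≫ (tr F'' h)⟦e - 1⟧' = x ≫ (p n)⟦e - 1⟧'
        rw [Category.assoc, ← Functor.map_comp, hp])
      (fun n => exists_surj_p a p c hc hT hF' (e - 1) n)
      (fun n => v ≫ (Pi.π (fun n => F''.obj (op n)) n)⟦e - 1⟧')
    obtain ⟨w', hw'⟩ := prod_lift (fun n => F''.obj (op n)) (e - 1) w
    have h2 : w' ≫ (Pi.lift fun n => Pi.π (fun n => F''.obj (op n)) n -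
        Pi.π (fun n => F''.obj (op n)) (n + 1) ≫ tr F'' n.le_succ)⟦e - 1⟧' = v := by
      apply prod_ext
      intro n
      rw [Category.assoc, ← Functor.map_comp, Limits.Pi.lift_π, Functor.map_sub,
        Preadditive.comp_sub, Functor.map_comp, ← Category.assoc, hw', hw']
      exact hw n
    have h3 : v ≫ γ⟦e - 1⟧' = 0 := by
      rw [← h2, Category.assoc, comp₂₃ hN, comp_zero]
    refine ⟨x, ?_⟩
    dsimp only
    rw [← sub_eq_zero, ← neg_eq_zero, neg_sub, ← hv, reassoc_of% h3, zero_comp]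

end Rlim

end Groth.Agent.LoccohB.ProZ
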