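import Groth.Agent.LoccohB.GammaAff
import Groth.Agent.Sga5.ProjSmooth
import Groth.Agent.PerfC.FlatExact
import Groth.Agent.PerfB.TwistDer
import Groth.Agent.S0024
import Groth.Agent.S0844
import Groth.Agent.S0845
import Groth.Agent.S1067

/-!
# Duality for `P^n_R`
-/

set_option autoImplicit false
universe w v' u' u
open CategoryTheory CategoryTheory.Limits AlgebraicGeometry Opposite TopologicalSpace
open CategoryTheory.Pretriangulated
attribute [local instance] HasDerivedCategory.standard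

namespace Groth.Agent.LoccohB.ProjDual

open Groth.Agent.Dcoh.Restrict Groth.Agent.Dcoh.DerSch Groth.Agent.PerfB.TwistDer
open Groth.Agent.LoccohB.GammaD Groth.Agent.LoccohB.GammaAdj Groth.Agent.LoccohB.GammaAff
  Groth.Agent.LoccohB.ShiftHom

variable (n : ℕ) (R : Type u) [CommRing R]

/-- `P^n_R`. -/
local notation "P" => CohB1.ProjSpace n R

instance flat_toSpec : Flat (CohB1.ProjSpace.toSpec n R) := by
  have : Smooth (CohB1.ProjSpace.toSpec n R) := by
    have := Groth.Agent.Sga5.ProjSmooth.smooth_toSpec n R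
    exact SmoothOfRelativeDimension.smooth n _
  infer_instance

instance : PreservesFiniteLimits (Scheme.Modules.pullback (CohB1.ProjSpace.toSpec n R)) :=
  Groth.Agent.PerfC.FlatExact.preservesFiniteLimits_pullback _

/-- Vanishing of `Hom(O, O(d)⟦k⟧)`. -/
theorem hom_tw_eq_zero (d k : ℤ) (h0 : ¬ (k = 0 ∧ 0 ≤ d)) (hn : ¬ (k = n ∧ d ≤ -((n : ℤ) + 1)))
    (u : DCoh.inD P (Coh.structureModule P) ⟶ (DCoh.inD P (tw n R d))⟦k⟧) : u = 0 := by
  refine hom_eq_zero _ k (fun q hq => ?_) u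
  subst hq
  refine Groth.Agent.S0844.result R n d q ?_ ?_
  · rintro ⟨h1, h2⟩
    exact h0 ⟨by rw [h1]; rfl, h2⟩
  · rintro ⟨h1, h2⟩
    exact hn ⟨by rw [h1], h2⟩

/-- Vanishing of `Hom(O(a), O(b)⟦k⟧)`. -/
theorem hom_tw_tw_eq_zero (a b k : ℤ) (h0 : ¬ (k = 0 ∧ a ≤ b))
    (hn : ¬ (k = n ∧ b - a ≤ -((n : ℤ) + 1)))
    (u : DCoh.inD P (tw n R a) ⟶ (DCoh.inD P (tw n R b))⟦k⟧) : u = 0 := by
  apply (twDEquiv n R (-a)).functor.map_injective
  rw [Functor.map_zero]
  change (twD n R (-a)).map u = 0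
  let e₁ : DCoh.inD P (Coh.structureModule P) ≅ (twD n R (-a)).obj (DCoh.inD P (tw n R a)) :=
    (DerivedCategory.singleFunctor _ 0).mapIso (twZero n R) ≪≫ (twDSingle n R a (-a) 0 (by ring)).symm
  let e₂ : (twD n R (-a)).obj ((DCoh.inD P (tw n R b))⟦k⟧) ≅ (DCoh.inD P (tw n R (b - a)))⟦k⟧ :=
    ((twD n R (-a)).commShiftIso k).app _ ≪≫ (shiftFunctor _ k).mapIso
      (twDSingle n R b (-a) (b - a) (by ring))
  rw [← cancel_epi e₁.hom, ← cancel_mono e₂.hom, comp_zero, zero_comp]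
  exact hom_tw_eq_zero n R (b - a) k (fun h => h0 ⟨h.1, by omega⟩) hn _

/-- The homogeneous polynomials of degree `0` are free of rank one. -/
theorem homog_zero_bijective (σ : Type*) :
    Function.Bijective (fun r : R => r • (⟨1, MvPolynomial.isHomogeneous_one _ _⟩ :
      ↥(MvPolynomial.homogeneousSubmodule σ R 0))) := by
  constructor
  · intro a b hab
    have h1 := congrArg (fun p : ↥(MvPolynomial.homogeneousSubmodule σ R 0) =>
      MvPolynomial.coeff 0 (p : MvPolynomial σ R)) hab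
    simpa using h1
  · rintro ⟨p, hp⟩
    have hp' : p.IsHomogeneous 0 := hp
    have h1 : p.totalDegree = 0 := hp'.totalDegree_le.antisymm (Nat.zero_le _) |> fun h => by omega
    have h2 : p = MvPolynomial.C (MvPolynomial.coeff 0 p) :=
      MvPolynomial.totalDegree_eq_zero_iff_eq_C.1 h1
    refine ⟨MvPolynomial.coeff 0 p, Subtype.ext ?_⟩
    rw [Submodule.coe_smul]
    change MvPolynomial.coeff 0 p • (1 : MvPolynomial σ R) = p
    rw [MvPolynomial.smul_eq_C_mul, mul_one]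
    exact h2.symm

/-- A generator of `H^n(P^n, O(-n-1))`. -/
theorem exists_generator : ∃ c : Coh.HH P (tw n R (-((n : ℤ) + 1))) n,
    Function.Bijective (fun r : R => r • c) := by
  have h := Groth.Agent.S0845.result R n 0
  have h0 : -((n : ℤ) + 1 + ((0 : ℕ) : ℤ)) = -((n : ℤ) + 1) := by simp
  rw [h0] at h
  obtain ⟨e⟩ := h
  refine ⟨e.symm ⟨1, MvPolynomial.isHomogeneous_one _ _⟩, ?_⟩
  have h1 := e.symm.bijective.comp (homog_zero_bijective R (Fin (n + 1)))
  convert h1 using 1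
  funext r
  exact (e.symm.map_smul r _).symm

/-- A generator `O ⟶ O(-n-1)⟦n⟧`. -/
theorem exists_generator_hom :
    ∃ c : DCoh.inD P (Coh.structureModule P) ⟶ (DCoh.inD P (tw n R (-((n : ℤ) + 1))))⟦(n : ℤ)⟧,
    Function.Bijective (fun r : Γ(Spec (CommRingCat.of R), ⊤) =>
      (DerivedCategory.singleFunctor (CohB1.ProjSpace n R).Modules 0).map
        (HHmap.smulHom (Coh.structureModule (CohB1.ProjSpace n R))
          ((CohB1.ProjSpace.toSpec n R).appTop r)) ≫ c) := by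
  obtain ⟨c₀, hc₀⟩ := exists_generator n R
  refine ⟨(homEquiv _ _).symm c₀, ?_⟩
  rw [← (homEquiv (tw n R (-((n : ℤ) + 1))) n).bijective.of_comp_iff',
    ← Function.Bijective.of_comp_iff _
      (Scheme.ΓSpecIso (CommRingCat.of R)).symm.commRingCatIsoToRingEquiv.bijective]
  convert hc₀ using 1
  funext r
  change homEquiv (tw n R (-((n : ℤ) + 1))) n _ = _
  rw [homEquiv_smul, AddEquiv.apply_symm_apply]
  rfl

/-- The unit adjunction for `P^n_R ⟶ Spec R`. -/
noncomputable def unitAdj [DCoh.HasRpush (CohB1.ProjSpace.toSpec n R)] :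
    UnitAdj (CohB1.ProjSpace.toSpec n R) :=
  unitAdjExact _

section Main

variable [DCoh.HasRpush (CohB1.ProjSpace.toSpec n R)]

/-- `O ≅ O(0)` in `D(O_P)`. -/
noncomputable def eZero : DCoh.inD P (Coh.structureModule P) ≅ DCoh.inD P (tw n R 0) :=
  (DerivedCategory.singleFunctor _ 0).mapIso (twZero n R)

theorem isIso_unit (hK : DCoh.IsQCohD ((DCoh.Rpush (CohB1.ProjSpace.toSpec n R)).obj
      (DCoh.inD P (Coh.structureModule P)))) :
    IsIso ((unitAdj n R).adj.unit.app (DCoh.inD (Spec (CommRingCat.of R))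
      (Coh.structureModule (Spec (CommRingCat.of R))))) := by
  refine GammaAff.isIso_unit (unitAdj n R) hK (fun k hk u => ?_) ?_
  · have h1 := hom_tw_eq_zero n R 0 k (fun h => hk h.1) (fun h => by omega)
      (u ≫ (eZero n R).hom⟦k⟧')
    rw [← cancel_mono ((eZero n R).hom⟦k⟧'), h1, zero_comp]
  · have := Groth.Agent.S0024.result n R
    exact (asIso (CohB1.ProjSpace.toSpec n R).appTop).commRingCatIsoToRingEquiv.bijective

/-- `Rf_* O(-n-1)⟦n⟧ ≅ O`. -/
theorem exists_trace (hK : DCoh.IsQCohD ((DCoh.Rpush (CohB1.ProjSpace.toSpec n R)).obj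
      ((DCoh.inD P (tw n R (-((n : ℤ) + 1))))⟦(n : ℤ)⟧))) :
    Nonempty ((DCoh.Rpush (CohB1.ProjSpace.toSpec n R)).obj
      ((DCoh.inD P (tw n R (-((n : ℤ) + 1))))⟦(n : ℤ)⟧) ≅
      DCoh.inD (Spec (CommRingCat.of R)) (Coh.structureModule (Spec (CommRingCat.of R)))) := by
  obtain ⟨c, hc⟩ := exists_generator_hom n R
  have := isIso_tp (unitAdj n R) _ hK c (fun k hk u => ?_) hc
  · exact ⟨(asIso ((unitAdj n R).tp _ c)).symm⟩
  · let e := (shiftFunctorAdd' (DCoh.D P) (n : ℤ) k (n + k) rfl).app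
      (DCoh.inD P (tw n R (-((n : ℤ) + 1))))
    rw [← cancel_mono e.inv, zero_comp]
    exact hom_tw_eq_zero n R _ _ (fun h => by omega) (fun h => hk (by omega)) _

/-- `Rf_* O(-d) = 0` for `1 ≤ d ≤ n`. -/
theorem isZero_Rpush_tw (d : ℕ) (h1 : 1 ≤ d) (h2 : d ≤ n)
    (hK : DCoh.IsQCohD ((DCoh.Rpush (CohB1.ProjSpace.toSpec n R)).obj
      (DCoh.inD P (tw n R (-(d : ℤ)))))) :
    IsZero ((DCoh.Rpush (CohB1.ProjSpace.toSpec n R)).obj (DCoh.inD P (tw n R (-(d : ℤ))))) :=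
  isZero_Rpush (unitAdj n R) _ hK
    fun k u => hom_tw_eq_zero n R _ k (fun h => by omega) (fun h => by omega) u

attribute [local instance] rpushCommShift

/-- `Rf_*` is bijective on `Hom(O(-d)⟦m⟧, O(-n-1)⟦n⟧)` for `0 ≤ d ≤ n`. -/
theorem bijective_map_Rpush
    (h : ∀ K : DCoh.D P, DCoh.IsQCohD K →
      DCoh.IsQCohD ((DCoh.Rpush (CohB1.ProjSpace.toSpec n R)).obj K))
    (d : ℕ) (hd : d ≤ n) (m : ℤ) :
    Function.Bijective (fun u : (DCoh.inD P (tw n R (-(d : ℤ))))⟦m⟧ ⟶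
      (DCoh.inD P (tw n R (-((n : ℤ) + 1))))⟦(n : ℤ)⟧ =>
        (DCoh.Rpush (CohB1.ProjSpace.toSpec n R)).map u) := by
  have hq : ∀ d : ℤ, DCoh.IsQCohD (DCoh.inD P (tw n R d)) := fun d =>
    Groth.Agent.PerfA.QCohD.isQCohD_inD _ (isQCoh_tw n R d)
  rcases Nat.eq_zero_or_pos d with rfl | hd0
  · have hu := isIso_unit n R (h _ (Groth.Agent.PerfA.QCohD.isQCohD_inD _
      (Groth.Agent.PerfA.QCohSerre.isQCoh_unit _)))
    have hb := GammaAff.bijective_map_Rpush (unitAdj n R) m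
      ((DCoh.inD P (tw n R (-((n : ℤ) + 1))))⟦(n : ℤ)⟧)
    refine AdjIso.bijective_map_of_iso ((shiftFunctor _ m).mapIso (eZero n R ≪≫
      (DerivedCategory.singleFunctor _ 0).mapIso (eqToIso ?_))) hb
    congr 1
  · have hz : IsZero ((DCoh.Rpush (CohB1.ProjSpace.toSpec n R)).obj
        ((DCoh.inD P (tw n R (-(d : ℤ))))⟦m⟧)) :=
      IsZero.of_iso ((shiftFunctor _ m).map_isZero (isZero_Rpush_tw n R d hd0 hd (h _ (hq _))))
        (((DCoh.Rpush (CohB1.ProjSpace.toSpec n R)).commShiftIso m).app _)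
    have h0 : ∀ u : (DCoh.inD P (tw n R (-(d : ℤ))))⟦m⟧ ⟶
        (DCoh.inD P (tw n R (-((n : ℤ) + 1))))⟦(n : ℤ)⟧, u = 0 := by
      refine eq_zero_of_tr m (-m) (by lia) fun u => ?_
      let e := (shiftFunctorAdd' (DCoh.D P) (n : ℤ) (-m) (n + -m) rfl).app
        (DCoh.inD P (tw n R (-((n : ℤ) + 1))))
      rw [← cancel_mono e.inv, zero_comp]
      exact hom_tw_tw_eq_zero n R _ _ _ (fun h => by omega) (fun h => by omega) _
    exact ⟨fun u v _ => (h0 u).trans (h0 v).symm, fun w => ⟨0, hz.eq_of_src _ _⟩⟩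

end Main

end Groth.Agent.LoccohB.ProjDual
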