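import Groth.Agent.LoccohB.LTen
import Groth.Agent.LoccohB.MapAdj
import Groth.Agent.LoccohB.DivisorCx

/-!
# Projection formula for restriction of scalars and tensor products of complexes
-/

set_option autoImplicit false

universe u

open CategoryTheory Limits MonoidalCategory CochainComplex CochainComplex.HomComplex

attribute [local instance] HasDerivedCategory.standard

namespace Groth.Agent.LoccohB.ProjF

open TenCx DerivedCategory LTen

variable {A B : Type u} [CommRing A] [CommRing B] (φ : A →+* B)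

/-- restriction of scalars on complexes -/
noncomputable abbrev resCx : DRing.Cx B ⥤ DRing.Cx A :=
  (ModuleCat.restrictScalars.{u} φ).mapHomologicalComplex (ComplexShape.up ℤ)

/-- extension of scalars on complexes -/
noncomputable abbrev extCx : DRing.Cx A ⥤ DRing.Cx B := DivisorCx.extCx φ

/-- coextension of scalars on complexes -/
noncomputable abbrev coextCx : DRing.Cx A ⥤ DRing.Cx B := DivisorCx.coextCx φ

/-- extension-restriction adjunction -/
noncomputable abbrev adjE : extCx φ ⊣ resCx φ :=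
  MapAdj.mapComplexAdj (ModuleCat.extendRestrictScalarsAdj.{u, u, u} φ) (ComplexShape.up ℤ)

/-- restriction-coextension adjunction -/
noncomputable abbrev adjC : resCx φ ⊣ coextCx φ :=
  MapAdj.mapComplexAdj (ModuleCat.restrictCoextendScalarsAdj.{u, u, u} φ) (ComplexShape.up ℤ)

/-- `x ↦ 1 ⊗ x` as an additive, semilinear map. -/
noncomputable def η (N : DRing.Cx A) (p : ℤ) (x : N.X p) : ((extCx φ).obj N).X p :=
  ((ModuleCat.extendRestrictScalarsAdj.{u, u, u} φ).unit.app (N.X p)).hom x

lemma η_add (N : DRing.Cx A) (p : ℤ) (x x' : N.X p) : η φ N p (x + x') = η φ N p x + η φ N p x' :=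
  map_add _ _ _

lemma η_smul (N : DRing.Cx A) (p : ℤ) (a : A) (x : N.X p) : η φ N p (a • x) = φ a • η φ N p x :=
  map_smul ((ModuleCat.extendRestrictScalarsAdj.{u, u, u} φ).unit.app (N.X p)).hom a x

lemma η_d (N : DRing.Cx A) (p q : ℤ) (x : N.X p) :
    (((extCx φ).obj N).d p q).hom (η φ N p x) = η φ N q ((N.d p q).hom x) :=
  (congr($((ModuleCat.extendRestrictScalarsAdj.{u, u, u} φ).unit.naturality (N.d p q)).hom x)).symm

lemma η_map {N N' : DRing.Cx A} (f : N ⟶ N') (p : ℤ) (x : N.X p) :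
    (((extCx φ).map f).f p).hom (η φ N p x) = η φ N' p ((f.f p).hom x) :=
  (congr($((ModuleCat.extendRestrictScalarsAdj.{u, u, u} φ).unit.naturality (f.f p)).hom x)).symm

/-- `(1 ⊗ x) ⊗ y`. -/
noncomputable def tm (N : DRing.Cx A) (X : DRing.Cx B) (p q n : ℤ) (h : p + q = n) (x : N.X p)
    (y : X.X q) : ((extCx φ).obj N ⊗ X : DRing.Cx B).X n :=
  tmk ((extCx φ).obj N) X p q n h (η φ N p x) y

section tm

variable (N : DRing.Cx A) (X : DRing.Cx B) (p q n : ℤ) (h : p + q = n)

lemma tm_add_left (x x' : N.X p) (y : X.X q) :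
    tm φ N X p q n h (x + x') y = tm φ N X p q n h x y + tm φ N X p q n h x' y := by
  unfold tm
  rw [η_add, map_add, LinearMap.add_apply]

lemma tm_smul_left (a : A) (x : N.X p) (y : X.X q) :
    tm φ N X p q n h (a • x) y = φ a • tm φ N X p q n h x y := by
  unfold tm
  rw [η_smul, map_smul, LinearMap.smul_apply]

lemma tm_add_right (x : N.X p) (y y' : X.X q) :
    tm φ N X p q n h x (y + y') = tm φ N X p q n h x y + tm φ N X p q n h x y' :=
  map_add _ _ _

lemma tm_smul_right (b : B) (x : N.X p) (y : X.X q) :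
    tm φ N X p q n h x (b • y) = b • tm φ N X p q n h x y :=
  map_smul _ _ _

lemma d_tm (x : N.X p) (y : X.X q) :
    (((extCx φ).obj N ⊗ X : DRing.Cx B).d n (n + 1)).hom (tm φ N X p q n h x y) =
      tm φ N X (p + 1) q (n + 1) (by omega) ((N.d p (p + 1)).hom x) y +
      p.negOnePow • tm φ N X p (q + 1) (n + 1) (by omega) x ((X.d q (q + 1)).hom y) := by
  unfold tm
  rw [d_tmk, η_d]

end tm

/-- the bilinear map `N × X → N_B ⊗ X`. -/
noncomputable def projBil (N : DRing.Cx A) (X : DRing.Cx B) (p q n : ℤ) (h : p + q = n) :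
    N.X p →ₗ[A] ((resCx φ).obj X).X q →ₗ[A]
      ((resCx φ).obj ((extCx φ).obj N ⊗ X : DRing.Cx B)).X n :=
  LinearMap.mk₂ A (fun (x : N.X p) (y : X.X q) => tm φ N X p q n h x y)
    (fun x x' y => tm_add_left φ N X p q n h x x' y)
    (fun a x y => tm_smul_left φ N X p q n h a x y)
    (fun x y y' => tm_add_right φ N X p q n h x y y')
    (fun a x y => tm_smul_right φ N X p q n h (φ a) x y)

lemma projBil_d (N : DRing.Cx A) (X : DRing.Cx B) (p q n : ℤ) (h : p + q = n) (x : N.X p)
    (y : ((resCx φ).obj X).X q) :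
    (((resCx φ).obj ((extCx φ).obj N ⊗ X : DRing.Cx B)).d n (n + 1)).hom
      (projBil φ N X p q n h x y) =
      projBil φ N X (p + 1) q (n + 1) (by omega) ((N.d p (p + 1)).hom x) y +
      p.negOnePow • projBil φ N X p (q + 1) (n + 1) (by omega) x
        ((((resCx φ).obj X).d q (q + 1)).hom y) :=
  d_tm φ N X p q n h x y

/-- The natural map `N ⊗ X|_A ⟶ (N_B ⊗ X)|_A`. -/
noncomputable def projMap (N : DRing.Cx A) (X : DRing.Cx B) :
    (N ⊗ (resCx φ).obj X : DRing.Cx A) ⟶ (resCx φ).obj ((extCx φ).obj N ⊗ X : DRing.Cx B) :=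
  homMk (projBil φ N X) (projBil_d φ N X)

lemma projMap_tmk (N : DRing.Cx A) (X : DRing.Cx B) (p q n : ℤ) (h : p + q = n)
    (x : N.X p) (y : ((resCx φ).obj X).X q) :
    ((projMap φ N X).f n).hom (tmk N ((resCx φ).obj X) p q n h x y) =
      projBil φ N X p q n h x y :=
  homMk_tmk _ _ p q n h x y

section Kappa

/-- value at `1` -/
noncomputable def at1 {M : ModuleCat.{u} A} (g : (ModuleCat.coextendScalars.{u, u, u} φ).obj M) : M :=
  ModuleCat.CoextendScalars.equiv φ M g (1 : B)

lemma homEquiv_symm_apply {M : ModuleCat.{u} A} {Y : ModuleCat.{u} B}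
    (g : Y ⟶ (ModuleCat.coextendScalars.{u, u, u} φ).obj M) (y : Y) :
    (((ModuleCat.restrictCoextendScalarsAdj.{u, u, u} φ).homEquiv Y M).symm g).hom y =
      at1 φ (g.hom y) := rfl

lemma at1_homEquiv {M : ModuleCat.{u} A} {Y : ModuleCat.{u} B}
    (g : (ModuleCat.restrictScalars.{u} φ).obj Y ⟶ M) (y : Y) :
    at1 φ (((ModuleCat.restrictCoextendScalarsAdj.{u, u, u} φ).homEquiv Y M g).hom y) =
      g.hom y := by
  change g.hom ((1 : B) • y) = g.hom y
  rw [one_smul]

lemma at1_add {M : ModuleCat.{u} A} (g g' : (ModuleCat.coextendScalars.{u, u, u} φ).obj M) :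
    at1 φ (g + g') = at1 φ g + at1 φ g' := rfl

lemma at1_zsmul {M : ModuleCat.{u} A} (n : ℤ) (g : (ModuleCat.coextendScalars.{u, u, u} φ).obj M) :
    at1 φ (n • g) = n • at1 φ g := by
  let f : (ModuleCat.coextendScalars.{u, u, u} φ).obj M →+ M :=
    { toFun := at1 φ
      map_zero' := rfl
      map_add' := at1_add φ }
  exact map_zsmul f n g

lemma at1_sub_units {M : ModuleCat.{u} A} (n : ℤˣ)
    (g g' : (ModuleCat.coextendScalars.{u, u, u} φ).obj M) :
    at1 φ (g - n • g') = at1 φ g - n • at1 φ g' := by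
  rw [sub_eq_add_neg, at1_add, Units.smul_def, ← neg_smul, at1_zsmul, neg_smul,
    ← sub_eq_add_neg, Units.smul_def]

lemma at1_smul {M : ModuleCat.{u} A} (a : A) (g : (ModuleCat.coextendScalars.{u, u, u} φ).obj M) :
    at1 φ (φ a • g) = a • at1 φ g := by
  let g' : ((ModuleCat.coextendScalars.{u, u, u} φ ⋙ ModuleCat.restrictScalars.{u} φ).obj M :
    ModuleCat.{u} A) := g
  exact map_smul ((ModuleCat.restrictCoextendScalarsAdj.{u, u, u} φ).counit.app M).hom a g'

lemma at1_map {M M' : ModuleCat.{u} A} (f : M ⟶ M')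
    (g : (ModuleCat.coextendScalars.{u, u, u} φ).obj M) :
    at1 φ (((ModuleCat.coextendScalars.{u, u, u} φ).map f).hom g) = f.hom (at1 φ g) := rfl

variable (X : DRing.Cx B) (L : DRing.Cx A)

/-- adjunct of a cochain with values in a coextended complex -/
noncomputable def kap (p : ℤ) : Cochain X ((coextCx φ).obj L) p ≃ Cochain ((resCx φ).obj X) L p where
  toFun z := Cochain.mk fun q n hq =>
    ((ModuleCat.restrictCoextendScalarsAdj.{u, u, u} φ).homEquiv (X.X q) (L.X n)).symm (z.v q n hq)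
  invFun w := Cochain.mk fun q n hq =>
    ((ModuleCat.restrictCoextendScalarsAdj.{u, u, u} φ).homEquiv (X.X q) (L.X n)) (w.v q n hq)
  left_inv z := by
    ext q n hq : 1
    exact ((ModuleCat.restrictCoextendScalarsAdj.{u, u, u} φ).homEquiv (X.X q)
      (L.X n)).apply_symm_apply (z.v q n hq)
  right_inv w := by
    ext q n hq : 1
    exact ((ModuleCat.restrictCoextendScalarsAdj.{u, u, u} φ).homEquiv (X.X q)
      (L.X n)).symm_apply_apply (w.v q n hq)

lemma evC_kap (p q n : ℤ) (h : p + q = n) (z : Cochain X ((coextCx φ).obj L) p) (y : X.X q) :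
    evC ((resCx φ).obj X) L p q n h (kap φ X L p z) y =
      at1 φ (evC X ((coextCx φ).obj L) p q n h z y) := rfl

lemma kap_add (p : ℤ) (z z' : Cochain X ((coextCx φ).obj L) p) :
    kap φ X L p (z + z') = kap φ X L p z + kap φ X L p z' := by
  refine ext_evC fun q n h y => ?_
  rw [map_add (evC ((resCx φ).obj X) L p q n h), LinearMap.add_apply]
  have e : ∀ y : X.X q, at1 φ (evC X ((coextCx φ).obj L) p q n h (z + z') y) =
      at1 φ (evC X ((coextCx φ).obj L) p q n h z y) +
        at1 φ (evC X ((coextCx φ).obj L) p q n h z' y) := fun y => by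
    rw [map_add, LinearMap.add_apply]
    rfl
  exact e y

lemma kap_smul (p : ℤ) (a : A) (z : Cochain X ((coextCx φ).obj L) p) :
    kap φ X L p (φ a • z) = a • kap φ X L p z := by
  refine ext_evC fun q n h y => ?_
  rw [map_smul (evC ((resCx φ).obj X) L p q n h), LinearMap.smul_apply]
  have e : ∀ y : X.X q, at1 φ (evC X ((coextCx φ).obj L) p q n h (φ a • z) y) =
      a • at1 φ (evC X ((coextCx φ).obj L) p q n h z y) := fun y => by
    rw [map_smul, LinearMap.smul_apply]
    exact at1_smul φ a _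
  exact e y

lemma kap_δ (p : ℤ) (z : Cochain X ((coextCx φ).obj L) p) :
    kap φ X L (p + 1) (δ p (p + 1) z) = δ p (p + 1) (kap φ X L p z) := by
  refine ext_evC fun q n h y => ?_
  obtain ⟨n, rfl⟩ : ∃ n', n = n' + 1 := ⟨n - 1, by omega⟩
  have e : ∀ y : X.X q, at1 φ (evC X ((coextCx φ).obj L) (p + 1) q (n + 1) h
      (δ p (p + 1) z) y) = (L.d n (n + 1)).hom
        (at1 φ (evC X ((coextCx φ).obj L) p q n (by omega) z y)) -
      p.negOnePow • at1 φ (evC X ((coextCx φ).obj L) p (q + 1) (n + 1) (by omega) z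
        ((X.d q (q + 1)).hom y)) := fun y => by
    rw [evC_δ X ((coextCx φ).obj L) p q n (by omega)]
    exact at1_sub_units φ _ _ _
  exact (e y).trans (evC_δ ((resCx φ).obj X) L p q n (by omega) (kap φ X L p z) y).symm

/-- the isomorphism `Hom(X, coext L)|_A ≅ Hom(X|_A, L)` -/
noncomputable def kapX (p : ℤ) : ((resCx φ).obj (DRing.homCx X ((coextCx φ).obj L))).X p →ₗ[A]
    Cochain ((resCx φ).obj X) L p where
  toFun (z : Cochain X ((coextCx φ).obj L) p) := kap φ X L p z
  map_add' (z z' : Cochain X ((coextCx φ).obj L) p) := kap_add φ X L p z z'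
  map_smul' a (z : Cochain X ((coextCx φ).obj L) p) := kap_smul φ X L p a z

/-- the isomorphism `Hom(X, coext L)|_A ≅ Hom(X|_A, L)` -/
noncomputable def kapCx : (resCx φ).obj (DRing.homCx X ((coextCx φ).obj L)) ⟶
    DRing.homCx ((resCx φ).obj X) L where
  f p := ModuleCat.ofHom (X := ((resCx φ).obj (DRing.homCx X ((coextCx φ).obj L))).X p)
    (Y := Cochain ((resCx φ).obj X) L p) (kapX φ X L p)
  comm' := by
    rintro p _ rfl
    exact ModuleCat.hom_ext (LinearMap.ext fun z => (kap_δ φ X L p z).symm)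

lemma kapCx_bijective (p : ℤ) : Function.Bijective ((kapCx φ X L).f p).hom :=
  (kap φ X L p).bijective

instance isIso_kapCx : IsIso (kapCx φ X L) := by
  have : ∀ p, IsIso ((kapCx φ X L).f p) := fun p => by
    rw [ConcreteCategory.isIso_iff_bijective]
    exact kapCx_bijective φ X L p
  exact HomologicalComplex.Hom.isIso_of_components _

lemma ev_kapCx (p q n : ℤ) (h : p + q = n)
    (z : (DRing.homCx X ((coextCx φ).obj L)).X p) (y : X.X q) :
    ev ((resCx φ).obj X) L p q n h (((kapCx φ X L).f p).hom z) y =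
      at1 φ (ev X ((coextCx φ).obj L) p q n h z y) := rfl

end Kappa

section Main

variable (N : DRing.Cx A) (X : DRing.Cx B) (L : DRing.Cx A)

/-- The bijection `Hom((N_B ⊗ X)|_A, L) ≃ Hom(N ⊗ X|_A, L)`. -/
noncomputable def mainEquiv :
    ((resCx φ).obj ((extCx φ).obj N ⊗ X : DRing.Cx B) ⟶ L) ≃
      ((N ⊗ (resCx φ).obj X : DRing.Cx A) ⟶ L) :=
  ((adjC φ).homEquiv ((extCx φ).obj N ⊗ X : DRing.Cx B) L).trans
    ((thEquiv ((extCx φ).obj N) X ((coextCx φ).obj L)).trans
      (((adjE φ).homEquiv N (DRing.homCx X ((coextCx φ).obj L))).trans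
        (((asIso (kapCx φ X L)).homToEquiv).trans
          (thEquiv N ((resCx φ).obj X) L).symm)))

lemma mainEquiv_apply (f : (resCx φ).obj ((extCx φ).obj N ⊗ X : DRing.Cx B) ⟶ L) :
    mainEquiv φ N X L f = projMap φ N X ≫ f := by
  refine cx_hom_ext fun p q n h x y => ?_
  refine Eq.trans ?_ (congrArg (f.f n).hom (projMap_tmk φ N X p q n h x y)).symm
  refine (uncurry_tmk _ p q n h x y).trans ?_
  have e1 := congrArg (at1 φ) (ev_curry ((adjC φ).homEquiv _ L f) p q n h (η φ N p x) y)
  exact e1.trans (at1_homEquiv φ (f.f n) _)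

lemma precomp_projMap_bijective :
    Function.Bijective (fun f : (resCx φ).obj ((extCx φ).obj N ⊗ X : DRing.Cx B) ⟶ L =>
      projMap φ N X ≫ f) := by
  have := (mainEquiv φ N X L).bijective
  convert this using 1
  exact funext fun f => (mainEquiv_apply φ N X L f).symm

/-- Projection formula: `N ⊗ X|_A ≅ (N_B ⊗ X)|_A`. -/
instance isIso_projMap : IsIso (projMap φ N X) := by
  obtain ⟨g, hg⟩ := (precomp_projMap_bijective φ N X _).2 (𝟙 _)
  refine ⟨g, hg, ?_⟩
  apply (precomp_projMap_bijective φ N X _).1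
  dsimp only at hg ⊢
  rw [← Category.assoc, hg, Category.id_comp, Category.comp_id]

/-- Projection formula: `N ⊗ X|_A ≅ (N_B ⊗ X)|_A`. -/
noncomputable def projIso : (N ⊗ (resCx φ).obj X : DRing.Cx A) ≅
    (resCx φ).obj ((extCx φ).obj N ⊗ X : DRing.Cx B) := asIso (projMap φ N X)

lemma projMap_naturality {N' : DRing.Cx A} (f : N ⟶ N') :
    (f ▷ (resCx φ).obj X) ≫ projMap φ N' X =
      projMap φ N X ≫ (resCx φ).map ((extCx φ).map f ▷ X) := by
  refine cx_hom_ext fun p q n h x y => ?_
  refine (congrArg ((projMap φ N' X).f n).hom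
    (whiskerRight_tmk f ((resCx φ).obj X) p q n h x y)).trans ?_
  refine (projMap_tmk φ N' X p q n h _ y).trans ?_
  refine ((congrArg (((resCx φ).map ((extCx φ).map f ▷ X)).f n).hom
    (projMap_tmk φ N X p q n h x y)).trans ?_).symm
  refine (whiskerRight_tmk ((extCx φ).map f) X p q n h (η φ N p x) y).trans ?_
  rw [η_map]
  rfl

lemma projMap_naturality_right {X' : DRing.Cx B} (f : X ⟶ X') :
    (N ◁ (resCx φ).map f) ≫ projMap φ N X' =
      projMap φ N X ≫ (resCx φ).map ((extCx φ).obj N ◁ f) := by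
  refine cx_hom_ext fun p q n h x y => ?_
  refine (congrArg ((projMap φ N X').f n).hom
    (whiskerLeft_tmk N ((resCx φ).map f) p q n h x y)).trans ?_
  refine (projMap_tmk φ N X' p q n h x _).trans ?_
  refine ((congrArg (((resCx φ).map ((extCx φ).obj N ◁ f)).f n).hom
    (projMap_tmk φ N X p q n h x y)).trans ?_).symm
  exact whiskerLeft_tmk ((extCx φ).obj N) f p q n h (η φ N p x) y

end Main

end Groth.Agent.LoccohB.ProjF
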