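import Groth.Agent.LoccohB.OldExt2
import Mathlib.Algebra.Category.ModuleCat.FilteredColimits
import Mathlib.CategoryTheory.Limits.ConcreteCategory.WithAlgebraicStructures
import Mathlib.Algebra.Homology.DerivedCategory.Ext.ExactSequences
import Mathlib.Algebra.Homology.DerivedCategory.Ext.EnoughProjectives
import Mathlib.Algebra.Homology.ShortComplex.ModuleCat
import Mathlib.AlgebraicGeometry.Morphisms.Affine

universe v u
open CategoryTheory Limits Opposite AlgebraicGeometry TopologicalSpace Abelian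

namespace Groth.Agent.LoccohB.PunctAffine
open Groth.Agent.LoccohB.OldExt
variable {A : Type u} [CommRing A]

variable (A) in
/-- the canonical map `A → Γ(Spec A, V)` -/
noncomputable def rho (V : (Spec (CommRingCat.of A)).Opens) : A →+* Γ(Spec (CommRingCat.of A), V) :=
  ((Spec (CommRingCat.of A)).presheaf.map (homOfLE le_top).op).hom.comp (Scheme.ΓSpecIso (CommRingCat.of A)).inv.hom

lemma res_rho {V W : (Spec (CommRingCat.of A)).Opens} (i : W ⟶ V) (a : A) :
    ((Spec (CommRingCat.of A)).presheaf.map i.op).hom (rho A V a) = rho A W a := by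
  simp only [rho, RingHom.coe_comp, Function.comp_apply]
  rw [← CommRingCat.comp_apply, ← Functor.map_comp]
  rfl

lemma basicOpen_rho (V : (Spec (CommRingCat.of A)).Opens) (a : A) :
    (Spec (CommRingCat.of A)).basicOpen (rho A V a) = V ⊓ PrimeSpectrum.basicOpen a := by
  simp only [rho, RingHom.coe_comp, Function.comp_apply]
  rw [Scheme.basicOpen_res]
  congr 1
  exact basicOpen_eq_of_affine (R := CommRingCat.of A) a

lemma isUnit_rho (V : (Spec (CommRingCat.of A)).Opens) (a : A) (h : V ≤ PrimeSpectrum.basicOpen a) :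
    IsUnit (rho A V a) := by
  have h1 := (Spec (CommRingCat.of A)).toRingedSpace.isUnit_res_basicOpen (rho A V a)
  have h2 : (Spec (CommRingCat.of A)).basicOpen (rho A V a) = V := by
    rw [basicOpen_rho, inf_eq_left.2 h]
  have h3 : V ⟶ (Spec (CommRingCat.of A)).basicOpen (rho A V a) := eqToHom h2.symm
  have h4 := h1.map ((Spec (CommRingCat.of A)).presheaf.map h3.op).hom
  convert! h4 using 1


lemma res_sum_eq_one {r : ℕ} {V W : (Spec (CommRingCat.of A)).Opens} (i : W ⟶ V) (t : Fin r → Γ(Spec (CommRingCat.of A), V))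
    (f φ : Fin r → A) (g : A) (hW : W ≤ PrimeSpectrum.basicOpen g)
    (ht : ∀ j, ((Spec (CommRingCat.of A)).presheaf.map i.op).hom (t j) * rho A W g = rho A W (φ j))
    (hs : ∑ j, f j * φ j = g) :
    ((Spec (CommRingCat.of A)).presheaf.map i.op).hom (∑ j, t j * rho A V (f j)) = 1 := by
  apply (isUnit_rho W g hW).mul_right_cancel
  rw [map_sum, one_mul, Finset.sum_mul]
  have e1 : ∀ j, ((Spec (CommRingCat.of A)).presheaf.map i.op).hom (t j * rho A V (f j)) * rho A W g = rho A W (f j * φ j) := by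
    intro j
    rw [map_mul, res_rho, mul_right_comm, ht j, ← map_mul, mul_comm]
  rw [Finset.sum_congr rfl (fun j _ => e1 j), ← map_sum, hs]

/-- gluing a homomorphism `φ : J → A` to a section over `Spec A ∖ V(J)` -/
lemma exists_glue (V : (Spec (CommRingCat.of A)).Opens) (J : Ideal A)
    (hle : ∀ g ∈ J, (PrimeSpectrum.basicOpen g : (Spec (CommRingCat.of A)).Opens) ≤ V)
    (hV : V ≤ ⨆ g : J, (PrimeSpectrum.basicOpen g.1 : (Spec (CommRingCat.of A)).Opens)) (φ : J →ₗ[A] A) :
    ∃ t : Γ(Spec (CommRingCat.of A), V), ∀ (g : J),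
      ((Spec (CommRingCat.of A)).presheaf.map (homOfLE (hle g.1 g.2)).op).hom t
      * rho A _ g = rho A _ (φ g) := by
  let U : J → (Spec (CommRingCat.of A)).Opens := fun g => PrimeSpectrum.basicOpen g.1
  have hu : ∀ g : J, IsUnit (rho A (U g) g.1) := fun g => isUnit_rho _ _ le_rfl
  let sf : ∀ g : J, Γ(Spec (CommRingCat.of A), U g) := fun g => rho A (U g) (φ g) * (hu g).unit⁻¹.1
  have hsf : ∀ g : J, sf g * rho A (U g) g.1 = rho A (U g) (φ g) := by
    intro g
    simp only [sf]
    rw [mul_assoc, IsUnit.val_inv_mul, mul_one]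
  obtain ⟨t, ht, -⟩ := (Spec (CommRingCat.of A)).sheaf.existsUnique_gluing' U V (fun g => homOfLE (hle g.1 g.2)) hV sf (by
    intro g g'
    have u1 : IsUnit (rho A (U g ⊓ U g') g.1) := isUnit_rho _ _ inf_le_left
    have u2 : IsUnit (rho A (U g ⊓ U g') g'.1) := isUnit_rho _ _ inf_le_right
    apply (u1.mul u2).mul_right_cancel
    have e1 := congrArg ((Spec (CommRingCat.of A)).presheaf.map (Opens.infLELeft (U g) (U g')).op).hom (hsf g)
    have e2 := congrArg ((Spec (CommRingCat.of A)).presheaf.map (Opens.infLERight (U g) (U g')).op).hom (hsf g')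
    rw [map_mul, res_rho, res_rho] at e1 e2
    have e3 : rho A (U g ⊓ U g') (φ g) * rho A (U g ⊓ U g') g'.1 = rho A (U g ⊓ U g') (φ g') * rho A (U g ⊓ U g') g.1 := by
      rw [← map_mul, ← map_mul]
      congr 1
      rw [mul_comm, ← smul_eq_mul, ← map_smul, mul_comm, ← smul_eq_mul, ← map_smul]
      congr 1
      ext
      simp [mul_comm]
    calc _ = (((Spec (CommRingCat.of A)).presheaf.map (Opens.infLELeft (U g) (U g')).op).hom (sf g) * rho A (U g ⊓ U g') g.1) * rho A (U g ⊓ U g') g'.1 := by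
            rw [← mul_assoc]; rfl
      _ = (((Spec (CommRingCat.of A)).presheaf.map (Opens.infLERight (U g) (U g')).op).hom (sf g') * rho A (U g ⊓ U g') g'.1) * rho A (U g ⊓ U g') g.1 := by
            rw [e1, e2, e3]
      _ = _ := by rw [mul_assoc, mul_comm (rho A (U g ⊓ U g') g'.1)]; rfl)
  refine ⟨t, fun g => ?_⟩
  have := ht g
  rw [← hsf g]
  congr 1

noncomputable abbrev idealSC (J : Ideal A) : ShortComplex (ModuleCat.{u} A) :=
  ShortComplex.mk (ModuleCat.ofHom (X := J) J.subtype) (ModuleCat.ofHom (Y := A ⧸ J) J.mkQ) (by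
    ext x
    exact (Submodule.Quotient.mk_eq_zero J).2 x.2)

lemma idealSC_shortExact (J : Ideal A) : (idealSC J).ShortExact where
  exact := by
    rw [ShortComplex.moduleCat_exact_iff]
    intro x hx
    exact ⟨⟨x, (Submodule.Quotient.mk_eq_zero J).1 hx⟩, rfl⟩
  mono_f := by
    rw [ModuleCat.mono_iff_injective]
    exact Subtype.val_injective
  epi_g := by
    rw [ModuleCat.epi_iff_surjective]
    exact Submodule.mkQ_surjective _

/-- the inclusion `I^n → I^m` -/
noncomputable abbrev inclMap (I : Ideal A) {m n : ℕ} (h : m ≤ n) : ModuleCat.of A (I ^ n : Ideal A) ⟶ ModuleCat.of A (I ^ m : Ideal A) :=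
  ModuleCat.ofHom (Submodule.inclusion (Ideal.pow_le_pow_right h))

lemma exists_lift (I : Ideal A) (m : ℕ) (X₁ X₂ : ModuleCat.{u} A) (f : X₁ ⟶ X₂) (g : X₂ ⟶ ModuleCat.of A (I ^ m : Ideal A)) (w : f ≫ g = 0)
    (hS : (ShortComplex.mk f g w).ShortExact) (h : Subsingleton ((localCohomology I 2).obj X₁)) :
    ∃ (n : ℕ) (hmn : m ≤ n) (φ : ModuleCat.of A (I ^ n : Ideal A) ⟶ X₂), φ ≫ g = inclMap I hmn := by
  obtain ⟨n, hmn, h1⟩ := exists_comp_eq_zero I 2 (by norm_num) _ h m ((idealSC_shortExact (I ^ m)).extClass.comp hS.extClass rfl)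
  refine ⟨n, hmn, ?_⟩
  let φ : idealSC (I ^ n) ⟶ idealSC (I ^ m) :=
    { τ₁ := inclMap I hmn
      τ₂ := 𝟙 _
      τ₃ := quotMap I hmn }
  have h2 := ShortComplex.ShortExact.extClass_naturality (idealSC_shortExact (I ^ n)) (idealSC_shortExact (I ^ m)) φ
  dsimp [φ] at h2
  rw [← Abelian.Ext.comp_assoc (a₁₂ := 1) _ _ _ (by omega) (by omega) (by omega), ← h2, Abelian.Ext.comp_assoc (a₂₃ := 1) _ _ _ (by omega) (by omega) (by omega)] at h1
  obtain ⟨y, hy⟩ := Ext.contravariant_sequence_exact₁ (idealSC_shortExact (I ^ n)) _ _ _ h1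
  have hy0 : y = 0 := Ext.eq_zero_of_projective _
  rw [hy0, Ext.comp_zero] at hy
  obtain ⟨z, hz⟩ := Ext.covariant_sequence_exact₃ _ hS _ _ hy.symm
  obtain ⟨z, rfl⟩ := Ext.mk₀_bijective _ _ |>.2 z
  refine ⟨z, ?_⟩
  rw [Ext.mk₀_comp_mk₀] at hz
  exact (Ext.mk₀_bijective _ _).1 hz

/-- elementwise version -/
lemma exists_section (A : Type u) [CommRing A] [IsNoetherianRing A] (I : Ideal A)
    (h : ∀ (M : Type u) [AddCommGroup M] [Module A M], Subsingleton ((localCohomology I 2).obj (ModuleCat.of A M))) :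
    ∃ (r : ℕ) (f : Fin r → A) (n : ℕ) (φ : (I ^ n : Ideal A) →ₗ[A] (Fin r → A)), 1 ≤ n ∧ (∀ j, f j ∈ I) ∧ 
      ∀ x, ∑ j, f j * φ x j = x.1 := by
  obtain ⟨r, f, hf⟩ := Submodule.fg_iff_exists_fin_generating_family.1 ((inferInstance : IsNoetherian A A).noetherian (I^1))
  let G : (Fin r → A) →ₗ[A] (I ^ 1 : Ideal A) := Fintype.linearCombination A (fun j => (⟨f j, by rw [← hf]; exact Submodule.subset_span ⟨j, rfl⟩⟩ : (I ^ 1 : Ideal A)))
  have hG : Function.Surjective G := by
    rw [← LinearMap.range_eq_top, Fintype.range_linearCombination]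
    apply Submodule.map_injective_of_injective (f := (I ^ 1 : Ideal A).subtype) Subtype.val_injective
    rw [Submodule.map_span, Submodule.map_subtype_top]
    refine Eq.trans ?_ hf
    congr 1
    ext x
    simp
  let S : ShortComplex (ModuleCat.{u} A) := ShortComplex.mk (ModuleCat.ofHom (LinearMap.ker G).subtype) (ModuleCat.ofHom G) (by
    ext x
    exact congrArg Subtype.val x.2)
  have hS : S.ShortExact :=
    { exact := by
        rw [ShortComplex.moduleCat_exact_iff]
        intro x hx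
        exact ⟨⟨x, hx⟩, rfl⟩
      mono_f := by
        rw [ModuleCat.mono_iff_injective]
        exact Subtype.val_injective
      epi_g := by
        rw [ModuleCat.epi_iff_surjective]
        exact hG }
  obtain ⟨n, hn, φ, hφ⟩ := exists_lift I 1 _ _ _ _ _ hS (h (LinearMap.ker G))
  refine ⟨r, f, n, φ.hom, hn, ?_, ?_⟩
  · intro j
    have : f j ∈ I ^ 1 := by rw [← hf]; exact Submodule.subset_span ⟨j, rfl⟩
    simpa using this
  · intro x
    have h1 := congrArg (fun (ψ : ModuleCat.of A (I ^ n : Ideal A) ⟶ ModuleCat.of A (I ^ 1 : Ideal A)) => ((ψ.hom x : (I ^ 1 : Ideal A)) : A)) hφ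
    dsimp [S, G] at h1
    refine Eq.trans ?_ h1
    rw [Fintype.linearCombination_apply]
    simp [mul_comm]
    

lemma subsingleton_of_nilpotent (I : Ideal A) (N : ℕ) (hN : I ^ N = ⊥) (i : ℕ) (hi : 0 < i) (M : ModuleCat.{u} A) :
    Subsingleton ((localCohomology I i).obj M) := by
  let F : (ℕᵒᵖ)ᵒᵖ ⥤ ModuleCat.{u} A :=
    localCohomology.diagram (localCohomology.idealPowersDiagram I) i ⋙ (evaluation _ _).obj M
  let c : Cocone F := ((evaluation _ _).obj M).mapCocone (colimit.cocone (localCohomology.diagram (localCohomology.idealPowersDiagram I) i))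
  have hc : IsColimit c := isColimitOfPreserves _ (colimit.isColimit _)
  have : PreservesFilteredColimitsOfSize.{0, 0} (forget (ModuleCat.{u} A)) :=
      preservesFilteredColimitsOfSize_shrink.{0, u, 0, u} _
  have hs : ∀ n, N ≤ n → Subsingleton (F.obj (op (op n))) := by
    intro n hn
    have h0 : I ^ n = ⊥ := by
      rw [eq_bot_iff, ← hN]
      exact Ideal.pow_le_pow_right hn
    have hp : Projective (ModuleCat.of A (A ⧸ I ^ n)) := by
      have : Module.Projective A (A ⧸ I ^ n) := by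
        rw [h0]
        exact Module.Projective.of_equiv (Submodule.quotEquivOfEqBot (⊥ : Submodule A A) rfl).symm
      exact (IsProjective.iff_projective _).1 this
    obtain ⟨k, rfl⟩ : ∃ k, i = k + 1 := ⟨i - 1, by omega⟩
    have h1 := isZero_Ext_succ_of_projective (R := A) (ModuleCat.of A (A ⧸ I ^ n)) M k
    exact ModuleCat.subsingleton_of_isZero h1
  have key : ∀ z : c.pt, z = 0 := by
    intro z
    obtain ⟨j, x, hx⟩ := Concrete.isColimit_exists_rep F hc z
    let f : j ⟶ op (op (max (unop (unop j)) N)) := (homOfLE (le_max_left (unop (unop j)) N)).op.op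
    rw [← hx, ← c.w f]
    have := hs _ (le_max_right (unop (unop j)) N)
    rw [ModuleCat.comp_apply]
    have h0 : F.map f x = 0 := Subsingleton.elim _ _
    rw [h0, map_zero]
  exact ⟨fun a b => (key a).trans (key b).symm⟩

end Groth.Agent.LoccohB.PunctAffine
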