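import Mathlib.CategoryTheory.Functor.Derived.RightDerived
import Mathlib.CategoryTheory.Adjunction.Basic
import Mathlib.Algebra.Homology.DerivedCategory.KInjective

/-!
# Right derived functors computed on K-injective complexes

Abstract lemma: if `L : C ⥤ D` is a localization functor and every object of `D` is isomorphic to
`L.obj J` with `J` satisfying a property `P` such that `L.map : (X ⟶ J) → (L.obj X ⟶ L.obj J)` is
bijective for all `X`, then any functor `F : C ⥤ H` has a right derived functor, and the unit of any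
right derived functor of `F` is an isomorphism at objects satisfying `P`.
-/

set_option autoImplicit false

universe w v u

open CategoryTheory

namespace Groth.Agent.LoccohB.RDer

section Abstract

variable {C D H : Type*} [Category* C] [Category* D] [Category* H]

/-- the unit exhibiting `ρ ⋙ F` as a left Kan extension of `F` along a left adjoint `L`. -/
@[simps]
def kanUnit {L : C ⥤ D} {ρ : D ⥤ C} (adj : L ⊣ ρ) (F : C ⥤ H) : F ⟶ L ⋙ ρ ⋙ F where
  app X := F.map (adj.unit.app X)
  naturality X Y f := by
    have := adj.unit.naturality f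
    dsimp at this ⊢
    rw [← F.map_comp, this, F.map_comp]

/-- the factorization -/
@[simps]
def kanDesc {L : C ⥤ D} {ρ : D ⥤ C} (adj : L ⊣ ρ) (F : C ⥤ H) {G : D ⥤ H} (β : F ⟶ L ⋙ G) :
    ρ ⋙ F ⟶ G where
  app d := β.app (ρ.obj d) ≫ G.map (adj.counit.app d)
  naturality d d' f := by
    have h1 := β.naturality (ρ.map f)
    have h2 := adj.counit.naturality f
    dsimp at h1 h2 ⊢
    rw [← Category.assoc, h1, Category.assoc, Category.assoc, ← G.map_comp, h2, G.map_comp]

lemma kanUnit_kanDesc {L : C ⥤ D} {ρ : D ⥤ C} (adj : L ⊣ ρ) (F : C ⥤ H) {G : D ⥤ H}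
    (β : F ⟶ L ⋙ G) : kanUnit adj F ≫ Functor.whiskerLeft L (kanDesc adj F β) = β := by
  ext X
  have h0 := β.naturality (adj.unit.app X)
  dsimp at h0 ⊢
  rw [kanUnit_app, kanDesc_app, reassoc_of% h0, ← G.map_comp, adj.left_triangle_components]
  simp

lemma kanDesc_uniq {L : C ⥤ D} {ρ : D ⥤ C} (adj : L ⊣ ρ) (F : C ⥤ H) {G : D ⥤ H}
    (γ : ρ ⋙ F ⟶ G) : kanDesc adj F (kanUnit adj F ≫ Functor.whiskerLeft L γ) = γ := by
  ext d
  have h0 := γ.naturality (adj.counit.app d)
  dsimp at h0 ⊢
  rw [kanDesc_app, NatTrans.comp_app, kanUnit_app, Functor.whiskerLeft_app, Category.assoc, ← h0,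
    ← F.map_comp_assoc, adj.right_triangle_components]
  simp

/-- For an adjunction `L ⊣ ρ`, the functor `ρ ⋙ F` is the left Kan extension of `F` along `L`. -/
theorem isLeftKanExtension_of_adj {L : C ⥤ D} {ρ : D ⥤ C} (adj : L ⊣ ρ) (F : C ⥤ H) :
    (ρ ⋙ F).IsLeftKanExtension (kanUnit adj F) where
  nonempty_isUniversal := ⟨by
    refine Limits.IsInitial.ofUniqueHom (fun G => ?_) (fun G m => ?_)
    · exact StructuredArrow.homMk (kanDesc adj F G.hom) (kanUnit_kanDesc adj F G.hom)
    · apply StructuredArrow.hom_ext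
      refine (kanDesc_uniq adj F m.right).symm.trans ?_
      congr 1
      exact StructuredArrow.w m⟩

/-- A property of objects of `C` which is "local" for the functor `L : C ⥤ D`, and has enough
objects. -/
structure IsResolving (L : C ⥤ D) (P : ObjectProperty C) : Prop where
  bijective : ∀ (X Y : C), P Y → Function.Bijective (L.map : (X ⟶ Y) → (L.obj X ⟶ L.obj Y))
  exists_iso : ∀ d : D, ∃ Y, P Y ∧ Nonempty (L.obj Y ≅ d)

variable {L : C ⥤ D} {P : ObjectProperty C}

/-- the right adjoint of `L` on objects -/
noncomputable def IsResolving.res (h : IsResolving L P) (d : D) : C := (h.exists_iso d).choose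

lemma IsResolving.prop_res (h : IsResolving L P) (d : D) : P (h.res d) :=
  (h.exists_iso d).choose_spec.1

/-- the counit -/
noncomputable def IsResolving.iso (h : IsResolving L P) (d : D) : L.obj (h.res d) ≅ d :=
  (h.exists_iso d).choose_spec.2.some

/-- the hom bijection of the adjunction -/
noncomputable def IsResolving.equiv (h : IsResolving L P) (X : C) (d : D) :
    (L.obj X ⟶ d) ≃ (X ⟶ h.res d) :=
  ((Equiv.ofBijective _ (h.bijective X _ (h.prop_res d))).trans
    (Iso.homCongr (Iso.refl _) (h.iso d))).symm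

lemma IsResolving.equiv_symm_apply (h : IsResolving L P) (X : C) (d : D) (f : X ⟶ h.res d) :
    (h.equiv X d).symm f = L.map f ≫ (h.iso d).hom := by
  simp [equiv]

lemma IsResolving.equiv_naturality (h : IsResolving L P) (X' X : C) (d : D) (f : X' ⟶ X)
    (g : L.obj X ⟶ d) : h.equiv X' d (L.map f ≫ g) = f ≫ h.equiv X d g := by
  apply (h.equiv X' d).symm.injective
  rw [Equiv.symm_apply_apply, h.equiv_symm_apply, Functor.map_comp, Category.assoc,
    ← h.equiv_symm_apply, Equiv.symm_apply_apply]

/-- the adjunction -/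
noncomputable def IsResolving.adj (h : IsResolving L P) :
    L ⊣ Adjunction.rightAdjointOfEquiv h.equiv h.equiv_naturality :=
  Adjunction.adjunctionOfEquivRight h.equiv h.equiv_naturality

/-- the unit of the adjunction is an isomorphism on objects satisfying `P` -/
lemma IsResolving.isIso_unit (h : IsResolving L P) (Y : C) (hY : P Y) :
    IsIso (h.adj.unit.app Y) := by
  have h3 : h.adj.unit.app Y = h.equiv Y (L.obj Y) (𝟙 (L.obj Y)) := by
    simp [adj]
  let η : Y ⟶ h.res (L.obj Y) := h.equiv Y (L.obj Y) (𝟙 (L.obj Y))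
  have h2 : L.map η ≫ (h.iso (L.obj Y)).hom = 𝟙 _ := by
    rw [← h.equiv_symm_apply, Equiv.symm_apply_apply]
  have h4 : IsIso (L.map η) := by
    have : L.map η = (h.iso (L.obj Y)).inv := by
      rw [← cancel_mono (h.iso (L.obj Y)).hom, h2, Iso.inv_hom_id]
    rw [this]
    infer_instance
  obtain ⟨s, hs⟩ := (h.bijective _ _ hY).surjective (inv (L.map η))
  have : IsIso η := by
    refine ⟨s, ?_, ?_⟩
    · apply (h.bijective _ _ hY).injective
      rw [Functor.map_comp, hs, IsIso.hom_inv_id, CategoryTheory.Functor.map_id]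
    · apply (h.bijective _ _ (h.prop_res _)).injective
      rw [Functor.map_comp, hs, IsIso.inv_hom_id, CategoryTheory.Functor.map_id]
  rw [h3]
  exact this

/-- Any functor has a right derived functor. -/
theorem IsResolving.hasRightDerivedFunctor (h : IsResolving L P) (W : MorphismProperty C)
    [L.IsLocalization W] (F : C ⥤ H) : F.HasRightDerivedFunctor W := by
  have := isLeftKanExtension_of_adj h.adj F
  rw [F.hasRightDerivedFunctor_iff L W]
  exact Functor.HasLeftKanExtension.mk _ (kanUnit h.adj F)

/-- The unit of any right derived functor is an isomorphism on objects satisfying `P`. -/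
theorem IsResolving.isIso_app (h : IsResolving L P) (W : MorphismProperty C)
    [L.IsLocalization W] (F : C ⥤ H) (RF : D ⥤ H) (α : F ⟶ L ⋙ RF)
    [RF.IsRightDerivedFunctor α W] (Y : C) (hY : P Y) : IsIso (α.app Y) := by
  have h1 := isLeftKanExtension_of_adj h.adj F
  have h2 : RF.IsLeftKanExtension α := by
    rwa [← Functor.isRightDerivedFunctor_iff_isLeftKanExtension RF α W]
  have h3 : α.app Y = (kanUnit h.adj F).app Y ≫
      (Functor.leftKanExtensionUnique _ (kanUnit h.adj F) _ α).hom.app (L.obj Y) := by
    have := Functor.descOfIsLeftKanExtension_fac_app _ (kanUnit h.adj F) RF α Y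
    rw [← this]
    simp [Functor.leftKanExtensionUnique, -Functor.descOfIsLeftKanExtension_fac_app]
  have := h.isIso_unit Y hY
  rw [h3]
  have h4 : IsIso ((kanUnit h.adj F).app Y) := by
    rw [kanUnit_app]
    infer_instance
  infer_instance

/-- A composition of functors which are "absolutely" derived: if `α : F ⟶ L ⋙ RF` is such that all
`α.app Y`, for `Y` satisfying `P`, are isomorphisms then `RF` is a right derived functor of `F`. -/
theorem IsResolving.isRightDerivedFunctor (h : IsResolving L P) (W : MorphismProperty C)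
    [L.IsLocalization W] (F : C ⥤ H) (RF : D ⥤ H) (α : F ⟶ L ⋙ RF)
    (hα : ∀ Y, P Y → IsIso (α.app Y)) : RF.IsRightDerivedFunctor α W := by
  have h1 := isLeftKanExtension_of_adj h.adj F
  rw [Functor.isRightDerivedFunctor_iff_isLeftKanExtension RF α W,
    Functor.isLeftKanExtension_iff_isIso (kanDesc h.adj F α) (kanUnit h.adj F) α
      (kanUnit_kanDesc _ _ _), NatTrans.isIso_iff_isIso_app]
  intro d
  rw [kanDesc_app]
  have h2 : IsIso (α.app (h.res d)) := hα _ (h.prop_res d)
  have h3 : h.adj.counit.app d = (h.iso d).hom := by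
    simp [adj, equiv_symm_apply]
  have h4 : IsIso (RF.map (h.adj.counit.app d)) := by
    rw [h3]
    infer_instance
  exact @IsIso.comp_isIso _ _ _ _ _ _ _ h2 h4

end Abstract

end Groth.Agent.LoccohB.RDer
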