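import Groth.Agent.LoccohB.KInjD
import Groth.Agent.LoccohB.HomCls
import Groth.Agent.LoccohB.HClass

/-!
# `RΓ_I` computed on K-injective complexes
-/

set_option autoImplicit false

universe u

open CategoryTheory Limits

attribute [local instance] HasDerivedCategory.standard

namespace Groth.Agent.LoccohB.RGammaBasic

variable {A : Type u} [CommRing A] (I : Ideal A)

/-- `Γ_I` applied termwise to complexes -/
noncomputable abbrev gCx : CochainComplex (ModuleCat.{u} A) ℤ ⥤ CochainComplex (ModuleCat.{u} A) ℤ :=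
  (DRing.gammaI I).mapHomologicalComplex (ComplexShape.up ℤ)

/-- the inclusion of complexes `Γ_I J → J`. -/
noncomputable def gι (J : CochainComplex (ModuleCat.{u} A) ℤ) : (gCx I).obj J ⟶ J where
  f n := (DRing.gammaIι I).app (J.X n)
  comm' i j _ := by
    have := (DRing.gammaIι I).naturality (J.d i j)
    exact this.symm

lemma gι_eq (J : CochainComplex (ModuleCat.{u} A) ℤ) :
    gι I J = (NatTrans.mapHomologicalComplex (DRing.gammaIι I) (ComplexShape.up ℤ)).app J ≫
      (Functor.mapHomologicalComplexIdIso (ModuleCat.{u} A) (ComplexShape.up ℤ)).hom.app J := by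
  ext n x
  simp [gι]
  rfl

lemma gι_naturality {J J' : CochainComplex (ModuleCat.{u} A) ℤ} (φ : J ⟶ J') :
    (gCx I).map φ ≫ gι I J' = gι I J ≫ φ := by
  ext n : 1
  exact (DRing.gammaIι I).naturality (φ.f n)

section

variable [DRing.HasRgammaI I]

/-- the unit of `RΓ_I` -/
noncomputable abbrev rUnit : DRing.gammaIKh I ⟶ DerivedCategory.Qh ⋙ DRing.RgammaI I :=
  (DRing.gammaIKh I).totalRightDerivedUnit DerivedCategory.Qh
    (HomotopyCategory.quasiIso (ModuleCat.{u} A) (ComplexShape.up ℤ))

/-- The canonical natural map `Γ_I(J) → RΓ_I(J)`. -/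
noncomputable def rg : gCx I ⋙ DerivedCategory.Q ⟶ DerivedCategory.Q ⋙ DRing.RgammaI I :=
  Functor.whiskerLeft _ (DerivedCategory.quotientCompQhIso _).inv ≫
    (Functor.associator _ _ _).inv ≫
    Functor.whiskerRight ((DRing.gammaI I).mapHomotopyCategoryFactors (ComplexShape.up ℤ)).inv
      DerivedCategory.Qh ≫ (Functor.associator _ _ _).hom ≫
    Functor.whiskerLeft (HomotopyCategory.quotient _ _) (rUnit I) ≫
    (Functor.associator _ _ _).inv ≫
    Functor.whiskerRight (DerivedCategory.quotientCompQhIso _).hom (DRing.RgammaI I)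

lemma rg_app (J : CochainComplex (ModuleCat.{u} A) ℤ) : (rg I).app J =
    (DerivedCategory.quotientCompQhIso _).inv.app ((gCx I).obj J) ≫
    DerivedCategory.Qh.map (((DRing.gammaI I).mapHomotopyCategoryFactors
      (ComplexShape.up ℤ)).inv.app J) ≫
    (rUnit I).app ((HomotopyCategory.quotient _ _).obj J) ≫
    (DRing.RgammaI I).map ((DerivedCategory.quotientCompQhIso _).hom.app J) := by
  simp [rg]

/-- On K-injective complexes the map `Γ_I(J) → RΓ_I(J)` is an isomorphism. -/
theorem isIso_rg_app (J : CochainComplex (ModuleCat.{u} A) ℤ) [J.IsKInjective] :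
    IsIso ((rg I).app J) := by
  have : IsIso ((rUnit I).app ((HomotopyCategory.quotient _ _).obj J)) :=
    KInjD.isIso_unit (KInjD.enoughKInj_moduleCat A) _ _ _ J
  rw [rg_app]
  infer_instance

lemma gammaIτ_app (J : CochainComplex (ModuleCat.{u} A) ℤ) :
    (DRing.gammaIτ I).app ((HomotopyCategory.quotient _ _).obj J) =
      DerivedCategory.Qh.map (((DRing.gammaI I).mapHomotopyCategoryFactors
      (ComplexShape.up ℤ)).hom.app J) ≫
      DerivedCategory.Qh.map ((HomotopyCategory.quotient _ _).map (gι I J)) := by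
  have : (DRing.gammaIτ I).app ((HomotopyCategory.quotient _ _).obj J) =
      (DRing.gammaIτ0 I).app J := rfl
  rw [this, DRing.gammaIτ0, gι_eq]
  simp

theorem rg_ε (J : CochainComplex (ModuleCat.{u} A) ℤ) :
    (rg I).app J ≫ (DRing.RgammaIε I).app (DerivedCategory.Q.obj J) =
      DerivedCategory.Q.map (gι I J) := by
  have h1 : (rUnit I).app ((HomotopyCategory.quotient _ _).obj J) ≫
      (DRing.RgammaIε I).app (DerivedCategory.Qh.obj ((HomotopyCategory.quotient _ _).obj J)) =
        (DRing.gammaIτ I).app ((HomotopyCategory.quotient _ _).obj J) := by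
    have := (DRing.RgammaI I).rightDerived_fac_app (rUnit I)
      (HomotopyCategory.quasiIso (ModuleCat.{u} A) (ComplexShape.up ℤ)) (𝟭 (Dual.D A))
      (DRing.gammaIτ I ≫ (Functor.rightUnitor _).inv)
      ((HomotopyCategory.quotient _ _).obj J)
    rw [NatTrans.comp_app, Functor.rightUnitor_inv_app] at this
    exact this.trans (Category.comp_id _)
  have h2 := (DRing.RgammaIε I).naturality ((DerivedCategory.quotientCompQhIso _).hom.app J)
  rw [rg_app, Category.assoc, Category.assoc, Category.assoc]
  erw [h2]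
  rw [HomCls.Q_map_eq]
  congr 1
  erw [reassoc_of% h1]
  rw [gammaIτ_app]
  simp only [Category.assoc]
  rw [← Functor.map_comp_assoc]
  simp

end

end Groth.Agent.LoccohB.RGammaBasic
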