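import Groth.Agent.LoccohB.RGammaTri
import Groth.Agent.LoccohB.FInv
import Groth.Agent.LoccohB.GMAbs
import Groth.Agent.LoccohB.Devissage

/-!
# `RΓ_J ∘ RΓ_I = RΓ_{I+J}` naturally; the triangle `RΓ_I(K) → K → C`
-/

set_option autoImplicit false

universe u

open CategoryTheory Limits Pretriangulated

attribute [local instance] HasDerivedCategory.standard

namespace Groth.Agent.LoccohB.RGammaSup

open RGammaTors RGammaTri

variable {A : Type u} [CommRing A] [IsNoetherianRing A] (I J : Ideal A)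

omit [IsNoetherianRing A] in
lemma isTors_mono {I J : Ideal A} (h : I ≤ J) {K : Dual.D A} (hK : IsTors J K) : IsTors I K :=
  fun i => GammaQis.isPowerTorsion_mono h (hK i)

section

variable [DRing.HasRgammaI I] [DRing.HasRgammaI J] [DRing.HasRgammaI (I ⊔ J)]

/-- composition of the canonical morphisms `RΓ_J RΓ_I K → RΓ_I K → K` -/
noncomputable abbrev ε₂ (K : Dual.D A) : (DRing.RgammaI J).obj ((DRing.RgammaI I).obj K) ⟶ K :=
  (DRing.RgammaIε J).app ((DRing.RgammaI I).obj K) ≫ (DRing.RgammaIε I).app K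

lemma isTors_rg_rg (K : Dual.D A) :
    IsTors (I ⊔ J) ((DRing.RgammaI J).obj ((DRing.RgammaI I).obj K)) := by
  obtain ⟨e⟩ := nonempty_rgamma_rgamma I J K
  exact isTors_of_iso _ e.symm (torsion_rgamma (I ⊔ J) K)

lemma exists_θ (K : Dual.D A) : ∃ θ : (DRing.RgammaI J).obj ((DRing.RgammaI I).obj K) ⟶
    (DRing.RgammaI (I ⊔ J)).obj K, θ ≫ (DRing.RgammaIε (I ⊔ J)).app K = ε₂ I J K :=
  (comp_ε_bijective (I ⊔ J) (isTors_rg_rg I J K) K).2 _

/-- the canonical map `RΓ_J RΓ_I K → RΓ_{I+J} K` -/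
noncomputable def θ (K : Dual.D A) : (DRing.RgammaI J).obj ((DRing.RgammaI I).obj K) ⟶
    (DRing.RgammaI (I ⊔ J)).obj K := (exists_θ I J K).choose

lemma θ_ε (K : Dual.D A) : θ I J K ≫ (DRing.RgammaIε (I ⊔ J)).app K = ε₂ I J K :=
  (exists_θ I J K).choose_spec

lemma hom_ext₂ {T K : Dual.D A} (hT : IsTors (I ⊔ J) T)
    {φ ψ : T ⟶ (DRing.RgammaI J).obj ((DRing.RgammaI I).obj K)}
    (h : φ ≫ ε₂ I J K = ψ ≫ ε₂ I J K) : φ = ψ := by
  apply hom_ext J (isTors_mono le_sup_right hT)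
  apply hom_ext I (isTors_mono le_sup_left hT)
  simpa using h

lemma isIso_θ (K : Dual.D A) : IsIso (θ I J K) := by
  obtain ⟨ψ, hψ⟩ := (comp_ε_bijective I (isTors_mono le_sup_left
    (torsion_rgamma (I ⊔ J) K)) K).2 ((DRing.RgammaIε (I ⊔ J)).app K)
  obtain ⟨ψ', hψ'⟩ := (comp_ε_bijective J (isTors_mono le_sup_right
    (torsion_rgamma (I ⊔ J) K)) ((DRing.RgammaI I).obj K)).2 ψ
  dsimp only at hψ hψ'
  have h1 : ψ' ≫ ε₂ I J K = (DRing.RgammaIε (I ⊔ J)).app K := by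
    rw [ε₂, reassoc_of% hψ', hψ]
  refine ⟨ψ', ?_, ?_⟩
  · apply hom_ext₂ I J (isTors_rg_rg I J K)
    rw [Category.assoc, h1, θ_ε, Category.id_comp]
  · apply hom_ext (I ⊔ J) (torsion_rgamma (I ⊔ J) K)
    rw [Category.assoc, θ_ε, h1, Category.id_comp]

/-- `RΓ_J ∘ RΓ_I ≅ RΓ_{I+J}` -/
noncomputable def rgSup : DRing.RgammaI I ⋙ DRing.RgammaI J ≅ DRing.RgammaI (I ⊔ J) :=
  NatIso.ofComponents (fun K => @asIso _ _ _ _ (θ I J K) (isIso_θ I J K)) (by
    intro K L f
    apply hom_ext (I ⊔ J) (isTors_rg_rg I J K)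
    have h1 := (DRing.RgammaIε (I ⊔ J)).naturality f
    have h2 := (DRing.RgammaIε J).naturality ((DRing.RgammaI I).map f)
    have h3 := (DRing.RgammaIε I).naturality f
    dsimp at h1 h2 h3 ⊢
    rw [Category.assoc, Category.assoc, θ_ε, h1, ← Category.assoc (θ I J K), θ_ε, ε₂, ε₂,
      reassoc_of% h2, Category.assoc, h3])

end

section Cone

variable [DRing.HasRgammaI I]

/-- If `G → K → C` is distinguished with `G` torsion and there are no morphisms from torsion objects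
to shifts of `C`, then `RΓ_I(K) → K → C` is distinguished. -/
theorem exists_triangle_of_orth {G K C : Dual.D A} {α : G ⟶ K} {β : K ⟶ C}
    {γ : C ⟶ G⟦(1 : ℤ)⟧} (hT : Triangle.mk α β γ ∈ distTriang (Dual.D A)) (hG : IsTors I G)
    (hC : ∀ (T : Dual.D A), IsTors I T → ∀ x : T ⟶ C, x = 0) :
    ∃ γ' : C ⟶ ((DRing.RgammaI I).obj K)⟦(1 : ℤ)⟧,
      Triangle.mk ((DRing.RgammaIε I).app K) β γ' ∈ distTriang (Dual.D A) := by
  obtain ⟨u, hu⟩ := Triangle.coyoneda_exact₂ _ hT ((DRing.RgammaIε I).app K)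
    (hC _ (torsion_rgamma I K) _)
  change (DRing.RgammaI I).obj K ⟶ G at u
  change (DRing.RgammaIε I).app K = u ≫ α at hu
  obtain ⟨v, hv⟩ := (comp_ε_bijective I hG K).2 α
  dsimp only at hv
  have h1 : ∀ x : G ⟶ G, x ≫ α = 0 → x = 0 := by
    intro x hx
    obtain ⟨y, hy⟩ := Triangle.coyoneda_exact₂ _ (inv_rot_of_distTriang _ hT) x hx
    refine GMAbs.zero_left hy ?_
    change G ⟶ C⟦(-1 : ℤ)⟧ at y
    exact GMAbs.orth_shift_right (-1) 1 (by simp) (hC _ (isTors_shift I hG 1)) y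
  have huv : u ≫ v = 𝟙 _ := by
    apply hom_ext I (torsion_rgamma I K)
    rw [Category.assoc, hv, ← hu, Category.id_comp]
  have hvu : v ≫ u = 𝟙 _ := by
    rw [← sub_eq_zero]
    apply h1
    rw [Preadditive.sub_comp, Category.assoc, ← hu, hv, Category.id_comp, sub_self]
  let e : (DRing.RgammaI I).obj K ≅ G := ⟨u, v, huv, hvu⟩
  refine ⟨γ ≫ v⟦(1 : ℤ)⟧', isomorphic_distinguished _ hT _
    (Triangle.isoMk _ _ e (Iso.refl _) (Iso.refl _) ?_ ?_ ?_)⟩
  · exact (Category.comp_id _).trans hu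
  · exact (Category.comp_id _).trans (Category.id_comp _).symm
  · change (γ ≫ v⟦(1 : ℤ)⟧') ≫ u⟦(1 : ℤ)⟧' = 𝟙 _ ≫ γ
    rw [Category.assoc, ← Functor.map_comp, hvu, CategoryTheory.Functor.map_id, Category.comp_id,
      Category.id_comp]

omit [DRing.HasRgammaI I] in
/-- For a principal ideal there is a triangle `RΓ_g(K) → K → C` with `g` invertible on `C`. -/
theorem exists_triangle_span (g : A) [DRing.HasRgammaI (Ideal.span {g})] (K : Dual.D A) :
    ∃ (C : Dual.D A) (β : K ⟶ C)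
      (γ : C ⟶ ((DRing.RgammaI (Ideal.span {g})).obj K)⟦(1 : ℤ)⟧),
      Triangle.mk ((DRing.RgammaIε (Ideal.span {g})).app K) β γ ∈ distTriang (Dual.D A) ∧
        IsIso (g • 𝟙 C) := by
  obtain ⟨G, C, α, β, γ, hT, hC, hG, -⟩ := LocTri.exists_locTri g K
  have hG' : IsTors (Ideal.span {g}) G := fun i m => by
    obtain ⟨n, hn⟩ := hG i m
    refine ⟨n, fun a ha => ?_⟩
    rw [Ideal.span_singleton_pow, Ideal.mem_span_singleton'] at ha
    obtain ⟨b, rfl⟩ := ha
    rw [mul_smul, hn, smul_zero]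
  have hC' : ∀ (T : Dual.D A), IsTors (Ideal.span {g}) T → ∀ x : T ⟶ C, x = 0 := by
    intro T hT x
    have := FInv.subsingleton_of_elTor g T C
      (fun i => HDIBasic.elTor_of_isPowerTorsion (Ideal.span {g}) g
        (Ideal.mem_span_singleton_self g) _ (hT i)) hC
    exact Subsingleton.elim _ _
  obtain ⟨γ', h⟩ := exists_triangle_of_orth (Ideal.span {g}) hT hG' hC'
  exact ⟨C, β, γ', h, hC⟩

end Cone

/-- `RΓ_I` is left exact: `K ∈ D^{≥ n}` implies `RΓ_I(K) ∈ D^{≥ n}`. -/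
theorem isGE_rgamma [DRing.HasRgammaI I] (K : Dual.D A) (n : ℤ) (hK : DerivedCategory.IsGE K n) :
    DerivedCategory.IsGE ((DRing.RgammaI I).obj K) n := by
  obtain ⟨T, hT, hW, hT1, hT3, h1, h2⟩ :=
    Devissage.exists_trunc ((DRing.RgammaI I).obj K) (n - 1) n (by simp)
  obtain ⟨X, Y, Z, f, g, h⟩ := T
  dsimp at hW f g h hT1 hT3 h1 h2
  subst hW
  have hX : IsTors I X := by
    intro i
    by_cases hi : i ≤ n - 1
    · have := h1 i hi
      exact isPowerTorsion_of_iso I (asIso ((DerivedCategory.homologyFunctor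
        (ModuleCat.{u} A) i).map f)).symm (torsion_rgamma I K i)
    · have h3 := DerivedCategory.isZero_of_isLE X (n - 1) i (by omega)
      have := ModuleCat.subsingleton_of_isZero h3
      exact fun m => ⟨0, fun a _ => Subsingleton.elim _ _⟩
  have hf : f = 0 := by
    apply hom_ext I hX
    rw [zero_comp]
    exact DerivedCategory.TStructure.t.zero_of_isLE_of_isGE _ (n - 1) n (by omega) hT1 hK
  rw [DerivedCategory.isGE_iff]
  intro i hi
  have h4 := h1 i (by omega)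
  rw [hf, Functor.map_zero] at h4
  have h5 := IsZero.iff_id_eq_zero
    ((DerivedCategory.homologyFunctor (ModuleCat.{u} A) i).obj ((DRing.RgammaI I).obj K))
  rw [h5, ← IsIso.inv_hom_id (0 : (DerivedCategory.homologyFunctor (ModuleCat.{u} A) i).obj X ⟶
    (DerivedCategory.homologyFunctor (ModuleCat.{u} A) i).obj ((DRing.RgammaI I).obj K)),
    comp_zero]

end Groth.Agent.LoccohB.RGammaSup
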