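import Groth.Agent.LoccohB.RGammaTors
import Groth.Agent.LoccohB.DualShift
import Groth.Agent.LoccohB.DCalc
import Mathlib.CategoryTheory.Triangulated.Adjunction
import Mathlib.CategoryTheory.Triangulated.Subcategory

/-!
# `RΓ_I` is a triangulated functor (Noetherian ring)
-/

set_option autoImplicit false

universe u

open CategoryTheory Limits Pretriangulated ZeroObject

attribute [local instance] HasDerivedCategory.standard

namespace Groth.Agent.LoccohB.RGammaTri

open RGammaTors

variable {A : Type u} [CommRing A] (I : Ideal A)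

/-- torsion objects as an object property -/
abbrev torsProp : ObjectProperty (Dual.D A) := fun K => IsTors I K

lemma isPowerTorsion_of_linearEquiv {M N : Type u} [AddCommGroup M] [Module A M]
    [AddCommGroup N] [Module A N] (e : M ≃ₗ[A] N) (h : LocCoh.IsPowerTorsion I M) :
    LocCoh.IsPowerTorsion I N := fun n => by
  obtain ⟨k, hk⟩ := h (e.symm n)
  refine ⟨k, fun a ha => ?_⟩
  apply e.symm.injective
  rw [map_smul, hk a ha, map_zero]

lemma isTors_shift {X : Dual.D A} (h : IsTors I X) (n : ℤ) : IsTors I (X⟦n⟧) :=
  fun i => isPowerTorsion_of_linearEquiv I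
    (DualShift.shiftHD X n i (n + i) rfl).symm.toLinearEquiv (h (n + i))

/-- extensions of power torsion modules are power torsion, elementwise -/
lemma isPowerTorsion_of_exact {M N P : Type u} [AddCommGroup M] [Module A M]
    [AddCommGroup N] [Module A N] [AddCommGroup P] [Module A P] (f : M →ₗ[A] N) (g : N →ₗ[A] P)
    (hfg : ∀ x, g x = 0 → ∃ y, f y = x) (hI : I.FG) (hM : LocCoh.IsPowerTorsion I M)
    (hP : LocCoh.IsPowerTorsion I P) : LocCoh.IsPowerTorsion I N := by
  intro x
  obtain ⟨n, hn⟩ := hP (g x)
  -- finitely many generators of `I ^ n`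
  have hfg' : (I ^ n).FG := hI.pow
  obtain ⟨s, hs⟩ := hfg'
  have h1 : ∀ b : A, b ∈ I ^ n → ∃ m : ℕ, ∀ a ∈ I ^ m, a • (b • x) = 0 := by
    intro b hb
    obtain ⟨y, hy⟩ := hfg (b • x) (by rw [map_smul, hn b hb])
    obtain ⟨m, hm⟩ := hM y
    refine ⟨m, fun a ha => ?_⟩
    rw [← hy, ← map_smul, hm a ha, map_zero]
  choose! N hN using h1
  refine ⟨s.sup N + n, fun a ha => ?_⟩
  rw [pow_add] at ha
  refine Submodule.mul_induction_on ha (fun a ha b hb => ?_) (fun a b h1 h2 => ?_)
  · have : ∀ b ∈ Submodule.span A (s : Set A), a • (b • x) = 0 := by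
      intro b hb
      induction hb using Submodule.span_induction with
      | mem b hb =>
        have hb' : b ∈ I ^ n := by rw [← hs]; exact Submodule.subset_span hb
        exact hN b hb' a (Ideal.pow_le_pow_right (Finset.le_sup (f := N) hb) ha)
      | zero => simp
      | add b b' _ _ h h' => rw [add_smul, smul_add, h, h', add_zero]
      | smul c b _ h => rw [smul_assoc, smul_comm, h, smul_zero]
    rw [mul_smul]
    exact this b (by
      have : b ∈ Ideal.span (s : Set A) := by rw [hs]; exact hb
      exact this)
  · rw [add_smul, h1, h2, add_zero]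

instance : (torsProp I).IsClosedUnderIsomorphisms where
  of_iso e h := isTors_of_iso I e h

variable [IsNoetherianRing A]

instance isTriangulated_torsProp : (torsProp I).IsTriangulated where
  exists_zero := ⟨0, isZero_zero _, fun i m => ⟨0, fun a _ => by
    have h1 : IsZero ((DerivedCategory.homologyFunctor (ModuleCat.{u} A) i).obj 0) :=
      Functor.map_isZero _ (isZero_zero _)
    have := ModuleCat.subsingleton_of_isZero h1
    exact Subsingleton.elim _ _⟩⟩
  isStableUnderShiftBy n := { le_shift := fun X hX => isTors_shift I hX n }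
  toIsTriangulatedClosed₂ := .mk' (fun T hT h1 h3 => by
    intro i
    refine isPowerTorsion_of_exact I
      ((DerivedCategory.homologyFunctor (ModuleCat.{u} A) i).map T.mor₁).hom
      ((DerivedCategory.homologyFunctor (ModuleCat.{u} A) i).map T.mor₂).hom ?_
      (IsNoetherian.noetherian I) (h1 i) (h3 i)
    have := DerivedCategory.HomologySequence.exact₂ T hT i
    rw [ShortComplex.moduleCat_exact_iff] at this
    exact this)

section

variable [DRing.HasRgammaI I]

/-- `RΓ_I` as a functor to the full subcategory of torsion objects -/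
noncomputable abbrev rgLift : Dual.D A ⥤ (torsProp I).FullSubcategory :=
  (torsProp I).lift (DRing.RgammaI I) (torsion_rgamma I)

/-- `RΓ_I` is right adjoint to the inclusion of torsion objects -/
noncomputable def rgAdj : (torsProp I).ι ⊣ rgLift I :=
  adjOfBijective (torsProp I) (DRing.RgammaI I) (DRing.RgammaIε I) (torsion_rgamma I)
    fun _ hT K => comp_ε_bijective I hT K

/-- the shift structure on `rgLift` -/
noncomputable scoped instance rgLiftCommShift : (rgLift I).CommShift ℤ :=
  (rgAdj I).rightAdjointCommShift ℤ

scoped instance rgAdj_commShift : (rgAdj I).CommShift ℤ := (rgAdj I).commShift_of_leftAdjoint ℤ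

instance rgLift_isTriangulated : (rgLift I).IsTriangulated :=
  (rgAdj I).isTriangulated_rightAdjoint

/-- the commutation of `RΓ_I` with shifts -/
noncomputable scoped instance rgCommShift : (DRing.RgammaI I).CommShift ℤ :=
  inferInstanceAs ((rgLift I ⋙ (torsProp I).ι).CommShift ℤ)

/-- `RΓ_I` is triangulated -/
instance rg_isTriangulated : (DRing.RgammaI I).IsTriangulated :=
  inferInstanceAs ((rgLift I ⋙ (torsProp I).ι).IsTriangulated)

instance rg_additive : (DRing.RgammaI I).Additive := inferInstance

lemma rg_map_smul_id (a : A) (K : Dual.D A) :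
    (DRing.RgammaI I).map (a • 𝟙 K) = a • 𝟙 ((DRing.RgammaI I).obj K) := by
  apply hom_ext I (torsion_rgamma I K)
  have := (DRing.RgammaIε I).naturality (a • 𝟙 K)
  dsimp at this
  rw [this, Linear.smul_comp, Linear.comp_smul, Category.comp_id, Category.id_comp]

instance rg_linear : (DRing.RgammaI I).Linear A where
  map_smul {X Y} f a := by
    have : a • f = (a • 𝟙 X) ≫ f := by rw [Linear.smul_comp, Category.id_comp]
    rw [this, Functor.map_comp, rg_map_smul_id, Linear.smul_comp, Category.id_comp]

end

end Groth.Agent.LoccohB.RGammaTri
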