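import Groth.Agent.LoccohB.TorsSeq
import Groth.Agent.LoccohB.BidualD
import Groth.Agent.LoccohB.RGammaTors

/-!
# `RHom(K, ω)` and torsion approximations of `K`: the completion of `RHom(K, ω)`
-/

set_option autoImplicit false
set_option backward.isDefEq.respectTransparency false

universe u

open CategoryTheory Limits Pretriangulated

attribute [local instance] HasDerivedCategory.standard

namespace Groth.Agent.LoccohB.RHomApprox

open LocTri DCompCrit FInv HomCx

variable {A : Type u} [CommRing A]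

/-- A distinguished triangle `G ⟶ K ⟶ C` is represented by a short exact sequence of complexes. -/
theorem exists_ses {G K C : Dual.D A} {α : G ⟶ K} {β : K ⟶ C} {γ : C ⟶ G⟦(1 : ℤ)⟧}
    (hT : Triangle.mk α β γ ∈ distTriang (Dual.D A)) :
    ∃ S : ShortComplex (DRing.Cx A), S.ShortExact ∧ Nonempty (DRing.toD S.X₁ ≅ G) ∧
      Nonempty (DRing.toD S.X₂ ≅ K) ∧ Nonempty (DRing.toD S.X₃ ≅ C) := by
  have h1 := inv_rot_of_distTriang _ hT
  rw [DerivedCategory.mem_distTriang_iff] at h1
  obtain ⟨X, Y, f, ⟨e⟩⟩ := h1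
  let e₁ : C⟦(-1 : ℤ)⟧ ≅ DerivedCategory.Q.obj X := Triangle.π₁.mapIso e
  let e₂ : G ≅ DerivedCategory.Q.obj Y := Triangle.π₂.mapIso e
  let e₃ : K ≅ DerivedCategory.Q.obj (CochainComplex.mappingCone f) := Triangle.π₃.mapIso e
  refine ⟨CochainComplex.mappingCone.triangleRotateShortComplex f, ?_, ⟨e₂.symm⟩, ⟨e₃.symm⟩, ⟨?_⟩⟩
  · apply HomologicalComplex.shortExact_of_degreewise_shortExact
    intro n
    exact (CochainComplex.mappingCone.triangleRotateShortComplexSplitting f n).shortExact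
  · exact (DerivedCategory.Q.commShiftIso (1 : ℤ)).app X ≪≫ (shiftFunctor _ (1 : ℤ)).mapIso e₁.symm ≪≫
      (shiftFunctorCompIsoId (Dual.D A) (-1 : ℤ) 1 (by simp)).app C

/-- `f` acts invertibly on `C`, then it does on `Hom(C, J)`. -/
theorem isIso_smul_homCx (f : A) (C J : DRing.Cx A) [J.IsKInjective] (hC : IsIso (f • 𝟙 (DRing.toD C))) :
    IsIso (f • 𝟙 (DRing.toD (DRing.homCx C J))) := by
  apply isIso_smul_of_homology
  intro n
  rw [ConcreteCategory.isIso_iff_bijective]
  let e : Dual.HD A (DRing.toD (DRing.homCx C J)) n ≃ₗ[A] (DerivedCategory.Q.obj C ⟶ (DerivedCategory.Q.obj J)⟦n⟧) :=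
    (HomCxHD.hdEquiv (DRing.homCx C J) n) ≪≫ₗ
      (HomCxHD.homologyEquiv C J n (HomCxHD.computes_of_isKInjective C J))
  have h1 : Function.Bijective (fun g : (DerivedCategory.Q.obj C ⟶ (DerivedCategory.Q.obj J)⟦n⟧) => f • g) := by
    have h2 : (fun g : (DerivedCategory.Q.obj C ⟶ (DerivedCategory.Q.obj J)⟦n⟧) => f • g) =
        (fun g => (f • 𝟙 (DRing.toD C)) ≫ g) := by
      funext g
      rw [Linear.smul_comp, Category.id_comp]
    rw [h2]
    exact ⟨fun a b h => (cancel_epi (f • 𝟙 (DRing.toD C))).1 h, fun g => ⟨inv (f • 𝟙 (DRing.toD C)) ≫ g, by simp⟩⟩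
  have h3 : (fun x : Dual.HD A (DRing.toD (DRing.homCx C J)) n => f • x) =
      e.symm ∘ (fun g => f • g) ∘ e := by
    funext x
    simp
  change Function.Bijective (fun x : Dual.HD A (DRing.toD (DRing.homCx C J)) n => f • x)
  rw [h3]
  exact e.symm.bijective.comp (h1.comp e.bijective)

section Completion

variable (I : Ideal A) [DRing.HasDerivedCompletion I]

/-- Criterion for the completion of a morphism to be an isomorphism. -/
theorem isIso_completion_map {Y Y' : Dual.D A} (h : Y ⟶ Y')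
    (hh : ∀ X : Dual.D A, DRing.IsDerivedComplete I X → Function.Bijective (fun g : Y' ⟶ X => h ≫ g)) :
    IsIso ((DRing.derivedCompletion I).map h) := by
  rw [isIso_iff_coyoneda_map_bijective]
  intro T
  let adj := DRing.derivedCompletionAdj I
  have h1 : (fun x : (DRing.derivedCompletion I).obj Y' ⟶ T => (DRing.derivedCompletion I).map h ≫ x) =
      (adj.homEquiv _ _).symm ∘ (fun g : Y' ⟶ T.obj => h ≫ g) ∘ (adj.homEquiv _ _) := by
    funext x
    simp only [Function.comp]
    rw [Equiv.eq_symm_apply, Adjunction.homEquiv_naturality_left]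
  rw [h1]
  exact (adj.homEquiv _ _).symm.bijective.comp ((hh T.obj T.property).comp (adj.homEquiv _ _).bijective)

/-- If the cone of `Y ⟶ Y'` has `f ∈ I` acting invertibly, the completions agree. -/
theorem isIso_completion_map_of_tri (f : A) (hf : f ∈ I) {Z Y Y' : Dual.D A} {a : Z ⟶ Y} {b : Y ⟶ Y'}
    {c : Y' ⟶ Z⟦(1 : ℤ)⟧} (hT : Triangle.mk a b c ∈ distTriang (Dual.D A)) (hZ : IsIso (f • 𝟙 Z)) :
    IsIso ((DRing.derivedCompletion I).map b) := by
  apply isIso_completion_map
  intro X hX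
  have hZ1 : IsIso (f • 𝟙 (Z⟦(1 : ℤ)⟧)) := by
    have : f • 𝟙 (Z⟦(1 : ℤ)⟧) = (f • 𝟙 Z)⟦(1 : ℤ)⟧' := by
      rw [Functor.map_smul, CategoryTheory.Functor.map_id]
    rw [this]
    infer_instance
  have h1 := subsingleton_of_isDerivedComplete I f hf _ X hZ hX
  have h2 := subsingleton_of_isDerivedComplete I f hf _ X hZ1 hX
  constructor
  · intro g g' hg
    have h3 : b ≫ (g - g') = 0 := by
      rw [Preadditive.comp_sub, sub_eq_zero]
      exact hg
    obtain ⟨k, hk⟩ := Triangle.yoneda_exact₃ _ hT (g - g') h3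
    have hk0 : k = 0 := Subsingleton.elim (α := (Z⟦(1 : ℤ)⟧ ⟶ X)) _ _
    rw [← sub_eq_zero, hk, hk0]
    exact comp_zero
  · intro g
    obtain ⟨k, hk⟩ := Triangle.yoneda_exact₂ _ hT g (Subsingleton.elim (α := (Z ⟶ X)) _ _)
    exact ⟨k, hk.symm⟩

/-- The completion of a complete object. -/
noncomputable def completionIso (X : Dual.D A) (hX : DRing.IsDerivedComplete I X) :
    ((DRing.derivedCompletion I).obj X).obj ≅ X :=
  (ObjectProperty.ι (DRing.IsDerivedComplete I)).mapIso
    ((asIso (DRing.derivedCompletionAdj I).counit).app ⟨X, hX⟩)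

/-- Passing to a torsion approximation of `K` does not change the completion of `Hom(K, J)`. -/
theorem exists_approx_completion (hI : I.FG) (K J : DRing.Cx A) [J.IsKInjective] (hJ : ∀ n, Injective (J.X n)) :
    ∃ (G : Dual.D A) (α : G ⟶ DRing.toD K), IsApprox I α ∧ ∀ G₀ : DRing.Cx A, Nonempty (DRing.toD G₀ ≅ G) →
      Nonempty ((DRing.derivedCompletion I).obj (DRing.toD (DRing.homCx K J)) ≅
        (DRing.derivedCompletion I).obj (DRing.toD (DRing.homCx G₀ J))) := by
  refine exists_isApprox I hI (DRing.toD K) (fun L => ∀ L₀ : DRing.Cx A, Nonempty (DRing.toD L₀ ≅ L) →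
      Nonempty ((DRing.derivedCompletion I).obj (DRing.toD (DRing.homCx K J)) ≅
        (DRing.derivedCompletion I).obj (DRing.toD (DRing.homCx L₀ J)))) ?_ ?_
  · rintro L₀ ⟨e⟩
    obtain ⟨e'⟩ := BidualD.nonempty_homCx_iso J e.symm
    exact ⟨(DRing.derivedCompletion I).mapIso e'⟩
  · rintro f hf G K' C α β γ hT hC ih G₀ ⟨e⟩
    obtain ⟨S, hS, ⟨e₁⟩, ⟨e₂⟩, ⟨e₃⟩⟩ := exists_ses hT
    obtain ⟨a⟩ := ih S.X₂ ⟨e₂⟩
    have hS' := homCxSC_shortExact J hS hJ
    have hT' := DerivedCategory.triangleOfSES_distinguished hS'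
    have hZ : IsIso (f • 𝟙 (DRing.toD (DRing.homCx S.X₃ J))) :=
      isIso_smul_homCx f S.X₃ J (isIso_smul_of_iso e₃.symm hC)
    have h1 : IsIso ((DRing.derivedCompletion I).map (DerivedCategory.triangleOfSES hS').mor₂) :=
      isIso_completion_map_of_tri I f hf hT' hZ
    obtain ⟨b⟩ := BidualD.nonempty_homCx_iso J (e₁ ≪≫ e.symm)
    exact ⟨a ≪≫ (asIso ((DRing.derivedCompletion I).map (DerivedCategory.triangleOfSES hS').mor₂)) ≪≫
      (DRing.derivedCompletion I).mapIso b⟩

end Completion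

section Noeth

variable [IsNoetherianRing A] (I : Ideal A) [DRing.HasRgammaI I]

lemma isApprox_ε (K : Dual.D A) : IsApprox I ((DRing.RgammaIε I).app K) where
  isTors := RGammaTors.torsion_rgamma I K
  bij _ hT := RGammaTors.comp_ε_bijective I hT K

/-- The derived completion of `Hom(K, J)` is `Hom(RΓ_I(K), J)`. -/
theorem nonempty_completion_iso [DRing.HasDerivedCompletion I] (K G J : DRing.Cx A) [J.IsKInjective]
    (hJ : ∀ n, Injective (J.X n)) (hG : Nonempty (DRing.toD G ≅ (DRing.RgammaI I).obj (DRing.toD K))) :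
    Nonempty (((DRing.derivedCompletion I).obj (DRing.toD (DRing.homCx K J))).obj ≅
      DRing.toD (DRing.homCx G J)) := by
  obtain ⟨G', α, hα, h⟩ := exists_approx_completion I (IsNoetherian.noetherian I) K J hJ
  obtain ⟨e⟩ := hG
  obtain ⟨e'⟩ := (isApprox_ε I (DRing.toD K)).nonempty_iso hα
  obtain ⟨a⟩ := h G ⟨e ≪≫ e'⟩
  have hT : IsTors I (DRing.toD G) := (isApprox_ε I (DRing.toD K)).isTors.of_iso e.symm
  exact ⟨(ObjectProperty.ι (DRing.IsDerivedComplete I)).mapIso a ≪≫
    completionIso I _ (TorsSeq.isDerivedComplete_homCx I G J hT)⟩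

end Noeth

section Target

variable (I : Ideal A)

lemma bij_shift {N N' : Dual.D A} (a : N ⟶ N') (n : ℤ) (T : Dual.D A)
    (h : Function.Bijective (fun g : T⟦(-n)⟧ ⟶ N => g ≫ a)) :
    Function.Bijective (fun g : T ⟶ N⟦n⟧ => g ≫ a⟦n⟧') := by
  let adj : shiftFunctor (Dual.D A) (-n) ⊣ shiftFunctor (Dual.D A) n :=
    (shiftEquiv' (Dual.D A) (-n) n (by simp)).toAdjunction
  have h1 : (fun g : T ⟶ N⟦n⟧ => g ≫ a⟦n⟧') = (adj.homEquiv T N') ∘ (fun g : T⟦(-n)⟧ ⟶ N => g ≫ a) ∘
      (adj.homEquiv T N).symm := by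
    funext g
    simp only [Function.comp]
    rw [adj.homEquiv_naturality_right, Equiv.apply_symm_apply]
  rw [h1]
  exact (adj.homEquiv T N').bijective.comp (h.comp (adj.homEquiv T N).symm.bijective)

/-- `RHom(G, -)` for `G` torsion only depends on a torsion approximation of the target. -/
theorem isIso_rhom_map (G : DRing.Cx A) [DRing.HasRHomCx G] (hG : IsTors I (DRing.toD G)) {N N' : Dual.D A}
    (a : N ⟶ N') (ha : IsApprox I a) : IsIso ((DRing.RHomCx G).map a) := by
  obtain ⟨J, h1, h2, ⟨e⟩⟩ := KInjD.exists_res' A N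
  obtain ⟨J', h1', h2', ⟨e'⟩⟩ := KInjD.exists_res' A N'
  obtain ⟨b, hb⟩ := exists_Q_map_eq (e.hom ≫ a ≫ e'.inv)
  have hb' : IsIso (DerivedCategory.Q.map (DRing.homCxMap G b)) := by
    rw [DerivedCategory.isIso_Q_map_iff_quasiIso, quasiIso_iff]
    intro n
    rw [quasiIsoAt_iff_isIso_homologyMap, ConcreteCategory.isIso_iff_bijective]
    let E := HomCxHD.homologyEquiv G J n (HomCxHD.computes_of_isKInjective G J)
    let E' := HomCxHD.homologyEquiv G J' n (HomCxHD.computes_of_isKInjective G J')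
    have h3 : Function.Bijective (fun g : (DRing.toD G ⟶ (DRing.toD J)⟦n⟧) => g ≫ (DerivedCategory.Q.map b)⟦n⟧') := by
      apply bij_shift
      have h9 := ha.bij (DRing.toD G⟦(-n)⟧) (hG.shift (-n))
      have h10 : (fun g : (DRing.toD G)⟦(-n)⟧ ⟶ DRing.toD J => g ≫ DerivedCategory.Q.map b) =
          (fun g : (DRing.toD G)⟦(-n)⟧ ⟶ N' => g ≫ e'.inv) ∘ (fun g => g ≫ a) ∘ (fun g => g ≫ e.hom) := by
        funext g
        simp only [Function.comp, hb, Category.assoc]
      rw [h10]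
      exact (bij_comp_inv _ e').comp (h9.comp (bij_comp_hom _ e))
    have h4 : (fun y : (DRing.homCx G J).homology n => (HomologicalComplex.homologyMap (DRing.homCxMap G b) n).hom y) =
        E'.symm ∘ (fun g : (DRing.toD G ⟶ (DRing.toD J)⟦n⟧) => g ≫ (DerivedCategory.Q.map b)⟦n⟧') ∘ E := by
      funext y
      simp only [Function.comp]
      rw [LinearEquiv.eq_symm_apply]
      exact HomCxHD.homologyEquiv_post b n _ _ y
    change Function.Bijective (fun y : (DRing.homCx G J).homology n => (HomologicalComplex.homologyMap (DRing.homCxMap G b) n).hom y)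
    rw [h4]
    exact E'.symm.bijective.comp (h3.comp E.bijective)
  have h5 := RHomVal.rhomIso_naturality G b
  have h6 : IsIso ((RHomVal.rhomIso G J).hom ≫ (DRing.RHomCx G).map (DerivedCategory.Q.map b)) := by
    rw [← h5]
    infer_instance
  have h7 : IsIso ((DRing.RHomCx G).map (DerivedCategory.Q.map b)) := IsIso.of_isIso_comp_left (RHomVal.rhomIso G J).hom _
  have h8 : a = e.inv ≫ DerivedCategory.Q.map b ≫ e'.hom := by
    rw [hb]
    simp
  rw [h8, Functor.map_comp, Functor.map_comp]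
  infer_instance

end Target

end Groth.Agent.LoccohB.RHomApprox
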