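import Groth.Agent.LoccohB.HomCxHD
import Groth.Agent.LoccohB.CoextDual
import Groth.Agent.LoccohB.RAdjFin
import Groth.Agent.LoccohB.RAdj
import Groth.Agent.LoccohB.KDer

/-!
# `RHom_A(B, L)` through a K-projective resolution of `B`

`exists_iso_homCx`: for any right adjoint `R` of restriction of scalars along `φ : A → B`, and a
K-projective complex `F` with `F ≅ B[0]` in `D(A)`, `φ_* R(L) ≅ Hom•(F, L)` in `D(A)`.
-/

set_option autoImplicit false

universe u

open CategoryTheory CategoryTheory.Limits CochainComplex CochainComplex.HomComplex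
  HomologicalComplex

attribute [local instance] HasDerivedCategory.standard

namespace Groth.Agent.LoccohB.RHomPerf

variable {A : Type u} [CommRing A]

/-- `Hom•(F, -)` preserves quasi-isomorphisms for `F` K-projective. -/
lemma quasiIso_homCxMap (F : DRing.Cx A) [F.IsKProjective] {L L' : DRing.Cx A} (f : L ⟶ L')
    [QuasiIso f] : QuasiIso (DRing.homCxMap F f) := by
  rw [quasiIso_iff]
  intro n
  rw [quasiIsoAt_iff_isIso_homologyMap, ConcreteCategory.isIso_iff_bijective]
  have h := HomCxHD.computes_of_isKProjective (K := F) (L := L)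
  have h' := HomCxHD.computes_of_isKProjective (K := F) (L := L')
  have e := fun y => HomCxHD.homologyEquiv_post (K := F) f n h h' y
  have h1 : Function.Bijective (fun y => HomCxHD.homologyEquiv F L n h y ≫
      (DerivedCategory.Q.map f)⟦n⟧') := by
    have h2 : Function.Bijective (fun g : DerivedCategory.Q.obj F ⟶ (DerivedCategory.Q.obj L)⟦n⟧ =>
        g ≫ (DerivedCategory.Q.map f)⟦n⟧') :=
      ((asIso ((DerivedCategory.Q.map f)⟦n⟧')).homToEquiv
        (Z := DerivedCategory.Q.obj F)).bijective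
    exact h2.comp (HomCxHD.homologyEquiv F L n h).bijective
  rw [← (HomCxHD.homologyEquiv F L' n h').bijective.of_comp_iff']
  convert h1 using 1
  funext y
  exact e y

variable {B : Type u} [CommRing B] (φ : A →+* B) {R : Dual.D A ⥤ Dual.D B}

/-- `φ_* R(L) ≅ Hom•(F, L)`. -/
theorem exists_iso_homCx (adj : DRing.restrictD φ ⊣ R) (F : DRing.Cx A) [F.IsKProjective]
    (eF : DRing.toD F ≅ (DRing.restrictD φ).obj (Dual.inD B B)) (L : DRing.Cx A) :
    Nonempty ((DRing.restrictD φ).obj (R.obj (DRing.toD L)) ≅ DRing.toD (DRing.homCx F L)) := by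
  let := φ.toAlgebra
  obtain ⟨I, i, h1, h2, -, h4⟩ := RAdj.exists_kinjective A L
  have eF' : DerivedCategory.Q.obj F ≅ DerivedCategory.Q.obj (CoextDual.SB A B) :=
    eF ≪≫ RAdjFin.restrictDSingle φ 0 (ModuleCat.of B B)
  obtain ⟨f, hf⟩ := KDer.liftsFrom_Q F eF'.hom
  have hf' : QuasiIso f := by
    rw [← DerivedCategory.isIso_Q_map_iff_quasiIso, hf]
    infer_instance
  have e1 := RAdj.objIso adj I
  have h5 : QuasiIso (DRing.homCxMap F i) := quasiIso_homCxMap F i
  have h6 : QuasiIso (HomCx.homCxPre f I) := HomCx.quasiIso_homCxPre f I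
  exact ⟨(DRing.restrictD φ).mapIso (R.mapIso (asIso (DerivedCategory.Q.map i)) ≪≫ e1) ≪≫
    (ModuleCat.restrictScalars.{u} φ).mapDerivedCategoryFactors.app _ ≪≫
    DerivedCategory.Q.mapIso (asIso (CoextDual.theta B I)).symm ≪≫
    asIso (DerivedCategory.Q.map (HomCx.homCxPre f I)) ≪≫
    (asIso (DerivedCategory.Q.map (DRing.homCxMap F i))).symm⟩

end Groth.Agent.LoccohB.RHomPerf
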