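import Groth.Agent.LoccohB.RelDual285
import Groth.Agent.Flat2H.FlatPC3
import Groth.Agent.CalgB.PsCoh

/-!
# Relative dualizing complexes for flat finitely presented ring maps: assembly

`isPerfect_of_flat`, `isPseudoCoherent'_of_isPerfect`, `isRelDualizing_shriekVia`,
`isRelDualizing_baseChange`.
-/

set_option autoImplicit false

universe u

open CategoryTheory CategoryTheory.Limits TensorProduct

attribute [local instance] HasDerivedCategory.standard

namespace Groth.Agent.LoccohB.RelAsm285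

open DerivedCategory Dual2

/-- For `R → A` flat of finite presentation, `A` is perfect over every polynomial ring surjecting
onto it. -/
theorem isPerfect_of_flat {R A : Type u} [CommRing R] [CommRing A] [Algebra R A] [Module.Flat R A]
    [Algebra.FinitePresentation R A] {n : ℕ} (ψ : MvPolynomial (Fin n) R →ₐ[R] A)
    (hψ : Function.Surjective ψ) :
    DRing.IsPerfect (MvPolynomial (Fin n) R)
      ((DRing.restrictD ψ.toRingHom).obj (Dual.inD A A)) := by
  apply FlatPerf.isPerfect_restrictD_of_fpInf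
  let _ := ψ.toRingHom.toAlgebra
  have : IsScalarTower R (MvPolynomial (Fin n) R) A :=
    IsScalarTower.of_algebraMap_eq (fun r => (ψ.commutes r).symm)
  exact Flat2H.fpInf_of_flat (A := R) (B := A) hψ

/-- Perfect complexes are pseudo-coherent. -/
theorem isPseudoCoherent'_of_isPerfect {A : Type u} [CommRing A] (K : Dual.D A)
    (h : DRing.IsPerfect A K) : DRing.IsPseudoCoherent' A K := by
  obtain ⟨E, a, b, hE, hE', ⟨e⟩⟩ := h
  have h1 : ∀ m, CalgB.PsCohGen.PC (CalgB.PsCoh.ffree A) m K := fun m => by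
    rw [← CalgB.PsCoh.isPseudoCoherent_iff, CalgB.PsCoh.isPseudoCoherent_iff_fproj]
    exact (CalgB.PsCohGen.PC.of_bounded (P := CalgB.PsCoh.fproj A) E a b hE hE' m).of_iso e
  obtain ⟨E', b', h2, h3, h4⟩ :=
    (CalgB.PsCohGen.forall_PC_iff (CalgB.PsCoh.isProjClass_ffree A) K).1 h1
  exact ⟨E', b', h2, h3, h4⟩

section Main

variable (R A : Type u) [CommRing R] [CommRing A] [Algebra R A] [Module.Flat R A]
  [Algebra.FinitePresentation R A] (n : ℕ) (ψ : MvPolynomial (Fin n) R →ₐ[R] A)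
  (hψ : Function.Surjective ψ)
  (h064Z : ∀ {C B : Type u} [CommRing C] [CommRing B] (φ : C →+* B),
    DRing.IsPseudoCoherent' C ((DRing.restrictD φ).obj (Dual.inD B B)) → ∀ K : Dual.D B,
    DRing.IsPseudoCoherent' C ((DRing.restrictD φ).obj K) → DRing.IsPseudoCoherent' B K)
include hψ h064Z

/-- `ω = φ^!(R)` is a relative dualizing complex. -/
theorem isRelDualizing_shriekVia
    [DRing.HasLBaseChange (algebraMap R (MvPolynomial (Fin n) R))]
    (Rψ : Dual.D (MvPolynomial (Fin n) R) ⥤ Dual.D A) (adj : DRing.restrictD ψ.toRingHom ⊣ Rψ)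
    [DRing.HasLBaseChange (Algebra.TensorProduct.includeLeftRingHom : A →+* TensorProduct R A A)]
    (Rμ : Dual.D (TensorProduct R A A) ⥤ Dual.D A)
    (adjμ : DRing.restrictD (Algebra.TensorProduct.lmul' R (S := A)).toRingHom ⊣ Rμ) :
    Dual2.IsRelDualizing R A Rμ (Dual2.shriekVia n Rψ (Dual.inD R R)) := by
  have hA := isPerfect_of_flat ψ hψ
  refine RelDual285.isRelDualizing_of_isPerfect R A n ψ hA hψ Rψ adj ?_ Rμ adjμ
  exact h064Z ψ.toRingHom (isPseudoCoherent'_of_isPerfect _ hA) _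
    (isPseudoCoherent'_of_isPerfect _ (RelOmega.isPerfect_restrictD_omega n ψ Rψ adj hA))

/-- The assembly of S1794. -/
theorem main
    (hBC : ∀ (R' : Type u) [CommRing R'] [Algebra R R']
      [DRing.HasLBaseChange (Algebra.TensorProduct.includeRight : A →ₐ[R] R' ⊗[R] A).toRingHom],
      ∃ (m : ℕ) (ψ' : MvPolynomial (Fin m) R' →ₐ[R'] (R' ⊗[R] A)) (_ : Function.Surjective ψ'),
      Nonempty ((DRing.LBaseChange
        (Algebra.TensorProduct.includeRight : A →ₐ[R] R' ⊗[R] A).toRingHom).obj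
        (((RAdj.RCoext ψ.toRingHom).obj
          (Dual.inD (MvPolynomial (Fin n) R) (MvPolynomial (Fin n) R)))⟦(n : ℤ)⟧) ≅
        ((RAdj.RCoext ψ'.toRingHom).obj
          (Dual.inD (MvPolynomial (Fin m) R') (MvPolynomial (Fin m) R')))⟦(m : ℤ)⟧))
    (huniq : ∀ [DRing.HasLBaseChange (Algebra.TensorProduct.includeLeftRingHom : A →+* TensorProduct R A A)]
      (Rμ : Dual.D (TensorProduct R A A) ⥤ Dual.D A)
      (_ : DRing.restrictD (Algebra.TensorProduct.lmul' R (S := A)).toRingHom ⊣ Rμ)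
      (K L : Dual.D A), Dual2.IsRelDualizing R A Rμ K → Dual2.IsRelDualizing R A Rμ L →
      Nonempty (K ≅ L))
    [DRing.HasLBaseChange (Algebra.TensorProduct.includeLeftRingHom : A →+* TensorProduct R A A)]
    (Rμ : Dual.D (TensorProduct R A A) ⥤ Dual.D A)
    (adjμ : DRing.restrictD (Algebra.TensorProduct.lmul' R (S := A)).toRingHom ⊣ Rμ) :
    (∃ K : Dual.D A, Dual2.IsRelDualizing R A Rμ K) ∧
    ∀ (K : Dual.D A), Dual2.IsRelDualizing R A Rμ K →
    ∀ (R' : Type u) [CommRing R'] [Algebra R R']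
      [DRing.HasLBaseChange (Algebra.TensorProduct.includeRight : A →ₐ[R] R' ⊗[R] A).toRingHom]
      [DRing.HasLBaseChange (Algebra.TensorProduct.includeLeftRingHom :
        R' ⊗[R] A →+* TensorProduct R' (R' ⊗[R] A) (R' ⊗[R] A))]
      (Rμ' : Dual.D (TensorProduct R' (R' ⊗[R] A) (R' ⊗[R] A)) ⥤ Dual.D (R' ⊗[R] A)),
      (DRing.restrictD (Algebra.TensorProduct.lmul' R' (S := R' ⊗[R] A)).toRingHom ⊣ Rμ') →
      Dual2.IsRelDualizing R' (R' ⊗[R] A) Rμ' ((DRing.LBaseChange
        (Algebra.TensorProduct.includeRight : A →ₐ[R] R' ⊗[R] A).toRingHom).obj K) := by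
  have := LBC.hasLBaseChange (algebraMap R (MvPolynomial (Fin n) R))
  have h1 := isRelDualizing_shriekVia R A n ψ hψ h064Z (RAdj.RCoext ψ.toRingHom)
    (RAdj.coextAdj _) Rμ adjμ
  refine ⟨⟨_, h1⟩, ?_⟩
  intro K hK R' _ _ _ _ Rμ' adjμ'
  obtain ⟨e⟩ := huniq Rμ adjμ K _ hK h1
  obtain ⟨m, ψ', hψ', ⟨e'⟩⟩ := hBC R'
  have := LBC.hasLBaseChange (algebraMap R' (MvPolynomial (Fin m) R'))
  have h2 := isRelDualizing_shriekVia R' (R' ⊗[R] A) m ψ' hψ' h064Z (RAdj.RCoext ψ'.toRingHom)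
    (RAdj.coextAdj _) Rμ' adjμ'
  refine RelDual285.isRelDualizing_of_iso ?_ h2
  exact RelOmega.omegaIso m _ ≪≫ e'.symm ≪≫ (DRing.LBaseChange _).mapIso
    ((RelOmega.omegaIso n _).symm ≪≫ e.symm)

end Main

end Groth.Agent.LoccohB.RelAsm285
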