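import Groth.Agent.LoccohB.RelAsm285
import Groth.Agent.LoccohB.BCStep3
import Groth.Agent.LoccohB.BCArrow

/-!
# Base change for the upper shriek, `A` flat of finite presentation: assembly

`radj_bc_of_sg`: the base change isomorphism for right adjoints of restriction from the case of the objects `C[-n]`.
`shriekVia_bc`, `main'`: the rest of S1794 (and S1807) from it.
-/

set_option autoImplicit false

universe u

open CategoryTheory CategoryTheory.Limits TensorProduct

attribute [local instance] HasDerivedCategory.standard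

namespace Groth.Agent.LoccohB.RelAsm285b

open DerivedCategory Univ Dual2 BCMap BCArrow BCStep3 DBase BCUnit

section Square

variable (C C' B B' : Type u) [CommRing C] [CommRing C'] [CommRing B] [CommRing B']
  [Algebra C C'] [Algebra C B] [Algebra C' B'] [Algebra B B'] [Algebra C B']
  [IsScalarTower C C' B'] [IsScalarTower C B B']
  [DRing.HasLBaseChange (algebraMap C C')] [DRing.HasLBaseChange (algebraMap B B')]
  {F : Dual.D C ⥤ Dual.D B} (adj : DRing.restrictD (algebraMap C B) ⊣ F)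
  {F' : Dual.D C' ⥤ Dual.D B'} (adj' : DRing.restrictD (algebraMap C' B') ⊣ F')
  [IsIso (bcm C C' B B')]

/-- `beta` is an isomorphism at `V` if the base change of the counit is universal. -/
theorem isIso_beta_app_of_isUniv (V : Dual.D C)
    (h : IsUniv (algebraMap C' B') (lbcArrow C C' B B' (adj.counit.app V))) :
    IsIso ((beta C C' B B' adj adj').app V) := by
  rw [isUniv_iff_isIso adj'] at h
  have h1 : (beta C C' B B' adj adj').app V =
      adj'.homEquiv _ _ (lbcArrow C C' B B' (adj.counit.app V)) := by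
    dsimp only [beta, mate, lbcArrow]
    rw [NatIso.isIso_inv_app]
    rfl
  rw [h1]
  exact h

include adj adj' in
theorem radj_bc_of_sg
    (hB : DRing.IsPerfect C ((DRing.restrictD (algebraMap C B)).obj (Dual.inD B B)))
    (h : ∀ n : ℤ, IsUniv (algebraMap C' B') (lbcArrow C C' B B' (adj.counit.app (sg C n C))))
    (V : Dual.D C) :
    Nonempty ((DRing.LBaseChange (algebraMap B B')).obj (F.obj V) ≅
      F'.obj ((DRing.LBaseChange (algebraMap C C')).obj V)) := by
  have := isIso_beta_app adj adj' hB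
    (fun n => isIso_beta_app_of_isUniv C C' B B' adj adj' _ (h n)) V
  exact ⟨asIso ((beta C C' B B' adj adj').app V)⟩

end Square

/-- Base change for the right adjoint of restriction along `C → B`, `B` perfect over `C`, both flat over `R`, along
`R → R'`. -/
def RadjBC : Prop :=
  ∀ (R R' C C' B B' : Type u) [CommRing R] [CommRing R'] [CommRing C] [CommRing C'] [CommRing B]
    [CommRing B'] [Algebra R R'] [Algebra R C] [Algebra R C'] [Algebra R B] [Algebra R B']
    [Algebra R' C'] [Algebra R' B'] [Algebra C C'] [Algebra C B] [Algebra C B'] [Algebra C' B']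
    [Algebra B B'] [IsScalarTower R R' C'] [IsScalarTower R C C'] [IsScalarTower R R' B']
    [IsScalarTower R B B'] [IsScalarTower R C B] [IsScalarTower R' C' B'] [IsScalarTower C C' B']
    [IsScalarTower C B B'] [IsScalarTower R C' B']
    [Algebra.IsPushout R R' C C'] [Algebra.IsPushout R R' B B']
    [Module.Flat R C] [Module.Flat R B]
    (_ : DRing.IsPerfect C ((DRing.restrictD (algebraMap C B)).obj (Dual.inD B B)))
    {F : Dual.D C ⥤ Dual.D B} (_ : DRing.restrictD (algebraMap C B) ⊣ F)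
    {F' : Dual.D C' ⥤ Dual.D B'} (_ : DRing.restrictD (algebraMap C' B') ⊣ F')
    [DRing.HasLBaseChange (algebraMap C C')] [DRing.HasLBaseChange (algebraMap B B')]
    (V : Dual.D C),
    Nonempty ((DRing.LBaseChange (algebraMap B B')).obj (F.obj V) ≅
      F'.obj ((DRing.LBaseChange (algebraMap C C')).obj V))

/-- It suffices to know that the base change of the counit at `C[-n]` is universal. -/
theorem radjBC_of_sg
    (hS : ∀ (R R' C C' B B' : Type u) [CommRing R] [CommRing R'] [CommRing C] [CommRing C'] [CommRing B]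
    [CommRing B'] [Algebra R R'] [Algebra R C] [Algebra R C'] [Algebra R B] [Algebra R B']
    [Algebra R' C'] [Algebra R' B'] [Algebra C C'] [Algebra C B] [Algebra C B'] [Algebra C' B']
    [Algebra B B'] [IsScalarTower R R' C'] [IsScalarTower R C C'] [IsScalarTower R R' B']
    [IsScalarTower R B B'] [IsScalarTower R C B] [IsScalarTower R' C' B'] [IsScalarTower C C' B']
    [IsScalarTower C B B'] [IsScalarTower R C' B']
    [Algebra.IsPushout R R' C C'] [Algebra.IsPushout R R' B B']
    [Module.Flat R C] [Module.Flat R B]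
    (_ : DRing.IsPerfect C ((DRing.restrictD (algebraMap C B)).obj (Dual.inD B B)))
    {F : Dual.D C ⥤ Dual.D B} (adj : DRing.restrictD (algebraMap C B) ⊣ F)
    [DRing.HasLBaseChange (algebraMap C C')] [DRing.HasLBaseChange (algebraMap B B')]
    [IsIso (bcm C C' B B')] (n : ℤ),
    IsUniv (algebraMap C' B') (lbcArrow C C' B B' (adj.counit.app (sg C n C)))) :
    RadjBC.{u} := by
  intro R R' C C' B B' _ _ _ _ _ _ _ _ _ _ _ _ _ _ _ _ _ _ _ _ _ _ _ _ _ _ _ _ _ _ _ hB F adj F' adj' _ _ V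
  have := isIso_bcm R R' C C' B B'
  exact radj_bc_of_sg C C' B B' adj adj' hB (fun n => hS R R' C C' B B' hB adj n) V

section Square2

variable (hBC : RadjBC.{u})
include hBC

attribute [local instance] Algebra.TensorProduct.rightAlgebra in
theorem aux (R R' A : Type u) [CommRing R] [CommRing R'] [CommRing A] [Algebra R R']
    [Algebra R A] [Module.Flat R A] (n : ℕ) (ψ : MvPolynomial (Fin n) R →ₐ[R] A)
    (hA : DRing.IsPerfect (MvPolynomial (Fin n) R)
      ((DRing.restrictD ψ.toRingHom).obj (Dual.inD A A)))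
    (hψ : Function.Surjective ψ) [DRing.HasLBaseChange (algebraMap R (MvPolynomial (Fin n) R))]
    (Rψ : Dual.D (MvPolynomial (Fin n) R) ⥤ Dual.D A) (adj : DRing.restrictD ψ.toRingHom ⊣ Rψ)
    [DRing.HasLBaseChange (algebraMap R' (MvPolynomial (Fin n) R'))]
    [DRing.HasLBaseChange (Algebra.TensorProduct.includeRight : A →ₐ[R] R' ⊗[R] A).toRingHom]
    [DRing.HasLBaseChange (algebraMap R R')] (K : Dual.D R) :
    ∃ (ψ' : MvPolynomial (Fin n) R' →ₐ[R'] (R' ⊗[R] A)) (_ : Function.Surjective ψ'),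
    Nonempty ((DRing.LBaseChange (Algebra.TensorProduct.includeRight : A →ₐ[R] R' ⊗[R] A).toRingHom).obj
      (Rψ.obj ((DRing.LBaseChange (algebraMap R (MvPolynomial (Fin n) R))).obj K)) ≅
      (RAdj.RCoext ψ'.toRingHom).obj ((DRing.LBaseChange (algebraMap R' (MvPolynomial (Fin n) R'))).obj
        ((DRing.LBaseChange (algebraMap R R')).obj K))) := by
  let ψ' : MvPolynomial (Fin n) R' →ₐ[R'] (R' ⊗[R] A) :=
    MvPolynomial.aeval (fun i => (1 : R') ⊗ₜ[R] ψ (MvPolynomial.X i))
  let P := MvPolynomial (Fin n) R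
  let P' := MvPolynomial (Fin n) R'
  let _ : Algebra P A := ψ.toRingHom.toAlgebra
  let _ : Algebra P P' := MvPolynomial.algebraMvPolynomial
  let _ : Algebra P' (R' ⊗[R] A) := ψ'.toRingHom.toAlgebra
  let _ : Algebra P (R' ⊗[R] A) := ((algebraMap A (R' ⊗[R] A)).comp ψ.toRingHom).toAlgebra
  have hcomm : ψ'.toRingHom.comp (MvPolynomial.map (algebraMap R R')) =
      (algebraMap A (R' ⊗[R] A)).comp ψ.toRingHom := by
    apply MvPolynomial.ringHom_ext
    · intro r
      simp only [RingHom.comp_apply, MvPolynomial.map_C]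
      change ψ' (algebraMap R' P' (algebraMap R R' r)) = algebraMap A (R' ⊗[R] A) (ψ (algebraMap R P r))
      rw [ψ'.commutes, ψ.commutes, ← IsScalarTower.algebraMap_apply R R' (R' ⊗[R] A),
        ← IsScalarTower.algebraMap_apply R A (R' ⊗[R] A)]
    · intro i
      simp only [RingHom.comp_apply, MvPolynomial.map_X]
      change ψ' (MvPolynomial.X i) = algebraMap A (R' ⊗[R] A) (ψ (MvPolynomial.X i))
      rw [MvPolynomial.aeval_X]
      rfl
  have t1 : IsScalarTower P P' (R' ⊗[R] A) := IsScalarTower.of_algebraMap_eq' hcomm.symm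
  have t2 : IsScalarTower P A (R' ⊗[R] A) := IsScalarTower.of_algebraMap_eq' rfl
  have t3 : IsScalarTower R P A := IsScalarTower.of_algebraMap_eq' ψ.comp_algebraMap.symm
  have t4 : IsScalarTower R' P' (R' ⊗[R] A) := IsScalarTower.of_algebraMap_eq' ψ'.comp_algebraMap.symm
  have t5 : IsScalarTower R P' (R' ⊗[R] A) := IsScalarTower.of_algebraMap_eq fun r => by
    rw [IsScalarTower.algebraMap_apply R R' P', ← IsScalarTower.algebraMap_apply R' P' (R' ⊗[R] A),
      ← IsScalarTower.algebraMap_apply R R' (R' ⊗[R] A)]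
  refine ⟨ψ', ?_, ?_⟩
  · intro x
    induction x using TensorProduct.induction_on with
    | zero => exact ⟨0, map_zero _⟩
    | add x y hx hy =>
      obtain ⟨a, rfl⟩ := hx
      obtain ⟨b, rfl⟩ := hy
      exact ⟨a + b, map_add _ _ _⟩
    | tmul r a =>
      obtain ⟨p, rfl⟩ := hψ a
      refine ⟨algebraMap R' P' r * MvPolynomial.map (algebraMap R R') p, ?_⟩
      rw [map_mul, ψ'.commutes]
      have h1 : ψ' (MvPolynomial.map (algebraMap R R') p) = (1 : R') ⊗ₜ[R] ψ p :=
        DFunLike.congr_fun hcomm p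
      rw [h1]
      change (r ⊗ₜ[R] (1 : A)) * ((1 : R') ⊗ₜ[R] ψ p) = _
      rw [Algebra.TensorProduct.tmul_mul_tmul, mul_one, one_mul]
  · have := LBC.hasLBaseChange (algebraMap P P')
    have := LBC.hasLBaseChange (algebraMap R P')
    obtain ⟨e⟩ := hBC R R' P P' A (R' ⊗[R] A) hA adj (RAdj.coextAdj ψ'.toRingHom)
      ((DRing.LBaseChange (algebraMap R P)).obj K)
    exact ⟨e ≪≫ (RAdj.RCoext ψ'.toRingHom).mapIso
      ((LBC.lbcComp (algebraMap R P) (algebraMap P P') (algebraMap R P')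
        (IsScalarTower.algebraMap_eq R P P')).app K ≪≫
      (LBC.lbcComp (algebraMap R R') (algebraMap R' P') (algebraMap R P')
        (IsScalarTower.algebraMap_eq R R' P')).symm.app K)⟩

/-- Base change for the upper shriek, `A` flat over `R` and perfect over the polynomial ring. -/
theorem shriekVia_bc (R R' A : Type u) [CommRing R] [CommRing R'] [CommRing A]
    [Algebra R R'] [Algebra R A] [Module.Flat R A] (n : ℕ)
    (ψ : MvPolynomial (Fin n) R →ₐ[R] A)
    (hA : DRing.IsPerfect (MvPolynomial (Fin n) R)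
      ((DRing.restrictD ψ.toRingHom).obj (Dual.inD A A)))
    (hψ : Function.Surjective ψ)
    [DRing.HasLBaseChange (algebraMap R (MvPolynomial (Fin n) R))]
    (Rψ : Dual.D (MvPolynomial (Fin n) R) ⥤ Dual.D A) (adj : DRing.restrictD ψ.toRingHom ⊣ Rψ)
    (m : ℕ) (ψ' : MvPolynomial (Fin m) R' →ₐ[R'] (R' ⊗[R] A)) (hψ' : Function.Surjective ψ')
    [DRing.HasLBaseChange (algebraMap R' (MvPolynomial (Fin m) R'))]
    (Rψ' : Dual.D (MvPolynomial (Fin m) R') ⥤ Dual.D (R' ⊗[R] A))
    (adj' : DRing.restrictD ψ'.toRingHom ⊣ Rψ')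
    [DRing.HasLBaseChange (Algebra.TensorProduct.includeRight : A →ₐ[R] R' ⊗[R] A).toRingHom]
    [DRing.HasLBaseChange (algebraMap R R')] (K : Dual.D R) :
    Nonempty ((DRing.LBaseChange (Algebra.TensorProduct.includeRight : A →ₐ[R] R' ⊗[R] A).toRingHom).obj
      (Dual2.shriekVia n Rψ K) ≅ Dual2.shriekVia m Rψ' ((DRing.LBaseChange (algebraMap R R')).obj K)) := by
  have := LBC.hasLBaseChange (algebraMap R' (MvPolynomial (Fin n) R'))
  obtain ⟨ψ'', hψ'', ⟨e⟩⟩ := aux hBC R R' A n ψ hA hψ Rψ adj K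
  obtain ⟨e'⟩ := ShriekIndep.shriekVia_indep R' (R' ⊗[R] A) n ψ'' hψ'' (RAdj.RCoext ψ''.toRingHom)
    (RAdj.coextAdj _) m ψ' hψ' Rψ' adj' ((DRing.LBaseChange (algebraMap R R')).obj K)
  exact ⟨LBC.lbcShiftIso _ _ _ ≪≫ (shiftFunctor _ (n : ℤ)).mapIso e ≪≫ e'⟩

/-- The form used in `RelAsm285.main`. -/
theorem omega_bc (R R' A : Type u) [CommRing R] [CommRing R'] [CommRing A]
    [Algebra R R'] [Algebra R A] [Module.Flat R A] [Algebra.FinitePresentation R A] (n : ℕ)
    (ψ : MvPolynomial (Fin n) R →ₐ[R] A) (hψ : Function.Surjective ψ)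
    [DRing.HasLBaseChange (Algebra.TensorProduct.includeRight : A →ₐ[R] R' ⊗[R] A).toRingHom] :
    ∃ (m : ℕ) (ψ' : MvPolynomial (Fin m) R' →ₐ[R'] (R' ⊗[R] A)) (_ : Function.Surjective ψ'),
      Nonempty ((DRing.LBaseChange
        (Algebra.TensorProduct.includeRight : A →ₐ[R] R' ⊗[R] A).toRingHom).obj
        (((RAdj.RCoext ψ.toRingHom).obj
          (Dual.inD (MvPolynomial (Fin n) R) (MvPolynomial (Fin n) R)))⟦(n : ℤ)⟧) ≅
        ((RAdj.RCoext ψ'.toRingHom).obj
          (Dual.inD (MvPolynomial (Fin m) R') (MvPolynomial (Fin m) R')))⟦(m : ℤ)⟧) := by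
  have := LBC.hasLBaseChange (algebraMap R (MvPolynomial (Fin n) R))
  have := LBC.hasLBaseChange (algebraMap R' (MvPolynomial (Fin n) R'))
  have := LBC.hasLBaseChange (algebraMap R R')
  obtain ⟨ψ', hψ', ⟨e⟩⟩ := aux hBC R R' A n ψ (RelAsm285.isPerfect_of_flat ψ hψ) hψ
    (RAdj.RCoext ψ.toRingHom) (RAdj.coextAdj _) (Dual.inD R R)
  refine ⟨n, ψ', hψ', ⟨LBC.lbcShiftIso _ _ _ ≪≫ (shiftFunctor _ (n : ℤ)).mapIso ?_⟩⟩
  exact (DRing.LBaseChange _).mapIso ((RAdj.RCoext ψ.toRingHom).mapIso
      (LBC.lbcSelfIso (algebraMap R (MvPolynomial (Fin n) R)) 0).symm) ≪≫ e ≪≫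
    (RAdj.RCoext ψ'.toRingHom).mapIso ((DRing.LBaseChange _).mapIso (LBC.lbcSelfIso (algebraMap R R') 0) ≪≫
      LBC.lbcSelfIso (algebraMap R' (MvPolynomial (Fin n) R')) 0)

/-- The assembly of S1794 from `RadjBC`, `064Z` and uniqueness. -/
theorem main' (R A : Type u) [CommRing R] [CommRing A] [Algebra R A] [Module.Flat R A]
    [Algebra.FinitePresentation R A]
    (h064Z : ∀ {C B : Type u} [CommRing C] [CommRing B] (φ : C →+* B),
      DRing.IsPseudoCoherent' C ((DRing.restrictD φ).obj (Dual.inD B B)) → ∀ K : Dual.D B,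
      DRing.IsPseudoCoherent' C ((DRing.restrictD φ).obj K) → DRing.IsPseudoCoherent' B K)
    (huniq : ∀ [DRing.HasLBaseChange (Algebra.TensorProduct.includeLeftRingHom : A →+* TensorProduct R A A)]
      (Rμ : Dual.D (TensorProduct R A A) ⥤ Dual.D A)
      (_ : DRing.restrictD (Algebra.TensorProduct.lmul' R (S := A)).toRingHom ⊣ Rμ)
      (K L : Dual.D A), Dual2.IsRelDualizing R A Rμ K → Dual2.IsRelDualizing R A Rμ L →
      Nonempty (K ≅ L))
    [DRing.HasLBaseChange (Algebra.TensorProduct.includeLeftRingHom : A →+* TensorProduct R A A)]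
    (Rμ : Dual.D (TensorProduct R A A) ⥤ Dual.D A)
    (adjμ : DRing.restrictD (Algebra.TensorProduct.lmul' R (S := A)).toRingHom ⊣ Rμ) :
    (∃ K : Dual.D A, Dual2.IsRelDualizing R A Rμ K) ∧
    ∀ (K : Dual.D A), Dual2.IsRelDualizing R A Rμ K →
    ∀ (R' : Type u) [CommRing R'] [Algebra R R']
      [DRing.HasLBaseChange (Algebra.TensorProduct.includeRight : A →ₐ[R] R' ⊗[R] A).toRingHom]
      [DRing.HasLBaseChange (Algebra.TensorProduct.includeLeftRingHom :
        R' ⊗[R] A →+* TensorProduct R' (R' ⊗[R] A) (R' ⊗[R] A))]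
      (Rμ' : Dual.D (TensorProduct R' (R' ⊗[R] A) (R' ⊗[R] A)) ⥤ Dual.D (R' ⊗[R] A)),
      (DRing.restrictD (Algebra.TensorProduct.lmul' R' (S := R' ⊗[R] A)).toRingHom ⊣ Rμ') →
      Dual2.IsRelDualizing R' (R' ⊗[R] A) Rμ' ((DRing.LBaseChange
        (Algebra.TensorProduct.includeRight : A →ₐ[R] R' ⊗[R] A).toRingHom).obj K) := by
  obtain ⟨n, ψ, hψ⟩ := Algebra.FiniteType.iff_quotient_mvPolynomial''.1
    (inferInstance : Algebra.FiniteType R A)
  exact RelAsm285.main R A n ψ hψ h064Z (fun R' _ _ _ => omega_bc hBC R R' A n ψ hψ) huniq Rμ adjμ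

end Square2

end Groth.Agent.LoccohB.RelAsm285b
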