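import Groth.Agent.LoccohB.BCStep3
import Groth.Agent.LoccohB.BCArrow

/-!
# Derived base change of universal arrows: reduction to `V = C[-n]`

`isUniv_lbcArrow_of_sg`: in a square `C → C'`, `C → B`, `C' → B'`, `B → B'` with invertible Beck–Chevalley map and `B`
perfect over `C`, if the base change of the universal arrow `ψ_* X ⟶ C[-n]` is universal for every `n`, the base
change of every universal arrow `ψ_* X ⟶ V` is universal.
-/

set_option autoImplicit false

universe u

open CategoryTheory CategoryTheory.Limits CategoryTheory.Functor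

attribute [local instance] HasDerivedCategory.standard

namespace Groth.Agent.LoccohB.RelBC3

open DerivedCategory LBC BCMap DBase BCUnit BCArrow BCStep3 Univ

variable {C C' B B' : Type u} [CommRing C] [CommRing C'] [CommRing B] [CommRing B']
  [Algebra C C'] [Algebra C B] [Algebra C' B'] [Algebra B B'] [Algebra C B']
  [IsScalarTower C C' B'] [IsScalarTower C B B']
  [DRing.HasLBaseChange (algebraMap C C')] [DRing.HasLBaseChange (algebraMap B B')]
  [IsIso (bcm C C' B B')]

/-- Universality of the base change depends only on the target of the universal arrow. -/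
theorem isUniv_lbcArrow_iff {X Y : Dual.D B} {V : Dual.D C}
    {e : (DRing.restrictD (algebraMap C B)).obj X ⟶ V}
    {e' : (DRing.restrictD (algebraMap C B)).obj Y ⟶ V}
    (he : IsUniv (algebraMap C B) e) (he' : IsUniv (algebraMap C B) e')
    (h : IsUniv (algebraMap C' B') (lbcArrow C C' B B' e)) :
    IsUniv (algebraMap C' B') (lbcArrow C C' B B' e') := by
  obtain ⟨g, hg⟩ := (he Y).2 e'
  dsimp only at hg
  have hg' : IsIso g := by
    obtain ⟨g', h1⟩ := (he' X).2 e
    dsimp only at h1
    refine ⟨g', (he' Y).1 ?_, (he X).1 ?_⟩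
    · dsimp only
      rw [Functor.map_comp, Category.assoc, h1, hg, CategoryTheory.Functor.map_id,
        Category.id_comp]
    · dsimp only
      rw [Functor.map_comp, Category.assoc, hg, h1, CategoryTheory.Functor.map_id,
        Category.id_comp]
  rw [← hg, lbcArrow_precomp]
  exact h.of_iso_left ((DRing.LBaseChange (algebraMap B B')).mapIso (asIso g))

variable {F : Dual.D C ⥤ Dual.D B} (adj : DRing.restrictD (algebraMap C B) ⊣ F)
  {F' : Dual.D C' ⥤ Dual.D B'} (adj' : DRing.restrictD (algebraMap C' B') ⊣ F')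

lemma beta_app_eq (V : Dual.D C) : (beta C C' B B' adj adj').app V =
    adj'.homEquiv _ _ (lbcArrow C C' B B' (adj.counit.app V)) := by
  dsimp only [beta, mate, lbcArrow]
  congr 2
  exact NatIso.isIso_inv_app _ _

lemma isIso_beta_app_iff (V : Dual.D C) : IsIso ((beta C C' B B' adj adj').app V) ↔
    IsUniv (algebraMap C' B') (lbcArrow C C' B B' (adj.counit.app V)) := by
  rw [beta_app_eq, isUniv_iff_isIso adj']

/-- **Reduction to `C[-n]`.** -/
theorem isUniv_lbcArrow_of_sg
    (hB : DRing.IsPerfect C ((DRing.restrictD (algebraMap C B)).obj (Dual.inD B B)))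
    (h : ∀ n : ℤ, ∃ (X : Dual.D B) (e : (DRing.restrictD (algebraMap C B)).obj X ⟶ sg C n C),
      IsUniv (algebraMap C B) e ∧ IsUniv (algebraMap C' B') (lbcArrow C C' B B' e))
    {X : Dual.D B} {V : Dual.D C} (e : (DRing.restrictD (algebraMap C B)).obj X ⟶ V)
    (he : IsUniv (algebraMap C B) e) : IsUniv (algebraMap C' B') (lbcArrow C C' B B' e) := by
  let adj := RAdj.coextAdj (algebraMap C B)
  let adj' := RAdj.coextAdj (algebraMap C' B')
  refine isUniv_lbcArrow_iff (isUniv_counit adj V) he ?_
  rw [← isIso_beta_app_iff adj adj']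
  refine isIso_beta_app adj adj' hB (fun n => ?_) V
  rw [isIso_beta_app_iff]
  obtain ⟨Y, e', h1, h2⟩ := h n
  exact isUniv_lbcArrow_iff h1 (isUniv_counit adj _) h2

include adj adj' in
/-- The same for the value of right adjoints. -/
theorem nonempty_iso_of_sg
    (hB : DRing.IsPerfect C ((DRing.restrictD (algebraMap C B)).obj (Dual.inD B B)))
    (h : ∀ n : ℤ, ∃ (X : Dual.D B) (e : (DRing.restrictD (algebraMap C B)).obj X ⟶ sg C n C),
      IsUniv (algebraMap C B) e ∧ IsUniv (algebraMap C' B') (lbcArrow C C' B B' e))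
    (V : Dual.D C) : Nonempty ((DRing.LBaseChange (algebraMap B B')).obj (F.obj V) ≅
      F'.obj ((DRing.LBaseChange (algebraMap C C')).obj V)) :=
  ⟨(isUniv_lbcArrow_of_sg hB h (adj.counit.app V) (isUniv_counit adj V)).isoObj adj'⟩

end Groth.Agent.LoccohB.RelBC3
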