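import Groth.Agent.LoccohB.RelF2

/-!
# `RelF2` for universal arrows to `A[-m]`
-/

set_option autoImplicit false

universe u

open CategoryTheory Limits DerivedCategory

attribute [local instance] HasDerivedCategory.standard

namespace Groth.Agent.LoccohB.RelF2S

open Univ DBase

section Shift

variable {B : Type u} [CommRing B]

lemma toEnd_bijective_of_shift (X : Dual.D B) (m : ℤ)
    (h : Function.Bijective (fun b : B => b • 𝟙 (X⟦m⟧))) :
    Function.Bijective (fun b : B => b • 𝟙 X) := by
  have h1 : (fun b : B => b • 𝟙 (X⟦m⟧)) =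
      (fun g : X ⟶ X => g⟦m⟧') ∘ (fun b : B => b • 𝟙 X) := by
    funext b
    dsimp only [Function.comp_apply]
    rw [Functor.map_smul, CategoryTheory.Functor.map_id]
  rw [h1] at h
  exact (Function.Bijective.of_comp_iff' (f := fun g : X ⟶ X => g⟦m⟧')
    ⟨(shiftFunctor (Dual.D B) m).map_injective, (shiftFunctor (Dual.D B) m).map_surjective⟩ _).1 h

lemma subsingleton_of_shift (X : Dual.D B) (m i : ℤ)
    (h : Subsingleton (X⟦m⟧ ⟶ (X⟦m⟧)⟦i⟧)) : Subsingleton (X ⟶ X⟦i⟧) := by
  refine ⟨fun f g => ?_⟩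
  apply (shiftFunctor (Dual.D B) m).map_injective
  rw [← cancel_mono (shiftComm X i m).hom]
  exact Subsingleton.elim _ _

end Shift

section Main

variable {A B : Type u} [CommRing A] [CommRing B] [Algebra A B]

/-- `A[-m][m] = A`. -/
noncomputable def sgIso (m : ℤ) : (sg A m A)⟦m⟧ ≅ Dual.inD A A :=
  ((SingleFunctors.shiftIso (DerivedCategory.singleFunctors (ModuleCat.{u} A)) m 0 m
    (by omega)).app (ModuleCat.of A A))

variable (hB : DRing.IsPerfect A ((DRing.restrictD (algebraMap A B)).obj (Dual.inD B B)))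
  (m : ℤ) {X : Dual.D B} {e : (DRing.restrictD (algebraMap A B)).obj X ⟶ sg A m A}
  (he : IsUniv (algebraMap A B) e)

/-- the shifted arrow -/
noncomputable def arr (e : (DRing.restrictD (algebraMap A B)).obj X ⟶ sg A m A) :
    (DRing.restrictD (algebraMap A B)).obj (X⟦m⟧) ⟶ Dual.inD A A :=
  (((DRing.restrictD (algebraMap A B)).commShiftIso m).hom.app X ≫ e⟦m⟧') ≫ (sgIso m).hom

include he in
lemma isUniv_arr : IsUniv (algebraMap A B) (arr m e) := (he.shift m).of_iso_right (sgIso m)

include hB he

theorem isPerfect_restrictD : DRing.IsPerfect A ((DRing.restrictD (algebraMap A B)).obj X) := by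
  have h1 := RelF2.isPerfect_restrictD hB (isUniv_arr m he)
  exact PerfTri.isPerfect_of_shift m (PerfTri.isPerfect_of_iso
    (((DRing.restrictD (algebraMap A B)).commShiftIso m).app X) h1)

theorem toEnd_bijective : Function.Bijective (fun b : B => b • 𝟙 X) :=
  toEnd_bijective_of_shift X m (RelF2.toEnd_bijective hB (isUniv_arr m he))

theorem subsingleton_ext (i : ℤ) (hi : i ≠ 0) : Subsingleton (X ⟶ X⟦i⟧) :=
  subsingleton_of_shift X m i (RelF2.subsingleton_ext hB (isUniv_arr m he) i hi)

theorem map_smul_bijective :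
    Function.Bijective (fun b : B => (DRing.restrictD (algebraMap A B)).map (b • 𝟙 X) ≫ e) :=
  (he X).comp (toEnd_bijective hB m he)

theorem subsingleton_hom (i : ℤ) (hi : i ≠ 0) :
    Subsingleton ((DRing.restrictD (algebraMap A B)).obj X ⟶ (sg A m A)⟦i⟧) := by
  have h1 := subsingleton_ext hB m he i hi
  exact (Equiv.ofBijective _ (he.shift i X)).subsingleton_congr.1 h1

end Main

end Groth.Agent.LoccohB.RelF2S
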