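import Groth.Agent.LoccohB.RelBC
import Groth.Agent.LoccohB.RelBC3
import Groth.Agent.LoccohB.RelF2S
import Groth.Agent.LoccohB.BCHyp
import Groth.Agent.LoccohB.BCStep2

/-!
# Base change of universal arrows along an arbitrary `R → R'`: the hypotheses of the dévissage
-/

set_option autoImplicit false
set_option linter.unusedSectionVars false

universe u

open CategoryTheory CategoryTheory.Limits CategoryTheory.Functor TensorProduct

attribute [local instance] HasDerivedCategory.standard

namespace Groth.Agent.LoccohB.RelBC2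

open DerivedCategory LBC BCUnit BCFlat BCMap BCArrow BCDev DBase Univ RelBC

section Hyp

variable (R C B : Type u) [CommRing R] [CommRing C] [CommRing B] [Algebra R C] [Algebra R B]
  [Algebra C B] [IsScalarTower R C B] [Module.Flat R C]
  (hB : DRing.IsPerfect C ((DRing.restrictD (algebraMap C B)).obj (Dual.inD B B)))
  {X : Dual.D B} (m : ℤ) {e : (DRing.restrictD (algebraMap C B)).obj X ⟶ sg C m C}
  (he : IsUniv (algebraMap C B) e)

/-- `(C ⊗_R R)[-m] ≅ C[-m]`. -/
noncomputable def selfIso : sg C m C ≅ (GG R C m).obj (ModuleCat.of R R) :=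
  (singleFunctor (ModuleCat.{u} C) m).mapIso (extendSelfIso (algebraMap R C)).symm

include hB he

/-- The hypotheses of the dévissage. -/
theorem hyp : Hyp (GG R C m) ((DRing.restrictD (algebraMap C B)).obj X) (lamHom R C B m e) where
  balanced r b := lamHom_balanced R C B m e r b
  bij := by
    have h1 : ⇑(lamHom R C B m e) = (selfIso R C m).homToEquiv ∘
        (fun b : B => (DRing.restrictD (algebraMap C B)).map (b • 𝟙 X) ≫ e) := by
      funext b
      exact (Category.assoc ((DRing.restrictD (algebraMap C B)).map (b • 𝟙 X)) e _).symm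
    rw [h1]
    exact (Equiv.bijective _).comp (RelF2S.map_smul_bijective hB m he)
  van n hn := (((shiftFunctor _ n).mapIso (selfIso R C m)).homToEquiv).subsingleton_congr.1
    (RelF2S.subsingleton_hom hB m he n hn)
  tri S hS := BCHyp.tri R C m S hS
  free ι n f := BCHyp.free R C m _ (RelF2S.isPerfect_restrictD hB m he) ι n f
  high := BCHyp.high (R := R) m _ (RelF2S.isPerfect_restrictD hB m he)

end Hyp

section Main

variable (R R' C C' B B' : Type u) [CommRing R] [CommRing R'] [CommRing C] [CommRing C'] [CommRing B]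
  [CommRing B'] [Algebra R R'] [Algebra R C] [Algebra R C'] [Algebra R B] [Algebra R B']
  [Algebra R' C'] [Algebra R' B'] [Algebra C C'] [Algebra C B] [Algebra C B'] [Algebra C' B']
  [Algebra B B'] [IsScalarTower R R' C'] [IsScalarTower R C C'] [IsScalarTower R R' B']
  [IsScalarTower R B B'] [IsScalarTower R C B] [IsScalarTower R' C' B'] [IsScalarTower C C' B']
  [IsScalarTower C B B'] [IsScalarTower R C' B']
  [Algebra.IsPushout R R' C C'] [Algebra.IsPushout R R' B B'] [Module.Flat R C] [Module.Flat R B]
  [DRing.HasLBaseChange (algebraMap C C')] [DRing.HasLBaseChange (algebraMap B B')]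
  [IsIso (bcm C C' B B')]
  (hB : DRing.IsPerfect C ((DRing.restrictD (algebraMap C B)).obj (Dual.inD B B)))

include R R' hB

/-- The base change of a universal arrow with values in `C[-m]` is universal. -/
theorem isUniv_lbcArrow_sg {X : Dual.D B} (m : ℤ)
    {e : (DRing.restrictD (algebraMap C B)).obj X ⟶ sg C m C} (he : IsUniv (algebraMap C B) e) :
    IsUniv (algebraMap C' B') (lbcArrow C C' B B' e) := by
  have h := hyp R C B hB m he
  refine BCStep2.isUniv_of_dual_sg
    (BCStep3.isPerfect_baseChange (inferInstance : IsIso (bcm C C' B B')) hB) m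
    (lbcSelfIso (algebraMap C C') m) _ ?_ (bijective_star R R' C C' B B' m e h)
    (van_star R R' C C' B B' m e h)
  exact PerfTri.isPerfect_of_iso ((asIso (bcm C C' B B')).app X)
    (BCStep3.isPerfect_lbc (algebraMap C C') (RelF2S.isPerfect_restrictD hB m he))

/-- **Base change of universal arrows along an arbitrary `R → R'`.** -/
theorem isUniv_lbcArrow {X : Dual.D B} {V : Dual.D C}
    {e : (DRing.restrictD (algebraMap C B)).obj X ⟶ V} (he : IsUniv (algebraMap C B) e) :
    IsUniv (algebraMap C' B') (lbcArrow C C' B B' e) :=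
  RelBC3.isUniv_lbcArrow_of_sg hB (fun n => ⟨_, _,
    isUniv_counit (RAdj.coextAdj (algebraMap C B)) (sg C n C),
    isUniv_lbcArrow_sg R R' C C' B B' hB n
      (isUniv_counit (RAdj.coextAdj (algebraMap C B)) (sg C n C))⟩) e he

end Main

section Radj

variable (R R' C C' B B' : Type u) [CommRing R] [CommRing R'] [CommRing C] [CommRing C'] [CommRing B]
  [CommRing B'] [Algebra R R'] [Algebra R C] [Algebra R C'] [Algebra R B] [Algebra R B']
  [Algebra R' C'] [Algebra R' B'] [Algebra C C'] [Algebra C B] [Algebra C B'] [Algebra C' B']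
  [Algebra B B'] [IsScalarTower R R' C'] [IsScalarTower R C C'] [IsScalarTower R R' B']
  [IsScalarTower R B B'] [IsScalarTower R C B] [IsScalarTower R' C' B'] [IsScalarTower C C' B']
  [IsScalarTower C B B'] [IsScalarTower R C' B']
  [Algebra.IsPushout R R' C C'] [Algebra.IsPushout R R' B B'] [Module.Flat R C] [Module.Flat R B]
  [DRing.HasLBaseChange (algebraMap C C')] [DRing.HasLBaseChange (algebraMap B B')]
  (hB : DRing.IsPerfect C ((DRing.restrictD (algebraMap C B)).obj (Dual.inD B B)))
  {F : Dual.D C ⥤ Dual.D B} (adj : DRing.restrictD (algebraMap C B) ⊣ F)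
  {F' : Dual.D C' ⥤ Dual.D B'} (adj' : DRing.restrictD (algebraMap C' B') ⊣ F')

include R R' hB adj adj' in
/-- **Base change for the right adjoint of restriction** along an arbitrary `R → R'`. -/
theorem radj_bc (V : Dual.D C) : Nonempty ((DRing.LBaseChange (algebraMap B B')).obj (F.obj V) ≅
    F'.obj ((DRing.LBaseChange (algebraMap C C')).obj V)) := by
  have := isIso_bcm R R' C C' B B'
  exact ⟨(isUniv_lbcArrow R R' C C' B B' hB (isUniv_counit adj V)).isoObj adj'⟩

end Radj

end Groth.Agent.LoccohB.RelBC2
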