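import Groth.Agent.LoccohB.RelAsm285b
import Groth.Agent.LoccohB.RelBC2
import Groth.Agent.LoccohB.PCChange

/-!
# Base change for the upper shriek and existence of relative dualizing complexes

* `radjBC` : base change for right adjoints of restriction;
* `shriekVia_bc` : base change for the upper shriek (S1807 for any rings);
* `isRelDualizing_omega` : `φ^!(R)` is relative dualizing for `R → A` flat of finite presentation;
* `main` : S1794 modulo uniqueness of relative dualizing complexes.
-/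

set_option autoImplicit false

universe u

open CategoryTheory CategoryTheory.Limits TensorProduct

attribute [local instance] HasDerivedCategory.standard

namespace Groth.Agent.LoccohB.RelAsm285c

open DerivedCategory Dual2

theorem radjBC : RelAsm285b.RadjBC.{u} := by
  intro R R' C C' B B' _ _ _ _ _ _ _ _ _ _ _ _ _ _ _ _ _ _ _ _ _ _ _ _ _ _ _ _ _ _ _ hB F adj F' adj' _ _ V
  exact RelBC2.radj_bc R R' C C' B B' hB adj adj' V

/-- **Base change for the upper shriek**, `A` flat and of finite presentation over `R`, `R → R'` any ring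
map. -/
theorem shriekVia_bc (R R' A : Type u) [CommRing R] [CommRing R'] [CommRing A]
    [Algebra R R'] [Algebra R A] [Module.Flat R A] [Algebra.FinitePresentation R A] (n : ℕ)
    (ψ : MvPolynomial (Fin n) R →ₐ[R] A)
    (hψ : Function.Surjective ψ)
    [DRing.HasLBaseChange (algebraMap R (MvPolynomial (Fin n) R))]
    (Rψ : Dual.D (MvPolynomial (Fin n) R) ⥤ Dual.D A) (adj : DRing.restrictD ψ.toRingHom ⊣ Rψ)
    (m : ℕ) (ψ' : MvPolynomial (Fin m) R' →ₐ[R'] (R' ⊗[R] A)) (hψ' : Function.Surjective ψ')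
    [DRing.HasLBaseChange (algebraMap R' (MvPolynomial (Fin m) R'))]
    (Rψ' : Dual.D (MvPolynomial (Fin m) R') ⥤ Dual.D (R' ⊗[R] A))
    (adj' : DRing.restrictD ψ'.toRingHom ⊣ Rψ')
    [DRing.HasLBaseChange (Algebra.TensorProduct.includeRight : A →ₐ[R] R' ⊗[R] A).toRingHom]
    [DRing.HasLBaseChange (algebraMap R R')] (K : Dual.D R) :
    Nonempty ((DRing.LBaseChange (Algebra.TensorProduct.includeRight : A →ₐ[R] R' ⊗[R] A).toRingHom).obj
      (Dual2.shriekVia n Rψ K) ≅ Dual2.shriekVia m Rψ' ((DRing.LBaseChange (algebraMap R R')).obj K)) :=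
  RelAsm285b.shriekVia_bc radjBC R R' A n ψ (RelAsm285.isPerfect_of_flat ψ hψ) hψ Rψ adj m ψ' hψ' Rψ'
    adj' K

/-- `ω = φ^!(R)` is a relative dualizing complex, `R → A` flat of finite presentation. -/
theorem isRelDualizing_omega (R A : Type u) [CommRing R] [CommRing A] [Algebra R A] [Module.Flat R A]
    [Algebra.FinitePresentation R A] (n : ℕ) (ψ : MvPolynomial (Fin n) R →ₐ[R] A)
    (hψ : Function.Surjective ψ)
    [DRing.HasLBaseChange (algebraMap R (MvPolynomial (Fin n) R))]
    (Rψ : Dual.D (MvPolynomial (Fin n) R) ⥤ Dual.D A) (adj : DRing.restrictD ψ.toRingHom ⊣ Rψ)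
    [DRing.HasLBaseChange (Algebra.TensorProduct.includeLeftRingHom : A →+* TensorProduct R A A)]
    (Rμ : Dual.D (TensorProduct R A A) ⥤ Dual.D A)
    (adjμ : DRing.restrictD (Algebra.TensorProduct.lmul' R (S := A)).toRingHom ⊣ Rμ) :
    Dual2.IsRelDualizing R A Rμ (Dual2.shriekVia n Rψ (Dual.inD R R)) :=
  RelAsm285.isRelDualizing_shriekVia R A n ψ hψ
    (fun φ h K hK => PCChange.isPseudoCoherent'_of_restrictD φ h K hK) Rψ adj Rμ adjμ

/-- S1794 from the uniqueness of relative dualizing complexes (S1792). -/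
theorem main (R A : Type u) [CommRing R] [CommRing A] [Algebra R A] [Module.Flat R A]
    [Algebra.FinitePresentation R A]
    (huniq : ∀ [DRing.HasLBaseChange (Algebra.TensorProduct.includeLeftRingHom : A →+* TensorProduct R A A)]
      (Rμ : Dual.D (TensorProduct R A A) ⥤ Dual.D A)
      (_ : DRing.restrictD (Algebra.TensorProduct.lmul' R (S := A)).toRingHom ⊣ Rμ)
      (K L : Dual.D A), Dual2.IsRelDualizing R A Rμ K → Dual2.IsRelDualizing R A Rμ L →
      Nonempty (K ≅ L))
    [DRing.HasLBaseChange (Algebra.TensorProduct.includeLeftRingHom : A →+* TensorProduct R A A)]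
    (Rμ : Dual.D (TensorProduct R A A) ⥤ Dual.D A)
    (adjμ : DRing.restrictD (Algebra.TensorProduct.lmul' R (S := A)).toRingHom ⊣ Rμ) :
    (∃ K : Dual.D A, Dual2.IsRelDualizing R A Rμ K) ∧
    ∀ (K : Dual.D A), Dual2.IsRelDualizing R A Rμ K →
    ∀ (R' : Type u) [CommRing R'] [Algebra R R']
      [DRing.HasLBaseChange (Algebra.TensorProduct.includeRight : A →ₐ[R] R' ⊗[R] A).toRingHom]
      [DRing.HasLBaseChange (Algebra.TensorProduct.includeLeftRingHom :
        R' ⊗[R] A →+* TensorProduct R' (R' ⊗[R] A) (R' ⊗[R] A))]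
      (Rμ' : Dual.D (TensorProduct R' (R' ⊗[R] A) (R' ⊗[R] A)) ⥤ Dual.D (R' ⊗[R] A)),
      (DRing.restrictD (Algebra.TensorProduct.lmul' R' (S := R' ⊗[R] A)).toRingHom ⊣ Rμ') →
      Dual2.IsRelDualizing R' (R' ⊗[R] A) Rμ' ((DRing.LBaseChange
        (Algebra.TensorProduct.includeRight : A →ₐ[R] R' ⊗[R] A).toRingHom).obj K) :=
  RelAsm285b.main' radjBC R A
    (fun φ h K hK => PCChange.isPseudoCoherent'_of_restrictD φ h K hK) huniq Rμ adjμ

end Groth.Agent.LoccohB.RelAsm285c
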