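import Groth.Agent.LoccohB.BCArrow
import Groth.Agent.LoccohB.BCDev
import Groth.Agent.LoccohB.FlatLBC

/-!
# The unit of derived base change on `C[-m]`
-/

set_option autoImplicit false
set_option linter.unusedSectionVars false

universe u

open CategoryTheory CategoryTheory.Limits CategoryTheory.Functor TensorProduct ChangeOfRings

attribute [local instance] HasDerivedCategory.standard

namespace Groth.Agent.LoccohB.RelBC

open DerivedCategory LBC BCUnit BCFlat BCMap BCArrow BCDev DBase

section Unit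

variable {C C' : Type u} [CommRing C] [CommRing C'] (φ : C →+* C')

/-- `restrictD (M[-m]) ≅ (res M)[-m]`. -/
noncomputable abbrev rho (m : ℤ) : singleFunctor (ModuleCat.{u} C') m ⋙ DRing.restrictD φ ≅
    ModuleCat.restrictScalars.{u} φ ⋙ singleFunctor (ModuleCat.{u} C) m :=
  (ModuleCat.restrictScalars.{u} φ).mapDerivedCategorySingleFunctor m

/-- `C ⟶ (C')|_C`, `c ↦ φ c * u`. -/
noncomputable def rs (u : C') : ModuleCat.of C C ⟶
    (ModuleCat.restrictScalars.{u} φ).obj (ModuleCat.of C' C') :=
  ModuleCat.ofHom (Y := (ModuleCat.restrictScalars.{u} φ).obj (ModuleCat.of C' C'))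
    { toFun := fun c => φ c * u
      map_add' := fun a b => by rw [_root_.map_add, add_mul]; rfl
      map_smul' := fun a b => by
        change φ (a * b) * u = φ a * (φ b * u)
        rw [_root_.map_mul, mul_assoc] }

/-- The value at `1`. -/
noncomputable def ev1 (f : ModuleCat.of C C ⟶ (ModuleCat.restrictScalars.{u} φ).obj (ModuleCat.of C' C')) : C' :=
  f.hom (1 : C)

lemma ev1_rs (u : C') : ev1 φ (rs φ u) = u := by
  change φ 1 * u = u
  rw [_root_.map_one, one_mul]

lemma eq_rs (f : ModuleCat.of C C ⟶ (ModuleCat.restrictScalars.{u} φ).obj (ModuleCat.of C' C')) :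
    f = rs φ (ev1 φ f) := by
  apply ModuleCat.hom_ext
  apply LinearMap.ext_ring
  exact (ev1_rs φ (ev1 φ f)).symm

lemma ev1_comp (f : ModuleCat.of C C ⟶ (ModuleCat.restrictScalars.{u} φ).obj (ModuleCat.of C' C'))
    (h : ModuleCat.of C' C' ⟶ ModuleCat.of C' C') :
    ev1 φ (f ≫ (ModuleCat.restrictScalars.{u} φ).map h) = ev1 φ f * (h.hom (1 : C') : C') := by
  change (h.hom (ev1 φ f) : C') = _
  rw [← smul_eq_mul, ← LinearMap.map_smul, smul_eq_mul, mul_one]

variable [DRing.HasLBaseChange φ] (m : ℤ)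

/-- the arrow `C[-m] ⟶ (C'[-m])|_C` given by the unit. -/
noncomputable def etaS : sg C m C ⟶ (singleFunctor (ModuleCat.{u} C) m).obj
    ((ModuleCat.restrictScalars.{u} φ).obj (ModuleCat.of C' C')) :=
  (lbcAdj φ).unit.app (sg C m C) ≫ (DRing.restrictD φ).map (lbcSelfIso φ m).hom ≫
    (rho φ m).hom.app (ModuleCat.of C' C')

lemma etaS_comp (f : (ModuleCat.of C' C') ⟶ (ModuleCat.of C' C')) :
    (lbcAdj φ).unit.app (sg C m C) ≫ (DRing.restrictD φ).map ((lbcSelfIso φ m).hom ≫
      (singleFunctor (ModuleCat.{u} C') m).map f) ≫ (rho φ m).hom.app (ModuleCat.of C' C') =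
    etaS φ m ≫ (singleFunctor (ModuleCat.{u} C) m).map ((ModuleCat.restrictScalars.{u} φ).map f) := by
  have h1 := (rho φ m).hom.naturality f
  dsimp only [Functor.comp_map, Functor.comp_obj] at h1
  dsimp only [etaS]
  rw [Functor.map_comp]
  simp only [Category.assoc]
  rw [h1]

/-- The unit of the base change of `C[-m]` is multiplication by a unit. -/
theorem exists_unit : ∃ u : C', IsUnit u ∧ etaS φ m =
    (singleFunctor (ModuleCat.{u} C) m).map (rs φ u) := by
  obtain ⟨f₀, hf₀⟩ := (singleFunctor (ModuleCat.{u} C) m).map_surjective (etaS φ m)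
  refine ⟨ev1 φ f₀, ?_, ?_⟩
  · let h : (DRing.LBaseChange φ).obj (sg C m C) ⟶ sg C' m C' :=
      ((lbcAdj φ).homEquiv _ _).symm ((singleFunctor (ModuleCat.{u} C) m).map (rs φ 1) ≫
        (rho φ m).inv.app (ModuleCat.of C' C'))
    obtain ⟨h₀, hh₀⟩ := (singleFunctor (ModuleCat.{u} C') m).map_surjective
      ((lbcSelfIso φ m).inv ≫ h)
    have h1 := etaS_comp φ m h₀
    rw [hh₀, Iso.hom_inv_id_assoc, ← hf₀, ← Functor.map_comp] at h1
    have h2 : (lbcAdj φ).unit.app (sg C m C) ≫ (DRing.restrictD φ).map h =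
        (singleFunctor (ModuleCat.{u} C) m).map (rs φ 1) ≫
        (rho φ m).inv.app (ModuleCat.of C' C') :=
      ((lbcAdj φ).homEquiv_unit (f := h)).symm.trans (Equiv.apply_symm_apply _ _)
    have h3 : (singleFunctor (ModuleCat.{u} C) m).map (rs φ 1) =
        (singleFunctor (ModuleCat.{u} C) m).map (f₀ ≫ (ModuleCat.restrictScalars.{u} φ).map h₀) := by
      rw [← h1, reassoc_of% h2, Iso.inv_hom_id_app]
      exact (Category.comp_id _).symm
    have h4 := congrArg (ev1 φ) ((singleFunctor (ModuleCat.{u} C) m).map_injective h3)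
    rw [ev1_rs, ev1_comp] at h4
    exact IsUnit.of_mul_eq_one _ h4.symm
  · rw [← hf₀, ← eq_rs]

lemma etaS_smul (u : C') (hu : etaS φ m = (singleFunctor (ModuleCat.{u} C) m).map (rs φ u)) (c : C') :
    (lbcAdj φ).unit.app (sg C m C) ≫ (DRing.restrictD φ).map
      (c • 𝟙 ((DRing.LBaseChange φ).obj (sg C m C))) ≫
      (DRing.restrictD φ).map (lbcSelfIso φ m).hom ≫
    (rho φ m).hom.app (ModuleCat.of C' C') =
    (singleFunctor (ModuleCat.{u} C) m).map (rs φ (c * u)) := by
  have h1 := etaS_comp φ m (c • 𝟙 (ModuleCat.of C' C'))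
  have h2 : (lbcSelfIso φ m).hom ≫ (singleFunctor (ModuleCat.{u} C') m).map
      (c • 𝟙 (ModuleCat.of C' C')) = (c • 𝟙 ((DRing.LBaseChange φ).obj (sg C m C))) ≫
        (lbcSelfIso φ m).hom := by
    rw [Functor.map_smul, CategoryTheory.Functor.map_id, Linear.comp_smul, Linear.smul_comp,
      Category.comp_id, Category.id_comp]
  rw [h2, hu, ← Functor.map_comp, eq_rs φ (rs φ u ≫ _), ev1_comp, ev1_rs] at h1
  have h3 : ((c • 𝟙 (ModuleCat.of C' C')).hom (1 : C') : C') = c := mul_one c
  rw [h3, Functor.map_comp, Category.assoc, mul_comm] at h1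
  exact h1

end Unit

section Mod

variable (R R' C C' : Type u) [CommRing R] [CommRing R'] [CommRing C] [CommRing C']
  [Algebra R R'] [Algebra R C] [Algebra R' C'] [Algebra C C'] [Algebra R C']
  [IsScalarTower R R' C'] [IsScalarTower R C C'] [Algebra.IsPushout R R' C C']

/-- Restriction does nothing to the underlying module. -/
noncomputable def resEquiv : C' ≃ₗ[C]
    (ModuleCat.restrictScalars.{u} (algebraMap C C')).obj (ModuleCat.of C' C') :=
  { toFun := fun x => x
    invFun := fun x => x
    left_inv := fun _ => rfl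
    right_inv := fun _ => rfl
    map_add' := fun _ _ => rfl
    map_smul' := fun a b => by rw [Algebra.smul_def]; rfl }

/-- Multiplication by a unit. -/
noncomputable def mulUnit {u : C'} (hu : IsUnit u) : C' ≃ₗ[C] C' :=
  LinearEquiv.ofBijective (LinearMap.mulRight C u) (by
    obtain ⟨v, rfl⟩ := hu
    refine ⟨fun a b h => ?_, fun a => ⟨a * (v⁻¹ : C'ˣ), ?_⟩⟩
    · have h1 : a * (v : C') = b * v := h
      exact (Units.mul_left_inj v).1 h1
    · change a * ((v⁻¹ : C'ˣ) : C') * v = a
      rw [mul_assoc, Units.inv_mul, mul_one])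

/-- `C ⊗_R R' ≅ C'`, twisted by a unit. -/
noncomputable def tu {u : C'} (hu : IsUnit u) :
    (ModuleCat.extendScalars.{u, u, u} (algebraMap R C)).obj (ModuleCat.of R R') ≅
      (ModuleCat.restrictScalars.{u} (algebraMap C C')).obj (ModuleCat.of C' C') :=
  haveI : Algebra.IsPushout R C R' C' := Algebra.IsPushout.symm inferInstance
  ((FlatLBC.extEquiv R C (ModuleCat.of R R')).symm ≪≫ₗ
    (Algebra.IsPushout.equiv R C R' C').toLinearEquiv ≪≫ₗ mulUnit C C' hu ≪≫ₗ
      resEquiv C C').toModuleIso

lemma tu_comp {u : C'} (hu : IsUnit u) (r : R') :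
    (extendSelfIso (algebraMap R C)).inv ≫ (ModuleCat.extendScalars.{u, u, u} (algebraMap R C)).map
      (elt (T := ModuleCat.of R R') r) ≫ (tu R R' C C' hu).hom =
    rs (algebraMap C C') (algebraMap R' C' r * u) := by
  rw [eq_rs (algebraMap C C') ((extendSelfIso (algebraMap R C)).inv ≫ _ ≫ _)]
  congr 1
  have : Algebra.IsPushout R C R' C' := Algebra.IsPushout.symm inferInstance
  have h1 : ((extendSelfIso (algebraMap R C)).inv.hom (1 : C)) =
      FlatLBC.extEquiv R C (ModuleCat.of R R) ((1 : C) ⊗ₜ (1 : R)) := by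
    change (spanMap _ (oneExt (algebraMap R C))).hom (1 : C) = _
    rw [spanMap_one]
    rfl
  have h2 : ((ModuleCat.extendScalars.{u, u, u} (algebraMap R C)).map
      (elt (T := ModuleCat.of R R') r)).hom
      (FlatLBC.extEquiv R C (ModuleCat.of R R) ((1 : C) ⊗ₜ (1 : R))) =
      FlatLBC.extEquiv R C (ModuleCat.of R R') ((1 : C) ⊗ₜ r) := by
    rw [FlatLBC.extEquiv_tmul, FlatLBC.extEquiv_tmul]
    refine (ModuleCat.ExtendScalars.map_tmul _ _ _ _).trans ?_
    congr 1
    change (1 : R) • r = r
    rw [one_smul]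
  have h3 : (tu R R' C C' hu).hom.hom (FlatLBC.extEquiv R C (ModuleCat.of R R') ((1 : C) ⊗ₜ r)) =
      (algebraMap R' C' r * u : C') := by
    change (mulUnit C C' hu) ((Algebra.IsPushout.equiv R C R' C')
      ((FlatLBC.extEquiv R C (ModuleCat.of R R')).symm
      (FlatLBC.extEquiv R C (ModuleCat.of R R') ((1 : C) ⊗ₜ r)))) = _
    rw [LinearEquiv.symm_apply_apply, Algebra.IsPushout.equiv_tmul, _root_.map_one, one_mul]
    rfl
  change (tu R R' C C' hu).hom.hom (((ModuleCat.extendScalars.{u, u, u} (algebraMap R C)).map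
      (elt (T := ModuleCat.of R R') r)).hom ((extendSelfIso (algebraMap R C)).inv.hom (1 : C))) = _
  rw [h1, h2, h3]

/-- `T ↦ (C ⊗_R T)[-m]`. -/
noncomputable abbrev GG (m : ℤ) : ModuleCat.{u} R ⥤ Dual.D C :=
  ModuleCat.extendScalars.{u, u, u} (algebraMap R C) ⋙ singleFunctor (ModuleCat.{u} C) m

lemma extendScalars_map_smul (r : R) : (ModuleCat.extendScalars.{u, u, u} (algebraMap R C)).map
    (ModuleCat.ofHom (r • LinearMap.id) : ModuleCat.of R R ⟶ ModuleCat.of R R) =
    algebraMap R C r • 𝟙 _ := by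
  apply ModuleCat.hom_ext
  apply LinearMap.ext
  intro x
  obtain ⟨t, rfl⟩ := (FlatLBC.extEquiv R C _).surjective x
  induction t using TensorProduct.induction_on with
  | zero => simp only [_root_.map_zero]
  | add x y hx hy => rw [_root_.map_add, _root_.map_add, _root_.map_add, hx, hy]
  | tmul c t =>
    have h1 : (FlatLBC.extEquiv R C (ModuleCat.of R R)) (c ⊗ₜ[R] (r • t)) =
        algebraMap R C r • (FlatLBC.extEquiv R C (ModuleCat.of R R)) (c ⊗ₜ[R] t) := by
      rw [← LinearEquiv.map_smul]
      congr 1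
      rw [TensorProduct.tmul_smul, TensorProduct.smul_tmul', TensorProduct.smul_tmul', algebraMap_smul]
    exact (ModuleCat.ExtendScalars.map_tmul _ _ _ _).trans h1

end Mod

section Star

variable (R R' C C' B B' : Type u) [CommRing R] [CommRing R'] [CommRing C] [CommRing C'] [CommRing B]
  [CommRing B'] [Algebra R R'] [Algebra R C] [Algebra R C'] [Algebra R B] [Algebra R B']
  [Algebra R' C'] [Algebra R' B'] [Algebra C C'] [Algebra C B] [Algebra C B'] [Algebra C' B']
  [Algebra B B'] [IsScalarTower R R' C'] [IsScalarTower R C C'] [IsScalarTower R R' B']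
  [IsScalarTower R B B'] [IsScalarTower R C B] [IsScalarTower R' C' B'] [IsScalarTower C C' B']
  [IsScalarTower C B B'] [IsScalarTower R C' B']
  [Algebra.IsPushout R R' C C'] [Algebra.IsPushout R R' B B']

variable {X : Dual.D B} (m : ℤ) (e : (DRing.restrictD (algebraMap C B)).obj X ⟶ sg C m C)

/-- `b ↦ ψ_* (b • 𝟙) ≫ e`, with values in `Hom(ψ_* X, (C ⊗_R R)[-m])`. -/
noncomputable def lamHom : B →+ ((DRing.restrictD (algebraMap C B)).obj X ⟶
    (GG R C m).obj (ModuleCat.of R R)) where
  toFun b := (DRing.restrictD (algebraMap C B)).map (b • 𝟙 X) ≫ e ≫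
    (singleFunctor (ModuleCat.{u} C) m).map (extendSelfIso (algebraMap R C)).inv
  map_zero' := by rw [zero_smul, Functor.map_zero, zero_comp]
  map_add' a b := by rw [add_smul, Functor.map_add, Preadditive.add_comp]

lemma lamHom_balanced (r : R) (b : B) :
    lamHom R C B m e (r • b) = lamHom R C B m e b ≫
      (GG R C m).map (ModuleCat.ofHom (r • LinearMap.id)) := by
  have h1 : (GG R C m).map (ModuleCat.ofHom (r • LinearMap.id) : ModuleCat.of R R ⟶ ModuleCat.of R R) =
      algebraMap R C r • 𝟙 _ := by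
    change (singleFunctor (ModuleCat.{u} C) m).map ((ModuleCat.extendScalars.{u, u, u} (algebraMap R C)).map
      _) = _
    rw [extendScalars_map_smul, Functor.map_smul, CategoryTheory.Functor.map_id]
    rfl
  rw [h1, Linear.comp_smul, Category.comp_id]
  change (DRing.restrictD (algebraMap C B)).map ((r • b) • 𝟙 X) ≫ _ =
    algebraMap R C r • ((DRing.restrictD (algebraMap C B)).map (b • 𝟙 X) ≫ _)
  have h2 : (r • b) • 𝟙 X = algebraMap C B (algebraMap R C r) • (b • 𝟙 X) := by
    rw [← IsScalarTower.algebraMap_apply R C B, smul_smul, Algebra.smul_def]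
  rw [h2, restrictD_map_smul, Linear.smul_comp]

variable [DRing.HasLBaseChange (algebraMap C C')] [DRing.HasLBaseChange (algebraMap B B')]
  [IsIso (bcm C C' B B')]

/-- `ψ'_* ((b r') • 𝟙) ≫ e'` -/
lemma smul_lbcArrow (b : B) (r : R') :
    (DRing.restrictD (algebraMap C' B')).map
      ((algebraMap B B' b * algebraMap R' B' r) • 𝟙 ((DRing.LBaseChange (algebraMap B B')).obj X)) ≫
      lbcArrow C C' B B' e =
    lbcArrow C C' B B' ((DRing.restrictD (algebraMap C B)).map (b • 𝟙 X) ≫ e) ≫
      (algebraMap R' C' r • 𝟙 ((DRing.LBaseChange (algebraMap C C')).obj (sg C m C))) := by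
  have h1 : (algebraMap B B' b * algebraMap R' B' r) •
      𝟙 ((DRing.LBaseChange (algebraMap B B')).obj X) =
      algebraMap C' B' (algebraMap R' C' r) • (DRing.LBaseChange (algebraMap B B')).map (b • 𝟙 X) := by
    rw [lbc_map_smul, CategoryTheory.Functor.map_id, ← IsScalarTower.algebraMap_apply R' C' B',
      smul_smul, mul_comm]
  rw [h1, restrictD_map_smul, Linear.smul_comp, ← lbcArrow_precomp, Linear.comp_smul, Category.comp_id]

/-- The comparison of the two sides. -/
lemma key {u : C'} (hu : IsUnit u)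
    (hu' : etaS (algebraMap C C') m = (singleFunctor (ModuleCat.{u} C) m).map (rs (algebraMap C C') u))
    (f : (DRing.restrictD (algebraMap C B)).obj X ⟶ sg C m C) (r : R') :
    (lbcAdj (algebraMap C C')).homEquiv _ _ ((bcm C C' B B').app X ≫ lbcArrow C C' B B' f ≫
      (algebraMap R' C' r • 𝟙 ((DRing.LBaseChange (algebraMap C C')).obj (sg C m C)))) ≫
      (DRing.restrictD (algebraMap C C')).map (lbcSelfIso (algebraMap C C') m).hom ≫
      (rho (algebraMap C C') m).hom.app (ModuleCat.of C' C') =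
    (f ≫ (singleFunctor (ModuleCat.{u} C) m).map (extendSelfIso (algebraMap R C)).inv) ≫
      (GG R C m).map (elt (T := ModuleCat.of R R') r) ≫
      (singleFunctor (ModuleCat.{u} C) m).map (tu R R' C C' hu).hom := by
  rw [← Category.assoc ((bcm C C' B B').app X), Adjunction.homEquiv_naturality_right,
    homEquiv_lbcArrow, Category.assoc, Category.assoc, Category.assoc]
  have h1 := etaS_smul (algebraMap C C') m u hu' (algebraMap R' C' r)
  refine congrArg (fun t => f ≫ t) ?_
  refine h1.trans ?_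
  rw [← tu_comp R R' C C' hu r, Functor.map_comp, Functor.map_comp]
  rfl

include R' in
/-- **`B' = Hom_{D(C')}(ψ'_* (X ⊗^L_B B'), C'[-m])`.** -/
theorem bijective_star
    (h : Hyp (GG R C m) ((DRing.restrictD (algebraMap C B)).obj X) (lamHom R C B m e)) :
    Function.Bijective (fun b : B' => (DRing.restrictD (algebraMap C' B')).map
      (b • 𝟙 ((DRing.LBaseChange (algebraMap B B')).obj X)) ≫ lbcArrow C C' B B' e) := by
  obtain ⟨v, hv, hv'⟩ := exists_unit (algebraMap C C') m
  have hp : Algebra.IsPushout R B R' B' := Algebra.IsPushout.symm inferInstance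
  let τ : B ⊗[R] R' ≃ₐ[B] B' := Algebra.IsPushout.equiv R B R' B'
  let Φ : B' → _ := (fun b : B' => (DRing.restrictD (algebraMap C' B')).map
      (b • 𝟙 ((DRing.LBaseChange (algebraMap B B')).obj X)) ≫ lbcArrow C C' B B' e)
  let Z := (singleFunctor (ModuleCat.{u} C) m).obj
    ((ModuleCat.restrictScalars.{u} (algebraMap C C')).obj (ModuleCat.of C' C'))
  let i₁ : (DRing.restrictD (algebraMap C C')).obj
      ((DRing.LBaseChange (algebraMap C C')).obj (sg C m C)) ≅ Z :=
    (DRing.restrictD (algebraMap C C')).mapIso (lbcSelfIso (algebraMap C C') m) ≪≫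
      (rho (algebraMap C C') m).app (ModuleCat.of C' C')
  let T : ((DRing.restrictD (algebraMap C' B')).obj ((DRing.LBaseChange (algebraMap B B')).obj X) ⟶
      (DRing.LBaseChange (algebraMap C C')).obj (sg C m C)) →
      ((DRing.restrictD (algebraMap C B)).obj X ⟶ Z) := fun g =>
    (lbcAdj (algebraMap C C')).homEquiv _ _ ((bcm C C' B B').app X ≫ g) ≫ i₁.hom
  have hT : Function.Bijective T := by
    have h1 : T = (i₁.homToEquiv (Z := (DRing.restrictD (algebraMap C B)).obj X)) ∘
        ((lbcAdj (algebraMap C C')).homEquiv _ _) ∘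
        ((asIso ((bcm C C' B B').app X)).homFromEquiv
          (Z := (DRing.LBaseChange (algebraMap C C')).obj (sg C m C))).symm := by
      funext g
      rfl
    rw [h1]
    exact (Equiv.bijective _).comp ((Equiv.bijective _).comp (Equiv.bijective _))
  let t := (singleFunctor (ModuleCat.{u} C) m).mapIso (tu R R' C C' hv)
  have hcomm : T ∘ Φ ∘ τ = (t.homToEquiv (Z := (DRing.restrictD (algebraMap C B)).obj X)) ∘
      (kappa h (ModuleCat.of R R')) := by
    funext x
    dsimp only [Function.comp_apply]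
    induction x using TensorProduct.induction_on with
    | zero =>
      rw [_root_.map_zero, _root_.map_zero]
      dsimp only [T, Φ]
      rw [zero_smul, Functor.map_zero, zero_comp, comp_zero, Adjunction.homEquiv_unit,
        Functor.map_zero, comp_zero, zero_comp]
      exact zero_comp.symm
    | add x y hx hy =>
      rw [_root_.map_add, _root_.map_add]
      have h1 : T (Φ (τ x + τ y)) = T (Φ (τ x)) + T (Φ (τ y)) := by
        dsimp only [T, Φ]
        rw [add_smul, Functor.map_add, Preadditive.add_comp, Preadditive.comp_add,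
          Adjunction.homEquiv_unit, Functor.map_add, Preadditive.comp_add, Preadditive.add_comp,
          Adjunction.homEquiv_unit, Adjunction.homEquiv_unit]
      rw [h1, hx, hy]
      exact (Preadditive.add_comp _ _ _ _ _ _).symm
    | tmul b r =>
      have h1 : τ (b ⊗ₜ r) = algebraMap B B' b * algebraMap R' B' r :=
        Algebra.IsPushout.equiv_tmul ..
      rw [h1]
      dsimp only [T, Φ]
      rw [smul_lbcArrow R' C C' B B', kappa_tmul]
      refine (key R R' C C' B B' m hv hv' ((DRing.restrictD (algebraMap C B)).map (b • 𝟙 X) ≫ e) r).trans ?_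
      change _ = (((DRing.restrictD (algebraMap C B)).map (b • 𝟙 X) ≫ e ≫
        (singleFunctor (ModuleCat.{u} C) m).map (extendSelfIso (algebraMap R C)).inv) ≫ _) ≫ t.hom
      simp only [Category.assoc]
      rfl
  have h2 : Function.Bijective (T ∘ Φ ∘ τ) := by
    rw [hcomm]
    exact (Equiv.bijective _).comp (kappa_bijective h (ModuleCat.of R R'))
  have h3 : Function.Bijective (Φ ∘ τ) := (Function.Bijective.of_comp_iff' hT _).1 h2
  exact (Function.Bijective.of_comp_iff _ τ.bijective).1 h3

include R R' in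
/-- **`Hom_{D(C')}(ψ'_* (X ⊗^L_B B'), C'[-m][j]) = 0` for `j ≠ 0`.** -/
theorem van_star [Module.Flat R B]
    (h : Hyp (GG R C m) ((DRing.restrictD (algebraMap C B)).obj X) (lamHom R C B m e))
    (j : ℤ) (hj : j ≠ 0) :
    Subsingleton ((DRing.restrictD (algebraMap C' B')).obj ((DRing.LBaseChange (algebraMap B B')).obj X) ⟶
      ((DRing.LBaseChange (algebraMap C C')).obj (sg C m C))⟦j⟧) := by
  have h1 := BCDev.van h (ModuleCat.of R R') j hj
  have i₁ : (DRing.restrictD (algebraMap C C')).obj
      (((DRing.LBaseChange (algebraMap C C')).obj (sg C m C))⟦j⟧) ≅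
      ((GG R C m).obj (ModuleCat.of R R'))⟦j⟧ :=
    ((DRing.restrictD (algebraMap C C')).commShiftIso j).app _ ≪≫
    (shiftFunctor _ j).mapIso ((DRing.restrictD (algebraMap C C')).mapIso
      (lbcSelfIso (algebraMap C C') m) ≪≫ (rho (algebraMap C C') m).app (ModuleCat.of C' C') ≪≫
      (singleFunctor (ModuleCat.{u} C) m).mapIso (tu R R' C C' isUnit_one).symm)
  exact ((((asIso ((bcm C C' B B').app X)).homFromEquiv
    (Z := ((DRing.LBaseChange (algebraMap C C')).obj (sg C m C))⟦j⟧)).symm.trans
      ((lbcAdj (algebraMap C C')).homEquiv _ _)).trans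
        (i₁.homToEquiv (Z := (DRing.restrictD (algebraMap C B)).obj X))).subsingleton_congr.2 h1

end Star

end Groth.Agent.LoccohB.RelBC
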