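import Groth.Agent.LoccohB.RelT
import Groth.Prelude.Def_DDual2
import Mathlib.Algebra.Homology.BifunctorShift

/-!
# Lemma T for arbitrary ring homomorphisms, and for `V = A[n]`
-/

set_option autoImplicit false

universe u

open CategoryTheory Limits MonoidalCategory CochainComplex CochainComplex.HomComplex

attribute [local instance] HasDerivedCategory.standard

namespace Groth.Agent.LoccohB.RelT

open TenCx DerivedCategory LTen ProjF ThetaHom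

section Unit

variable (A : Type u) [CommRing A]

/-- `A` in degree `0`. -/
noncomputable abbrev unitCx : DRing.Cx A :=
  (CochainComplex.singleFunctor (ModuleCat.{u} A) 0).obj (ModuleCat.of A A)

variable {A}

/-- `P ⊗ A[0] ≅ P`. -/
noncomputable def unitIso (P : DRing.Cx A) : (P ⊗ unitCx A : DRing.Cx A) ≅ P :=
  ρ_ P

/-- `P ⊗ E⟦n⟧ ≅ (P ⊗ E)⟦n⟧`. -/
noncomputable def shiftRightIso (P E : DRing.Cx A) (n : ℤ) :
    (P ⊗ (E⟦n⟧) : DRing.Cx A) ≅ (P ⊗ E : DRing.Cx A)⟦n⟧ :=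
  mapBifunctorShift₂Iso P E (curriedTensor (ModuleCat.{u} A)) n

/-- `P⟦n⟧ ⊗ E ≅ (P ⊗ E)⟦n⟧`. -/
noncomputable def shiftLeftIso (P E : DRing.Cx A) (n : ℤ) :
    (P⟦n⟧ ⊗ E : DRing.Cx A) ≅ (P ⊗ E : DRing.Cx A)⟦n⟧ :=
  mapBifunctorShift₁Iso P E (curriedTensor (ModuleCat.{u} A)) n

/-- `N ⊗^L A[n] ≅ N⟦n⟧`. -/
theorem lten_unit_shift (V : DRing.Cx A) [DRing.HasLTensorCx A V] (n : ℤ)
    (e : Q.obj V ≅ (Dual.inD A A)⟦n⟧) (N : Dual.D A) :
    Nonempty ((DRing.LTensorCx A V).obj N ≅ N⟦n⟧) := by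
  obtain ⟨P, hP, ⟨eP⟩⟩ := exists_kproj N
  have := hasLTensorCx ((unitCx A)⟦n⟧)
  obtain ⟨eV⟩ := ltenCongr (E := V) (E' := (unitCx A)⟦n⟧)
    (e ≪≫ (CategoryTheory.shiftFunctor _ n).mapIso ((singleFunctorIsoCompQ (ModuleCat.{u} A) 0).app _) ≪≫
      (Q.commShiftIso n).symm.app (unitCx A))
  exact ⟨(DRing.LTensorCx A V).mapIso eP.symm ≪≫ eV.app _ ≪≫ ltenIso _ P ≪≫
    Q.mapIso (shiftRightIso P (unitCx A) n) ≪≫ (Q.commShiftIso n).app _ ≪≫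
    (CategoryTheory.shiftFunctor _ n).mapIso (Q.mapIso (unitIso P) ≪≫ eP)⟩

end Unit

variable {A B : Type u} [CommRing A] [CommRing B]

/-- **Lemma T**: `RHom_A(B, N ⊗^L V) ≅ (N ⊗^L_A B) ⊗^L_B RHom_A(B, V)` for `B` perfect over `A`,
and all `N`, `V` in `D(A)`. -/
theorem relT (φ : A →+* B) {R : Dual.D A ⥤ Dual.D B} (adj : DRing.restrictD φ ⊣ R)
    (hB : DRing.IsPerfect A ((DRing.restrictD φ).obj (Dual.inD B B))) [DRing.HasLBaseChange φ]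
    (X : DRing.Cx B) [DRing.HasLTensorCx B X] (V : DRing.Cx A) [DRing.HasLTensorCx A V]
    (e : Q.obj X ≅ R.obj (Q.obj V)) (N : Dual.D A) :
    Nonempty ((DRing.LTensorCx B X).obj ((DRing.LBaseChange φ).obj N) ≅
      R.obj ((DRing.LTensorCx A V).obj N)) := by
  let _ := φ.toAlgebra
  exact relT_alg (A := A) (B := B) adj hB X V e N

/-- **Lemma T**, for `V = A[n]`: if `Q X ≅ RHom_A(B, A[n])` then
`(N ⊗^L_A B) ⊗^L_B X ≅ RHom_A(B, N[n])`. -/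
theorem relT_shift (φ : A →+* B) {R : Dual.D A ⥤ Dual.D B} (adj : DRing.restrictD φ ⊣ R)
    (hB : DRing.IsPerfect A ((DRing.restrictD φ).obj (Dual.inD B B))) [DRing.HasLBaseChange φ]
    (X : DRing.Cx B) [DRing.HasLTensorCx B X] (n : ℤ)
    (e : Q.obj X ≅ R.obj ((Dual.inD A A)⟦n⟧)) (N : Dual.D A) :
    Nonempty ((DRing.LTensorCx B X).obj ((DRing.LBaseChange φ).obj N) ≅ R.obj (N⟦n⟧)) := by
  let V : DRing.Cx A := (unitCx A)⟦n⟧
  have := hasLTensorCx V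
  let eV : Q.obj V ≅ (Dual.inD A A)⟦n⟧ := (Q.commShiftIso n).app (unitCx A) ≪≫
    (CategoryTheory.shiftFunctor _ n).mapIso ((singleFunctorIsoCompQ (ModuleCat.{u} A) 0).symm.app _)
  obtain ⟨e1⟩ := relT φ adj hB X V (e ≪≫ R.mapIso eV.symm) N
  obtain ⟨e2⟩ := lten_unit_shift V n eV N
  exact ⟨e1 ≪≫ R.mapIso e2⟩

end Groth.Agent.LoccohB.RelT
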