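import Groth.Agent.LoccohB.RelAsm285
import Groth.Agent.LoccohB.PCChange
import Groth.Agent.LoccohB.RelT2
import Groth.Agent.LoccohB.ShriekIndep

/-!
# Composition of upper shrieks and of relative dualizing complexes, flat case, any rings

* `shriekVia_comp` : `(B → C)^! (A → B)^! K ≅ (A → C)^! K` for `A → B` flat of finite presentation, any `K`.
* `lten_shriek` : `(K ⊗_A B) ⊗_B ω_{B/A} ≅ (A → B)^! K` for `A → B` flat of finite presentation, any `K`.
* `isRelDualizing_shriekVia` : `ω` is relatively dualizing.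
* `isRelDualizing_comp` : Stacks 0E2H, given uniqueness (0E2D).
-/

set_option autoImplicit false

universe u

open CategoryTheory CategoryTheory.Limits TensorProduct

attribute [local instance] HasDerivedCategory.standard

namespace Groth.Agent.LoccohB.RelComp552

open DerivedCategory Dual2

section Comp

attribute [local instance] MvPolynomial.algebraMvPolynomial

/-- `R_χ ((R_ψ L) ⊗ B[y]) = R_{A[x][y] → C} (L ⊗ A[x][y])`. -/
theorem step (P B C : Type u) [CommRing P] [CommRing B] [CommRing C] [Algebra P B]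
    (hB : DRing.IsPerfect P ((DRing.restrictD (algebraMap P B)).obj (Dual.inD B B)))
    (m : ℕ) (χ : MvPolynomial (Fin m) B →+* C)
    {Rψ : Dual.D P ⥤ Dual.D B} (adj : DRing.restrictD (algebraMap P B) ⊣ Rψ)
    {Rχ : Dual.D (MvPolynomial (Fin m) B) ⥤ Dual.D C} (adjχ : DRing.restrictD χ ⊣ Rχ)
    {F : Dual.D (MvPolynomial (Fin m) P) ⥤ Dual.D C}
    (adjF : DRing.restrictD (χ.comp (algebraMap (MvPolynomial (Fin m) P) (MvPolynomial (Fin m) B))) ⊣ F)
    [DRing.HasLBaseChange (algebraMap P (MvPolynomial (Fin m) P))]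
    [DRing.HasLBaseChange (algebraMap B (MvPolynomial (Fin m) B))] (L : Dual.D P) :
    Nonempty (Rχ.obj ((DRing.LBaseChange (algebraMap B (MvPolynomial (Fin m) B))).obj (Rψ.obj L)) ≅
      F.obj ((DRing.LBaseChange (algebraMap P (MvPolynomial (Fin m) P))).obj L)) := by
  have h : (algebraMap P (MvPolynomial (Fin m) P)).Flat := RingHom.flat_algebraMap_iff.2 inferInstance
  obtain ⟨e⟩ := RelDual285.radj_flat (C := P) (C' := MvPolynomial (Fin m) P) (B := B)
    (B' := MvPolynomial (Fin m) B) hB h adj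
    (RAdj.coextAdj (algebraMap (MvPolynomial (Fin m) P) (MvPolynomial (Fin m) B))) L
  exact ⟨Rχ.mapIso e ≪≫ (RAdj.compIso (RAdj.coextAdj (algebraMap (MvPolynomial (Fin m) P)
    (MvPolynomial (Fin m) B))) adjχ adjF).symm.app _⟩

/-- Composition of upper shrieks, `A → B` flat of finite presentation, any `K`. -/
theorem shriekVia_comp (A B C : Type u) [CommRing A] [CommRing B] [CommRing C] [Algebra A B]
    [Algebra B C] [Algebra A C] [IsScalarTower A B C] [Module.Flat A B]
    [Algebra.FinitePresentation A B] (n : ℕ) (ψ : MvPolynomial (Fin n) A →ₐ[A] B)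
    (hψ : Function.Surjective ψ) [DRing.HasLBaseChange (algebraMap A (MvPolynomial (Fin n) A))]
    (Rψ : Dual.D (MvPolynomial (Fin n) A) ⥤ Dual.D B) (adj : DRing.restrictD ψ.toRingHom ⊣ Rψ)
    (m : ℕ) (χ : MvPolynomial (Fin m) B →ₐ[B] C) (hχ : Function.Surjective χ)
    [DRing.HasLBaseChange (algebraMap B (MvPolynomial (Fin m) B))]
    (Rχ : Dual.D (MvPolynomial (Fin m) B) ⥤ Dual.D C) (adjχ : DRing.restrictD χ.toRingHom ⊣ Rχ)
    (k : ℕ) (θ : MvPolynomial (Fin k) A →ₐ[A] C) (hθ : Function.Surjective θ)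
    [DRing.HasLBaseChange (algebraMap A (MvPolynomial (Fin k) A))]
    (Rθ : Dual.D (MvPolynomial (Fin k) A) ⥤ Dual.D C) (adjθ : DRing.restrictD θ.toRingHom ⊣ Rθ)
    (K : Dual.D A) :
    Nonempty (Dual2.shriekVia k Rθ K ≅ Dual2.shriekVia m Rχ (Dual2.shriekVia n Rψ K)) := by
  let P := MvPolynomial (Fin n) A
  let P' := MvPolynomial (Fin m) P
  let P'' := MvPolynomial (Fin (m + n)) A
  have hB := RelAsm285.isPerfect_of_flat ψ hψ
  let _ : Algebra P B := ψ.toRingHom.toAlgebra
  have := LBC.hasLBaseChange (algebraMap P P')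
  have := LBC.hasLBaseChange (algebraMap A P')
  have := LBC.hasLBaseChange (algebraMap A P'')
  -- the presentation of `C` over `A`
  let σ : P'' ≃ₐ[A] P' := (MvPolynomial.renameEquiv A finSumFinEquiv).symm.trans
    (MvPolynomial.sumAlgEquiv A (Fin m) (Fin n))
  let p₂ : P' →+* C := χ.toRingHom.comp (algebraMap P' (MvPolynomial (Fin m) B))
  let p₁ : P'' →+* C := p₂.comp (σ.toRingEquiv : P'' →+* P')
  have hp₂ : ∀ a : A, p₂ (algebraMap A P' a) = algebraMap A C a := by
    intro a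
    change χ (MvPolynomial.map (algebraMap P B) (MvPolynomial.C (algebraMap A P a))) = _
    rw [MvPolynomial.map_C]
    change χ (algebraMap B (MvPolynomial (Fin m) B) (ψ (algebraMap A P a))) = _
    rw [χ.commutes, ψ.commutes, ← IsScalarTower.algebraMap_apply A B C]
  have hp₁ : ∀ a : A, p₁ (algebraMap A P'' a) = algebraMap A C a := by
    intro a
    change p₂ (σ (algebraMap A P'' a)) = _
    rw [σ.commutes, hp₂]
  let ρ : P'' →ₐ[A] C := { p₁ with commutes' := hp₁ }
  have hρ : Function.Surjective ρ := by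
    change Function.Surjective (χ ∘ (MvPolynomial.map (algebraMap P B)) ∘ σ)
    exact hχ.comp ((MvPolynomial.map_surjective _ hψ).comp σ.surjective)
  obtain ⟨e₁⟩ := ShriekIndep.shriekVia_indep A C k θ hθ Rθ adjθ (m + n) ρ hρ (RAdj.RCoext p₁)
    (RAdj.coextAdj p₁) K
  obtain ⟨e₂⟩ := ShriekIndep.compare (algebraMap A P'') (algebraMap A P') p₁ p₂
    (σ.toRingEquiv : P'' →+* P') (by ext a : 1; exact σ.commutes a) rfl 0
    (GoodEval.isGood_equiv σ.toRingEquiv) (RAdj.coextAdj p₁) (RAdj.coextAdj p₂) K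
  obtain ⟨e₃⟩ := step P B C hB m χ.toRingHom adj adjχ (RAdj.coextAdj p₂)
    ((DRing.LBaseChange (algebraMap A P)).obj K)
  let e₄ := (LBC.lbcComp (algebraMap A P) (algebraMap P P') (algebraMap A P')
    (IsScalarTower.algebraMap_eq A P P')).app K
  let e₅ : (RAdj.RCoext p₁).obj ((DRing.LBaseChange (algebraMap A P'')).obj K) ≅
      Rχ.obj ((DRing.LBaseChange (algebraMap B (MvPolynomial (Fin m) B))).obj
        (Rψ.obj ((DRing.LBaseChange (algebraMap A P)).obj K))) :=
    (shiftFunctorZero _ ℤ).symm.app _ ≪≫ e₂ ≪≫ (RAdj.RCoext p₂).mapIso e₄.symm ≪≫ e₃.symm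
  refine ⟨e₁ ≪≫ (shiftFunctor _ ((m + n : ℕ) : ℤ)).mapIso e₅ ≪≫
    (shiftFunctorAdd' _ (n : ℤ) m ((m + n : ℕ) : ℤ) (by push_cast; ring)).app _ ≪≫
    (shiftFunctor _ (m : ℤ)).mapIso ((RAdj.shiftIso adjχ _ n).symm ≪≫
      Rχ.mapIso (LBC.lbcShiftIso _ _ _).symm)⟩

end Comp

section Lten

variable {A B : Type u} [CommRing A] [CommRing B] [Algebra A B] [Module.Flat A B]
  [Algebra.FinitePresentation A B]

/-- `(K ⊗_A B) ⊗_B ω_{B/A} ≅ (A → B)^! K`. -/
theorem lten_shriek (n : ℕ) (ψ : MvPolynomial (Fin n) A →ₐ[A] B) (hψ : Function.Surjective ψ)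
    [DRing.HasLBaseChange (algebraMap A (MvPolynomial (Fin n) A))]
    (Rψ : Dual.D (MvPolynomial (Fin n) A) ⥤ Dual.D B) (adj : DRing.restrictD ψ.toRingHom ⊣ Rψ)
    (X : DRing.Cx B) [DRing.HasLTensorCx B X] [DRing.HasLBaseChange (algebraMap A B)]
    (e : DRing.toD X ≅ Dual2.shriekVia n Rψ (Dual.inD A A)) (K : Dual.D A) :
    Nonempty ((DRing.LTensorCx B X).obj ((DRing.LBaseChange (algebraMap A B)).obj K) ≅
      Dual2.shriekVia n Rψ K) := by
  have := LBC.hasLBaseChange ψ.toRingHom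
  have e1 : Q.obj X ≅ Rψ.obj ((Dual.inD (MvPolynomial (Fin n) A) (MvPolynomial (Fin n) A))⟦(n : ℤ)⟧) :=
    e ≪≫ RelOmega.omegaIso n Rψ ≪≫ (RAdj.shiftIso adj _ _).symm
  obtain ⟨e2⟩ := RelT.relT_shift ψ.toRingHom adj (RelAsm285.isPerfect_of_flat ψ hψ) X (n : ℤ) e1
    ((DRing.LBaseChange (algebraMap A (MvPolynomial (Fin n) A))).obj K)
  exact ⟨(DRing.LTensorCx B X).mapIso ((LBC.lbcComp (algebraMap A (MvPolynomial (Fin n) A))
    ψ.toRingHom (algebraMap A B) ψ.comp_algebraMap.symm).symm.app K) ≪≫ e2 ≪≫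
    RAdj.shiftIso adj _ _⟩

/-- `ω_{B/A}` is a relative dualizing complex. -/
theorem isRelDualizing_shriekVia (n : ℕ) (ψ : MvPolynomial (Fin n) A →ₐ[A] B)
    (hψ : Function.Surjective ψ) [DRing.HasLBaseChange (algebraMap A (MvPolynomial (Fin n) A))]
    (Rψ : Dual.D (MvPolynomial (Fin n) A) ⥤ Dual.D B) (adj : DRing.restrictD ψ.toRingHom ⊣ Rψ)
    [DRing.HasLBaseChange (Algebra.TensorProduct.includeLeftRingHom : B →+* TensorProduct A B B)]
    (Rμ : Dual.D (TensorProduct A B B) ⥤ Dual.D B)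
    (adjμ : DRing.restrictD (Algebra.TensorProduct.lmul' A (S := B)).toRingHom ⊣ Rμ) :
    Dual2.IsRelDualizing A B Rμ (Dual2.shriekVia n Rψ (Dual.inD A A)) :=
  RelAsm285.isRelDualizing_shriekVia A B n ψ hψ
    (fun φ h K hK => PCChange.isPseudoCoherent'_of_restrictD φ h K hK) Rψ adj Rμ adjμ

end Lten

/-- Stacks 0E2H, for `K`, `L` isomorphic to the standard relative dualizing complexes. -/
theorem isRelDualizing_comp (R A B : Type u) [CommRing R] [CommRing A] [CommRing B] [Algebra R A]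
    [Algebra A B] [Algebra R B] [IsScalarTower R A B] [Module.Flat R A]
    [Algebra.FinitePresentation R A] [Module.Flat A B] [Algebra.FinitePresentation A B]
    (huniq : ∀ {R A : Type u} [CommRing R] [CommRing A] [Algebra R A] [Module.Flat R A]
      [Algebra.FinitePresentation R A]
      [DRing.HasLBaseChange (Algebra.TensorProduct.includeLeftRingHom : A →+* TensorProduct R A A)]
      (Rμ : Dual.D (TensorProduct R A A) ⥤ Dual.D A)
      (_ : DRing.restrictD (Algebra.TensorProduct.lmul' R (S := A)).toRingHom ⊣ Rμ) (K L : Dual.D A),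
      Dual2.IsRelDualizing R A Rμ K → Dual2.IsRelDualizing R A Rμ L → Nonempty (K ≅ L))
    [DRing.HasLBaseChange (Algebra.TensorProduct.includeLeftRingHom : A →+* TensorProduct R A A)]
    (RμA : Dual.D (TensorProduct R A A) ⥤ Dual.D A)
    (adjA : DRing.restrictD (Algebra.TensorProduct.lmul' R (S := A)).toRingHom ⊣ RμA)
    [DRing.HasLBaseChange (Algebra.TensorProduct.includeLeftRingHom : B →+* TensorProduct A B B)]
    (RμBA : Dual.D (TensorProduct A B B) ⥤ Dual.D B)
    (adjBA : DRing.restrictD (Algebra.TensorProduct.lmul' A (S := B)).toRingHom ⊣ RμBA)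
    [DRing.HasLBaseChange (Algebra.TensorProduct.includeLeftRingHom : B →+* TensorProduct R B B)]
    (RμB : Dual.D (TensorProduct R B B) ⥤ Dual.D B)
    (adjB : DRing.restrictD (Algebra.TensorProduct.lmul' R (S := B)).toRingHom ⊣ RμB)
    (K : Dual.D A) (hK : Dual2.IsRelDualizing R A RμA K) (L : DRing.Cx B)
    (hL : Dual2.IsRelDualizing A B RμBA (DRing.toD L)) [DRing.HasLBaseChange (algebraMap A B)]
    [DRing.HasLTensorCx B L] :
    Dual2.IsRelDualizing R B RμB
      ((DRing.LTensorCx B L).obj ((DRing.LBaseChange (algebraMap A B)).obj K)) := by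
  have : Module.Flat R B := Module.Flat.trans R A B
  have : Algebra.FinitePresentation R B := Algebra.FinitePresentation.trans R A B
  obtain ⟨n, ψ, hψ, -⟩ := (inferInstance : Algebra.FinitePresentation R A)
  obtain ⟨m, χ, hχ, -⟩ := (inferInstance : Algebra.FinitePresentation A B)
  obtain ⟨k, θ, hθ, -⟩ := (inferInstance : Algebra.FinitePresentation R B)
  have := LBC.hasLBaseChange (algebraMap R (MvPolynomial (Fin n) R))
  have := LBC.hasLBaseChange (algebraMap A (MvPolynomial (Fin m) A))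
  have := LBC.hasLBaseChange (algebraMap R (MvPolynomial (Fin k) R))
  have h1 := isRelDualizing_shriekVia n ψ hψ _ (RAdj.coextAdj ψ.toRingHom) RμA adjA
  have h2 := isRelDualizing_shriekVia m χ hχ _ (RAdj.coextAdj χ.toRingHom) RμBA adjBA
  have h3 := isRelDualizing_shriekVia k θ hθ _ (RAdj.coextAdj θ.toRingHom) RμB adjB
  obtain ⟨e1⟩ := huniq RμA adjA K _ hK h1
  obtain ⟨e2⟩ := huniq RμBA adjBA (DRing.toD L) _ hL h2
  obtain ⟨e3⟩ := lten_shriek m χ hχ _ (RAdj.coextAdj χ.toRingHom) L e2 K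
  obtain ⟨e4⟩ := shriekVia_comp R A B n ψ hψ _ (RAdj.coextAdj ψ.toRingHom) m χ hχ _
    (RAdj.coextAdj χ.toRingHom) k θ hθ _ (RAdj.coextAdj θ.toRingHom) (Dual.inD R R)
  refine RelDual285.isRelDualizing_of_iso ?_ h3
  exact e4 ≪≫ (shiftFunctor _ (m : ℤ)).mapIso ((RAdj.RCoext χ.toRingHom).mapIso
    ((DRing.LBaseChange (algebraMap A (MvPolynomial (Fin m) A))).mapIso e1.symm)) ≪≫ e3.symm

end Groth.Agent.LoccohB.RelComp552
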