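import Groth.Agent.S1800
import Groth.Agent.LoccohB.ShriekIndep
import Groth.Agent.LoccohB.LBC2
import Groth.Prelude.Def_DualSh

/-!
# `RHom_{A ⊗ A}(A, ω ⊗_A (A ⊗ A)) ≅ A` for `R → A` flat of finite type, `R` Noetherian
-/

set_option autoImplicit false

universe u

open CategoryTheory CategoryTheory.Limits Pretriangulated DerivedCategory
open scoped TensorProduct

attribute [local instance] HasDerivedCategory.standard

namespace Groth.Agent.LoccohB.RelMu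

open Dual2 Divisor

/-- Functoriality of `Rμ` w.r.t. an automorphism `c` of `S` with `μ ∘ c = μ`. -/
theorem radj_lbc_equiv {S A : Type u} [CommRing S] [CommRing A] (c : S ≃+* S) (μ : S →+* A)
    (h : μ.comp (c : S →+* S) = μ) (Rμ : Dual.D S ⥤ Dual.D A) (adjμ : DRing.restrictD μ ⊣ Rμ)
    [DRing.HasLBaseChange (c : S →+* S)] (Z : Dual.D S) :
    Nonempty (Rμ.obj ((DRing.LBaseChange (c : S →+* S)).obj Z) ≅ Rμ.obj Z) := by
  obtain ⟨e⟩ := GoodEval.isGood_equiv c inferInstance (RAdj.RCoext (c : S →+* S)) (RAdj.coextAdj _) Z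
  let adj'' : DRing.restrictD (μ.comp (c : S →+* S)) ⊣ Rμ :=
    adjμ.ofNatIsoLeft (LBC.restrictDCongr _ _ h.symm)
  let e2 : Rμ ≅ RAdj.RCoext (c : S →+* S) ⋙ Rμ := RAdj.compIso (RAdj.coextAdj _) adjμ adj''
  exact ⟨Rμ.mapIso (e.symm ≪≫ (shiftFunctorZero (Dual.D S) ℤ).app _) ≪≫ (e2.app Z).symm⟩

/-- `R_ρ(A[x_1..x_m])[m] ≅ A` for every `A`-algebra map `ρ : A[x_1..x_m] → A`. -/
theorem radj_eval_iso {A : Type u} [CommRing A] (m : ℕ) (ρ : MvPolynomial (Fin m) A →+* A)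
    (hρ : ∀ a, ρ (MvPolynomial.C a) = a)
    (Rρ : Dual.D (MvPolynomial (Fin m) A) ⥤ Dual.D A) (adj : DRing.restrictD ρ ⊣ Rρ) :
    Nonempty ((Rρ.obj (Dual.inD (MvPolynomial (Fin m) A) (MvPolynomial (Fin m) A)))⟦(m : ℤ)⟧ ≅
      Dual.inD A A) := by
  have h : ρ = MvPolynomial.eval (fun i => ρ (MvPolynomial.X i)) := by
    apply MvPolynomial.ringHom_ext
    · intro r
      rw [MvPolynomial.eval_C, hρ]
    · intro i
      rw [MvPolynomial.eval_X]
  have := LBC.hasLBaseChange ρ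
  obtain ⟨e⟩ := (GoodEval.isGood_congr (GoodEval.isGood_mvPolynomial_eval m
    (fun i => ρ (MvPolynomial.X i))) h.symm rfl) inferInstance Rρ adj
      (Dual.inD (MvPolynomial (Fin m) A) (MvPolynomial (Fin m) A))
  exact ⟨e ≪≫ LBC.lbcSelfIso ρ 0⟩

/-- Composition of `Rμ` with a presentation of `S` over `A`. -/
theorem radj_comp_eval {A S : Type u} [CommRing A] [CommRing S] [Algebra A S] (μ : S →+* A)
    (hμ : ∀ a, μ (algebraMap A S a) = a) (Rμ : Dual.D S ⥤ Dual.D A)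
    (adjμ : DRing.restrictD μ ⊣ Rμ) (m : ℕ)
    (ψ : MvPolynomial (Fin m) A →ₐ[A] S) [DRing.HasLBaseChange (algebraMap A (MvPolynomial (Fin m) A))]
    (Rψ : Dual.D (MvPolynomial (Fin m) A) ⥤ Dual.D S) (adj : DRing.restrictD ψ.toRingHom ⊣ Rψ) :
    Nonempty (Rμ.obj (Dual2.shriekVia m Rψ (Dual.inD A A)) ≅ Dual.inD A A) := by
  let ρ : MvPolynomial (Fin m) A →+* A := μ.comp ψ.toRingHom
  let adjρ : DRing.restrictD (μ.comp ψ.toRingHom) ⊣ RAdj.RCoext ρ := RAdj.coextAdj _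
  let e3 : RAdj.RCoext ρ ≅ Rψ ⋙ Rμ := RAdj.compIso adj adjμ adjρ
  obtain ⟨e4⟩ := radj_eval_iso m ρ (fun a => by
    change μ (ψ (MvPolynomial.C a)) = a
    have : ψ (MvPolynomial.C a) = algebraMap A S a := ψ.commutes a
    rw [this, hμ]) (RAdj.RCoext ρ) (RAdj.coextAdj _)
  let PA := MvPolynomial (Fin m) A
  let e5 : (DRing.LBaseChange (algebraMap A PA)).obj (Dual.inD A A) ≅ Dual.inD PA PA :=
    LBC.lbcSelfIso (algebraMap A PA) 0
  obtain ⟨e6⟩ := LBC.radj_shift μ adjμ (Rψ.obj (Dual.inD PA PA)) (m : ℤ)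
  exact ⟨Rμ.mapIso ((shiftFunctor _ (m : ℤ)).mapIso (Rψ.mapIso e5)) ≪≫ e6 ≪≫
    (shiftFunctor _ (m : ℤ)).mapIso (e3.app (Dual.inD PA PA)).symm ≪≫ e4⟩

/-- `shriekVia` is functorial for isomorphisms. -/
noncomputable def shriekViaIso {R A : Type u} [CommRing R] [CommRing A] (n : ℕ)
    [DRing.HasLBaseChange (algebraMap R (MvPolynomial (Fin n) R))]
    (Rψ : Dual.D (MvPolynomial (Fin n) R) ⥤ Dual.D A) {K L : Dual.D R} (e : K ≅ L) :
    Dual2.shriekVia n Rψ K ≅ Dual2.shriekVia n Rψ L :=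
  (shiftFunctor _ (n : ℤ)).mapIso (Rψ.mapIso ((DRing.LBaseChange _).mapIso e))

variable (R A : Type u) [CommRing R] [CommRing A] [IsNoetherianRing R] [IsNoetherianRing A]
    [Algebra R A] [Module.Flat R A] [Algebra.FiniteType R A]

instance isNoetherianRing_tensor : IsNoetherianRing (A ⊗[R] A) :=
  Algebra.FiniteType.isNoetherianRing A (A ⊗[R] A)

omit [IsNoetherianRing R] in
lemma subsingleton_HD_inD (i : ℤ) (hi : i < 0) : Subsingleton (Dual.HD R (Dual.inD R R) i) := by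
  rw [← HomBC.isZero_homology_iff]
  exact DerivedCategory.isZero_of_isGE _ 0 i hi

section Comm

variable (R A : Type u) [CommRing R] [CommRing A] [Algebra R A]

/-- the swap -/
noncomputable def cEq : (A ⊗[R] A) ≃+* (A ⊗[R] A) := (Algebra.TensorProduct.comm R A A).toRingEquiv

lemma cEq_tmul (a b : A) : cEq R A (a ⊗ₜ[R] b) = b ⊗ₜ[R] a :=
  Algebra.TensorProduct.comm_tmul R a b

lemma includeLeft_eq : (Algebra.TensorProduct.includeLeftRingHom : A →+* TensorProduct R A A) =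
    (cEq R A : (A ⊗[R] A) →+* (A ⊗[R] A)).comp
      (Algebra.TensorProduct.includeRight : A →ₐ[R] A ⊗[R] A).toRingHom := by
  ext a : 1
  change a ⊗ₜ[R] 1 = cEq R A (1 ⊗ₜ[R] a)
  rw [cEq_tmul]

lemma lmul_comp_cEq : (Algebra.TensorProduct.lmul' R (S := A)).toRingHom.comp
    (cEq R A : (A ⊗[R] A) →+* (A ⊗[R] A)) = (Algebra.TensorProduct.lmul' R (S := A)).toRingHom := by
  apply RingHom.ext
  intro x
  induction x with
  | zero => rw [map_zero, map_zero]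
  | add x y hx hy => rw [map_add, map_add, hx, hy]
  | tmul a b =>
    change Algebra.TensorProduct.lmul' R (cEq R A (a ⊗ₜ[R] b)) =
        Algebra.TensorProduct.lmul' R (a ⊗ₜ[R] b)
    rw [cEq_tmul, Algebra.TensorProduct.lmul'_apply_tmul,
        Algebra.TensorProduct.lmul'_apply_tmul, mul_comm]

end Comm

theorem rmu_shriek_iso (n : ℕ) (ψ : MvPolynomial (Fin n) R →ₐ[R] A) (hψ : Function.Surjective ψ)
    [DRing.HasLBaseChange (algebraMap R (MvPolynomial (Fin n) R))]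
    (Rψ : Dual.D (MvPolynomial (Fin n) R) ⥤ Dual.D A) (adj : DRing.restrictD ψ.toRingHom ⊣ Rψ)
    [DRing.HasLBaseChange (Algebra.TensorProduct.includeLeftRingHom : A →+* TensorProduct R A A)]
    (Rμ : Dual.D (TensorProduct R A A) ⥤ Dual.D A)
    (adjμ : DRing.restrictD (Algebra.TensorProduct.lmul' R (S := A)).toRingHom ⊣ Rμ) :
    Nonempty (Rμ.obj ((DRing.LBaseChange
      (Algebra.TensorProduct.includeLeftRingHom : A →+* TensorProduct R A A)).obj
        (Dual2.shriekVia n Rψ (Dual.inD R R))) ≅ Dual.inD A A) := by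
  obtain ⟨m, ψ', hψ'⟩ := Algebra.FiniteType.iff_quotient_mvPolynomial''.1
    (inferInstance : Algebra.FiniteType A (A ⊗[R] A))
  have i1 := LBC.hasLBaseChange (Algebra.TensorProduct.includeRight : A →ₐ[R] A ⊗[R] A).toRingHom
  have i2 := LBC.hasLBaseChange (cEq R A : (A ⊗[R] A) →+* (A ⊗[R] A))
  have i3 := LBC.hasLBaseChange (algebraMap A (MvPolynomial (Fin m) A))
  have i4 := LBC.hasLBaseChange (algebraMap R A)
  obtain ⟨e1⟩ := S1800.result R A A n ψ hψ Rψ adj m ψ' hψ' (RAdj.RCoext ψ'.toRingHom)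
    (RAdj.coextAdj _) (Dual.inD R R) 0 (subsingleton_HD_inD R)
  have e0 := (LBC.lbcComp _ (cEq R A : (A ⊗[R] A) →+* (A ⊗[R] A)) _ (includeLeft_eq R A)).app
    (Dual2.shriekVia n Rψ (Dual.inD R R))
  obtain ⟨e2⟩ := radj_lbc_equiv (cEq R A) _ (lmul_comp_cEq R A) Rμ adjμ ((DRing.LBaseChange
    (Algebra.TensorProduct.includeRight : A →ₐ[R] A ⊗[R] A).toRingHom).obj
      (Dual2.shriekVia n Rψ (Dual.inD R R)))
  obtain ⟨e3⟩ := radj_comp_eval (Algebra.TensorProduct.lmul' R (S := A)).toRingHom (fun a => by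
    change Algebra.TensorProduct.lmul' R (a ⊗ₜ[R] 1) = a
    rw [Algebra.TensorProduct.lmul'_apply_tmul, mul_one]) Rμ adjμ m ψ'
    (RAdj.RCoext ψ'.toRingHom) (RAdj.coextAdj _)
  exact ⟨Rμ.mapIso e0.symm ≪≫ e2 ≪≫ Rμ.mapIso (e1 ≪≫ shriekViaIso m _
    (LBC.lbcSelfIso (algebraMap R A) 0)) ≪≫ e3⟩

end Groth.Agent.LoccohB.RelMu
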