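import Groth.Agent.LoccohB.Univ
import Groth.Agent.LoccohB.HomBC2
import Groth.Agent.LoccohB.ShriekIndep
import Mathlib.RingTheory.TensorProduct.MvPolynomial
import Mathlib.RingTheory.RingHom.Flat

/-!
# Flat base change for right adjoints of restriction of scalars

`radj_flat`: `(R_ψ L) ⊗ B' = R_{ψ'} (L ⊗ C')` along a flat pushout square, `C` Noetherian, `B` finite over
`C`, `L` bounded below.
-/

set_option autoImplicit false

universe u

open CategoryTheory CategoryTheory.Limits TensorProduct

attribute [local instance] HasDerivedCategory.standard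

namespace Groth.Agent.LoccohB.ShriekFBC

open DerivedCategory Univ FlatLBC

lemma isGE_of_HD {A : Type u} [CommRing A] (K : Dual.D A) (c : ℤ)
    (hK : ∀ i : ℤ, i < c → Subsingleton (Dual.HD A K i)) : K.IsGE c := by
  rw [isGE_iff]
  intro i hi
  rw [HomBC.isZero_homology_iff]
  exact hK i hi

lemma isGE_lbc {A B : Type u} [CommRing A] [CommRing B] [Algebra A B] (h : (algebraMap A B).Flat)
    [DRing.HasLBaseChange (algebraMap A B)] (K : Dual.D A) (c : ℤ) [K.IsGE c] :
    ((DRing.LBaseChange (algebraMap A B)).obj K).IsGE c := by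
  have := HomBC.isGE_flatBC B h K c
  exact (TStructure.t : Triangulated.TStructure (Dual.D B)).isGE_of_iso
    ((LBaseChangeIso (algebraMap A B) h).symm.app K) c

section Pushout

variable (C C' B B' : Type u) [CommRing C] [CommRing C'] [CommRing B] [CommRing B']
  [Algebra C C'] [Algebra C B] [Algebra C' B'] [Algebra B B'] [Algebra C B']
  [IsScalarTower C C' B'] [IsScalarTower C B B'] [Algebra.IsPushout C C' B B']

include C C' in
lemma flat_of_isPushout (h : (algebraMap C C').Flat) : (algebraMap B B').Flat := by
  have h1 : Module.Flat C C' := RingHom.flat_algebraMap_iff.1 h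
  rw [RingHom.flat_algebraMap_iff]
  have : Algebra.IsPushout C B C' B' := Algebra.IsPushout.symm inferInstance
  exact Module.Flat.of_linearEquiv (Algebra.IsPushout.equiv C B C' B').symm.toLinearEquiv

variable {C C' B B'}

/-- Flat base change for right adjoints of restriction of scalars. -/
theorem radj_flat [IsNoetherianRing C] [Module.Finite C B]
    (h : (algebraMap C C').Flat)
    {R : Dual.D C ⥤ Dual.D B} (adj : DRing.restrictD (algebraMap C B) ⊣ R)
    {R' : Dual.D C' ⥤ Dual.D B'} (adj' : DRing.restrictD (algebraMap C' B') ⊣ R')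
    [DRing.HasLBaseChange (algebraMap C C')] [DRing.HasLBaseChange (algebraMap B B')]
    (L : Dual.D C) (k : ℤ) [L.IsGE k] :
    Nonempty ((DRing.LBaseChange (algebraMap B B')).obj (R.obj L) ≅
      R'.obj ((DRing.LBaseChange (algebraMap C C')).obj L)) := by
  have h' := flat_of_isPushout C C' B B' h
  have hu := IsUniv.flat_of_finite C C' B B' h h' (L := L) (isUniv_counit adj L) k
  exact ⟨(LBaseChangeIso (algebraMap B B') h').app _ ≪≫ hu.isoObj adj' ≪≫
    R'.mapIso ((LBaseChangeIso (algebraMap C C') h).symm.app L)⟩

end Pushout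

section Square

variable {R R' P P' A A' : Type u} [CommRing R] [CommRing R'] [CommRing P] [CommRing P']
  [CommRing A] [CommRing A'] [Algebra R R'] [Algebra R P] [Algebra R P'] [Algebra R A]
  [Algebra R A'] [Algebra R' P'] [Algebra R' A'] [Algebra P P'] [Algebra P A] [Algebra P A']
  [Algebra P' A'] [Algebra A A'] [IsScalarTower R R' P'] [IsScalarTower R P P']
  [IsScalarTower R R' A'] [IsScalarTower R A A'] [IsScalarTower R P A] [IsScalarTower R' P' A']
  [IsScalarTower P P' A'] [IsScalarTower P A A'] [IsScalarTower R P' A']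
  [Algebra.IsPushout R R' P P'] [Algebra.IsPushout R R' A A']

theorem radj_flat₂ [IsNoetherianRing P] [Module.Finite P A]
    (h : (algebraMap R R').Flat) (hP : (algebraMap R P).Flat)
    {F : Dual.D P ⥤ Dual.D A} (adj : DRing.restrictD (algebraMap P A) ⊣ F)
    {F' : Dual.D P' ⥤ Dual.D A'} (adj' : DRing.restrictD (algebraMap P' A') ⊣ F')
    [DRing.HasLBaseChange (algebraMap R P)] [DRing.HasLBaseChange (algebraMap A A')]
    [DRing.HasLBaseChange (algebraMap R R')] [DRing.HasLBaseChange (algebraMap R' P')]
    (K : Dual.D R) (c : ℤ) [K.IsGE c] :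
    Nonempty ((DRing.LBaseChange (algebraMap A A')).obj
        (F.obj ((DRing.LBaseChange (algebraMap R P)).obj K)) ≅
      F'.obj ((DRing.LBaseChange (algebraMap R' P')).obj
        ((DRing.LBaseChange (algebraMap R R')).obj K))) := by
  have hpp : Algebra.IsPushout R P R' P' := Algebra.IsPushout.symm inferInstance
  have haa : Algebra.IsPushout R A R' A' := Algebra.IsPushout.symm inferInstance
  have h1 : Algebra.IsPushout P A P' A' := (Algebra.IsPushout.comp_iff R P R' P').1 haa
  have h2 : Algebra.IsPushout P P' A A' := h1.symm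
  have hPP : (algebraMap P P').Flat := flat_of_isPushout R R' P P' h
  have := LBC.hasLBaseChange (algebraMap P P')
  have := LBC.hasLBaseChange (algebraMap R P')
  have := isGE_lbc hP K c
  obtain ⟨e⟩ := radj_flat hPP adj adj' ((DRing.LBaseChange (algebraMap R P)).obj K) c
  exact ⟨e ≪≫ F'.mapIso ((LBC.lbcComp (algebraMap R P) (algebraMap P P') (algebraMap R P')
    (IsScalarTower.algebraMap_eq R P P')).app K ≪≫
    (LBC.lbcComp (algebraMap R R') (algebraMap R' P') (algebraMap R P')
    (IsScalarTower.algebraMap_eq R R' P')).symm.app K)⟩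

end Square

end Groth.Agent.LoccohB.ShriekFBC
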