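import Groth.Agent.LoccohB.BcPerf
import Groth.Agent.LoccohB.ShriekFBC
import Groth.Agent.LoccohB.RelMu
import Groth.Agent.LoccohB.RelOmega2

/-!
# Flat base change for the upper shriek when `A` is perfect over `P`, any rings

`shriekVia_flat_of_isPerfect`, `rmu_shriek_iso_of_isPerfect`, `isRelDualizing_of_iso`,
`isRelDualizing_of_isPerfect`.
-/

set_option autoImplicit false

universe u

open CategoryTheory CategoryTheory.Limits TensorProduct

attribute [local instance] HasDerivedCategory.standard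

namespace Groth.Agent.LoccohB.RelDual285

open DerivedCategory Univ FlatLBC Dual2

section Pushout

variable {C C' B B' : Type u} [CommRing C] [CommRing C'] [CommRing B] [CommRing B']
  [Algebra C C'] [Algebra C B] [Algebra C' B'] [Algebra B B'] [Algebra C B']
  [IsScalarTower C C' B'] [IsScalarTower C B B'] [Algebra.IsPushout C C' B B']

/-- Flat base change for right adjoints of restriction of scalars, `B` perfect over `C`. -/
theorem radj_flat
    (hB : DRing.IsPerfect C ((DRing.restrictD (algebraMap C B)).obj (Dual.inD B B)))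
    (h : (algebraMap C C').Flat)
    {R : Dual.D C ⥤ Dual.D B} (adj : DRing.restrictD (algebraMap C B) ⊣ R)
    {R' : Dual.D C' ⥤ Dual.D B'} (adj' : DRing.restrictD (algebraMap C' B') ⊣ R')
    [DRing.HasLBaseChange (algebraMap C C')] [DRing.HasLBaseChange (algebraMap B B')]
    (L : Dual.D C) :
    Nonempty ((DRing.LBaseChange (algebraMap B B')).obj (R.obj L) ≅
      R'.obj ((DRing.LBaseChange (algebraMap C C')).obj L)) := by
  have h' := ShriekFBC.flat_of_isPushout C C' B B' h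
  have hu := IsUniv.flat_of_isPerfect C C' B B' h h' hB (L := L) (isUniv_counit adj L)
  exact ⟨(LBaseChangeIso (algebraMap B B') h').app _ ≪≫ hu.isoObj adj' ≪≫
    R'.mapIso ((LBaseChangeIso (algebraMap C C') h).symm.app L)⟩

end Pushout

section Square

variable {R R' P P' A A' : Type u} [CommRing R] [CommRing R'] [CommRing P] [CommRing P']
  [CommRing A] [CommRing A'] [Algebra R R'] [Algebra R P] [Algebra R P'] [Algebra R A]
  [Algebra R A'] [Algebra R' P'] [Algebra R' A'] [Algebra P P'] [Algebra P A] [Algebra P A']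
  [Algebra P' A'] [Algebra A A'] [IsScalarTower R R' P'] [IsScalarTower R P P']
  [IsScalarTower R R' A'] [IsScalarTower R A A'] [IsScalarTower R P A] [IsScalarTower R' P' A']
  [IsScalarTower P P' A'] [IsScalarTower P A A'] [IsScalarTower R P' A']
  [Algebra.IsPushout R R' P P'] [Algebra.IsPushout R R' A A']

theorem radj_flat₂
    (hA : DRing.IsPerfect P ((DRing.restrictD (algebraMap P A)).obj (Dual.inD A A)))
    (h : (algebraMap R R').Flat)
    {F : Dual.D P ⥤ Dual.D A} (adj : DRing.restrictD (algebraMap P A) ⊣ F)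
    {F' : Dual.D P' ⥤ Dual.D A'} (adj' : DRing.restrictD (algebraMap P' A') ⊣ F')
    [DRing.HasLBaseChange (algebraMap R P)] [DRing.HasLBaseChange (algebraMap A A')]
    [DRing.HasLBaseChange (algebraMap R R')] [DRing.HasLBaseChange (algebraMap R' P')]
    (K : Dual.D R) :
    Nonempty ((DRing.LBaseChange (algebraMap A A')).obj
        (F.obj ((DRing.LBaseChange (algebraMap R P)).obj K)) ≅
      F'.obj ((DRing.LBaseChange (algebraMap R' P')).obj
        ((DRing.LBaseChange (algebraMap R R')).obj K))) := by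
  have hpp : Algebra.IsPushout R P R' P' := Algebra.IsPushout.symm inferInstance
  have haa : Algebra.IsPushout R A R' A' := Algebra.IsPushout.symm inferInstance
  have h1 : Algebra.IsPushout P A P' A' := (Algebra.IsPushout.comp_iff R P R' P').1 haa
  have h2 : Algebra.IsPushout P P' A A' := h1.symm
  have hPP : (algebraMap P P').Flat := ShriekFBC.flat_of_isPushout R R' P P' h
  have := LBC.hasLBaseChange (algebraMap P P')
  have := LBC.hasLBaseChange (algebraMap R P')
  obtain ⟨e⟩ := radj_flat hA hPP adj adj' ((DRing.LBaseChange (algebraMap R P)).obj K)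
  exact ⟨e ≪≫ F'.mapIso ((LBC.lbcComp (algebraMap R P) (algebraMap P P') (algebraMap R P')
    (IsScalarTower.algebraMap_eq R P P')).app K ≪≫
    (LBC.lbcComp (algebraMap R R') (algebraMap R' P') (algebraMap R P')
    (IsScalarTower.algebraMap_eq R R' P')).symm.app K)⟩

end Square

attribute [local instance] Algebra.TensorProduct.rightAlgebra in
theorem aux (R R' A : Type u) [CommRing R] [CommRing R'] [CommRing A] [Algebra R R']
    (hflat : (algebraMap R R').Flat) [Algebra R A] (n : ℕ) (ψ : MvPolynomial (Fin n) R →ₐ[R] A)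
    (hA : DRing.IsPerfect (MvPolynomial (Fin n) R)
      ((DRing.restrictD ψ.toRingHom).obj (Dual.inD A A)))
    (hψ : Function.Surjective ψ) [DRing.HasLBaseChange (algebraMap R (MvPolynomial (Fin n) R))]
    (Rψ : Dual.D (MvPolynomial (Fin n) R) ⥤ Dual.D A) (adj : DRing.restrictD ψ.toRingHom ⊣ Rψ)
    [DRing.HasLBaseChange (algebraMap R' (MvPolynomial (Fin n) R'))]
    [DRing.HasLBaseChange (Algebra.TensorProduct.includeRight : A →ₐ[R] R' ⊗[R] A).toRingHom]
    [DRing.HasLBaseChange (algebraMap R R')] (K : Dual.D R) :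
    ∃ (ψ' : MvPolynomial (Fin n) R' →ₐ[R'] (R' ⊗[R] A)) (_ : Function.Surjective ψ'),
    Nonempty ((DRing.LBaseChange (Algebra.TensorProduct.includeRight : A →ₐ[R] R' ⊗[R] A).toRingHom).obj
      (Rψ.obj ((DRing.LBaseChange (algebraMap R (MvPolynomial (Fin n) R))).obj K)) ≅
      (RAdj.RCoext ψ'.toRingHom).obj ((DRing.LBaseChange (algebraMap R' (MvPolynomial (Fin n) R'))).obj
        ((DRing.LBaseChange (algebraMap R R')).obj K))) := by
  let ψ' : MvPolynomial (Fin n) R' →ₐ[R'] (R' ⊗[R] A) :=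
    MvPolynomial.aeval (fun i => (1 : R') ⊗ₜ[R] ψ (MvPolynomial.X i))
  let P := MvPolynomial (Fin n) R
  let P' := MvPolynomial (Fin n) R'
  let _ : Algebra P A := ψ.toRingHom.toAlgebra
  let _ : Algebra P P' := MvPolynomial.algebraMvPolynomial
  let _ : Algebra P' (R' ⊗[R] A) := ψ'.toRingHom.toAlgebra
  let _ : Algebra P (R' ⊗[R] A) := ((algebraMap A (R' ⊗[R] A)).comp ψ.toRingHom).toAlgebra
  have hcomm : ψ'.toRingHom.comp (MvPolynomial.map (algebraMap R R')) =
      (algebraMap A (R' ⊗[R] A)).comp ψ.toRingHom := by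
    apply MvPolynomial.ringHom_ext
    · intro r
      simp only [RingHom.comp_apply, MvPolynomial.map_C]
      change ψ' (algebraMap R' P' (algebraMap R R' r)) = algebraMap A (R' ⊗[R] A) (ψ (algebraMap R P r))
      rw [ψ'.commutes, ψ.commutes, ← IsScalarTower.algebraMap_apply R R' (R' ⊗[R] A),
        ← IsScalarTower.algebraMap_apply R A (R' ⊗[R] A)]
    · intro i
      simp only [RingHom.comp_apply, MvPolynomial.map_X]
      change ψ' (MvPolynomial.X i) = algebraMap A (R' ⊗[R] A) (ψ (MvPolynomial.X i))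
      rw [MvPolynomial.aeval_X]
      rfl
  have t1 : IsScalarTower P P' (R' ⊗[R] A) := IsScalarTower.of_algebraMap_eq' hcomm.symm
  have t2 : IsScalarTower P A (R' ⊗[R] A) := IsScalarTower.of_algebraMap_eq' rfl
  have t3 : IsScalarTower R P A := IsScalarTower.of_algebraMap_eq' ψ.comp_algebraMap.symm
  have t4 : IsScalarTower R' P' (R' ⊗[R] A) := IsScalarTower.of_algebraMap_eq' ψ'.comp_algebraMap.symm
  have t5 : IsScalarTower R P' (R' ⊗[R] A) := IsScalarTower.of_algebraMap_eq fun r => by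
    rw [IsScalarTower.algebraMap_apply R R' P', ← IsScalarTower.algebraMap_apply R' P' (R' ⊗[R] A),
      ← IsScalarTower.algebraMap_apply R R' (R' ⊗[R] A)]
  refine ⟨ψ', ?_, ?_⟩
  · intro x
    induction x using TensorProduct.induction_on with
    | zero => exact ⟨0, map_zero _⟩
    | add x y hx hy =>
      obtain ⟨a, rfl⟩ := hx
      obtain ⟨b, rfl⟩ := hy
      exact ⟨a + b, map_add _ _ _⟩
    | tmul r a =>
      obtain ⟨p, rfl⟩ := hψ a
      refine ⟨algebraMap R' P' r * MvPolynomial.map (algebraMap R R') p, ?_⟩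
      rw [map_mul, ψ'.commutes]
      have h1 : ψ' (MvPolynomial.map (algebraMap R R') p) = (1 : R') ⊗ₜ[R] ψ p :=
        DFunLike.congr_fun hcomm p
      rw [h1]
      change (r ⊗ₜ[R] (1 : A)) * ((1 : R') ⊗ₜ[R] ψ p) = _
      rw [Algebra.TensorProduct.tmul_mul_tmul, mul_one, one_mul]
  · exact radj_flat₂ (R := R) (R' := R') (P := P) (P' := P') (A := A) (A' := R' ⊗[R] A)
      hA hflat adj (RAdj.coextAdj ψ'.toRingHom) K

/-- Flat base change for the upper shriek, for all `K` in `D(R)`, when `A` is perfect over the polynomial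
ring. -/
theorem shriekVia_flat_of_isPerfect (R R' A : Type u) [CommRing R] [CommRing R'] [CommRing A]
    [Algebra R R'] [Module.Flat R R'] [Algebra R A] (n : ℕ)
    (ψ : MvPolynomial (Fin n) R →ₐ[R] A)
    (hA : DRing.IsPerfect (MvPolynomial (Fin n) R)
      ((DRing.restrictD ψ.toRingHom).obj (Dual.inD A A)))
    (hψ : Function.Surjective ψ)
    [DRing.HasLBaseChange (algebraMap R (MvPolynomial (Fin n) R))]
    (Rψ : Dual.D (MvPolynomial (Fin n) R) ⥤ Dual.D A) (adj : DRing.restrictD ψ.toRingHom ⊣ Rψ)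
    (m : ℕ) (ψ' : MvPolynomial (Fin m) R' →ₐ[R'] (R' ⊗[R] A)) (hψ' : Function.Surjective ψ')
    [DRing.HasLBaseChange (algebraMap R' (MvPolynomial (Fin m) R'))]
    (Rψ' : Dual.D (MvPolynomial (Fin m) R') ⥤ Dual.D (R' ⊗[R] A))
    (adj' : DRing.restrictD ψ'.toRingHom ⊣ Rψ')
    [DRing.HasLBaseChange (Algebra.TensorProduct.includeRight : A →ₐ[R] R' ⊗[R] A).toRingHom]
    [DRing.HasLBaseChange (algebraMap R R')] (K : Dual.D R) :
    Nonempty ((DRing.LBaseChange (Algebra.TensorProduct.includeRight : A →ₐ[R] R' ⊗[R] A).toRingHom).obj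
      (Dual2.shriekVia n Rψ K) ≅ Dual2.shriekVia m Rψ' ((DRing.LBaseChange (algebraMap R R')).obj K)) := by
  have := LBC.hasLBaseChange (algebraMap R' (MvPolynomial (Fin n) R'))
  obtain ⟨ψ'', hψ'', ⟨e⟩⟩ := aux R R' A (RingHom.flat_algebraMap_iff.2 inferInstance) n ψ hA hψ Rψ adj K
  obtain ⟨e'⟩ := ShriekIndep.shriekVia_indep R' (R' ⊗[R] A) n ψ'' hψ'' (RAdj.RCoext ψ''.toRingHom)
    (RAdj.coextAdj _) m ψ' hψ' Rψ' adj' ((DRing.LBaseChange (algebraMap R R')).obj K)
  exact ⟨LBC.lbcShiftIso _ _ _ ≪≫ (shiftFunctor _ (n : ℤ)).mapIso e ≪≫ e'⟩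

/-- `RHom_{A ⊗ A}(A, ω ⊗_A (A ⊗ A)) ≅ A` for `R → A` flat, `A` perfect over the polynomial ring. -/
theorem rmu_shriek_iso_of_isPerfect (R A : Type u) [CommRing R] [CommRing A]
    [Algebra R A] [Module.Flat R A] (n : ℕ) (ψ : MvPolynomial (Fin n) R →ₐ[R] A)
    (hA : DRing.IsPerfect (MvPolynomial (Fin n) R)
      ((DRing.restrictD ψ.toRingHom).obj (Dual.inD A A)))
    (hψ : Function.Surjective ψ)
    [DRing.HasLBaseChange (algebraMap R (MvPolynomial (Fin n) R))]
    (Rψ : Dual.D (MvPolynomial (Fin n) R) ⥤ Dual.D A) (adj : DRing.restrictD ψ.toRingHom ⊣ Rψ)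
    [DRing.HasLBaseChange (Algebra.TensorProduct.includeLeftRingHom : A →+* TensorProduct R A A)]
    (Rμ : Dual.D (TensorProduct R A A) ⥤ Dual.D A)
    (adjμ : DRing.restrictD (Algebra.TensorProduct.lmul' R (S := A)).toRingHom ⊣ Rμ) :
    Nonempty (Rμ.obj ((DRing.LBaseChange
      (Algebra.TensorProduct.includeLeftRingHom : A →+* TensorProduct R A A)).obj
        (Dual2.shriekVia n Rψ (Dual.inD R R))) ≅ Dual.inD A A) := by
  have hft : Algebra.FiniteType R A := Algebra.FiniteType.of_surjective ψ hψ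
  obtain ⟨m, ψ', hψ'⟩ := Algebra.FiniteType.iff_quotient_mvPolynomial''.1
    (inferInstance : Algebra.FiniteType A (A ⊗[R] A))
  have i1 := LBC.hasLBaseChange (Algebra.TensorProduct.includeRight : A →ₐ[R] A ⊗[R] A).toRingHom
  have i2 := LBC.hasLBaseChange (RelMu.cEq R A : (A ⊗[R] A) →+* (A ⊗[R] A))
  have i3 := LBC.hasLBaseChange (algebraMap A (MvPolynomial (Fin m) A))
  have i4 := LBC.hasLBaseChange (algebraMap R A)
  obtain ⟨e1⟩ := shriekVia_flat_of_isPerfect R A A n ψ hA hψ Rψ adj m ψ' hψ'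
    (RAdj.RCoext ψ'.toRingHom) (RAdj.coextAdj _) (Dual.inD R R)
  have e0 := (LBC.lbcComp _ (RelMu.cEq R A : (A ⊗[R] A) →+* (A ⊗[R] A)) _
    (RelMu.includeLeft_eq R A)).app (Dual2.shriekVia n Rψ (Dual.inD R R))
  obtain ⟨e2⟩ := RelMu.radj_lbc_equiv (RelMu.cEq R A) _ (RelMu.lmul_comp_cEq R A) Rμ adjμ
    ((DRing.LBaseChange (Algebra.TensorProduct.includeRight : A →ₐ[R] A ⊗[R] A).toRingHom).obj
      (Dual2.shriekVia n Rψ (Dual.inD R R)))
  obtain ⟨e3⟩ := RelMu.radj_comp_eval (Algebra.TensorProduct.lmul' R (S := A)).toRingHom (fun a => by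
    change Algebra.TensorProduct.lmul' R (a ⊗ₜ[R] 1) = a
    rw [Algebra.TensorProduct.lmul'_apply_tmul, mul_one]) Rμ adjμ m ψ'
    (RAdj.RCoext ψ'.toRingHom) (RAdj.coextAdj _)
  exact ⟨Rμ.mapIso e0.symm ≪≫ e2 ≪≫ Rμ.mapIso (e1 ≪≫ RelMu.shriekViaIso m _
    (LBC.lbcSelfIso (algebraMap R A) 0)) ≪≫ e3⟩

/-- Being relative dualizing is invariant under isomorphisms. -/
theorem isRelDualizing_of_iso {R A : Type u} [CommRing R] [CommRing A] [Algebra R A]
    [DRing.HasLBaseChange (Algebra.TensorProduct.includeLeftRingHom : A →+* TensorProduct R A A)]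
    {Rμ : Dual.D (TensorProduct R A A) ⥤ Dual.D A} {K L : Dual.D A} (e : K ≅ L)
    (h : Dual2.IsRelDualizing R A Rμ K) : Dual2.IsRelDualizing R A Rμ L := by
  obtain ⟨⟨h1, h2⟩, ⟨e'⟩⟩ := h
  exact ⟨⟨PerfTri.isPseudoCoherent'_of_iso e h1,
    RelOmega.hasFiniteTorDimCx_of_iso ((DRing.restrictD (algebraMap R A)).mapIso e) h2⟩,
    ⟨Rμ.mapIso ((DRing.LBaseChange _).mapIso e.symm) ≪≫ e'⟩⟩

/-- Being relative dualizing does not depend on the choice of the right adjoint. -/
theorem isRelDualizing_congr {R A : Type u} [CommRing R] [CommRing A] [Algebra R A]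
    [DRing.HasLBaseChange (Algebra.TensorProduct.includeLeftRingHom : A →+* TensorProduct R A A)]
    {Rμ Rμ' : Dual.D (TensorProduct R A A) ⥤ Dual.D A}
    (adjμ : DRing.restrictD (Algebra.TensorProduct.lmul' R (S := A)).toRingHom ⊣ Rμ)
    (adjμ' : DRing.restrictD (Algebra.TensorProduct.lmul' R (S := A)).toRingHom ⊣ Rμ')
    {K : Dual.D A} (h : Dual2.IsRelDualizing R A Rμ K) : Dual2.IsRelDualizing R A Rμ' K := by
  obtain ⟨h1, ⟨e'⟩⟩ := h
  exact ⟨h1, ⟨(Adjunction.rightAdjointUniq adjμ' adjμ).app _ ≪≫ e'⟩⟩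

/-- `ω = φ^!(R)` is relative dualizing when `A` is perfect over the polynomial ring and `ω` is
pseudo-coherent. -/
theorem isRelDualizing_of_isPerfect (R A : Type u) [CommRing R] [CommRing A]
    [Algebra R A] [Module.Flat R A] (n : ℕ) (ψ : MvPolynomial (Fin n) R →ₐ[R] A)
    (hA : DRing.IsPerfect (MvPolynomial (Fin n) R)
      ((DRing.restrictD ψ.toRingHom).obj (Dual.inD A A)))
    (hψ : Function.Surjective ψ)
    [DRing.HasLBaseChange (algebraMap R (MvPolynomial (Fin n) R))]
    (Rψ : Dual.D (MvPolynomial (Fin n) R) ⥤ Dual.D A) (adj : DRing.restrictD ψ.toRingHom ⊣ Rψ)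
    (hω : DRing.IsPseudoCoherent' A (Dual2.shriekVia n Rψ (Dual.inD R R)))
    [DRing.HasLBaseChange (Algebra.TensorProduct.includeLeftRingHom : A →+* TensorProduct R A A)]
    (Rμ : Dual.D (TensorProduct R A A) ⥤ Dual.D A)
    (adjμ : DRing.restrictD (Algebra.TensorProduct.lmul' R (S := A)).toRingHom ⊣ Rμ) :
    Dual2.IsRelDualizing R A Rμ (Dual2.shriekVia n Rψ (Dual.inD R R)) :=
  ⟨⟨hω, RelOmega.hasFiniteTorDimCx_omega n ψ Rψ adj hA⟩,
    rmu_shriek_iso_of_isPerfect R A n ψ hA hψ Rψ adj Rμ adjμ⟩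

end Groth.Agent.LoccohB.RelDual285
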