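import Groth.Agent.LoccohB.CoextDual2
import Groth.Agent.LoccohB.EvPerf
import Groth.Agent.LoccohB.Univ
import Groth.Agent.LoccohB.PerfTri
import Groth.Agent.LoccohB.HomCxHD
import Groth.Agent.Localalg.DGor
import Mathlib.LinearAlgebra.Dual.Lemmas

/-!
# `RHom_P(B, P)` for `B` perfect over `P`: perfectness, endomorphisms and self-extensions

`A → B` any ring map such that `B` is perfect over `A`; `e : ψ_* X ⟶ A` a universal arrow, i.e.
`X = RHom_A(B, A)`.

* `isPerfect_restrictD` : `ψ_* X` is perfect over `A`;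
* `toEnd_bijective` : `B → End_{D(B)}(X)` is bijective;
* `subsingleton_ext` : `Hom(X, X⟦i⟧) = 0` for `i ≠ 0`;
* `map_smul_bijective`, `subsingleton_hom` : the same for `Hom_{D(A)}(ψ_* X, A⟦i⟧)`.
-/

set_option autoImplicit false

universe u

open CategoryTheory Limits CochainComplex.HomComplex DerivedCategory

attribute [local instance] HasDerivedCategory.standard

namespace Groth.Agent.LoccohB.RelF2

open HomCx CoextDual Univ

section Self

variable (A : Type u) [CommRing A]

/-- `Hom(A, A⟦i⟧) = 0` for `i ≠ 0`. -/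
lemma subsingleton_self (i : ℤ) (hi : i ≠ 0) :
    Subsingleton (Dual.inD A A ⟶ (Dual.inD A A)⟦i⟧) := by
  rcases lt_or_gt_of_ne hi with h | h
  · exact Localalg.DGor.subsingleton_hom_neg A A A i h
  · obtain ⟨m, rfl⟩ := Int.eq_ofNat_of_zero_le (show 0 ≤ i by omega)
    rw [Localalg.DGor.subsingleton_hom_iff]
    have hproj : Projective (ModuleCat.of A A) := by infer_instance
    obtain ⟨k, rfl⟩ := Nat.exists_eq_succ_of_ne_zero (n := m) (by omega)
    exact ⟨fun x y => (Abelian.Ext.eq_zero_of_projective x).trans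
      (Abelian.Ext.eq_zero_of_projective y).symm⟩

/-- Transport of `a ↦ a • 𝟙` bijective along an isomorphism. -/
lemma toEnd_bijective_of_iso {X Y : Dual.D A} (e : X ≅ Y)
    (h : Function.Bijective (fun a : A => a • 𝟙 X)) : Function.Bijective (fun a : A => a • 𝟙 Y) := by
  have h2 : (fun a : A => a • 𝟙 Y) = (Linear.homCongr A e e) ∘ (fun a : A => a • 𝟙 X) := by
    ext a
    simp [Linear.homCongr]
  rw [h2]
  exact (Linear.homCongr A e e).bijective.comp h

lemma subsingleton_of_iso {X Y : Dual.D A} (e : X ≅ Y) (i : ℤ)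
    (h : Subsingleton (X ⟶ X⟦i⟧)) : Subsingleton (Y ⟶ Y⟦i⟧) :=
  (Linear.homCongr A e ((shiftFunctor _ i).mapIso e)).toEquiv.subsingleton_congr.1 h

/-- An injective K-injective model of `A[0]`. -/
lemma exists_model_self : ∃ (I : DRing.Cx A) (_ : I.IsKInjective), (∀ n, Injective (I.X n)) ∧
    Nonempty (DRing.toD I ≅ Dual.inD A A) ∧ QuasiIso (ev (S0 A) I) := by
  obtain ⟨I, h1, h2, ⟨e⟩⟩ := RAdj.exists_kinjective_rep A (Dual.inD A A)
  refine ⟨I, h1, h2, ⟨e⟩, ?_⟩
  exact quasiIso_ev_s0 I (toEnd_bijective_of_iso A e.symm (Localalg.DGor.toEnd_bijective A))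
    (fun i hi => subsingleton_of_iso A e.symm i (subsingleton_self A i hi))

/-- `Q(A[0]) ≅ A` in the derived category. -/
noncomputable def s0QIso : Q.obj (S0 A) ≅ Dual.inD A A :=
  ((singleFunctorIsoCompQ (ModuleCat.{u} A) 0).app (ModuleCat.of A A)).symm

end Self

section Perf

variable {A : Type u} [CommRing A]

/-- For `E` K-projective, `Hom•(E, -)` preserves quasi-isomorphisms. -/
lemma quasiIso_homCxMap (E : DRing.Cx A) [E.IsKProjective] {L L' : DRing.Cx A} (f : L ⟶ L')
    [QuasiIso f] : QuasiIso (DRing.homCxMap E f) := by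
  rw [quasiIso_iff]
  intro n
  rw [quasiIsoAt_iff_isIso_homologyMap, ConcreteCategory.isIso_iff_bijective]
  have h1 : IsIso (Q.map f) := inferInstance
  let e1 := HomCxHD.homologyEquiv E L n (HomCxHD.computes_of_isKProjective E L)
  let e2 := HomCxHD.homologyEquiv E L' n (HomCxHD.computes_of_isKProjective E L')
  have h2 : Function.Bijective (fun g : Q.obj E ⟶ (Q.obj L)⟦n⟧ => g ≫ (Q.map f)⟦n⟧') := by
    constructor
    · intro x y hxy
      exact (cancel_mono ((Q.map f)⟦n⟧')).1 hxy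
    · intro y
      exact ⟨y ≫ inv ((Q.map f)⟦n⟧'), by simp⟩
  have h3 : (fun y => e2 ((HomologicalComplex.homologyMap (DRing.homCxMap E f) n).hom y)) =
      (fun g : Q.obj E ⟶ (Q.obj L)⟦n⟧ => g ≫ (Q.map f)⟦n⟧') ∘ e1 := by
    funext y
    exact HomCxHD.homologyEquiv_post f n _ _ y
  have h4 : Function.Bijective
      (fun y => e2 ((HomologicalComplex.homologyMap (DRing.homCxMap E f) n).hom y)) := by
    rw [h3]
    exact h2.comp e1.bijective
  exact (Function.Bijective.of_comp_iff' e2.bijective _).1 h4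

/-- `Hom•(E, A)^n = Hom_A(E^{-n}, A)`. -/
noncomputable def homCxS0Equiv (E : DRing.Cx A) (n : ℤ) :
    (DRing.homCx E (S0 A)).X n ≃ₗ[A] Module.Dual A (E.X (-n)) := by
  let f : (DRing.homCx E (S0 A)).X n →ₗ[A] Module.Dual A (E.X (-n)) :=
    { toFun := fun (z : Cochain E (S0 A) n) => (z.v (-n) 0 (by lia) ≫ (s0Iso A).hom).hom
      map_add' := fun (z z' : Cochain E (S0 A) n) => by
        change ((z.v (-n) 0 (by lia) + z'.v (-n) 0 (by lia)) ≫ (s0Iso A).hom).hom = _
        rw [Preadditive.add_comp]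
        rfl
      map_smul' := fun a (z : Cochain E (S0 A) n) => by
        change ((a • z.v (-n) 0 (by lia)) ≫ (s0Iso A).hom).hom = _
        rw [Linear.smul_comp]
        rfl }
  refine LinearEquiv.ofBijective f ⟨?_, ?_⟩
  · intro z z' h
    refine Cochain.ext (asCochain z) (asCochain z') fun p q hpq => ?_
    by_cases hp : q = 0
    · obtain rfl : p = -n := by lia
      subst hp
      have h1 : ((asCochain z).v (-n) 0 hpq ≫ (s0Iso A).hom).hom =
        ((asCochain z').v (-n) 0 hpq ≫ (s0Iso A).hom).hom := h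
      have h2 := ModuleCat.hom_ext h1
      exact (cancel_mono _).1 h2
    · exact (isZero_S0_X q hp).eq_of_tgt _ _
  · intro g
    let g' : E.X (-n) ⟶ (S0 A).X 0 := ModuleCat.ofHom (Y := ModuleCat.of A A) g ≫ (s0Iso A).inv
    refine ⟨(Cochain.single g' n : Cochain E (S0 A) n), ?_⟩
    change ((Cochain.single g' n : Cochain E (S0 A) n).v (-n) 0 (by lia) ≫ (s0Iso A).hom).hom = g
    rw [Cochain.single_v]
    simp [g']

lemma isPerfect_homCx_s0 (E : DRing.Cx A) (a b : ℤ) (hE : DRing.VanishesOutside E a b)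
    (hE' : DRing.TermwiseFiniteProjective E) : DRing.IsPerfect A (DRing.toD (DRing.homCx E (S0 A))) := by
  refine ⟨DRing.homCx E (S0 A), -b, -a, ?_, ?_, ⟨Iso.refl _⟩⟩
  · intro i hi
    have h1 : IsZero (E.X (-i)) := hE (-i) (by lia)
    have h2 : Subsingleton (E.X (-i)) := ModuleCat.subsingleton_of_isZero h1
    have h3 : Subsingleton ((DRing.homCx E (S0 A)).X i) :=
      (homCxS0Equiv E i).toEquiv.subsingleton_congr.2 inferInstance
    exact ModuleCat.isZero_of_subsingleton _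
  · intro i
    obtain ⟨h1, h2⟩ := hE' (-i)
    exact ⟨Module.Finite.equiv (homCxS0Equiv E i).symm,
      Module.Projective.of_equiv (homCxS0Equiv E i).symm⟩

/-- The dual of a perfect complex is perfect. -/
theorem isPerfect_homCx (K I : DRing.Cx A) [I.IsKInjective] (hK : DRing.IsPerfect A (DRing.toD K))
    (e : DRing.toD I ≅ Dual.inD A A) : DRing.IsPerfect A (DRing.toD (DRing.homCx K I)) := by
  obtain ⟨E, a, b, hE, hE', ⟨e'⟩⟩ := hK
  obtain ⟨X, s, hs, g, hg⟩ := DerivedCategory.right_fac e'.hom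
  have h1 : QuasiIso s := (DerivedCategory.isIso_Q_map_iff_quasiIso _ s).1 hs
  have h2 : QuasiIso g := by
    rw [← DerivedCategory.isIso_Q_map_iff_quasiIso]
    have : DerivedCategory.Q.map g = DerivedCategory.Q.map s ≫ e'.hom := by
      rw [hg, IsIso.hom_inv_id_assoc]
    rw [this]
    infer_instance
  have h3 := quasiIso_homCxPre s I
  have h4 := quasiIso_homCxPre g I
  have h5 : DRing.toD (DRing.homCx K I) ≅ DRing.toD (DRing.homCx E I) :=
    asIso (Q.map (homCxPre g I)) ≪≫ (asIso (Q.map (homCxPre s I))).symm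
  have h6 : E.IsKProjective := PerfTri.isKProjective_of_vanishesAbove (b := b)
    (fun i hi => hE i (Or.inr hi)) (fun i => (hE' i).2)
  obtain ⟨f, hf⟩ := exists_Q_map_eq ((s0QIso A).hom ≫ e.inv)
  have h7 : QuasiIso f := by
    rw [← DerivedCategory.isIso_Q_map_iff_quasiIso, hf]
    infer_instance
  have h8 := quasiIso_homCxMap E f
  have h9 : DRing.toD (DRing.homCx E (S0 A)) ≅ DRing.toD (DRing.homCx E I) :=
    asIso (Q.map (DRing.homCxMap E f))
  exact PerfTri.isPerfect_of_iso (h9 ≪≫ h5.symm) (isPerfect_homCx_s0 E a b hE hE')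

end Perf

section Main

variable {A B : Type u} [CommRing A] [CommRing B] [Algebra A B]

/-- `Q(B[0]) ≅ ψ_*(B[0])`. -/
noncomputable def sbQIso : Q.obj (SB A B) ≅ (DRing.restrictD (algebraMap A B)).obj (Dual.inD B B) :=
  ((singleFunctorIsoCompQ (ModuleCat.{u} A) 0).app _).symm ≪≫
    (RAdjFin.restrictDSingle (algebraMap A B) 0 (ModuleCat.of B B)).symm

variable (hB : DRing.IsPerfect A ((DRing.restrictD (algebraMap A B)).obj (Dual.inD B B)))
  {X : Dual.D B} {e : (DRing.restrictD (algebraMap A B)).obj X ⟶ Dual.inD A A}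
  (he : IsUniv (algebraMap A B) e)

include hB

lemma exists_model : ∃ (I : DRing.Cx A) (_ : I.IsKInjective), (∀ n, Injective (I.X n)) ∧
    Nonempty (DRing.toD I ≅ Dual.inD A A) ∧ QuasiIso (ev (SB A B) I) := by
  obtain ⟨I, h1, h2, h3, h4⟩ := exists_model_self A
  exact ⟨I, h1, h2, h3, quasiIso_ev_of_perfect I h2 h4 (SB A B)
    (PerfTri.isPerfect_of_iso sbQIso.symm hB)⟩

include he

lemma exists_model_iso : ∃ (I : DRing.Cx A) (_ : I.IsKInjective),
    Nonempty (DRing.toD I ≅ Dual.inD A A) ∧ QuasiIso (ev (SB A B) I) ∧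
    Nonempty (X ≅ (RAdj.RCoext (algebraMap A B)).obj (Q.obj I)) := by
  obtain ⟨I, h1, h2, ⟨h3⟩, h4⟩ := exists_model hB
  exact ⟨I, h1, ⟨h3⟩, h4, ⟨he.isoObj (RAdj.coextAdj (algebraMap A B)) ≪≫
    (RAdj.RCoext (algebraMap A B)).mapIso h3.symm⟩⟩

/-- `ψ_* RHom_A(B, A)` is perfect when `B` is perfect over `A`. -/
theorem isPerfect_restrictD : DRing.IsPerfect A ((DRing.restrictD (algebraMap A B)).obj X) := by
  obtain ⟨I, h1, ⟨h3⟩, h4, ⟨e1⟩⟩ := exists_model_iso hB he
  have h5 : (DRing.restrictD (algebraMap A B)).obj X ≅ DRing.toD (DRing.homCx (SB A B) I) :=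
    (DRing.restrictD (algebraMap A B)).mapIso e1 ≪≫ tau (RAdj.coextAdj (algebraMap A B)) I ≪≫
      (asIso (Q.map (theta B I))).symm
  exact PerfTri.isPerfect_of_iso h5.symm
    (isPerfect_homCx (SB A B) I (PerfTri.isPerfect_of_iso sbQIso.symm hB) h3)

/-- **(F2)** `B → End_{D(B)}(RHom_A(B, A))` is bijective when `B` is perfect over `A`. -/
theorem toEnd_bijective : Function.Bijective (fun b : B => b • 𝟙 X) := by
  obtain ⟨I, h1, -, h4, ⟨e1⟩⟩ := exists_model_iso hB he
  exact toEnd_bijective_of_iso B e1.symm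
    (CoextDual.toEnd_bijective (RAdj.coextAdj (algebraMap A B)) h4)

/-- **(F2)** `Hom(RHom_A(B, A), RHom_A(B, A)⟦i⟧) = 0` for `i ≠ 0` when `B` is perfect over `A`. -/
theorem subsingleton_ext (i : ℤ) (hi : i ≠ 0) : Subsingleton (X ⟶ X⟦i⟧) := by
  obtain ⟨I, h1, -, h4, ⟨e1⟩⟩ := exists_model_iso hB he
  exact subsingleton_of_iso B e1.symm i
    (CoextDual.subsingleton_ext (RAdj.coextAdj (algebraMap A B)) h4 i hi)

/-- `b ↦ ψ_*(b • 𝟙) ≫ e` is bijective from `B` onto `Hom_{D(A)}(ψ_* X, A)`. -/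
theorem map_smul_bijective :
    Function.Bijective (fun b : B => (DRing.restrictD (algebraMap A B)).map (b • 𝟙 X) ≫ e) :=
  (he X).comp (toEnd_bijective hB he)

/-- `Hom_{D(A)}(ψ_* X, A⟦i⟧) = 0` for `i ≠ 0`. -/
theorem subsingleton_hom (i : ℤ) (hi : i ≠ 0) :
    Subsingleton ((DRing.restrictD (algebraMap A B)).obj X ⟶ (Dual.inD A A)⟦i⟧) := by
  have h1 := subsingleton_ext hB he i hi
  exact (Equiv.ofBijective _ (he.shift i X)).subsingleton_congr.1 h1

end Main

end Groth.Agent.LoccohB.RelF2
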