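import Groth.Agent.LoccohB.PerfDual
import Groth.Agent.LoccohB.CoextDual2
import Groth.Agent.LoccohB.EvPerf
import Groth.Agent.LoccohB.FinInj

/-!
# `R_ψ(P)` for `A` perfect over `P`

`isPerfect_restrictD_radj`, `toEnd_bijective`, `subsingleton_ext` (no Noetherian hypothesis).
-/

set_option autoImplicit false

universe u

open CategoryTheory CategoryTheory.Limits Pretriangulated CochainComplex CochainComplex.HomComplex

attribute [local instance] HasDerivedCategory.standard

namespace Groth.Agent.LoccohB.RelOmega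

open HomCx

section Self

variable (A : Type u) [CommRing A]

/-- `A[0]` in the derived category. -/
noncomputable def inDIso : Dual.inD A A ≅ DRing.toD (S0 A) :=
  (DerivedCategory.singleFunctorIsoCompQ (ModuleCat.{u} A) 0).app (ModuleCat.of A A)

lemma end_inD_bijective : Function.Bijective (fun a : A => a • 𝟙 (Dual.inD A A)) := by
  have h1 : Function.Bijective (fun a : A => a • 𝟙 (ModuleCat.of A A)) := by
    constructor
    · intro a b h
      have := congrArg (fun f : ModuleCat.of A A ⟶ ModuleCat.of A A => f.hom (1 : A)) h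
      have h' : a • (1 : A) = b • (1 : A) := this
      simpa using h'
    · intro f
      refine ⟨f.hom (1 : A), ?_⟩
      apply ModuleCat.hom_ext
      apply LinearMap.ext_ring
      change f.hom (1 : A) • (1 : A) = f.hom (1 : A)
      rw [smul_eq_mul, mul_one]
  have h2 : Function.Bijective (fun f : ModuleCat.of A A ⟶ ModuleCat.of A A =>
      (DerivedCategory.singleFunctor (ModuleCat.{u} A) 0).map f) :=
    (Functor.FullyFaithful.ofFullyFaithful
      (DerivedCategory.singleFunctor (ModuleCat.{u} A) 0)).homEquiv.bijective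
  convert h2.comp h1 using 1
  ext a
  rw [Function.comp_apply, Functor.map_smul, CategoryTheory.Functor.map_id]

lemma subsingleton_hom_inD (i : ℤ) (hi : i ≠ 0) :
    Subsingleton (Dual.inD A A ⟶ (Dual.inD A A)⟦i⟧) := by
  have h1 : Subsingleton (Dual.HD A (Dual.inD A A) i) := by
    have : IsZero ((DerivedCategory.homologyFunctor (ModuleCat.{u} A) i).obj (Dual.inD A A)) := by
      rcases lt_or_gt_of_ne hi with h | h
      · exact DerivedCategory.isZero_of_isGE _ 0 i h
      · exact DerivedCategory.isZero_of_isLE _ 0 i h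
    exact ModuleCat.subsingleton_of_isZero this
  exact (FinInj.homInDSelfEquiv (Dual.inD A A) i).toEquiv.subsingleton

variable {A}

lemma end_bijective_of_iso {K L : Dual.D A} (e : K ≅ L)
    (h : Function.Bijective (fun a : A => a • 𝟙 K)) : Function.Bijective (fun a : A => a • 𝟙 L) := by
  have h1 : (fun a : A => a • 𝟙 L) = (e.homCongr e) ∘ (fun a : A => a • 𝟙 K) := by
    ext a
    simp [Iso.homCongr]
  rw [h1]
  exact (Equiv.bijective _).comp h

lemma subsingleton_of_iso {K L : Dual.D A} (e : K ≅ L) (i : ℤ) (h : Subsingleton (K ⟶ K⟦i⟧)) :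
    Subsingleton (L ⟶ L⟦i⟧) :=
  (e.homCongr ((CategoryTheory.shiftFunctor _ i).mapIso e)).symm.subsingleton

end Self

section

variable {P A : Type u} [CommRing P] [CommRing A] [Algebra P A]

/-- the complex `A[0]` over `P` -/
noncomputable def sbIso : DRing.toD (CoextDual.SB P A) ≅
    (DRing.restrictD (algebraMap P A)).obj (Dual.inD A A) :=
  ((DerivedCategory.singleFunctorIsoCompQ (ModuleCat.{u} P) 0).app (CoextDual.RB P A)).symm ≪≫
    (((ModuleCat.restrictScalars.{u} (algebraMap P A)).mapDerivedCategorySingleFunctor 0).app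
      (ModuleCat.of A A)).symm

/-- `Q I ≅ P[0]`, `I` K-injective with injective terms. -/
lemma exists_model (P : Type u) [CommRing P] : ∃ (I : DRing.Cx P) (s : S0 P ⟶ I),
    I.IsKInjective ∧ (∀ n, Injective (I.X n)) ∧ QuasiIso s ∧ QuasiIso (ev (S0 P) I) := by
  obtain ⟨I, s, h1, h2, -, h4⟩ := RAdj.exists_kinjective P (S0 P)
  let e : Dual.inD P P ≅ DRing.toD I := inDIso P ≪≫ asIso (DerivedCategory.Q.map s)
  exact ⟨I, s, h1, h4, h2, quasiIso_ev_s0 I (end_bijective_of_iso e (end_inD_bijective P))
    (fun i hi => subsingleton_of_iso e i (subsingleton_hom_inD P i hi))⟩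

variable {R : Dual.D P ⥤ Dual.D A} (adj : DRing.restrictD (algebraMap P A) ⊣ R)
  (hA : DRing.IsPerfect P ((DRing.restrictD (algebraMap P A)).obj (Dual.inD A A)))

include adj hA

/-- `ψ_* R_ψ(P)` is perfect over `P`. -/
theorem isPerfect_restrictD_radj : DRing.IsPerfect P
    ((DRing.restrictD (algebraMap P A)).obj (R.obj (Dual.inD P P))) := by
  obtain ⟨I, s, h1, h2, h3, h4⟩ := exists_model P
  let e : Dual.inD P P ≅ DRing.toD I := inDIso P ≪≫ asIso (DerivedCategory.Q.map s)
  have h5 := PerfDual.isPerfect_homCx s (CoextDual.SB P A) (PerfTri.isPerfect_of_iso sbIso.symm hA)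
  refine PerfTri.isPerfect_of_iso ?_ h5
  exact asIso (DerivedCategory.Q.map (CoextDual.theta A I)) ≪≫ (CoextDual.tau adj I).symm ≪≫
    (DRing.restrictD (algebraMap P A)).mapIso (R.mapIso e.symm)

/-- `A → End(R_ψ(P))` is bijective. -/
theorem toEnd_bijective : Function.Bijective (fun a : A => a • 𝟙 (R.obj (Dual.inD P P))) := by
  obtain ⟨I, s, h1, h2, h3, h4⟩ := exists_model P
  let e : Dual.inD P P ≅ DRing.toD I := inDIso P ≪≫ asIso (DerivedCategory.Q.map s)
  have h5 := quasiIso_ev_of_perfect I h2 h4 (CoextDual.SB P A)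
    (PerfTri.isPerfect_of_iso sbIso.symm hA)
  exact end_bijective_of_iso (R.mapIso e.symm) (CoextDual.toEnd_bijective adj h5)

/-- `Hom(R_ψ(P), R_ψ(P)[i]) = 0` for `i ≠ 0`. -/
theorem subsingleton_ext (i : ℤ) (hi : i ≠ 0) :
    Subsingleton (R.obj (Dual.inD P P) ⟶ (R.obj (Dual.inD P P))⟦i⟧) := by
  obtain ⟨I, s, h1, h2, h3, h4⟩ := exists_model P
  let e : Dual.inD P P ≅ DRing.toD I := inDIso P ≪≫ asIso (DerivedCategory.Q.map s)
  have h5 := quasiIso_ev_of_perfect I h2 h4 (CoextDual.SB P A)
    (PerfTri.isPerfect_of_iso sbIso.symm hA)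
  exact subsingleton_of_iso (R.mapIso e.symm) i (CoextDual.subsingleton_ext adj h5 i hi)

end

end Groth.Agent.LoccohB.RelOmega
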