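import Groth.Agent.LoccohB.LTen
import Groth.Agent.LoccohB.HomCxHD
import Mathlib.Algebra.Homology.HomotopyCategory.HomComplexSingle
import Mathlib.Data.Int.Interval

/-!
# The map `N ⊗ Hom(F, J) ⟶ Hom(F, N ⊗ J)`

* `theta N F J`, natural in all variables; an isomorphism for `F` bounded with finite projective terms.
* `quasiIso_homCxMap`: `Hom(F, -)` preserves quasi-isomorphisms for `F` K-projective.
-/

set_option autoImplicit false

universe u

open CategoryTheory Limits MonoidalCategory CochainComplex CochainComplex.HomComplex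

attribute [local instance] HasDerivedCategory.standard

namespace Groth.Agent.LoccohB.ThetaHom

open TenCx DerivedCategory LTen

variable {A : Type u} [CommRing A]

/-- `x ⊗ g ↦ (y ↦ x ⊗ g y)` -/
noncomputable def thetaBil (N F J : DRing.Cx A) (p m n : ℤ) (h : p + m = n) :
    N.X p →ₗ[A] Cochain F J m →ₗ[A] Cochain F (N ⊗ J : DRing.Cx A) n :=
  LinearMap.mk₂ A (fun x g => mkC F (N ⊗ J : DRing.Cx A) n fun q r hqr =>
      (tmk N J p (m + q) r (by omega) x) ∘ₗ evC F J m q (m + q) rfl g)
    (fun x x' g => ext_evC fun q r hqr y => by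
      rw [evC_mkC, map_add (evC F (N ⊗ J : DRing.Cx A) n q r hqr), LinearMap.add_apply, evC_mkC,
        evC_mkC]
      simp only [map_add, LinearMap.comp_apply, LinearMap.add_apply])
    (fun a x g => ext_evC fun q r hqr y => by
      rw [evC_mkC, map_smul (evC F (N ⊗ J : DRing.Cx A) n q r hqr), LinearMap.smul_apply, evC_mkC]
      simp only [map_smul, LinearMap.comp_apply, LinearMap.smul_apply])
    (fun x g g' => ext_evC fun q r hqr y => by
      rw [evC_mkC, map_add (evC F (N ⊗ J : DRing.Cx A) n q r hqr), LinearMap.add_apply, evC_mkC,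
        evC_mkC]
      simp only [map_add, LinearMap.comp_apply, LinearMap.add_apply])
    (fun a x g => ext_evC fun q r hqr y => by
      rw [evC_mkC, map_smul (evC F (N ⊗ J : DRing.Cx A) n q r hqr), LinearMap.smul_apply, evC_mkC]
      simp only [map_smul, LinearMap.comp_apply, LinearMap.smul_apply])

lemma evC_thetaBil (N F J : DRing.Cx A) (p m n : ℤ) (h : p + m = n) (x : N.X p)
    (g : Cochain F J m) (q r s : ℤ) (hqr : n + q = r) (hs : m + q = s) (y : F.X q) :
    evC F (N ⊗ J : DRing.Cx A) n q r hqr (thetaBil N F J p m n h x g) y =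
      tmk N J p s r (by omega) x (evC F J m q s hs g y) := by
  subst hs
  exact evC_mkC F (N ⊗ J : DRing.Cx A) n _ q r hqr y

lemma thetaBil_δ (N F J : DRing.Cx A) (p m n : ℤ) (h : p + m = n) (x : N.X p)
    (g : Cochain F J m) :
    δ n (n + 1) (thetaBil N F J p m n h x g) =
      thetaBil N F J (p + 1) m (n + 1) (by omega) ((N.d p (p + 1)).hom x) g +
      p.negOnePow • thetaBil N F J p (m + 1) (n + 1) (by omega) x (δ m (m + 1) g) := by
  refine ext_evC fun q r hqr y => ?_
  obtain ⟨r, rfl⟩ : ∃ r', r = r' + 1 := ⟨r - 1, by omega⟩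
  rw [evC_δ F (N ⊗ J : DRing.Cx A) n q r (by omega), map_add, LinearMap.add_apply,
    evC_thetaBil N F J p m n h x g q r (m + q) (by omega) rfl,
    evC_thetaBil N F J p m n h x g (q + 1) (r + 1) (m + q + 1) (by omega) (by omega),
    evC_thetaBil N F J (p + 1) m (n + 1) (by omega) _ g q (r + 1) (m + q) (by omega) rfl,
    d_tmk N J p (m + q) r (by omega), add_sub_assoc]
  congr 1
  rw [Units.smul_def, Units.smul_def, Units.smul_def, map_zsmul, LinearMap.smul_apply,
    evC_thetaBil N F J p (m + 1) (n + 1) (by omega) x _ q (r + 1) (m + q + 1) (by omega)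
      (by omega)]
  have e := evC_δ F J m q (m + q) rfl g y
  have e' : evC F J (m + 1) q (m + q + 1) (by omega) (δ m (m + 1) g) y =
    (J.d (m + q) (m + q + 1)).hom (evC F J m q (m + q) rfl g y) -
      m.negOnePow • evC F J m (q + 1) (m + q + 1) (by omega) g ((F.d q (q + 1)).hom y) := e
  rw [e', map_sub, smul_sub]
  congr 1
  have e3 : n.negOnePow = p.negOnePow * m.negOnePow := by rw [← h, Int.negOnePow_add]
  rw [Units.smul_def, map_zsmul, smul_smul, e3, Units.val_mul]

/-- The natural map `N ⊗ Hom(F, J) ⟶ Hom(F, N ⊗ J)`, `x ⊗ g ↦ (y ↦ x ⊗ g y)`. -/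
noncomputable def theta (N F J : DRing.Cx A) :
    (N ⊗ DRing.homCx F J : DRing.Cx A) ⟶ DRing.homCx F (N ⊗ J : DRing.Cx A) :=
  homMk (E := DRing.homCx F J) (L := DRing.homCx F (N ⊗ J : DRing.Cx A))
    (fun p m n h => thetaBil N F J p m n h) (fun p m n h x g => thetaBil_δ N F J p m n h x g)

lemma theta_tmk (N F J : DRing.Cx A) (p m n : ℤ) (h : p + m = n) (x : N.X p)
    (g : (DRing.homCx F J).X m) :
    ((theta N F J).f n).hom (tmk N (DRing.homCx F J) p m n h x g) =
      thetaBil N F J p m n h x g :=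
  homMk_tmk (E := DRing.homCx F J) (L := DRing.homCx F (N ⊗ J : DRing.Cx A)) _ _ p m n h x g

lemma thetaBil_comp_ofHom (N F : DRing.Cx A) {J J' : DRing.Cx A} (f : J ⟶ J') (p m n : ℤ)
    (h : p + m = n) (x : N.X p) (g : Cochain F J m) :
    (thetaBil N F J p m n h x g).comp (Cochain.ofHom (N ◁ f)) (add_zero n) =
      thetaBil N F J' p m n h x (g.comp (Cochain.ofHom f) (add_zero m)) := by
  refine ext_evC fun q r hqr y => ?_
  rw [evC_comp_ofHom, evC_thetaBil N F J p m n h x g q r (m + q) (by omega) rfl,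
    evC_thetaBil N F J' p m n h x _ q r (m + q) (by omega) rfl, evC_comp_ofHom,
    whiskerLeft_tmk]

lemma evC_ofHom_comp {F F' J : DRing.Cx A} (f : F ⟶ F') (m q s : ℤ) (h : m + q = s)
    (g : Cochain F' J m) (y : F.X q) :
    evC F J m q s h ((Cochain.ofHom f).comp g (zero_add m)) y =
      evC F' J m q s h g ((f.f q).hom y) := by
  change (((Cochain.ofHom f).comp g (zero_add m)).v q s (by omega)).hom y = _
  rw [Cochain.comp_v _ _ (zero_add m) q q s (by omega) (by omega), Cochain.ofHom_v]
  rfl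

lemma thetaBil_ofHom_comp (N : DRing.Cx A) {F F' : DRing.Cx A} (f : F ⟶ F') (J : DRing.Cx A)
    (p m n : ℤ) (h : p + m = n) (x : N.X p) (g : Cochain F' J m) :
    (Cochain.ofHom f).comp (thetaBil N F' J p m n h x g) (zero_add n) =
      thetaBil N F J p m n h x ((Cochain.ofHom f).comp g (zero_add m)) := by
  refine ext_evC fun q r hqr y => ?_
  rw [evC_ofHom_comp, evC_thetaBil N F' J p m n h x g q r (m + q) (by omega) rfl,
    evC_thetaBil N F J p m n h x _ q r (m + q) (by omega) rfl, evC_ofHom_comp]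

/-- naturality in `F`. -/
lemma theta_pre (N : DRing.Cx A) {F F' : DRing.Cx A} (f : F ⟶ F') (J : DRing.Cx A) :
    theta N F' J ≫ HomCx.homCxPre f (N ⊗ J : DRing.Cx A) =
      (N ◁ HomCx.homCxPre f J) ≫ theta N F J := by
  refine cx_hom_ext fun p m n h x g => ?_
  refine (congrArg ((HomCx.homCxPre f (N ⊗ J : DRing.Cx A)).f n).hom
    (theta_tmk N F' J p m n h x g)).trans ?_
  refine (thetaBil_ofHom_comp N f J p m n h x g).trans ?_
  exact ((congrArg ((theta N F J).f n).hom
    (whiskerLeft_tmk N (HomCx.homCxPre f J) p m n h x g)).trans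
      (theta_tmk N F J p m n h x _)).symm

/-- naturality in `J`. -/
lemma theta_post (N F : DRing.Cx A) {J J' : DRing.Cx A} (f : J ⟶ J') :
    theta N F J ≫ DRing.homCxMap F (N ◁ f) =
      (N ◁ DRing.homCxMap F f) ≫ theta N F J' := by
  refine cx_hom_ext fun p m n h x g => ?_
  refine (congrArg ((DRing.homCxMap F (N ◁ f)).f n).hom
    (theta_tmk N F J p m n h x g)).trans ?_
  refine (thetaBil_comp_ofHom N F f p m n h x g).trans ?_
  exact ((congrArg ((theta N F J').f n).hom
    (whiskerLeft_tmk N (DRing.homCxMap F f) p m n h x g)).trans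
      (theta_tmk N F J' p m n h x _)).symm

section Inverse

variable (N F J : DRing.Cx A)

/-- `u ⊠ j : y ↦ u y • j` for `y` in degree `q`. -/
noncomputable def boxC {q s : ℤ} (m : ℤ) (u : F.X q →ₗ[A] A) (j : J.X s) : Cochain F J m :=
  Cochain.single (K := F) (L := J) (p := q) (q := s) (ModuleCat.ofHom (u.smulRight j)) m

lemma evC_boxC {q s m : ℤ} (h : m + q = s) (u : F.X q →ₗ[A] A) (j : J.X s) (y : F.X q) :
    evC F J m q s h (boxC F J m u j) y = u y • j :=
  congr($(Cochain.single_v (K := F) (L := J) (p := q) (q := s) (ModuleCat.ofHom (u.smulRight j)) m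
    (by omega)).hom y)

lemma evC_boxC_ne {q s m q' s' : ℤ} (h : m + q' = s') (hq : q' ≠ q) (u : F.X q →ₗ[A] A)
    (j : J.X s) (y : F.X q') :
    evC F J m q' s' h (boxC F J m u j) y = 0 :=
  congr($(Cochain.single_v_eq_zero (K := F) (L := J) (p := q) (q := s)
    (ModuleCat.ofHom (u.smulRight j)) m q' s' (by omega) hq).hom y)

/-- `u ⊠ j : y ↦ u y • j` for `y` in degree `q`, as a linear map in `j`. -/
noncomputable def box {q s : ℤ} (m : ℤ) (h : m + q = s) (u : F.X q →ₗ[A] A) :
    J.X s →ₗ[A] Cochain F J m where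
  toFun j := boxC F J m u j
  map_add' j j' := by
    refine ext_evC fun q' s' h' y => ?_
    rw [map_add (evC F J m q' s' h'), LinearMap.add_apply]
    by_cases hq : q' = q
    · subst hq
      obtain rfl : s = s' := by omega
      rw [evC_boxC, evC_boxC, evC_boxC, smul_add]
    · rw [evC_boxC_ne F J h' hq, evC_boxC_ne F J h' hq, evC_boxC_ne F J h' hq, add_zero]
  map_smul' a j := by
    refine ext_evC fun q' s' h' y => ?_
    rw [RingHom.id_apply, map_smul (evC F J m q' s' h'), LinearMap.smul_apply]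
    by_cases hq : q' = q
    · subst hq
      obtain rfl : s = s' := by omega
      rw [evC_boxC, evC_boxC, smul_comm]
    · rw [evC_boxC_ne F J h' hq, evC_boxC_ne F J h' hq, smul_zero]

/-- variant of `box` -/
noncomputable def box' {q s : ℤ} (m : ℤ) (h : m + q = s) (u : F.X q →ₗ[A] A) :
    J.X s →ₗ[A] (DRing.homCx F J).X m := box F J m h u

/-- `x ⊗ j ↦ x ⊗ (u ⊠ j)`. -/
noncomputable def tbox {q : ℤ} (u : F.X q →ₗ[A] A) (r n : ℤ) (h : n + q = r) :
    (N ⊗ J : DRing.Cx A).X r ⟶ (N ⊗ DRing.homCx F J : DRing.Cx A).X n :=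
  descT fun p s hps => (tmk N (DRing.homCx F J) p (s - q) n (by omega)).compl₂
    (box' F J (s - q) (by omega) u)

lemma tbox_tmk {q : ℤ} (u : F.X q →ₗ[A] A) (r n : ℤ) (h : n + q = r) (p m s : ℤ) (hps : p + s = r)
    (hm : m + q = s) (x : N.X p) (j : J.X s) :
    (tbox N F J u r n h).hom (tmk N J p s r hps x j) =
      tmk N (DRing.homCx F J) p m n (by omega) x (box' F J m hm u j) := by
  obtain rfl : m = s - q := by omega
  exact descT_tmk _ p s hps x j

lemma thetaBil_box {q : ℤ} (u : F.X q →ₗ[A] A) (p m s n r : ℤ) (h : n + q = r) (hps : p + s = r)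
    (hm : m + q = s) (x : N.X p) (j : J.X s) :
    thetaBil N F J p m n (by omega) x (box F J m hm u j) =
      box F (N ⊗ J : DRing.Cx A) n h u (tmk N J p s r hps x j) := by
  refine ext_evC fun q' r' h' y => ?_
  rw [evC_thetaBil N F J p m n (by omega) x _ q' r' (m + q') (by omega) rfl]
  by_cases hq : q' = q
  · subst hq
    obtain rfl : r = r' := by omega
    subst hm
    refine (congrArg (tmk N J p (m + q') r hps x) (evC_boxC F J rfl u j y)).trans ?_
    rw [map_smul]
    exact (evC_boxC F (N ⊗ J : DRing.Cx A) h u _ y).symm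
  · refine (congrArg (tmk N J p (m + q') r' (by omega) x) (evC_boxC_ne F J rfl hq u j y)).trans ?_
    rw [map_zero]
    exact (evC_boxC_ne F (N ⊗ J : DRing.Cx A) h' hq u _ y).symm

lemma tbox_theta {q : ℤ} (u : F.X q →ₗ[A] A) (r n : ℤ) (h : n + q = r)
    (w : (N ⊗ J : DRing.Cx A).X r) :
    ((theta N F J).f n).hom ((tbox N F J u r n h).hom w) =
      box F (N ⊗ J : DRing.Cx A) n h u w := by
  have : tbox N F J u r n h ≫ (theta N F J).f n = ModuleCat.ofHom
      (Y := Cochain F (N ⊗ J : DRing.Cx A) n) (box F (N ⊗ J : DRing.Cx A) n h u) := by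
    refine hom_ext_tmk fun p s hps x j => ?_
    have e1 := tbox_tmk N F J u r n h p (s - q) s hps (by omega) x j
    refine (congrArg ((theta N F J).f n).hom e1).trans ?_
    refine (theta_tmk N F J p (s - q) n (by omega) x _).trans ?_
    exact thetaBil_box N F J u p (s - q) s n r h hps (by omega) x j
  exact congr($(this).hom w)

end Inverse

lemma exists_dualBasis (M : Type u) [AddCommGroup M] [Module A M] [Module.Finite A M]
    [Module.Projective A M] :
    ∃ (r : ℕ) (u : Fin r → M) (v : Fin r → (M →ₗ[A] A)), ∀ y, ∑ k, v k y • u k = y := by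
  obtain ⟨r, f, hf⟩ := Module.Finite.exists_fin' A M
  obtain ⟨s, hs⟩ := Module.projective_lifting_property f LinearMap.id hf
  refine ⟨r, fun k => f (Pi.single k 1), fun k => (LinearMap.proj k) ∘ₗ s, fun y => ?_⟩
  have h1 : f (s y) = y := congr($hs y)
  have h2 : s y = ∑ k, (s y k) • (Pi.single k (1 : A) : Fin r → A) := by
    ext i
    simp [Finset.sum_apply, Pi.single_apply]
  conv_rhs => rw [← h1, h2, map_sum]
  simp

/-- A system of finite dual bases of the terms of a bounded complex. -/
structure DualBases (F : DRing.Cx A) where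
  /-- lower bound -/
  a : ℤ
  /-- upper bound -/
  b : ℤ
  /-- ranks -/
  r : ℤ → ℕ
  /-- vectors -/
  U : ∀ q, Fin (r q) → F.X q
  /-- covectors -/
  V : ∀ q, Fin (r q) → (F.X q →ₗ[A] A)
  sum_eq : ∀ (q : ℤ) (y : F.X q), ∑ k, V q k y • U q k = y
  zero : ∀ (q : ℤ), q ∉ Finset.Icc a b → ∀ y : F.X q, y = 0

lemma exists_dualBases (F : DRing.Cx A) {a b : ℤ} (h : DRing.VanishesOutside F a b)
    (h' : DRing.TermwiseFiniteProjective F) : Nonempty (DualBases F) := by
  have key : ∀ q, ∃ (r : ℕ) (u : Fin r → F.X q) (v : Fin r → (F.X q →ₗ[A] A)),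
      ∀ y, ∑ k, v k y • u k = y := fun q => by
    have := (h' q).1
    have := (h' q).2
    exact exists_dualBasis (F.X q)
  choose r U V hUV using key
  refine ⟨⟨a, b, r, U, V, hUV, fun q hq y => ?_⟩⟩
  have hz := h q (by
    rw [Finset.mem_Icc] at hq
    omega)
  have : Subsingleton (F.X q) := ModuleCat.subsingleton_of_isZero hz
  exact Subsingleton.elim _ _

section Iso

variable (N : DRing.Cx A) {F : DRing.Cx A} (D : DualBases F) (J : DRing.Cx A)

/-- decomposition of a cochain along the dual bases -/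
lemma sum_box (m : ℤ) (g : Cochain F J m) :
    ∑ q ∈ Finset.Icc D.a D.b, ∑ k, box F J (s := m + q) m rfl (D.V q k)
      (evC F J m q (m + q) rfl g (D.U q k)) = g := by
  refine ext_evC fun q' s' h' y => ?_
  subst h'
  rw [map_sum, LinearMap.sum_apply]
  by_cases hq : q' ∈ Finset.Icc D.a D.b
  · rw [Finset.sum_eq_single q' (fun q _ hqq => ?_) (fun h => absurd hq h)]
    · rw [map_sum, LinearMap.sum_apply]
      conv_rhs => rw [← D.sum_eq q' y, map_sum]
      refine Finset.sum_congr rfl fun k _ => ?_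
      rw [map_smul]
      exact evC_boxC F J rfl (D.V q' k) _ y
    · rw [map_sum, LinearMap.sum_apply]
      refine Finset.sum_eq_zero fun k _ => ?_
      exact evC_boxC_ne F J rfl (Ne.symm hqq) (D.V q k) _ y
  · have hy := D.zero q' hq y
    rw [hy, map_zero]
    refine Finset.sum_eq_zero fun q _ => ?_
    rw [map_zero]

/-- the inverse of `theta` in degree `n`. -/
noncomputable def thetaInv (n : ℤ) :
    Cochain F (N ⊗ J : DRing.Cx A) n →ₗ[A] (N ⊗ DRing.homCx F J : DRing.Cx A).X n :=
  ∑ q ∈ Finset.Icc D.a D.b, ∑ k, (tbox N F J (D.V q k) (n + q) n rfl).hom ∘ₗ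
    (evC F (N ⊗ J : DRing.Cx A) n q (n + q) rfl).flip (D.U q k)

lemma thetaInv_apply (n : ℤ) (z : Cochain F (N ⊗ J : DRing.Cx A) n) :
    thetaInv N D J n z = ∑ q ∈ Finset.Icc D.a D.b, ∑ k,
      (tbox N F J (D.V q k) (n + q) n rfl).hom
        (evC F (N ⊗ J : DRing.Cx A) n q (n + q) rfl z (D.U q k)) := by
  unfold thetaInv
  simp only [LinearMap.sum_apply, LinearMap.comp_apply, LinearMap.flip_apply]

lemma theta_thetaInv (n : ℤ) (z : Cochain F (N ⊗ J : DRing.Cx A) n) :
    ((theta N F J).f n).hom (thetaInv N D J n z) = z := by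
  rw [thetaInv_apply, map_sum]
  refine Eq.trans (Finset.sum_congr rfl fun q _ => ?_) (sum_box D (N ⊗ J : DRing.Cx A) n z)
  rw [map_sum]
  refine Finset.sum_congr rfl fun k _ => ?_
  exact tbox_theta N F J (D.V q k) (n + q) n rfl _

lemma thetaInv_theta (n : ℤ) (t : (N ⊗ DRing.homCx F J : DRing.Cx A).X n) :
    thetaInv N D J n (((theta N F J).f n).hom t) = t := by
  have : (theta N F J).f n ≫ ModuleCat.ofHom (X := (DRing.homCx F (N ⊗ J : DRing.Cx A)).X n)
      (thetaInv N D J n) = 𝟙 _ := by
    refine hom_ext_tmk fun p m h x g => ?_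
    refine (congrArg (thetaInv N D J n) (theta_tmk N F J p m n h x g)).trans ?_
    refine (thetaInv_apply N D J n _).trans ?_
    have e2 := congrArg (tmk N (DRing.homCx F J) p m n h x) (sum_box D J m g)
    refine Eq.trans ?_ e2
    refine Eq.trans ?_ (map_sum (tmk N (DRing.homCx F J) p m n h x) _ _).symm
    refine Finset.sum_congr rfl fun q _ => ?_
    refine Eq.trans ?_ (map_sum (tmk N (DRing.homCx F J) p m n h x) _ _).symm
    refine Finset.sum_congr rfl fun k _ => ?_
    have e3 := evC_thetaBil N F J p m n h x g q (n + q) (m + q) rfl rfl (D.U q k)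
    refine (congrArg (tbox N F J (D.V q k) (n + q) n rfl).hom e3).trans ?_
    exact tbox_tmk N F J (D.V q k) (n + q) n rfl p m (m + q) (by omega) rfl x _
  exact congr($(this).hom t)

include D in
lemma isIso_theta : IsIso (theta N F J) := by
  have : ∀ n, IsIso ((theta N F J).f n) := fun n => by
    rw [ConcreteCategory.isIso_iff_bijective]
    exact ⟨Function.LeftInverse.injective (g := thetaInv N D J n) (thetaInv_theta N D J n),
      Function.RightInverse.surjective (g := thetaInv N D J n) (theta_thetaInv N D J n)⟩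
  exact HomologicalComplex.Hom.isIso_of_components _

end Iso

section PostQis

/-- `Hom(F, -)` preserves quasi-isomorphisms for `F` K-projective. -/
theorem quasiIso_homCxMap (F : DRing.Cx A) [F.IsKProjective] {L L' : DRing.Cx A} (f : L ⟶ L')
    [QuasiIso f] : QuasiIso (DRing.homCxMap F f) := by
  rw [quasiIso_iff]
  intro n
  rw [quasiIsoAt_iff_isIso_homologyMap, ConcreteCategory.isIso_iff_bijective]
  let c := HomCxHD.computes_of_isKProjective F L
  let c' := HomCxHD.computes_of_isKProjective F L'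
  have hf : IsIso ((Q.map f)⟦n⟧') := inferInstance
  have hcomp : ⇑(HomCxHD.homologyEquiv F L' n c') ∘
      ⇑(ConcreteCategory.hom (HomologicalComplex.homologyMap (DRing.homCxMap F f) n)) =
      (fun g => g ≫ (Q.map f)⟦n⟧') ∘ ⇑(HomCxHD.homologyEquiv F L n c) :=
    funext fun y => HomCxHD.homologyEquiv_post f n c c' y
  have hb : Function.Bijective (fun g : Q.obj F ⟶ (Q.obj L)⟦n⟧ => g ≫ (Q.map f)⟦n⟧') := by
    constructor
    · intro g g' hg
      exact (cancel_mono _).1 hg
    · intro g
      exact ⟨g ≫ inv ((Q.map f)⟦n⟧'), by simp⟩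
  have h1 := hb.comp (HomCxHD.homologyEquiv F L n c).bijective
  rw [← hcomp] at h1
  exact (Function.Bijective.of_comp_iff' (HomCxHD.homologyEquiv F L' n c').bijective _).1 h1

end PostQis

end Groth.Agent.LoccohB.ThetaHom
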