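import Groth.Agent.LoccohB.ProjF
import Groth.Agent.LoccohB.ThetaHom
import Groth.Agent.LoccohB.CoextDual
import Groth.Agent.LoccohB.RAdj
import Groth.Agent.LoccohB.LBC2
import Groth.Agent.LoccohB.PerfTri

/-!
# `RHom_A(B, N ⊗ V) = (N ⊗_A B) ⊗_B RHom_A(B, V)` for `B` perfect over `A`
-/

set_option autoImplicit false

universe u

open CategoryTheory Limits MonoidalCategory CochainComplex CochainComplex.HomComplex

attribute [local instance] HasDerivedCategory.standard

namespace Groth.Agent.LoccohB.RelT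

open TenCx DerivedCategory LTen ProjF ThetaHom

variable {A B : Type u} [CommRing A] [CommRing B] [Algebra A B]

/-- The `B`-linear map `N_B ⊗ Hom_A(B, J) ⟶ Hom_A(B, N ⊗ J)`. -/
noncomputable def tau (N J : DRing.Cx A) :
    ((extCx (algebraMap A B)).obj N ⊗ (coextCx (algebraMap A B)).obj J : DRing.Cx B) ⟶
      (coextCx (algebraMap A B)).obj (N ⊗ J : DRing.Cx A) :=
  (adjC (algebraMap A B)).homEquiv _ _
    (inv (projMap (algebraMap A B) N ((coextCx (algebraMap A B)).obj J)) ≫
      (N ◁ (adjC (algebraMap A B)).counit.app J))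

lemma at1_tau (N J : DRing.Cx A) (p m n : ℤ) (h : p + m = n) (x : N.X p)
    (g : ((coextCx (algebraMap A B)).obj J).X m) :
    at1 (algebraMap A B) (((tau (B := B) N J).f n).hom
      (tm (algebraMap A B) N ((coextCx (algebraMap A B)).obj J) p m n h x g)) =
      tmk N J p m n h x (at1 (algebraMap A B) g) := by
  refine (at1_homEquiv (algebraMap A B) _ _).trans ?_
  have e1 := projMap_tmk (algebraMap A B) N ((coextCx (algebraMap A B)).obj J) p m n h x g
  have e2 : ((inv (projMap (algebraMap A B) N ((coextCx (algebraMap A B)).obj J))).f n).hom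
      (projBil (algebraMap A B) N ((coextCx (algebraMap A B)).obj J) p m n h x g) =
      tmk N ((resCx (algebraMap A B)).obj ((coextCx (algebraMap A B)).obj J)) p m n h x g := by
    rw [← e1]
    have := ConcreteCategory.congr_hom (HomologicalComplex.congr_hom (IsIso.hom_inv_id
      (projMap (algebraMap A B) N ((coextCx (algebraMap A B)).obj J))) n)
        (tmk N ((resCx (algebraMap A B)).obj ((coextCx (algebraMap A B)).obj J)) p m n h x g)
    exact this
  refine (congrArg ((N ◁ (adjC (algebraMap A B)).counit.app J).f n).hom e2).trans ?_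
  exact whiskerLeft_tmk N ((adjC (algebraMap A B)).counit.app J) p m n h x
    (show ((resCx (algebraMap A B)).obj ((coextCx (algebraMap A B)).obj J)).X m from g)

lemma smul_at1 {M : ModuleCat.{u} A} (b : B)
    (f : (ModuleCat.coextendScalars.{u, u, u} (algebraMap A B)).obj M) :
    at1 (algebraMap A B) (b • f) = CoextDual.evM b M f := by
  change ModuleCat.CoextendScalars.equiv (algebraMap A B) M f ((1 : B) * b) = _
  rw [one_mul]
  rfl

/-- Comparison of the chain-level map `tau` with `theta`. -/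
lemma tau_theta (N J : DRing.Cx A) :
    (N ◁ CoextDual.theta B J) ≫ projMap (algebraMap A B) N ((coextCx (algebraMap A B)).obj J) ≫
      (resCx (algebraMap A B)).map (tau (B := B) N J) =
    theta N (CoextDual.SB A B) J ≫ CoextDual.theta B (N ⊗ J : DRing.Cx A) := by
  refine cx_hom_ext fun p m n h x z => ?_
  refine (congrArg (((projMap (algebraMap A B) N ((coextCx (algebraMap A B)).obj J)) ≫
    (resCx (algebraMap A B)).map (tau (B := B) N J)).f n).hom
    (whiskerLeft_tmk N (CoextDual.theta B J) p m n h x z)).trans ?_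
  refine (congrArg (((resCx (algebraMap A B)).map (tau (B := B) N J)).f n).hom
    (projMap_tmk (algebraMap A B) N ((coextCx (algebraMap A B)).obj J) p m n h x _)).trans ?_
  refine Eq.trans ?_ (congrArg ((CoextDual.theta B (N ⊗ J : DRing.Cx A)).f n).hom
    (theta_tmk N (CoextDual.SB A B) J p m n h x z)).symm
  refine CoextDual.RC_ext fun b => ?_
  let w : ((coextCx (algebraMap A B)).obj J).X m := ((CoextDual.theta B J).f m).hom z
  change CoextDual.evM b ((N ⊗ J : DRing.Cx A).X n) (((tau (B := B) N J).f n).hom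
    (tm (algebraMap A B) N ((coextCx (algebraMap A B)).obj J) p m n h x w)) = _
  refine (smul_at1 b _).symm.trans ?_
  have e1 : b • (((tau (B := B) N J).f n).hom
    (tm (algebraMap A B) N ((coextCx (algebraMap A B)).obj J) p m n h x w)) =
      ((tau (B := B) N J).f n).hom
    (tm (algebraMap A B) N ((coextCx (algebraMap A B)).obj J) p m n h x (b • w)) := by
    rw [tm_smul_right]
    exact (map_smul ((tau (B := B) N J).f n).hom b _).symm
  refine (congrArg (at1 (algebraMap A B)) e1).trans ?_
  refine (at1_tau N J p m n h x (b • w)).trans ?_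
  refine (congrArg (tmk N J p m n h x) (smul_at1 b w)).trans ?_
  refine (congrArg (tmk N J p m n h x) (CoextDual.evM_theta J m z b)).trans ?_
  refine Eq.trans ?_ (CoextDual.evM_theta (N ⊗ J : DRing.Cx A) n
    (thetaBil N (CoextDual.SB A B) J p m n h x z) b).symm
  exact (evC_thetaBil N (CoextDual.SB A B) J p m n h x z 0 n m (add_zero n) (add_zero m)
    (CoextDual.s A b)).symm

lemma pre_post {F S L L' : DRing.Cx A} (ε : F ⟶ S) (w : L ⟶ L') :
    HomCx.homCxPre ε L ≫ DRing.homCxMap F w = DRing.homCxMap S w ≫ HomCx.homCxPre ε L' := by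
  refine HomologicalComplex.hom_ext _ _ fun n => ModuleCat.hom_ext (LinearMap.ext
    fun (z : Cochain S L n) => ?_)
  exact Cochain.comp_assoc_of_first_is_zero_cochain (Cochain.ofHom ε) z (Cochain.ofHom w)
    (add_zero n)

lemma theta_naturality {L L' : DRing.Cx A} (w : L ⟶ L') :
    CoextDual.theta B L ≫ (resCx (algebraMap A B)).map ((coextCx (algebraMap A B)).map w) =
      DRing.homCxMap (CoextDual.SB A B) w ≫ CoextDual.theta B L' := by
  refine HomologicalComplex.hom_ext _ _ fun n => ModuleCat.hom_ext (LinearMap.ext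
    fun (z : Cochain (CoextDual.SB A B) L n) => ?_)
  refine CoextDual.RC_ext fun b => ?_
  refine Eq.trans ?_ (CoextDual.evM_theta L' n
    (z.comp (Cochain.ofHom w) (add_zero n)) b).symm
  exact (evC_comp_ofHom (CoextDual.SB A B) w n 0 n (add_zero n) z (CoextDual.s A b)).symm

/-- Main chain-level result. -/
theorem quasiIso_tau {F N J J' : DRing.Cx A} (ε : F ⟶ CoextDual.SB A B) [QuasiIso ε]
    (D : DualBases F) [F.IsKProjective] [N.IsKProjective] [J.IsKInjective] [J'.IsKInjective]
    (w : (N ⊗ J : DRing.Cx A) ⟶ J') [QuasiIso w] :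
    QuasiIso (tau (B := B) N J ≫ (coextCx (algebraMap A B)).map w) := by
  have h1 := theta_pre N ε J
  have h2 := pre_post ε w
  have q1 : QuasiIso (HomCx.homCxPre ε J) := HomCx.quasiIso_homCxPre ε J
  have q1' : QuasiIso (HomCx.homCxPre ε J') := HomCx.quasiIso_homCxPre ε J'
  have q2 : QuasiIso (N ◁ HomCx.homCxPre ε J) := quasiIso_whiskerLeft N _
  have q3 : IsIso (theta N F J) := isIso_theta N D J
  have q4 : QuasiIso (DRing.homCxMap F w) := quasiIso_homCxMap F w
  have h3 : (theta N (CoextDual.SB A B) J ≫ DRing.homCxMap (CoextDual.SB A B) w) ≫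
      HomCx.homCxPre ε J' =
      (N ◁ HomCx.homCxPre ε J) ≫ theta N F J ≫ DRing.homCxMap F w := by
    rw [Category.assoc, ← h2, ← Category.assoc, h1, Category.assoc]
  have q5 : QuasiIso ((theta N (CoextDual.SB A B) J ≫ DRing.homCxMap (CoextDual.SB A B) w) ≫
      HomCx.homCxPre ε J') := by
    rw [h3]
    infer_instance
  have q6 : QuasiIso (theta N (CoextDual.SB A B) J ≫ DRing.homCxMap (CoextDual.SB A B) w) :=
    quasiIso_of_comp_right _ (HomCx.homCxPre ε J')
  have h4 : ((N ◁ CoextDual.theta B J) ≫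
      projMap (algebraMap A B) N ((coextCx (algebraMap A B)).obj J)) ≫
      (resCx (algebraMap A B)).map (tau (B := B) N J ≫ (coextCx (algebraMap A B)).map w) =
      (theta N (CoextDual.SB A B) J ≫ DRing.homCxMap (CoextDual.SB A B) w) ≫
        CoextDual.theta B J' := by
    rw [Functor.map_comp, Category.assoc, ← Category.assoc (projMap _ _ _),
      ← Category.assoc (N ◁ CoextDual.theta B J), tau_theta, Category.assoc, Category.assoc,
      theta_naturality]
  have q7 : QuasiIso (((N ◁ CoextDual.theta B J) ≫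
      projMap (algebraMap A B) N ((coextCx (algebraMap A B)).obj J)) ≫
      (resCx (algebraMap A B)).map (tau (B := B) N J ≫ (coextCx (algebraMap A B)).map w)) := by
    rw [h4]
    infer_instance
  have q8 : QuasiIso ((resCx (algebraMap A B)).map
      (tau (B := B) N J ≫ (coextCx (algebraMap A B)).map w)) :=
    quasiIso_of_comp_left ((N ◁ CoextDual.theta B J) ≫
      projMap (algebraMap A B) N ((coextCx (algebraMap A B)).obj J)) _
  rwa [HomologicalComplex.quasiIso_map_iff_of_preservesHomology] at q8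

section ExtKProj

variable {A B : Type u} [CommRing A] [CommRing B] (φ : A →+* B)

/-- Extension of scalars preserves K-projective complexes. -/
instance isKProjective_extCx (P : DRing.Cx A) [P.IsKProjective] :
    ((extCx φ).obj P).IsKProjective where
  nonempty_homotopy_zero {L} f hL := by
    have hL' : ((resCx φ).obj L).Acyclic := by
      intro n
      exact (hL n).map (ModuleCat.restrictScalars.{u} φ)
    obtain ⟨h⟩ := IsKProjective.nonempty_homotopy_zero ((adjE φ).homEquiv P L f) hL'
    have e1 : f = (extCx φ).map ((adjE φ).homEquiv P L f) ≫ (adjE φ).counit.app L :=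
      (((adjE φ).homEquiv P L).symm_apply_apply f).symm.trans ((adjE φ).homEquiv_counit _ _ _)
    have h2 := (ModuleCat.extendScalars.{u, u, u} φ).mapHomotopy h
    have h3 := h2.compRight ((adjE φ).counit.app L)
    refine ⟨(Homotopy.ofEq e1).trans (h3.trans (Homotopy.ofEq ?_))⟩
    refine (congrArg (fun t => t ≫ (adjE φ).counit.app L) ((extCx φ).map_zero P _)).trans ?_
    exact zero_comp

end ExtKProj

section Derived

variable {A B : Type u} [CommRing A] [CommRing B] [Algebra A B]

variable (A B) in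
/-- `restrictD (B[0]) ≅ Q (B[0])`. -/
noncomputable def restrictSB :
    (DRing.restrictD (algebraMap A B)).obj (Dual.inD B B) ≅
      Q.obj (CoextDual.SB A B) :=
  ((ModuleCat.restrictScalars.{u} (algebraMap A B)).mapDerivedCategorySingleFunctor 0).app
    (ModuleCat.of B B) ≪≫ (singleFunctorIsoCompQ (ModuleCat.{u} A) 0).app _

/-- A bounded finite projective resolution of `B` over `A`. -/
lemma exists_resolution
    (hB : DRing.IsPerfect A ((DRing.restrictD (algebraMap A B)).obj
      (Dual.inD B B))) :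
    ∃ (F : DRing.Cx A) (ε : F ⟶ CoextDual.SB A B), QuasiIso ε ∧ Nonempty (DualBases F) ∧
      F.IsKProjective := by
  obtain ⟨F, a, b, hab, hF, ⟨e⟩⟩ := hB
  have hK : F.IsKProjective := PerfTri.isKProjective_of_vanishesAbove (b := b)
    (fun i hi => hab i (Or.inr hi)) (fun i => (hF i).2)
  obtain ⟨ε, hε⟩ := KDer.liftsFrom_Q F (e ≪≫ restrictSB A B).hom
  refine ⟨F, ε, ?_, exists_dualBases F hab hF, hK⟩
  have : IsIso (Q.map ε) := by rw [hε]; infer_instance
  rwa [DerivedCategory.isIso_Q_map_iff_quasiIso] at this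

/-- **Lemma T**: `RHom_A(B, N ⊗^L V) ≅ (N ⊗^L_A B) ⊗^L_B RHom_A(B, V)` for `B` perfect over `A`,
and all `N`, `V` in `D(A)`. -/
theorem relT_alg {R : Dual.D A ⥤ Dual.D B} (adj : DRing.restrictD (algebraMap A B) ⊣ R)
    (hB : DRing.IsPerfect A ((DRing.restrictD (algebraMap A B)).obj
      (Dual.inD B B))) [DRing.HasLBaseChange (algebraMap A B)]
    (X : DRing.Cx B) [DRing.HasLTensorCx B X] (V : DRing.Cx A) [DRing.HasLTensorCx A V]
    (e : Q.obj X ≅ R.obj (Q.obj V)) (N : Dual.D A) :
    Nonempty ((DRing.LTensorCx B X).obj ((DRing.LBaseChange (algebraMap A B)).obj N) ≅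
      R.obj ((DRing.LTensorCx A V).obj N)) := by
  obtain ⟨F, ε, hε, ⟨D⟩, hF⟩ := exists_resolution hB
  obtain ⟨P, hP, ⟨eP⟩⟩ := exists_kproj N
  obtain ⟨J, f, hJ, hf⟩ := RHomVal.enoughKInjectives_moduleCat A V
  obtain ⟨J', w, hJ', hw⟩ := RHomVal.enoughKInjectives_moduleCat A (P ⊗ J : DRing.Cx A)
  have hq : QuasiIso (tau (B := B) P J ≫ (coextCx (algebraMap A B)).map w) :=
    quasiIso_tau ε D w
  have hq' : QuasiIso (P ◁ f) := quasiIso_whiskerLeft P f
  have := hasLTensorCx ((coextCx (algebraMap A B)).obj J)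
  obtain ⟨eX⟩ := ltenCongr (E := X) (E' := (coextCx (algebraMap A B)).obj J)
    (e ≪≫ R.mapIso (asIso (Q.map f)) ≪≫ RAdj.objIso adj J)
  refine ⟨(DRing.LTensorCx B X).mapIso ((DRing.LBaseChange (algebraMap A B)).mapIso eP.symm ≪≫
    LBC.lbcQIso (algebraMap A B) P) ≪≫ eX.app _ ≪≫ ltenIso _ _ ≪≫
    asIso (Q.map (tau (B := B) P J ≫ (coextCx (algebraMap A B)).map w)) ≪≫
    (RAdj.objIso adj J').symm ≪≫ R.mapIso ((asIso (Q.map w)).symm ≪≫
      (asIso (Q.map (P ◁ f))).symm ≪≫ (ltenIso V P).symm ≪≫
      (DRing.LTensorCx A V).mapIso eP)⟩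

end Derived

end Groth.Agent.LoccohB.RelT
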