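import Groth.Agent.CohtopA.BrownW
import Groth.Agent.LoccohB.DDev

/-!
# The comparison map `Hom(M, V) → Hom(N, F V)`

`F : D ⥤ D'` a triangulated functor, `u : N ⟶ F M`; the map `f ↦ u ≫ F f`.  It is a map of
cohomological functors of `V`; if `M`, `N` are compact and `F` commutes with coproducts it is compatible
with coproducts.  For `D = D(C)` it is bijective for all `V` as soon as it is so for `C[n]`.
-/

set_option autoImplicit false

universe w v v' u u'

open CategoryTheory Limits Pretriangulated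

namespace Groth.Agent.LoccohB.RelTau

open Groth.Agent.CohtopA.Compact Groth.Agent.CohtopA.BrownW

section Abstract

variable {D : Type u} [Category.{v} D] {D' : Type u'} [Category.{v'} D'] (F : D ⥤ D')

/-- The map `f ↦ u ≫ F f`. -/
def tau {M : D} {N : D'} (u : N ⟶ F.obj M) (V : D) (f : M ⟶ V) : N ⟶ F.obj V := u ≫ F.map f

variable {F} {M : D} {N : D'} (u : N ⟶ F.obj M)

lemma tau_comp {V W : D} (f : M ⟶ V) (g : V ⟶ W) : tau F u W (f ≫ g) = tau F u V f ≫ F.map g := by
  simp [tau]

lemma tau_bijective_of_iso {V W : D} (e : V ≅ W) (h : Function.Bijective (tau F u V)) :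
    Function.Bijective (tau F u W) := by
  have h1 : tau F u W = (F.mapIso e).homToEquiv ∘ tau F u V ∘ e.homToEquiv.symm := by
    funext f
    change _ = (u ≫ F.map (f ≫ e.inv)) ≫ F.map e.hom
    simp [tau]
  rw [h1]
  exact (Equiv.bijective _).comp (h.comp (Equiv.bijective _))

variable [Preadditive D] [Preadditive D'] [F.Additive]

lemma tau_add {V : D} (f g : M ⟶ V) : tau F u V (f + g) = tau F u V f + tau F u V g := by
  simp [tau]

lemma tau_sub {V : D} (f g : M ⟶ V) : tau F u V (f - g) = tau F u V f - tau F u V g := by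
  simp [tau]

lemma tau_zero (V : D) : tau F u V 0 = 0 := by simp [tau]

lemma tau_injective_iff (V : D) :
    Function.Injective (tau F u V) ↔ ∀ f : M ⟶ V, tau F u V f = 0 → f = 0 := by
  constructor
  · intro h f hf
    exact h (hf.trans (tau_zero u V).symm)
  · intro h f g hfg
    rw [← sub_eq_zero]
    apply h
    rw [tau_sub, hfg, sub_self]

/-- Compatibility with coproducts. -/
theorem tau_bijective_coproduct (hM : IsCompactW.{w} M) (hN : IsCompactW.{w} N) {ι : Type w}
    {Y : ι → D} {c : Cofan Y} (hc : IsColimit c) [PreservesColimit (Discrete.functor Y) F]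
    (h : ∀ i, Function.Bijective (tau F u (Y i))) : Function.Bijective (tau F u c.pt) := by
  classical
  let c' : Cofan (fun i => F.obj (Y i)) := Cofan.mk (F.obj c.pt) (fun i => F.map (c.inj i))
  have hc' : IsColimit c' := isColimitCofanMkObjOfIsColimit F Y c.inj
    (IsColimit.ofIsoColimit hc (Cofan.ext (Iso.refl _) (fun i => by simp)))
  constructor
  · rw [tau_injective_iff]
    intro f hf
    obtain ⟨s, hs, hs'⟩ := IsFiniteSum.eq_sum_proj hc (hM ι Y c hc f)
    rw [hs']
    refine Finset.sum_eq_zero (fun i _ => ?_)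
    have h1 : f ≫ proj hc i = 0 := by
      apply ((tau_injective_iff u (Y i)).1 (h i).1)
      rw [tau_comp, hf, zero_comp]
    rw [h1, zero_comp]
  · intro g
    obtain ⟨s, k, hk⟩ := hN ι _ c' hc' g
    choose f hf using fun i => (h i).2 (k i)
    refine ⟨∑ i ∈ s, f i ≫ c.inj i, ?_⟩
    have h1 : ∀ t : Finset ι, tau F u c.pt (∑ i ∈ t, f i ≫ c.inj i) = ∑ i ∈ t, k i ≫ c'.inj i := by
      intro t
      induction t using Finset.induction_on with
      | empty => simp [tau_zero]
      | insert a t ha ih =>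
        rw [Finset.sum_insert ha, Finset.sum_insert ha, tau_add, ih, tau_comp, hf]
        rfl
    rw [h1, hk]

variable [HasZeroObject D] [HasShift D ℤ] [∀ n : ℤ, (shiftFunctor D n).Additive]
  [Pretriangulated D] [HasZeroObject D'] [HasShift D' ℤ] [∀ n : ℤ, (shiftFunctor D' n).Additive]
  [Pretriangulated D'] [F.CommShift ℤ] [F.IsTriangulated]

omit [F.Additive] in
/-- Exactness for `F T`, at the second object. -/
lemma exact₂ (T : Triangle D) (hT : T ∈ distTriang D) (k : N ⟶ F.obj T.obj₂)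
    (hk : k ≫ F.map T.mor₂ = 0) : ∃ l : N ⟶ F.obj T.obj₁, k = l ≫ F.map T.mor₁ :=
  Triangle.coyoneda_exact₂ _ (F.map_distinguished T hT) k hk

omit [F.Additive] in
/-- Exactness for `F T`, at the third object. -/
lemma exact₃ (T : Triangle D) (hT : T ∈ distTriang D) (k : N ⟶ F.obj T.obj₃)
    (hk : k ≫ F.map T.mor₃ = 0) : ∃ l : N ⟶ F.obj T.obj₂, k = l ≫ F.map T.mor₂ :=
  Triangle.coyoneda_exact₃ _ (F.map_distinguished T hT) k (by
    change k ≫ F.map T.mor₃ ≫ (F.commShiftIso (1 : ℤ)).hom.app T.obj₁ = 0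
    rw [reassoc_of% hk, zero_comp])

/-- The five lemma. -/
theorem tau_bijective₃ (T : Triangle D) (hT : T ∈ distTriang D)
    (h₁ : Function.Surjective (tau F u T.obj₁)) (h₂ : Function.Bijective (tau F u T.obj₂))
    (h₁' : Function.Bijective (tau F u (T.obj₁⟦(1 : ℤ)⟧)))
    (h₂' : Function.Injective (tau F u (T.obj₂⟦(1 : ℤ)⟧))) :
    Function.Bijective (tau F u T.obj₃) := by
  have h₁'' := h₁'.1
  rw [tau_injective_iff] at h₁'' h₂'
  have h12 : T.mor₁ ≫ T.mor₂ = 0 := comp_distTriang_mor_zero₁₂ _ hT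
  have h31 : T.mor₃ ≫ T.mor₁⟦(1 : ℤ)⟧' = 0 := comp_distTriang_mor_zero₃₁ _ hT
  constructor
  · rw [tau_injective_iff]
    intro f hf
    have h3 : f ≫ T.mor₃ = 0 := h₁'' _ (by rw [tau_comp, hf, zero_comp])
    obtain ⟨g, rfl⟩ := Triangle.coyoneda_exact₃ _ hT f h3
    rw [tau_comp] at hf
    obtain ⟨l, hl⟩ := exact₂ T hT _ hf
    obtain ⟨l', rfl⟩ := h₁ l
    rw [← tau_comp] at hl
    have h4 := h₂.1 hl
    rw [h4, Category.assoc, h12, comp_zero]
  · intro g
    obtain ⟨a, ha⟩ := h₁'.2 (g ≫ F.map T.mor₃)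
    have h3 : a ≫ T.mor₁⟦(1 : ℤ)⟧' = 0 := h₂' _ (by
      rw [tau_comp, ha, Category.assoc, ← F.map_comp, h31, F.map_zero, comp_zero])
    obtain ⟨b, rfl⟩ := Triangle.coyoneda_exact₁ _ hT a h3
    have h4 : (g - tau F u _ b) ≫ F.map T.mor₃ = 0 := by
      rw [Preadditive.sub_comp, ← tau_comp, ha, sub_self]
    obtain ⟨c, hc⟩ := exact₃ T hT _ h4
    obtain ⟨c', rfl⟩ := h₂.2 c
    rw [← tau_comp] at hc
    exact ⟨b + c' ≫ T.mor₂, by rw [tau_add, ← hc]; abel⟩

end Abstract

section Ring

universe t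

open Groth.Agent.LoccohB.DBase DerivedCategory

attribute [local instance] HasDerivedCategory.standard

variable {C : Type t} [CommRing C] {D' : Type u'} [Category.{v'} D'] [Preadditive D']
  [HasZeroObject D'] [HasShift D' ℤ] [∀ n : ℤ, (shiftFunctor D' n).Additive]
  [Pretriangulated D'] {F : Dual.D C ⥤ D'} [F.Additive] [F.CommShift ℤ] [F.IsTriangulated]
  [∀ (ι : Type t), PreservesColimitsOfShape (Discrete ι) F] {M : Dual.D C} {N : D'}
  (u : N ⟶ F.obj M)

/-- `tau` is bijective for all `V` in `D(C)` as soon as it is for the `C[-n]`. -/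
theorem tau_bijective (hM : IsCompactW.{t} M) (hN : IsCompactW.{t} N)
    (h : ∀ n : ℤ, Function.Bijective (tau F u (sg C n C))) (V : Dual.D C) :
    Function.Bijective (tau F u V) := by
  let P : ObjectProperty (Dual.D C) := fun V => ∀ n : ℤ, Function.Bijective (tau F u (V⟦n⟧))
  have key : P V := by
    refine DDev.prop_of_localizing P ?_ ?_ ?_ ?_ V
    · intro Y Y' e hY n
      exact tau_bijective_of_iso u ((shiftFunctor _ n).mapIso e) (hY n)
    · intro κ Y hY n
      exact tau_bijective_coproduct u hM hN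
        (isColimitCofanMkObjOfIsColimit (shiftFunctor (Dual.D C) n) Y _ (coproductIsCoproduct Y))
        (fun k => hY k n)
    · intro T hT h₁ h₂ n
      have e : ∀ X : Dual.D C, X⟦n + 1⟧ ≅ X⟦n⟧⟦(1 : ℤ)⟧ := fun X => shiftAdd X n 1
      exact tau_bijective₃ u _ (Triangle.shift_distinguished T hT n) (h₁ n).2 (h₂ n)
        (tau_bijective_of_iso u (e _) (h₁ (n + 1))) (tau_bijective_of_iso u (e _) (h₂ (n + 1))).1
    · intro n m
      exact tau_bijective_of_iso u (((singleFunctors (ModuleCat.{t} C)).shiftIso m (n - m) n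
        (by ring)).app (ModuleCat.of C C)).symm (h (n - m))
  exact tau_bijective_of_iso u ((shiftFunctorZero (Dual.D C) ℤ).app V) (key 0)

end Ring

end Groth.Agent.LoccohB.RelTau
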