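import Groth.Agent.LoccohB.RelTau
import Groth.Agent.LoccohB.RelF2
import Groth.Agent.LoccohB.BcPerf
import Groth.Agent.LoccohB.DualFlatBC
import Groth.Agent.LoccohB.GenLemma

/-!
# `Hom_B(ω, K) = Hom_{B'}(μ_* B, i^* K)` for `K` bounded below

Pushout square `C → C'`, `C → B`, `B' = C' ⊗_C B` with `C → C'` flat, `μ : B' → B` a retraction of
`i : B → B'`, `B` perfect over `C` and over `C'`, `C → B` surjective; `X = RHom_C(B, C)[n]` and a
universal arrow `u : μ_* B ⟶ i^* X`.  Then `g ↦ u ≫ i^* g` is bijective from `Hom_B(X, K)` onto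
`Hom_{B'}(μ_* B, i^* K)` for every `K` in `D⁺(B)`.
-/

set_option autoImplicit false

universe u

open CategoryTheory Limits Pretriangulated DerivedCategory

attribute [local instance] HasDerivedCategory.standard

namespace Groth.Agent.LoccohB.RelTheta

open DBase HomBC FlatLBC Univ RelTau Groth.Agent.CohtopA.BrownW

section Flat

variable {A B : Type u} [CommRing A] [CommRing B] (φ : A →+* B) (hφ : φ.Flat)

/-- `flatBC` commutes with coproducts. -/
instance preservesColimits_flatBC (ι : Type u) :
    PreservesColimitsOfShape (Discrete ι) (flatBC φ hφ) := by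
  have := LBC.hasLBaseChange φ
  have adj : flatBC φ hφ ⊣ DRing.restrictD φ := (LBC.lbcAdj φ).ofNatIsoLeft (LBaseChangeIso φ hφ)
  have := adj.leftAdjoint_preservesColimits
  infer_instance

end Flat

section Self

variable {B B' : Type u} [CommRing B] [CommRing B'] [Algebra B B'] (h' : (algebraMap B B').Flat)
  {μ : B' →+* B} (hμ : μ.comp (algebraMap B B') = RingHom.id B)
  {X : Dual.D B} {u : (DRing.restrictD μ).obj (Dual.inD B B) ⟶ (flatBC (algebraMap B B') h').obj X}
  (hu : IsUniv μ u)

include hμ hu in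
/-- `tau` at `X` itself. -/
theorem tau_bijective_self (h0 : Function.Bijective (fun b : B => b • 𝟙 X)) :
    Function.Bijective (tau (flatBC (algebraMap B B') h') u X) := by
  refine (Function.Bijective.of_comp_iff _ h0).1 ?_
  have h1 : tau (flatBC (algebraMap B B') h') u X ∘ (fun b : B => b • 𝟙 X) =
      (fun g => (DRing.restrictD μ).map g ≫ u) ∘ (fun b : B => b • 𝟙 (Dual.inD B B)) := by
    funext b
    dsimp only [Function.comp_apply, tau]
    rw [semi_map_smul B B', CategoryTheory.Functor.map_id, Linear.comp_smul, Category.comp_id]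
    have h2 : b = μ (algebraMap B B' b) := (RingHom.congr_fun hμ b).symm
    conv_rhs => rw [h2, LBC.restrictD_map_smul, CategoryTheory.Functor.map_id, Linear.smul_comp,
      Category.id_comp]
  rw [h1]
  exact (hu _).comp (Localalg.DGor.toEnd_bijective B)

include hu in
/-- Both sides vanish at `X⟦j⟧`, `j ≠ 0`. -/
theorem subsingleton_flat_shift (j : ℤ) (hj : j ≠ 0) :
    Subsingleton ((DRing.restrictD μ).obj (Dual.inD B B) ⟶
      (flatBC (algebraMap B B') h').obj (X⟦j⟧)) := by
  have h1 := RelF2.subsingleton_self B j hj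
  have h2 := (Equiv.ofBijective _ (hu.shift j (Dual.inD B B))).subsingleton_congr.1 h1
  exact ((((flatBC (algebraMap B B') h').commShiftIso j).app X).homToEquiv).subsingleton_congr.2 h2

include hμ hu in
/-- `tau` at the shifts of `X`. -/
theorem tau_bijective_shift (h0 : Function.Bijective (fun b : B => b • 𝟙 X))
    (h1 : ∀ i : ℤ, i ≠ 0 → Subsingleton (X ⟶ X⟦i⟧)) (j : ℤ) :
    Function.Bijective (tau (flatBC (algebraMap B B') h') u (X⟦j⟧)) := by
  by_cases hj : j = 0
  · subst hj
    exact tau_bijective_of_iso u ((shiftFunctorZero (Dual.D B) ℤ).app X).symm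
      (tau_bijective_self h' hμ hu h0)
  · have h2 := h1 j hj
    have h3 := subsingleton_flat_shift h' hu j hj
    exact ⟨fun x y _ => Subsingleton.elim _ _, fun y => ⟨0, Subsingleton.elim _ _⟩⟩

end Self

section Transfer

variable (C C' B B' : Type u) [CommRing C] [CommRing C'] [CommRing B] [CommRing B']
  [Algebra C C'] [Algebra C B] [Algebra C' B'] [Algebra B B'] [Algebra C B']
  [IsScalarTower C C' B'] [IsScalarTower C B B'] [Algebra.IsPushout C C' B B']
  (h : (algebraMap C C').Flat) (h' : (algebraMap B B').Flat)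
  {N : Dual.D B'} {X : Dual.D B}

/-- The arrow `ψ'_* N ⟶ j^* ψ_* X` induced by `u : N ⟶ i^* X`. -/
noncomputable def downArrow (u : N ⟶ (flatBC (algebraMap B B') h').obj X) :
    (DRing.restrictD (algebraMap C' B')).obj N ⟶
      (flatBC (algebraMap C C') h).obj ((DRing.restrictD (algebraMap C B)).obj X) :=
  (DRing.restrictD (algebraMap C' B')).map u ≫ (BeckChev.bcDIso C C' B B' h h').inv.app X

variable (u : N ⟶ (flatBC (algebraMap B B') h').obj X)

/-- Compatibility of the two comparison maps. -/
lemma tau_down {K : Dual.D B} {V : Dual.D C}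
    (eV : (DRing.restrictD (algebraMap C B)).obj K ⟶ V) (g : X ⟶ K) :
    (DRing.restrictD (algebraMap C' B')).map (tau (flatBC (algebraMap B B') h') u K g) ≫
      flatArrow C C' B B' h h' eV =
    tau (flatBC (algebraMap C C') h) (downArrow C C' B B' h h' u) V
      ((DRing.restrictD (algebraMap C B)).map g ≫ eV) := by
  dsimp only [tau, flatArrow, downArrow]
  rw [Functor.map_comp, Functor.map_comp, Category.assoc, Category.assoc]
  congr 1
  exact (BeckChev.bcDIso C C' B B' h h').inv.naturality_assoc g _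

variable (hB : DRing.IsPerfect C ((DRing.restrictD (algebraMap C B)).obj (Dual.inD B B)))

include hB in
/-- For a universal arrow `ψ_* K ⟶ V`, the two comparison maps are bijective simultaneously. -/
theorem tau_bijective_iff {K : Dual.D B} {V : Dual.D C}
    {eV : (DRing.restrictD (algebraMap C B)).obj K ⟶ V} (he : IsUniv (algebraMap C B) eV) :
    Function.Bijective (tau (flatBC (algebraMap B B') h') u K) ↔
      Function.Bijective (tau (flatBC (algebraMap C C') h) (downArrow C C' B B' h h' u) V) := by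
  have h1 := he.flat_of_isPerfect C C' B B' h h' hB
  have h2 : (fun g => (DRing.restrictD (algebraMap C' B')).map g ≫
      flatArrow C C' B B' h h' eV) ∘ tau (flatBC (algebraMap B B') h') u K =
      tau (flatBC (algebraMap C C') h) (downArrow C C' B B' h h' u) V ∘
        (fun g => (DRing.restrictD (algebraMap C B)).map g ≫ eV) := by
    funext g
    exact tau_down C C' B B' h h' u eV g
  rw [← Function.Bijective.of_comp_iff' (h1 N), h2]
  exact Function.Bijective.of_comp_iff _ (he X)

end Transfer

section ShiftEnd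

variable {A : Type u} [CommRing A]

/-- `K⟦m⟧ ≅ L⟦m⟧` on `Hom`. -/
lemma shift_bijective (X Y : Dual.D A) (m : ℤ) :
    Function.Bijective (fun f : X ⟶ Y => f⟦m⟧') :=
  ⟨(shiftFunctor _ m).map_injective, (shiftFunctor _ m).map_surjective⟩

lemma toEnd_bijective_of_shift {X : Dual.D A} (m : ℤ)
    (h : Function.Bijective (fun a : A => a • 𝟙 (X⟦m⟧))) :
    Function.Bijective (fun a : A => a • 𝟙 X) := by
  have h1 : (fun a : A => a • 𝟙 (X⟦m⟧)) = (fun f : X ⟶ X => f⟦m⟧') ∘ (fun a : A => a • 𝟙 X) := by
    funext a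
    dsimp only [Function.comp_apply]
    rw [Functor.map_smul, CategoryTheory.Functor.map_id]
  rw [h1] at h
  exact (Function.Bijective.of_comp_iff' (shift_bijective X X m) _).1 h

lemma subsingleton_of_shift {X : Dual.D A} (m i : ℤ) (h : Subsingleton (X⟦m⟧ ⟶ X⟦m⟧⟦i⟧)) :
    Subsingleton (X ⟶ X⟦i⟧) := by
  have e : X⟦m⟧⟦i⟧ ≅ X⟦i⟧⟦m⟧ := shiftComm X m i
  have h1 : Subsingleton (X⟦m⟧ ⟶ X⟦i⟧⟦m⟧) := (e.homToEquiv (Z := X⟦m⟧)).subsingleton_congr.1 h
  exact (shift_bijective X (X⟦i⟧) m).1.subsingleton

/-- `A[-m]⟦m⟧ = A`. -/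
noncomputable def sgShift (A : Type u) [CommRing A] (m : ℤ) : (sg A m A)⟦m⟧ ≅ Dual.inD A A :=
  ((singleFunctors (ModuleCat.{u} A)).shiftIso m 0 m (by simp)).app (ModuleCat.of A A)

/-- `A[-m]⟦j⟧ = A[-n]`, `j + n = m`. -/
noncomputable def sgShift' (A : Type u) [CommRing A] (j n m : ℤ) (h : j + n = m) :
    (sg A m A)⟦j⟧ ≅ sg A n A :=
  ((singleFunctors (ModuleCat.{u} A)).shiftIso j n m h).app (ModuleCat.of A A)

end ShiftEnd

section Dualizing

variable {C B : Type u} [CommRing C] [CommRing B] [Algebra C B]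
  (hB : DRing.IsPerfect C ((DRing.restrictD (algebraMap C B)).obj (Dual.inD B B)))
  {X : Dual.D B} {m : ℤ} {e : (DRing.restrictD (algebraMap C B)).obj X ⟶ sg C m C}
  (he : IsUniv (algebraMap C B) e)

include he

lemma exists_univ_inD : ∃ e' : (DRing.restrictD (algebraMap C B)).obj (X⟦m⟧) ⟶ Dual.inD C C,
    IsUniv (algebraMap C B) e' :=
  ⟨_, (he.shift m).of_iso_right (sgShift C m)⟩

include hB

theorem toEnd_bijective : Function.Bijective (fun b : B => b • 𝟙 X) := by
  obtain ⟨e', he'⟩ := exists_univ_inD he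
  exact toEnd_bijective_of_shift m (RelF2.toEnd_bijective hB he')

theorem subsingleton_ext (i : ℤ) (hi : i ≠ 0) : Subsingleton (X ⟶ X⟦i⟧) := by
  obtain ⟨e', he'⟩ := exists_univ_inD he
  exact subsingleton_of_shift m i (RelF2.subsingleton_ext hB he' i hi)

theorem isPerfect_restrictD : DRing.IsPerfect C ((DRing.restrictD (algebraMap C B)).obj X) := by
  obtain ⟨e', he'⟩ := exists_univ_inD he
  have h1 := RelF2.isPerfect_restrictD hB he'
  rw [PerfTri.isPerfect_iff_inClass] at h1 ⊢
  exact PerfTri.inClass_of_shift PerfTri.goodClass_perfCx m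
    (PerfTri.inClass_of_iso (((DRing.restrictD (algebraMap C B)).commShiftIso m).app X) h1)

end Dualizing

section Main

variable (C C' B B' : Type u) [CommRing C] [CommRing C'] [CommRing B] [CommRing B']
  [Algebra C C'] [Algebra C B] [Algebra C' B'] [Algebra B B'] [Algebra C B']
  [IsScalarTower C C' B'] [IsScalarTower C B B'] [Algebra.IsPushout C C' B B']
  (h : (algebraMap C C').Flat) (h' : (algebraMap B B').Flat)
  (hB : DRing.IsPerfect C ((DRing.restrictD (algebraMap C B)).obj (Dual.inD B B)))
  {μ : B' →+* B} (hμ : μ.comp (algebraMap B B') = RingHom.id B)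
  (hN : IsCompactW.{u} ((DRing.restrictD (algebraMap C' B')).obj
    ((DRing.restrictD μ).obj (Dual.inD B B))))
  {X : Dual.D B} {m : ℤ} {e : (DRing.restrictD (algebraMap C B)).obj X ⟶ sg C m C}
  (he : IsUniv (algebraMap C B) e)
  {u : (DRing.restrictD μ).obj (Dual.inD B B) ⟶ (flatBC (algebraMap B B') h').obj X}
  (hu : IsUniv μ u)

include hB hμ hN he hu

/-- The comparison map over `C`. -/
theorem tau_down_bijective (V : Dual.D C) :
    Function.Bijective (tau (flatBC (algebraMap C C') h) (downArrow C C' B B' h h' u) V) := by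
  refine RelTau.tau_bijective _ (DDev.isCompactW_of_isPerfect (isPerfect_restrictD hB he)) hN ?_ V
  intro n
  have h1 := (he.shift (m - n)).of_iso_right (sgShift' C (m - n) n m (by ring))
  exact (tau_bijective_iff C C' B B' h h' u hB h1).1
    (tau_bijective_shift h' hμ hu (toEnd_bijective hB he) (subsingleton_ext hB he) (m - n))

include h in
/-- The comparison map for `K = RHom_C(B, V)`. -/
theorem tau_bijective_of_univ {K : Dual.D B} {V : Dual.D C}
    {eV : (DRing.restrictD (algebraMap C B)).obj K ⟶ V} (hV : IsUniv (algebraMap C B) eV) :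
    Function.Bijective (tau (flatBC (algebraMap B B') h') u K) :=
  (tau_bijective_iff C C' B B' h h' u hB hV).2
    (tau_down_bijective C C' B B' h h' hB hμ hN he hu V)

end Main

end Groth.Agent.LoccohB.RelTheta
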