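import Groth.Agent.LoccohB.RelTheta
import Groth.Agent.LoccohB.PCChange

/-!
# `Hom_B(ω, K) = Hom_{B'}(μ_* B, i^* K)`: bounded below objects
-/

set_option autoImplicit false

universe u

open CategoryTheory Limits Pretriangulated DerivedCategory

attribute [local instance] HasDerivedCategory.standard

namespace Groth.Agent.LoccohB.RelTheta

open DBase HomBC FlatLBC Univ RelTau Groth.Agent.CohtopA.BrownW Devissage

section Restrict

variable {C B : Type u} [CommRing C] [CommRing B] (ψ : C →+* B)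

/-- `H^n(ψ_* K) = H^n(K)`, naturally. -/
noncomputable def hRes (n : ℤ) : DRing.restrictD ψ ⋙ homologyFunctor (ModuleCat.{u} C) n ≅
    homologyFunctor (ModuleCat.{u} B) n ⋙ ModuleCat.restrictScalars.{u} ψ :=
  mapDerivedCategoryHomologyIso (ModuleCat.restrictScalars.{u} ψ) n

lemma mono_of_restrictD {K L : Dual.D B} (f : K ⟶ L) (n : ℤ)
    (hf : Mono ((homologyFunctor (ModuleCat.{u} C) n).map ((DRing.restrictD ψ).map f))) :
    Mono ((homologyFunctor (ModuleCat.{u} B) n).map f) := by
  have h1 : (ModuleCat.restrictScalars.{u} ψ).map ((homologyFunctor (ModuleCat.{u} B) n).map f) =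
      (hRes ψ n).inv.app K ≫
        (homologyFunctor (ModuleCat.{u} C) n).map ((DRing.restrictD ψ).map f) ≫
          (hRes ψ n).hom.app L := by
    have h2 := (hRes ψ n).inv.naturality f
    rw [← reassoc_of% h2]
    exact (Category.comp_id _).symm.trans (congrArg _ ((hRes ψ n).inv_hom_id_app L).symm)
  have h3 : Mono ((ModuleCat.restrictScalars.{u} ψ).map
      ((homologyFunctor (ModuleCat.{u} B) n).map f)) := by
    rw [h1]
    infer_instance
  exact (ModuleCat.restrictScalars.{u} ψ).mono_of_mono_map h3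

lemma isGE_restrictD (K : Dual.D B) (n : ℤ) [K.IsGE n] : ((DRing.restrictD ψ).obj K).IsGE n := by
  rw [isGE_iff]
  intro i hi
  exact (((ModuleCat.restrictScalars.{u} ψ).map_isZero (K.isZero_of_isGE n i hi))).of_iso
    ((hRes ψ i).app K)

lemma isLE_restrictD (K : Dual.D B) (n : ℤ) [K.IsLE n] : ((DRing.restrictD ψ).obj K).IsLE n := by
  rw [isLE_iff]
  intro i hi
  exact (((ModuleCat.restrictScalars.{u} ψ).map_isZero (K.isZero_of_isLE n i hi))).of_iso
    ((hRes ψ i).app K)

variable {ψ}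

/-- For `ψ` surjective, linear maps over `C` between `B`-modules are `B`-linear. -/
lemma exists_restrictScalars_map (hψ : Function.Surjective ψ) {M N : ModuleCat.{u} B}
    (f : (ModuleCat.restrictScalars.{u} ψ).obj M ⟶ (ModuleCat.restrictScalars.{u} ψ).obj N) :
    ∃ g : M ⟶ N, (ModuleCat.restrictScalars.{u} ψ).map g = f := by
  let f' : M →ₗ[B] N :=
    { toFun := fun x => f.hom x
      map_add' := fun x y => f.hom.map_add x y
      map_smul' := fun b x => by
        obtain ⟨c, rfl⟩ := hψ b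
        exact f.hom.map_smul c x }
  exact ⟨ModuleCat.ofHom f', rfl⟩

/-- Arrows `ψ_*(B[-a]) ⟶ ψ_* K` for `K` in `D^{≥ a}` come from `D(B)` if `ψ` is surjective. -/
lemma exists_map_eq (hψ : Function.Surjective ψ) (K : Dual.D B) (a : ℤ) [K.IsGE a]
    (f : (DRing.restrictD ψ).obj (sg B a B) ⟶ (DRing.restrictD ψ).obj K) :
    ∃ g : sg B a B ⟶ K, (DRing.restrictD ψ).map g = f := by
  obtain ⟨T, hT, h2, h1, h3, hi1, hi3⟩ := exists_trunc K a (a + 1) rfl
  subst h2
  have hT' := (DRing.restrictD ψ).map_distinguished T hT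
  have hGE : T.obj₁.IsGE a := by
    rw [isGE_iff]
    intro i hi
    have := hi1 i hi.le
    exact (T.obj₂.isZero_of_isGE a i hi).of_iso (asIso ((homologyFunctor _ i).map T.mor₁))
  have h4 : (sg B a B).IsLE a := inferInstance
  have h5 := isLE_restrictD ψ (sg B a B) a
  have h6 := isGE_restrictD ψ T.obj₃ (a + 1)
  have hz : f ≫ (DRing.restrictD ψ).map T.mor₂ = 0 :=
    (TStructure.t : Triangulated.TStructure (Dual.D C)).zero _ a (a + 1) (by lia)
  obtain ⟨f', hf'⟩ : ∃ f' : (DRing.restrictD ψ).obj (sg B a B) ⟶ (DRing.restrictD ψ).obj T.obj₁,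
      f = f' ≫ (DRing.restrictD ψ).map T.mor₁ := Triangle.coyoneda_exact₂ _ hT' f hz
  let M := (homologyFunctor (ModuleCat.{u} B) a).obj T.obj₁
  obtain ⟨e⟩ : Nonempty (T.obj₁ ≅ (singleFunctor (ModuleCat.{u} B) a).obj M) :=
    nonempty_iso_single T.obj₁ a
  let r1 := RAdjFin.restrictDSingle ψ a (ModuleCat.of B B)
  let r2 := RAdjFin.restrictDSingle ψ a M
  let w : (singleFunctor (ModuleCat.{u} C) a).obj
      ((ModuleCat.restrictScalars.{u} ψ).obj (ModuleCat.of B B)) ⟶
      (singleFunctor (ModuleCat.{u} C) a).obj ((ModuleCat.restrictScalars.{u} ψ).obj M) :=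
    r1.inv ≫ f' ≫ (DRing.restrictD ψ).map e.hom ≫ r2.hom
  obtain ⟨w1, hw1⟩ := (singleFunctor (ModuleCat.{u} C) a).map_surjective w
  obtain ⟨w2, hw2⟩ := exists_restrictScalars_map hψ w1
  refine ⟨(singleFunctor (ModuleCat.{u} B) a).map w2 ≫ e.inv ≫ T.mor₁, ?_⟩
  have hnat : (DRing.restrictD ψ).map ((singleFunctor (ModuleCat.{u} B) a).map w2) ≫ r2.hom =
      r1.hom ≫ (singleFunctor (ModuleCat.{u} C) a).map
        ((ModuleCat.restrictScalars.{u} ψ).map w2) :=
    ((ModuleCat.restrictScalars.{u} ψ).mapDerivedCategorySingleFunctor a).hom.naturality w2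
  have hw3 : (DRing.restrictD ψ).map ((singleFunctor (ModuleCat.{u} B) a).map w2) =
      f' ≫ (DRing.restrictD ψ).map e.hom := by
    rw [← cancel_mono r2.hom, hnat, hw2, hw1]
    simp only [w, Iso.hom_inv_id_assoc, Category.assoc]
  rw [Functor.map_comp, hw3, Functor.map_comp, Category.assoc, ← Functor.map_comp_assoc,
    Iso.hom_inv_id, CategoryTheory.Functor.map_id, Category.id_comp]
  exact hf'.symm

variable (ψ)

/-- The unit `K ⟶ R ψ_* K` is injective on cohomology. -/
lemma mono_unit (K : Dual.D B) (n : ℤ) :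
    Mono ((homologyFunctor (ModuleCat.{u} B) n).map ((RAdj.coextAdj ψ).unit.app K)) := by
  apply mono_of_restrictD ψ
  have h1 : (homologyFunctor (ModuleCat.{u} C) n).map
      ((DRing.restrictD ψ).map ((RAdj.coextAdj ψ).unit.app K)) ≫
      (homologyFunctor (ModuleCat.{u} C) n).map
        ((RAdj.coextAdj ψ).counit.app ((DRing.restrictD ψ).obj K)) = 𝟙 _ := by
    rw [← Functor.map_comp]
    exact (congrArg _ ((RAdj.coextAdj ψ).left_triangle_components K)).trans
      (CategoryTheory.Functor.map_id _ _)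
  exact mono_of_mono_fac h1

variable {ψ}

/-- The unit `K ⟶ R ψ_* K` is surjective on the bottom cohomology. -/
lemma epi_unit (hψ : Function.Surjective ψ) (K : Dual.D B) (a : ℤ) [K.IsGE a] :
    Epi ((homologyFunctor (ModuleCat.{u} B) a).map ((RAdj.coextAdj ψ).unit.app K)) := by
  rw [ModuleCat.epi_iff_surjective]
  intro x
  let L := (RAdj.RCoext ψ).obj ((DRing.restrictD ψ).obj K)
  obtain ⟨f, hf⟩ := (homEquivHD (A := B) a L).surjective x
  obtain ⟨g, hg⟩ := exists_map_eq hψ K a (((RAdj.coextAdj ψ).homEquiv _ _).symm f)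
  refine ⟨homEquivHD a K g, ?_⟩
  let η : K ⟶ L := (RAdj.coextAdj ψ).unit.app K
  have h1 : homEquivHD a L (g ≫ η) =
      ((homologyFunctor (ModuleCat.{u} B) a).map η).hom (homEquivHD a K g) :=
    homEquivHD_comp a g η
  have h2 : g ≫ η = f := by
    have h3 : (RAdj.coextAdj ψ).homEquiv _ _ ((DRing.restrictD ψ).map g) = f := by
      rw [hg, Equiv.apply_symm_apply]
    rw [← h3, Adjunction.homEquiv_unit]
    exact (RAdj.coextAdj ψ).unit.naturality g
  rw [h2, hf] at h1
  exact h1.symm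

/-- The cone of the unit `K ⟶ R ψ_* K` is in `D^{≥ a + 1}` if `K` is in `D^{≥ a}`. -/
lemma isGE_cone (hψ : Function.Surjective ψ) (K : Dual.D B) (a : ℤ) [K.IsGE a]
    {Z : Dual.D B} {g : (RAdj.RCoext ψ).obj ((DRing.restrictD ψ).obj K) ⟶ Z}
    {w : Z ⟶ K⟦(1 : ℤ)⟧}
    (hT : Triangle.mk ((RAdj.coextAdj ψ).unit.app K) g w ∈ distTriang (Dual.D B)) :
    Z.IsGE (a + 1) := by
  have h0 := isGE_restrictD ψ K a
  have h1 := RAdjFin.isGE_radj (RAdj.coextAdj ψ) ((DRing.restrictD ψ).obj K) a
  rw [isGE_iff]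
  intro i hi
  have h2 := mono_unit ψ K (i + 1)
  have h3 : Epi ((homologyFunctor (ModuleCat.{u} B) i).map g) :=
    (HomologySequence.epi_homologyMap_mor₂_iff _ hT i (i + 1)).2
      ((HomologySequence.mono_homologyMap_mor₁_iff _ hT i (i + 1)).1 h2)
  have h4 : (homologyFunctor (ModuleCat.{u} B) i).map g = 0 := by
    by_cases hia : i = a
    · subst hia
      have h5 := epi_unit hψ K i
      exact (HomologySequence.epi_homologyMap_mor₁_iff _ hT i).1 h5
    · exact (((RAdj.RCoext ψ).obj ((DRing.restrictD ψ).obj K)).isZero_of_isGE a i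
        (by lia)).eq_of_src _ _
  exact IsZero.of_epi_eq_zero _ h4

end Restrict

section Induction

variable (C C' B B' : Type u) [CommRing C] [CommRing C'] [CommRing B] [CommRing B']
  [Algebra C C'] [Algebra C B] [Algebra C' B'] [Algebra B B'] [Algebra C B']
  [IsScalarTower C C' B'] [IsScalarTower C B B'] [Algebra.IsPushout C C' B B']
  (h : (algebraMap C C').Flat) (h' : (algebraMap B B').Flat)
  (hB : DRing.IsPerfect C ((DRing.restrictD (algebraMap C B)).obj (Dual.inD B B)))
  (hψ : Function.Surjective (algebraMap C B))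
  {μ : B' →+* B} (hμ : μ.comp (algebraMap B B') = RingHom.id B)
  (hN : IsCompactW.{u} ((DRing.restrictD (algebraMap C' B')).obj
    ((DRing.restrictD μ).obj (Dual.inD B B))))
  {X : Dual.D B} {m : ℤ} {e : (DRing.restrictD (algebraMap C B)).obj X ⟶ sg C m C}
  (he : IsUniv (algebraMap C B) e)
  {u : (DRing.restrictD μ).obj (Dual.inD B B) ⟶ (flatBC (algebraMap B B') h').obj X}
  (hu : IsUniv μ u)

include h hB hψ hμ hN he hu

lemma tau_bijective_aux (b : ℤ) [X.IsLE b] (c : ℤ) (hbc : b < c) (hc : 0 < c) (n : ℕ) :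
    ∀ (K : Dual.D B) [K.IsGE (c - n)],
      Function.Bijective (tau (flatBC (algebraMap B B') h') u K) := by
  induction n with
  | zero =>
    intro K hK
    have hK' : K.IsGE c := by simpa using hK
    have h1 : ∀ f : X ⟶ K, f = 0 := fun f =>
      (TStructure.t : Triangulated.TStructure (Dual.D B)).zero f b c hbc
    have h2 := isGE_flatBC B' h' K c
    have h3 : (Dual.inD B B).IsLE 0 :=
      inferInstanceAs (((singleFunctor (ModuleCat.{u} B) 0).obj (ModuleCat.of B B)).IsLE 0)
    have h4 := isLE_restrictD μ (Dual.inD B B) 0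
    have h5 : ∀ f : (DRing.restrictD μ).obj (Dual.inD B B) ⟶
        (flatBC (algebraMap B B') h').obj K, f = 0 := fun f =>
      (TStructure.t : Triangulated.TStructure (Dual.D B')).zero f 0 c hc
    exact ⟨fun x y _ => by rw [h1 x, h1 y], fun y => ⟨0, by rw [h5 y]; exact h5 _⟩⟩
  | succ n ih =>
    intro K hK
    obtain ⟨Z, g, w, hT⟩ :=
      distinguished_cocone_triangle ((RAdj.coextAdj (algebraMap C B)).unit.app K)
    have hZ : Z.IsGE (c - n) := by
      have := isGE_cone hψ K (c - (n + 1 : ℕ)) hT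
      convert this using 1
      push_cast
      ring
    have hZ' : (Z⟦(-1 : ℤ)⟧).IsGE (c - n) := by
      have h1 : (Z⟦(-1 : ℤ)⟧).IsGE (c - n + 1) :=
        (TStructure.t : Triangulated.TStructure (Dual.D B)).isGE_shift Z (c - n) (-1) _ (by lia)
      exact (TStructure.t : Triangulated.TStructure (Dual.D B)).isGE_of_ge _ _ (c - n + 1) (by lia)
    have hR : ∀ j : ℤ, Function.Bijective (tau (flatBC (algebraMap B B') h') u
        (((RAdj.RCoext (algebraMap C B)).obj
          ((DRing.restrictD (algebraMap C B)).obj K))⟦j⟧)) := fun j =>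
      tau_bijective_of_univ C C' B B' h h' hB hμ hN he hu
        ((isUniv_counit (RAdj.coextAdj (algebraMap C B)) _).shift j)
    have hT' := inv_rot_of_distTriang _ (inv_rot_of_distTriang _ hT)
    have e1 : ∀ L : Dual.D B, L ≅ L⟦(-1 : ℤ)⟧⟦(1 : ℤ)⟧ := fun L =>
      ((shiftFunctorCompIsoId (Dual.D B) (-1) 1 (by simp)).app L).symm
    exact tau_bijective₃ u _ hT' (hR (-1)).2 (ih (Z⟦(-1 : ℤ)⟧))
      (tau_bijective_of_iso u (e1 _) (tau_bijective_of_iso u
        ((shiftFunctorZero (Dual.D B) ℤ).app _) (hR 0)))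
      (tau_bijective_of_iso u (e1 _) (ih Z)).1

/-- **The comparison map** `Hom_B(X, K) → Hom_{B'}(μ_* B, i^* K)` is bijective for `K` bounded
below. -/
theorem tau_bijective_of_isGE (b : ℤ) [X.IsLE b] (K : Dual.D B) (a : ℤ) [K.IsGE a] :
    Function.Bijective (tau (flatBC (algebraMap B B') h') u K) := by
  have h1 : K.IsGE ((max b 0 + 1) - ((max b 0 + 1 - a).toNat : ℤ)) :=
    (TStructure.t : Triangulated.TStructure (Dual.D B)).isGE_of_ge _ _ a (by lia)
  exact tau_bijective_aux C C' B B' h h' hB hψ hμ hN he hu b (max b 0 + 1) (by lia) (by lia)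
    (max b 0 + 1 - a).toNat K

end Induction

end Groth.Agent.LoccohB.RelTheta
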