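import Groth.Agent.LoccohB.RelTheta2

/-!
# Uniqueness of `K` in `D⁺(B)` with a universal arrow `μ_* B ⟶ i^* K`
-/

set_option autoImplicit false

universe u

open CategoryTheory Limits Pretriangulated DerivedCategory

attribute [local instance] HasDerivedCategory.standard

namespace Groth.Agent.LoccohB.RelTheta

open DBase HomBC FlatLBC Univ RelTau Groth.Agent.CohtopA.BrownW Devissage

section Uniq

variable (C C' B B' : Type u) [CommRing C] [CommRing C'] [CommRing B] [CommRing B']
  [Algebra C C'] [Algebra C B] [Algebra C' B'] [Algebra B B'] [Algebra C B']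
  [IsScalarTower C C' B'] [IsScalarTower C B B'] [Algebra.IsPushout C C' B B']
  (h : (algebraMap C C').Flat) (h' : (algebraMap B B').Flat)
  (hB : DRing.IsPerfect C ((DRing.restrictD (algebraMap C B)).obj (Dual.inD B B)))
  (hψ : Function.Surjective (algebraMap C B))
  {μ : B' →+* B} (hμ : μ.comp (algebraMap B B') = RingHom.id B)
  (hN : IsCompactW.{u} ((DRing.restrictD (algebraMap C' B')).obj
    ((DRing.restrictD μ).obj (Dual.inD B B))))
  {X : Dual.D B} {m : ℤ} {e : (DRing.restrictD (algebraMap C B)).obj X ⟶ sg C m C}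
  (he : IsUniv (algebraMap C B) e)
  {u : (DRing.restrictD μ).obj (Dual.inD B B) ⟶ (flatBC (algebraMap B B') h').obj X}
  (hu : IsUniv μ u)

include h hB hψ hμ hN he hu

/-- **Uniqueness**: `K` in `D⁺(B)` with a universal arrow `μ_* B ⟶ i^* K` is isomorphic to `X`. -/
theorem nonempty_iso (b : ℤ) [X.IsLE b] (c : ℤ) [X.IsGE c] (hX : DRing.IsPseudoCoherent' B X)
    (K : Dual.D B) (a : ℤ) [K.IsGE a]
    {uK : (DRing.restrictD μ).obj (Dual.inD B B) ⟶ (flatBC (algebraMap B B') h').obj K}
    (huK : IsUniv μ uK) : Nonempty (X ≅ K) := by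
  have adj := RAdj.coextAdj μ
  let _ := adj.rightAdjointCommShift ℤ
  have := adj.commShift_of_leftAdjoint ℤ
  have hRt : (RAdj.RCoext μ).IsTriangulated := adj.isTriangulated_rightAdjoint
  obtain ⟨g, hg⟩ := (tau_bijective_of_isGE C C' B B' h h' hB hψ hμ hN he hu b K a).2 uK
  obtain ⟨Z, v, w, hT⟩ := distinguished_cocone_triangle g
  suffices hZ : IsZero Z by
    have h1 : IsIso g := (Triangle.isZero₃_iff_isIso₁ _ hT).1 hZ
    exact ⟨asIso g⟩
  have hZ1 : Z.IsGE (min (c - 1) a) := by
    have h1 : K.IsGE (min (c - 1) a) :=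
      (TStructure.t : Triangulated.TStructure (Dual.D B)).isGE_of_ge _ _ a (by lia)
    have h2 : (X⟦(1 : ℤ)⟧).IsGE (c - 1) :=
      (TStructure.t : Triangulated.TStructure (Dual.D B)).isGE_shift X c 1 _ (by lia)
    have h3 : (X⟦(1 : ℤ)⟧).IsGE (min (c - 1) a) :=
      (TStructure.t : Triangulated.TStructure (Dual.D B)).isGE_of_ge _ _ (c - 1) (by lia)
    exact (TStructure.t : Triangulated.TStructure (Dual.D B)).isGE₂ _
      (rot_of_distTriang _ hT) _ h1 h3
  -- `R i^* Z = 0`
  have hZ2 : IsZero ((RAdj.RCoext μ).obj ((flatBC (algebraMap B B') h').obj Z)) := by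
    have h1 := (RAdj.RCoext μ).map_distinguished _
      ((flatBC (algebraMap B B') h').map_distinguished _ hT)
    refine (Triangle.isZero₃_iff_isIso₁ _ h1).2 ?_
    change IsIso ((RAdj.RCoext μ).map ((flatBC (algebraMap B B') h').map g))
    have h2 := (isUniv_iff_isIso adj u).1 hu
    have h3 := (isUniv_iff_isIso adj uK).1 huK
    have h4 : adj.homEquiv _ _ u ≫
        (RAdj.RCoext μ).map ((flatBC (algebraMap B B') h').map g) = adj.homEquiv _ _ uK := by
      rw [← hg, ← Adjunction.homEquiv_naturality_right]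
      rfl
    rw [← h4] at h3
    exact IsIso.of_isIso_comp_left (adj.homEquiv _ _ u) _
  refine GenLemma.isZero_of_hom' X Z hX c (toEnd_bijective hB he).1 (min (c - 1) a) ?_
  intro j
  have hZ3 : (Z⟦j⟧).IsGE (min (c - 1) a - j) :=
    (TStructure.t : Triangulated.TStructure (Dual.D B)).isGE_shift Z
      (min (c - 1) a) j (min (c - 1) a - j) (by lia)
  have h1 := tau_bijective_of_isGE C C' B B' h h' hB hψ hμ hN he hu b (Z⟦j⟧)
    (min (c - 1) a - j)
  refine (Equiv.ofBijective _ h1).subsingleton_congr.2 ?_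
  refine ((adj.homEquiv _ _).subsingleton_congr).2 ?_
  have h2 : IsZero ((RAdj.RCoext μ).obj ((flatBC (algebraMap B B') h').obj (Z⟦j⟧))) := by
    have e1 : (RAdj.RCoext μ).obj ((flatBC (algebraMap B B') h').obj (Z⟦j⟧)) ≅
        ((RAdj.RCoext μ).obj ((flatBC (algebraMap B B') h').obj Z))⟦j⟧ :=
      (RAdj.RCoext μ).mapIso (((flatBC (algebraMap B B') h').commShiftIso j).app Z) ≪≫
        ((RAdj.RCoext μ).commShiftIso j).app _
    exact ((shiftFunctor _ j).map_isZero hZ2).of_iso e1
  exact ⟨fun f g => h2.eq_of_tgt f g⟩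

end Uniq

end Groth.Agent.LoccohB.RelTheta
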