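import Groth.Agent.LoccohB.RelTheta3
import Groth.Agent.LoccohB.RelAsm285

/-!
# Uniqueness of relative dualizing complexes (Stacks 0E2D, 0E2G)

`R → A` flat of finite presentation, `ψ : R[x₁, …, xₙ] → A` surjective,
`ω = RHom_{R[x]}(A, R[x])[n]`.  Every relative dualizing complex of `A` over `R` is isomorphic to `ω`.
-/

set_option autoImplicit false

universe u

open CategoryTheory Limits Pretriangulated DerivedCategory TensorProduct

attribute [local instance] HasDerivedCategory.standard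

namespace Groth.Agent.LoccohB.RelUniq

open DBase FlatLBC Univ RelTheta Groth.Agent.CohtopA.BrownW

section Algebra

attribute [local instance] Algebra.TensorProduct.rightAlgebra MvPolynomial.algebraMvPolynomial

variable (R R' A : Type u) [CommRing R] [CommRing R'] [CommRing A] [Algebra R R'] [Algebra R A]
  (n : ℕ) [Algebra (MvPolynomial (Fin n) R) A]

/-- `R'[x] → A ⊗_R R'`. -/
noncomputable def psi' : MvPolynomial (Fin n) R' →+* (A ⊗[R] R') :=
  MvPolynomial.eval₂Hom (Algebra.TensorProduct.includeRight : R' →ₐ[R] A ⊗[R] R').toRingHom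
    (fun i => (algebraMap (MvPolynomial (Fin n) R) A (MvPolynomial.X i)) ⊗ₜ[R] 1)

lemma psi'_C (r : R') : psi' R R' A n (MvPolynomial.C r) = (1 : A) ⊗ₜ[R] r :=
  MvPolynomial.eval₂Hom_C _ _ r

lemma psi'_X (i : Fin n) : psi' R R' A n (MvPolynomial.X i) =
    (algebraMap (MvPolynomial (Fin n) R) A (MvPolynomial.X i)) ⊗ₜ[R] 1 :=
  MvPolynomial.eval₂Hom_X' _ _ i

variable [IsScalarTower R (MvPolynomial (Fin n) R) A]

lemma psi'_comp : (psi' R R' A n).comp (MvPolynomial.map (algebraMap R R')) =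
    algebraMap (MvPolynomial (Fin n) R) (A ⊗[R] R') := by
  apply MvPolynomial.ringHom_ext
  · intro r
    rw [RingHom.comp_apply, MvPolynomial.map_C, psi'_C]
    change _ = (algebraMap (MvPolynomial (Fin n) R) A (algebraMap R _ r)) ⊗ₜ[R] 1
    rw [← IsScalarTower.algebraMap_apply, Algebra.algebraMap_eq_smul_one,
      Algebra.algebraMap_eq_smul_one, TensorProduct.smul_tmul]
  · intro i
    rw [RingHom.comp_apply, MvPolynomial.map_X, psi'_X]
    rfl

theorem isPushout_aux : letI := (psi' R R' A n).toAlgebra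
    ∃ (_ : IsScalarTower (MvPolynomial (Fin n) R) (MvPolynomial (Fin n) R') (A ⊗[R] R')),
      Algebra.IsPushout (MvPolynomial (Fin n) R) (MvPolynomial (Fin n) R') A (A ⊗[R] R') := by
  let _ := (psi' R R' A n).toAlgebra
  have t1 : IsScalarTower (MvPolynomial (Fin n) R) (MvPolynomial (Fin n) R') (A ⊗[R] R') :=
    IsScalarTower.of_algebraMap_eq' (psi'_comp R R' A n).symm
  refine ⟨t1, ?_⟩
  have t2 : IsScalarTower R' (MvPolynomial (Fin n) R') (A ⊗[R] R') :=
    IsScalarTower.of_algebraMap_eq fun r => (psi'_C R R' A n r).symm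
  have t3 : IsScalarTower R (MvPolynomial (Fin n) R') (A ⊗[R] R') :=
    IsScalarTower.of_algebraMap_eq fun r => by
      rw [IsScalarTower.algebraMap_apply R R' (MvPolynomial (Fin n) R'),
        ← IsScalarTower.algebraMap_apply R' (MvPolynomial (Fin n) R') (A ⊗[R] R'),
        ← IsScalarTower.algebraMap_apply R R' (A ⊗[R] R')]
  have h1 : Algebra.IsPushout R (MvPolynomial (Fin n) R) R' (MvPolynomial (Fin n) R') :=
    Algebra.IsPushout.symm inferInstance
  have h2 : Algebra.IsPushout R A R' (A ⊗[R] R') := inferInstance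
  exact ((Algebra.IsPushout.comp_iff R (MvPolynomial (Fin n) R) R'
    (MvPolynomial (Fin n) R')).1 h2).symm

lemma flat_map [Module.Flat R R'] :
    (algebraMap (MvPolynomial (Fin n) R) (MvPolynomial (Fin n) R')).Flat := by
  rw [RingHom.flat_algebraMap_iff]
  have : Algebra.IsPushout R (MvPolynomial (Fin n) R) R' (MvPolynomial (Fin n) R') :=
    Algebra.IsPushout.symm inferInstance
  exact Module.Flat.isBaseChange R (MvPolynomial (Fin n) R) R' (MvPolynomial (Fin n) R')
    this.out

end Algebra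

section Tor

/-- Finite tor dimension implies boundedness. -/
lemma exists_bounds_of_hasFiniteTorDimCx {P : Type u} [CommRing P] {K : Dual.D P}
    (h : DRing.HasFiniteTorDimCx P K) :
    ∃ a b : ℤ, ∀ i : ℤ, (i < a ∨ b < i) → Subsingleton (Dual.HD P K i) := by
  obtain ⟨a, b, E, hE, -, ⟨e⟩⟩ := h
  refine ⟨a, b, fun i hi => ?_⟩
  have h1 : IsZero (E.homology i) := by
    rw [← HomologicalComplex.exactAt_iff_isZero_homology, HomologicalComplex.exactAt_iff]
    exact ShortComplex.exact_of_isZero_X₂ _ (hE i hi)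
  have h2 : IsZero ((homologyFunctor (ModuleCat.{u} P) i).obj (DRing.toD E)) :=
    IsZero.of_iso h1 ((homologyFunctorFactors (ModuleCat.{u} P) i).app E)
  exact ModuleCat.subsingleton_of_isZero
    (IsZero.of_iso h2 ((homologyFunctor (ModuleCat.{u} P) i).mapIso e.symm))

lemma exists_isGE_of_bounds {P : Type u} [CommRing P] {K : Dual.D P}
    (h : ∃ a b : ℤ, ∀ i : ℤ, (i < a ∨ b < i) → Subsingleton (Dual.HD P K i)) :
    (∃ a : ℤ, K.IsGE a) ∧ ∃ b : ℤ, K.IsLE b := by
  obtain ⟨a, b, h⟩ := h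
  refine ⟨⟨a, ?_⟩, b, ?_⟩
  · rw [isGE_iff]
    intro i hi
    exact (HomBC.isZero_homology_iff K i).2 (h i (Or.inl hi))
  · rw [isLE_iff]
    intro i hi
    exact (HomBC.isZero_homology_iff K i).2 (h i (Or.inr hi))

lemma exists_isGE_of_restrict {P Q : Type u} [CommRing P] [CommRing Q] (φ : P →+* Q)
    {K : Dual.D Q} (h : DRing.HasFiniteTorDimCx P ((DRing.restrictD φ).obj K)) :
    (∃ a : ℤ, K.IsGE a) ∧ ∃ b : ℤ, K.IsLE b := by
  obtain ⟨a, b, h⟩ := exists_bounds_of_hasFiniteTorDimCx h
  exact exists_isGE_of_bounds ⟨a, b, fun i hi => (RelOmega.subsingleton_HD_restrict φ K i).1 (h i hi)⟩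

end Tor

section Main

variable (R A : Type u) [CommRing R] [CommRing A] [Algebra R A]

lemma algebraMap_eq : algebraMap A (A ⊗[R] A) =
    (Algebra.TensorProduct.includeLeftRingHom : A →+* TensorProduct R A A) := rfl

/-- The universal arrow of a relative dualizing complex. -/
lemma exists_univ
    [DRing.HasLBaseChange (Algebra.TensorProduct.includeLeftRingHom : A →+* TensorProduct R A A)]
    (Rμ : Dual.D (TensorProduct R A A) ⥤ Dual.D A)
    (adjμ : DRing.restrictD (Algebra.TensorProduct.lmul' R (S := A)).toRingHom ⊣ Rμ)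
    (h' : (algebraMap A (A ⊗[R] A)).Flat) {K : Dual.D A} (hK : Dual2.IsRelDualizing R A Rμ K) :
    ∃ u : (DRing.restrictD (Algebra.TensorProduct.lmul' R (S := A)).toRingHom).obj (Dual.inD A A) ⟶
      (flatBC (algebraMap A (A ⊗[R] A)) h').obj K,
      IsUniv (Algebra.TensorProduct.lmul' R (S := A)).toRingHom u := by
  obtain ⟨-, ⟨e⟩⟩ := hK
  let i : Dual.inD A A ≅ Rμ.obj ((flatBC (algebraMap A (A ⊗[R] A)) h').obj K) :=
    e.symm ≪≫ Rμ.mapIso ((LBaseChangeIso
      (Algebra.TensorProduct.includeLeftRingHom : A →+* TensorProduct R A A) h').app K)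
  exact ⟨_, (isUniv_counit adjμ _).of_iso_left i⟩

variable [Module.Flat R A] [Algebra.FinitePresentation R A]

attribute [local instance] MvPolynomial.algebraMvPolynomial in
/-- **Uniqueness**: a relative dualizing complex is isomorphic to `RHom_{R[x]}(A, R[x])[n]`. -/
theorem nonempty_iso_omega (n : ℕ) (ψ : MvPolynomial (Fin n) R →ₐ[R] A)
    (hψ : Function.Surjective ψ)
    [DRing.HasLBaseChange (Algebra.TensorProduct.includeLeftRingHom : A →+* TensorProduct R A A)]
    (Rμ : Dual.D (TensorProduct R A A) ⥤ Dual.D A)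
    (adjμ : DRing.restrictD (Algebra.TensorProduct.lmul' R (S := A)).toRingHom ⊣ Rμ)
    {K : Dual.D A} (hK : Dual2.IsRelDualizing R A Rμ K) :
    Nonempty (((RAdj.RCoext ψ.toRingHom).obj
      (Dual.inD (MvPolynomial (Fin n) R) (MvPolynomial (Fin n) R)))⟦(n : ℤ)⟧ ≅ K) := by
  let _ : Algebra (MvPolynomial (Fin n) R) A := ψ.toRingHom.toAlgebra
  have t0 : IsScalarTower R (MvPolynomial (Fin n) R) A :=
    IsScalarTower.of_algebraMap_eq' ψ.comp_algebraMap.symm
  let _ : Algebra (MvPolynomial (Fin n) A) (A ⊗[R] A) := (psi' R A A n).toAlgebra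
  obtain ⟨t1, t2⟩ := isPushout_aux R A A n
  have h : (algebraMap (MvPolynomial (Fin n) R) (MvPolynomial (Fin n) A)).Flat := flat_map R A n
  have h' : (algebraMap A (A ⊗[R] A)).Flat := RingHom.flat_algebraMap_iff.2 inferInstance
  have hB := RelAsm285.isPerfect_of_flat ψ hψ
  have i1 := LBC.hasLBaseChange (algebraMap R (MvPolynomial (Fin n) R))
  have h1 := RelAsm285.isRelDualizing_shriekVia R A n ψ hψ
    (fun φ h K hK => PCChange.isPseudoCoherent'_of_restrictD φ h K hK)
    (RAdj.RCoext ψ.toRingHom) (RAdj.coextAdj _) Rμ adjμ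
  have h2 := RelDual285.isRelDualizing_of_iso (RelOmega.omegaIso n (RAdj.RCoext ψ.toRingHom)) h1
  obtain ⟨u, hu⟩ := exists_univ R A Rμ adjμ h' h2
  obtain ⟨uK, huK⟩ := exists_univ R A Rμ adjμ h' hK
  -- the universal arrow over the polynomial ring
  have he := ((isUniv_counit (RAdj.coextAdj ψ.toRingHom)
    (Dual.inD (MvPolynomial (Fin n) R) (MvPolynomial (Fin n) R))).shift (n : ℤ)).of_iso_right
      (sgShift' (MvPolynomial (Fin n) R) (n : ℤ) (-(n : ℤ)) 0 (by ring))
  -- bounds
  obtain ⟨⟨c, hc⟩, b, hb⟩ := exists_isGE_of_restrict (algebraMap R A) h2.1.2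
  obtain ⟨⟨a, ha⟩, -⟩ := exists_isGE_of_restrict (algebraMap R A) hK.1.2
  have hμ : (Algebra.TensorProduct.lmul' R (S := A)).toRingHom.comp (algebraMap A (A ⊗[R] A)) =
      RingHom.id A := by
    ext a
    change Algebra.TensorProduct.lmul' R (a ⊗ₜ[R] 1) = a
    rw [Algebra.TensorProduct.lmul'_apply_tmul, mul_one]
  -- `A` is perfect over `A[x]`
  have hN : IsCompactW.{u} ((DRing.restrictD (algebraMap (MvPolynomial (Fin n) A)
      (A ⊗[R] A))).obj ((DRing.restrictD
        (Algebra.TensorProduct.lmul' R (S := A)).toRingHom).obj (Dual.inD A A))) := by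
    let ρ : MvPolynomial (Fin n) A →ₐ[A] A :=
      { toRingHom := (Algebra.TensorProduct.lmul' R (S := A)).toRingHom.comp
          (algebraMap (MvPolynomial (Fin n) A) (A ⊗[R] A))
        commutes' := fun r => by
          change Algebra.TensorProduct.lmul' R (psi' R A A n (MvPolynomial.C r)) = r
          rw [psi'_C, Algebra.TensorProduct.lmul'_apply_tmul, one_mul] }
    have hρ : Function.Surjective ρ := fun a => ⟨MvPolynomial.C a, ρ.commutes a⟩
    have h3 := RelAsm285.isPerfect_of_flat ρ hρ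
    exact isCompactW_of_iso ((LBC.restrictDComp (algebraMap (MvPolynomial (Fin n) A) (A ⊗[R] A))
      (Algebra.TensorProduct.lmul' R (S := A)).toRingHom ρ.toRingHom rfl).app (Dual.inD A A)).symm
      (DDev.isCompactW_of_isPerfect h3)
  exact nonempty_iso (MvPolynomial (Fin n) R) (MvPolynomial (Fin n) A) A (A ⊗[R] A) h h' hB hψ hμ
    hN he hu b c h2.1.1 K a huK

end Main

end Groth.Agent.LoccohB.RelUniq
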