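import Groth.Agent.LoccohB.KosP2
import Groth.Agent.LoccohB.RGammaSup

/-!
# Derived completion of `RΓ_J(M)` as a derived limit
-/

set_option autoImplicit false

universe u v w

open CategoryTheory Limits Opposite Pretriangulated

attribute [local instance] HasDerivedCategory.standard

namespace Groth.Agent.LoccohB.RlimComp

open ProZ KosP RGammaTors RGammaTri RGammaSup

variable {A : Type u} [CommRing A] [IsNoetherianRing A]

/-- `RΓ_J` preserves towers which are pro-zero for `kP l`. -/
theorem pz_rgamma (J : Ideal A) (l : List A) {F : ℕᵒᵖ ⥤ Dual.D A} (hF : PZ (kP l) F) :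
    PZ (kP l) (F ⋙ DRing.RgammaI J) := by
  revert F
  refine Submodule.fg_induction (motive := fun (J : Ideal A) _ =>
    ∀ {F : ℕᵒᵖ ⥤ Dual.D A} (_ : PZ (kP l) F), PZ (kP l) (F ⋙ DRing.RgammaI J)) ?_ ?_ J
    (IsNoetherian.noetherian J)
  · intro g F hF
    refine hF.comp_of_cone g (DRing.RgammaI (Ideal.span {g})) (DRing.RgammaIε (Ideal.span {g}))
      (fun Y => exists_triangle_span g Y) (fun Y e x => ?_)
    refine exists_pow_smul_eq_zero g l _ ?_ x
    exact GTors.shift (fun i => HDIBasic.elTor_of_isPowerTorsion (Ideal.span {g}) g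
        (Ideal.mem_span_singleton_self g) _ (torsion_rgamma (Ideal.span {g}) Y i)) e
  · intro I J _ _ h1 h2 F hF
    exact (h2 (h1 hF)).of_iso (Functor.isoWhiskerLeft F (rgSup I J))

/-- If there are no morphisms from `kP l` to shifts of `X`, then there are no morphisms from `X` to
derived complete objects. -/
theorem orth_of_kP (I : Ideal A) [DRing.HasDerivedCompletion I] (l : List A)
    (hl : ∀ f ∈ l, f ∈ I) (X : Dual.D A) (hX : ∀ (e : ℤ) (x : kP l ⟶ X⟦e⟧), x = 0)
    (Z : Dual.D A) (hZ : DRing.IsDerivedComplete I Z) : GMAbs.Orth X Z := by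
  induction l generalizing X Z with
  | nil =>
    have h1 : IsZero X := by
      rw [DCalc.isZero_iff]
      intro i
      apply InjRep.isZero_homology_of_subsingleton
      exact subsingleton_of_forall_eq 0 fun x => hX i x
    intro u
    exact h1.eq_of_src _ _
  | cons f l ih =>
    obtain ⟨i', δ', hT'⟩ := kP_tri f l
    obtain ⟨Y, i, δ, hT⟩ := GMAbs.exists_cone f X
    have hXs : ∀ (e m : ℤ), GMAbs.Orth ((kP (f :: l))⟦m⟧) (X⟦e⟧) := by
      intro e m
      refine GMAbs.orth_shift_left m (-m) (by simp) ?_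
      intro x
      rw [← cancel_mono ((shiftFunctorAdd' (Dual.D A) e (-m) (e + -m) rfl).inv.app X), zero_comp]
      exact hX _ _
    have hbij : ∀ e : ℤ, Function.Bijective
        (fun x : kP l ⟶ X⟦e⟧ => x ≫ (f • 𝟙 X)⟦e⟧') := by
      intro e
      have h0 : (fun x : kP l ⟶ X⟦e⟧ => x ≫ (f • 𝟙 X)⟦e⟧') = fun x => (f • 𝟙 (kP l)) ≫ x := by
        funext x
        rw [GMAbs.shift_smul_id, Linear.comp_smul, Category.comp_id, Linear.smul_comp,
          Category.id_comp]
      rw [h0]
      constructor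
      · intro x y hxy
        dsimp only at hxy
        rw [← sub_eq_zero, ← Preadditive.comp_sub] at hxy
        obtain ⟨w, hw⟩ := Triangle.yoneda_exact₂ _ hT' _ hxy
        rw [← sub_eq_zero]
        exact GMAbs.zero_right hw (hX e w)
      · intro x
        have h1 := inv_rot_of_distTriang _ hT'
        obtain ⟨w, hw⟩ := Triangle.yoneda_exact₂ _ h1 x (hXs e (-1) _)
        exact ⟨w, hw.symm⟩
    have hY : ∀ Z, DRing.IsDerivedComplete I Z → GMAbs.Orth Y Z := fun Z hZ =>
      ih (fun g hg => hl g (List.mem_cons_of_mem _ hg)) Y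
        (fun e x => eq_zero_of_bijective hT (kP l) hbij e x) Z hZ
    -- reflect `X`
    have hη := S1814.exists_refl I X
    obtain ⟨g, hg⟩ := Triangle.yoneda_exact₂ _ (inv_rot_of_distTriang _ hT)
      (DRing.toDerivedCompletion I X)
      (GMAbs.orth_shift_left (-1) 1 (by simp) (hY _ (S1814.complete_shift I _ 1 hη.mem)) _)
    change X ⟶ _ at g
    change DRing.toDerivedCompletion I X = (f • 𝟙 X) ≫ g at hg
    obtain ⟨v, hv⟩ := hη.exists_desc _ hη.mem g
    have h3 : f • v = 𝟙 _ := by
      apply hη.ext _ hη.mem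
      rw [Linear.comp_smul, hv, Category.comp_id]
      conv_rhs => rw [hg]
      rw [Linear.smul_comp, Category.id_comp]
    have h4 := S1814.isZero_of_complete I f (hl f List.mem_cons_self) _ hη.mem v h3
    intro u
    obtain ⟨w, hw⟩ := hη.exists_desc Z hZ u
    rw [← hw, h4.eq_of_src w 0, comp_zero]

section Towers

variable (I : Ideal A) (M : Type u) [AddCommGroup M] [Module A M]

/-- the tower `M / I ^ n M` -/
noncomputable def quotM : ℕᵒᵖ ⥤ ModuleCat.{u} A where
  obj n := ModuleCat.of A (M ⧸ (I ^ n.unop • ⊤ : Submodule A M))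
  map {n m} h := ModuleCat.ofHom (Submodule.mapQ (I ^ n.unop • ⊤ : Submodule A M)
    (I ^ m.unop • ⊤ : Submodule A M) LinearMap.id
    (Submodule.smul_mono (Ideal.pow_le_pow_right (leOfHom h.unop)) le_rfl))
  map_id n := by
    ext x
    rfl
  map_comp f g := by
    ext x
    rfl

/-- the exact sequence `0 → I ^ n M → M → M / I ^ n M → 0` -/
noncomputable def seqM (n : ℕ) : ShortComplex (ModuleCat.{u} A) :=
  ShortComplex.mk (ModuleCat.ofHom (powSub I M n).subtype)
    (ModuleCat.ofHom (powSub I M n).mkQ) (by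
      ext x
      exact (Submodule.Quotient.mk_eq_zero _).2 x.2)

omit [IsNoetherianRing A] in
lemma seqM_shortExact (n : ℕ) : (seqM I M n).ShortExact where
  exact := by
    rw [ShortComplex.moduleCat_exact_iff]
    intro x hx
    exact ⟨⟨x, (Submodule.Quotient.mk_eq_zero _).1 hx⟩, rfl⟩
  mono_f := (ModuleCat.mono_iff_injective _).2 Subtype.val_injective
  epi_g := (ModuleCat.epi_iff_surjective _).2
    (Submodule.Quotient.mk_surjective (powSub I M n))

/-- transition morphisms of `seqM` -/
noncomputable def seqMMap {n m : ℕ} (h : n ≤ m) : seqM I M m ⟶ seqM I M n where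
  τ₁ := (powM I M).map (homOfLE h).op
  τ₂ := 𝟙 _
  τ₃ := (quotM I M).map (homOfLE h).op
  comm₁₂ := rfl
  comm₂₃ := rfl

end Towers

section Single

variable {C : Type u} [Category.{v} C] [Abelian C] [HasDerivedCategory.{w} C]

lemma single_δ_naturality {S₁ S₂ : ShortComplex C} (h₁ : S₁.ShortExact) (h₂ : S₂.ShortExact)
    (f : S₁ ⟶ S₂) : (DerivedCategory.singleFunctor C 0).map f.τ₃ ≫ h₂.singleδ =
      h₁.singleδ ≫ ((DerivedCategory.singleFunctor C 0).map f.τ₁)⟦(1 : ℤ)⟧' :=
  (ShortComplex.ShortExact.singleTriangle.map h₁ h₂ f).comm₃.symm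

end Single

end Groth.Agent.LoccohB.RlimComp
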