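import Groth.Agent.LoccohB.RlimComp

/-!
# The towers `RΓ_J (I ^ n M)` and `RΓ_J (M / I ^ n M)`
-/

set_option autoImplicit false

universe u v w

open CategoryTheory Limits Opposite Pretriangulated

attribute [local instance] HasDerivedCategory.standard

namespace Groth.Agent.LoccohB.RlimComp

open ProZ KosP RGammaTors RGammaTri RGammaSup
open scoped Groth.Agent.LoccohB.RGammaTri

section Abstract

variable {C : Type u} [Category.{v} C] [Abelian C] [HasDerivedCategory.{w} C]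
  {T : Type*} [Category* T] [Preadditive T] [HasZeroObject T] [HasShift T ℤ]
  [∀ n : ℤ, (shiftFunctor T n).Additive] [Pretriangulated T]
  (G : DerivedCategory C ⥤ T) [G.CommShift ℤ]

/-- the connecting morphism after applying `G` -/
noncomputable def gδ {S : ShortComplex C} (hS : S.ShortExact) :
    G.obj ((DerivedCategory.singleFunctor C 0).obj S.X₃) ⟶
      (G.obj ((DerivedCategory.singleFunctor C 0).obj S.X₁))⟦(1 : ℤ)⟧ :=
  G.map hS.singleδ ≫ (G.commShiftIso (1 : ℤ)).hom.app _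

omit [Preadditive T] [HasZeroObject T] [∀ n : ℤ, (shiftFunctor T n).Additive]
  [Pretriangulated T] in
lemma gδ_naturality {S₁ S₂ : ShortComplex C} (h₁ : S₁.ShortExact) (h₂ : S₂.ShortExact)
    (f : S₁ ⟶ S₂) : G.map ((DerivedCategory.singleFunctor C 0).map f.τ₃) ≫ gδ G h₂ =
      gδ G h₁ ≫ (G.map ((DerivedCategory.singleFunctor C 0).map f.τ₁))⟦(1 : ℤ)⟧' := by
  have h := (G.commShiftIso (1 : ℤ)).hom.naturality ((DerivedCategory.singleFunctor C 0).map f.τ₁)
  dsimp at h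
  rw [gδ, gδ, ← Category.assoc, ← G.map_comp, single_δ_naturality h₁ h₂ f, G.map_comp,
    Category.assoc, Category.assoc, h]

lemma gδ_distinguished [G.IsTriangulated] {S : ShortComplex C} (hS : S.ShortExact) :
    Triangle.mk (G.map ((DerivedCategory.singleFunctor C 0).map S.f))
      (G.map ((DerivedCategory.singleFunctor C 0).map S.g)) (gδ G hS) ∈ distTriang T :=
  G.map_distinguished _ hS.singleTriangle_distinguished

end Abstract

section Tower

variable {A : Type u} [CommRing A] (I : Ideal A) (M : Type u) [AddCommGroup M] [Module A M]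
variable {T : Type w} [Category.{v} T] [Preadditive T] [HasZeroObject T] [HasShift T ℤ]
  [∀ n : ℤ, (shiftFunctor T n).Additive] [Pretriangulated T]
  (G : DerivedCategory (ModuleCat.{u} A) ⥤ T) [G.CommShift ℤ]

/-- the functor `M ↦ G (M[0])` -/
noncomputable abbrev G₀ : ModuleCat.{u} A ⥤ T := DerivedCategory.singleFunctor (ModuleCat.{u} A) 0 ⋙ G

lemma tr_comp (F : ℕᵒᵖ ⥤ ModuleCat.{u} A) {n m : ℕ} (h : n ≤ m) :
    tr (F ⋙ G₀ G) h = (G₀ G).map (F.map (homOfLE h).op) := rfl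

/-- the connecting morphism -/
noncomputable def cM (n : ℕ) : (quotM I M ⋙ G₀ G).obj (op n) ⟶
    ((powM I M ⋙ G₀ G).obj (op n))⟦(1 : ℤ)⟧ := gδ G (seqM_shortExact I M n)

lemma hcM {n m : ℕ} (h : n ≤ m) : tr (quotM I M ⋙ G₀ G) h ≫ cM I M G n =
    cM I M G m ≫ (tr (powM I M ⋙ G₀ G) h)⟦(1 : ℤ)⟧' :=
  gδ_naturality G (seqM_shortExact I M m) (seqM_shortExact I M n) (seqMMap I M h)

/-- `I ^ n M → M` -/
noncomputable def jM (n : ℕ) : (powM I M).obj (op n) ⟶ ModuleCat.of A M :=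
  ModuleCat.ofHom (powSub I M n).subtype

/-- `M → M / I ^ n M` -/
noncomputable def qM (n : ℕ) : ModuleCat.of A M ⟶ (quotM I M).obj (op n) :=
  ModuleCat.ofHom (powSub I M n).mkQ

lemma haM {n m : ℕ} (h : n ≤ m) :
    tr (powM I M ⋙ G₀ G) h ≫ (G₀ G).map (jM I M n) = (G₀ G).map (jM I M m) := by
  have h1 : (powM I M).map (homOfLE h).op ≫ jM I M n = jM I M m := rfl
  rw [← h1, Functor.map_comp]
  rfl

lemma hpM {n m : ℕ} (h : n ≤ m) :
    (G₀ G).map (qM I M m) ≫ tr (quotM I M ⋙ G₀ G) h = (G₀ G).map (qM I M n) := by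
  have h1 : qM I M m ≫ (quotM I M).map (homOfLE h).op = qM I M n := rfl
  rw [← h1, Functor.map_comp]
  rfl

variable [G.IsTriangulated]

lemma hTM (n : ℕ) : Triangle.mk ((G₀ G).map (jM I M n))
    ((G₀ G).map (qM I M n)) (cM I M G n) ∈ distTriang T :=
  gδ_distinguished G (seqM_shortExact I M n)

/-- `G(M) → R lim G(M / I ^ n M)` is bijective as seen by `P`. -/
theorem bijective_of_pz {P : T} (hP : PZ P (powM I M ⋙ G₀ G))
    [HasProduct fun n => (quotM I M ⋙ G₀ G).obj (op n)] {N : T}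
    (α : N ⟶ ∏ᶜ fun n => (quotM I M ⋙ G₀ G).obj (op n))
    (γ : (∏ᶜ fun n => (quotM I M ⋙ G₀ G).obj (op n)) ⟶ N⟦(1 : ℤ)⟧)
    (hN : Triangle.mk α (Pi.lift fun n => Pi.π (fun n => (quotM I M ⋙ G₀ G).obj (op n)) n -
      Pi.π (fun n => (quotM I M ⋙ G₀ G).obj (op n)) (n + 1) ≫
        tr (quotM I M ⋙ G₀ G) n.le_succ) γ ∈ distTriang T)
    (φ : (G₀ G).obj (ModuleCat.of A M) ⟶ N)
    (hφ : ∀ n, φ ≫ α ≫ Pi.π (fun n => (quotM I M ⋙ G₀ G).obj (op n)) n =
      (G₀ G).map (qM I M n)) (e : ℤ) :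
    Function.Bijective (fun x : P ⟶ ((G₀ G).obj (ModuleCat.of A M))⟦e⟧ => x ≫ φ⟦e⟧') :=
  bijective_of_rlim (F' := powM I M ⋙ G₀ G) (F'' := quotM I M ⋙ G₀ G)
    (X := (G₀ G).obj (ModuleCat.of A M))
    (fun n => (G₀ G).map (jM I M n))
    (fun n => (G₀ G).map (qM I M n)) (cM I M G)
    (haM I M G) (hpM I M G) (hcM I M G) (hTM I M G) hP α γ hN φ hφ e

end Tower

end Groth.Agent.LoccohB.RlimComp
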