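import Groth.Agent.LoccohB.RlimComp2

/-!
# Derived completion of `RΓ_J(M)`: conclusion
-/

set_option autoImplicit false

universe u v w

open CategoryTheory Limits Opposite Pretriangulated

attribute [local instance] HasDerivedCategory.standard

namespace Groth.Agent.LoccohB.RlimComp

open ProZ KosP RGammaTors RGammaTri RGammaSup
open scoped Groth.Agent.LoccohB.RGammaTri

section Rlim

variable {T : Type w} [Category.{v} T] [Preadditive T] [HasZeroObject T] [HasShift T ℤ]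
  [∀ n : ℤ, (shiftFunctor T n).Additive] [Pretriangulated T]

lemma eq_zero_of_rlim (K : ℕ → T) [HasProduct K] {N : T} {α : N ⟶ ∏ᶜ K} {δ : ∏ᶜ K ⟶ ∏ᶜ K}
    {γ : ∏ᶜ K ⟶ N⟦(1 : ℤ)⟧} (hT : Triangle.mk α δ γ ∈ distTriang T) (P : T) (e : ℤ)
    (h1 : ∀ n (x : P ⟶ (K n)⟦e⟧), x = 0) (h2 : ∀ n (x : P ⟶ (K n)⟦e - 1⟧), x = 0)
    (x : P ⟶ N⟦e⟧) : x = 0 := by
  have h3 : x ≫ α⟦e⟧' = 0 := prod_ext K e fun n => (h1 n _).trans (h1 n _).symm
  obtain ⟨y, hy⟩ := les₁ hT P (e - 1) e (by omega) x h3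
  have h4 : y = 0 := prod_ext K (e - 1) fun n => (h2 n _).trans (h2 n _).symm
  rw [← hy, h4, zero_comp]

end Rlim

section Refl

variable {A : Type u} [CommRing A] (I : Ideal A)

lemma isDerivedComplete_of_rlim (K : ℕ → Dual.D A) [HasProduct K] {N : Dual.D A}
    {α : N ⟶ ∏ᶜ K} {δ : ∏ᶜ K ⟶ ∏ᶜ K} {γ : ∏ᶜ K ⟶ N⟦(1 : ℤ)⟧}
    (hT : Triangle.mk α δ γ ∈ distTriang (Dual.D A)) (hK : ∀ n, DRing.IsDerivedComplete I (K n)) :
    DRing.IsDerivedComplete I N := by
  intro f hf n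
  refine subsingleton_of_forall_eq 0 fun x => ?_
  exact eq_zero_of_rlim K hT _ n (fun m x => (hK m f hf n).elim _ _)
    (fun m x => (hK m f hf (n - 1)).elim _ _) x

variable [IsNoetherianRing A]

/-- A morphism to a complete object which is bijective as seen by `kP l` is a reflection. -/
theorem isRefl_of_bijective [DRing.HasDerivedCompletion I] (l : List A)
    (hl : ∀ f ∈ l, f ∈ I) {X N : Dual.D A} (φ : X ⟶ N) (hN : DRing.IsDerivedComplete I N)
    (hφ : ∀ e : ℤ, Function.Bijective (fun x : kP l ⟶ X⟦e⟧ => x ≫ φ⟦e⟧')) :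
    GMAbs.IsRefl (DRing.IsDerivedComplete I) φ := by
  obtain ⟨C, g, δ, hT⟩ := distinguished_cocone_triangle φ
  have hC : ∀ Z, DRing.IsDerivedComplete I Z → GMAbs.Orth C Z := fun Z hZ =>
    orth_of_kP I l hl C (fun e x => eq_zero_of_bijective hT (kP l) hφ e x) Z hZ
  refine ⟨hN, ?_, ?_⟩
  · intro Z hZ u
    have hT' := inv_rot_of_distTriang _ hT
    obtain ⟨w, hw⟩ := Triangle.yoneda_exact₂ _ hT' u
      (GMAbs.orth_shift_left (-1) 1 (by simp) (hC _ (S1814.complete_shift I Z 1 hZ)) _)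
    exact ⟨w, hw.symm⟩
  · intro Z hZ v w hvw
    rw [← sub_eq_zero]
    have h1 : φ ≫ (v - w) = 0 := by
      rw [Preadditive.comp_sub]; exact sub_eq_zero.mpr hvw
    obtain ⟨s, hs⟩ := Triangle.yoneda_exact₂ _ hT (v - w) h1
    change C ⟶ Z at s
    exact GMAbs.zero_right hs (hC Z hZ s)

lemma exists_iso_of_isRefl {X N : Dual.D A} (φ : X ⟶ N)
    (hφ : GMAbs.IsRefl (DRing.IsDerivedComplete I) φ) [DRing.HasDerivedCompletion I] :
    Nonempty (((DRing.derivedCompletion I).obj X).obj ≅ N) := by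
  have hη := S1814.exists_refl I X
  obtain ⟨a, ha⟩ := hη.exists_desc N hφ.mem φ
  obtain ⟨b, hb⟩ := hφ.exists_desc _ hη.mem (DRing.toDerivedCompletion I X)
  refine ⟨⟨a, b, ?_, ?_⟩⟩
  · apply hη.ext _ hη.mem
    rw [← Category.assoc, ha, hb, Category.comp_id]
  · apply hφ.ext _ hφ.mem
    rw [← Category.assoc, hb, ha, Category.comp_id]

end Refl

section RGamma

variable {A : Type u} [CommRing A] [IsNoetherianRing A] (I J : Ideal A)

lemma complete_rgamma_quot [DRing.HasRgammaI J] (M : Type u) [AddCommGroup M] [Module A M]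
    (n : ℕ) : DRing.IsDerivedComplete I
      ((DRing.RgammaI J).obj (Dual.inD A (M ⧸ (I ^ n • ⊤ : Submodule A M)))) := by
  obtain ⟨s, hs⟩ := IsNoetherian.noetherian I
  refine S1814.complete_of_nil I s.toList ?_ _ fun f hf => ?_
  · rw [← hs]
    congr 1
    ext f
    simp
  · have hfI : f ∈ I := by
      rw [← hs]
      exact Submodule.subset_span (by simpa using hf)
    have h1 : f ^ n • 𝟙 (ModuleCat.of A (M ⧸ (I ^ n • ⊤ : Submodule A M))) = 0 := by
      ext x
      change f ^ n • (Submodule.Quotient.mk x : M ⧸ (I ^ n • ⊤ : Submodule A M)) = 0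
      rw [← Submodule.Quotient.mk_smul, Submodule.Quotient.mk_eq_zero]
      exact Submodule.smul_mem_smul (Ideal.pow_mem_pow hfI n) trivial
    have h2 : f ^ n • 𝟙 (Dual.inD A (M ⧸ (I ^ n • ⊤ : Submodule A M))) = 0 := by
      have h3 := congrArg (DerivedCategory.singleFunctor (ModuleCat.{u} A) 0).map h1
      rw [Functor.map_smul, CategoryTheory.Functor.map_id, Functor.map_zero] at h3
      exact h3
    refine ⟨n, ?_⟩
    rw [← rg_map_smul_id, h2, Functor.map_zero]

lemma hom_eq_zero [DRing.HasRgammaI J] (N : Type u) [AddCommGroup N] [Module A N] (e : ℤ)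
    (he : e < 0) (x : Dual.inD A A ⟶ ((DRing.RgammaI J).obj (Dual.inD A N))⟦e⟧) : x = 0 := by
  have h1 : DerivedCategory.IsGE ((DRing.RgammaI J).obj (Dual.inD A N)) 0 :=
    isGE_rgamma J _ 0 inferInstance
  have h2 : DerivedCategory.IsGE (((DRing.RgammaI J).obj (Dual.inD A N))⟦e⟧) (-e) :=
    DerivedCategory.TStructure.t.isGE_shift _ 0 e (-e) (by omega)
  have h3 : DerivedCategory.IsLE (Dual.inD A A) 0 := inferInstance
  exact DerivedCategory.TStructure.t.zero_of_isLE_of_isGE x 0 (-e) (by omega) h3 h2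

end RGamma

end Groth.Agent.LoccohB.RlimComp
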