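import Groth.Agent.LoccohB.RlimComp3

/-!
# Derived completion of `RΓ_J(M)`: main theorem
-/

set_option autoImplicit false

universe u v w

open CategoryTheory Limits Opposite Pretriangulated

attribute [local instance] HasDerivedCategory.standard

namespace Groth.Agent.LoccohB.RlimComp

open ProZ KosP RGammaTors RGammaTri RGammaSup
open scoped Groth.Agent.LoccohB.RGammaTri

variable {A : Type u} [CommRing A] [IsNoetherianRing A] (I J : Ideal A)
  (M : Type u) [AddCommGroup M] [Module A M] [Module.Finite A M]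

/-- `kP l` kills `RΓ_J (I ^ n M)` up to pro-zero. -/
theorem pz_main (l : List A) (hl : Ideal.span {f | f ∈ l} = I) :
    PZ (kP l) (powM I M ⋙ G₀ (DRing.RgammaI J)) := by
  obtain ⟨N, hN⟩ := exists_pow_smul_kP I l hl
  have h1 := pz_powM I M (kc l) (fun i => (fp_kc l i).1) (fun i => (fp_kc l i).2) N hN
  exact (pz_rgamma J l h1).of_iso (Functor.associator _ _ _)

/-- the sequence `RΓ_J (M / I ^ n M)` -/
noncomputable abbrev KM (n : ℕ) : Dual.D A :=
  (quotM I M ⋙ G₀ (DRing.RgammaI J)).obj (op n)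

/-- `1 - shift` -/
noncomputable abbrev δM [HasProduct (KM I J M)] : ∏ᶜ (KM I J M) ⟶ ∏ᶜ (KM I J M) :=
  Pi.lift fun n => Pi.π (KM I J M) n - Pi.π (KM I J M) (n + 1) ≫
    tr (quotM I M ⋙ G₀ (DRing.RgammaI J)) n.le_succ

theorem main [DRing.HasDerivedCompletion I] [HasProduct (KM I J M)] :
    ∃ (N : Dual.D A) (α : N ⟶ ∏ᶜ (KM I J M)) (γ : ∏ᶜ (KM I J M) ⟶ N⟦(1 : ℤ)⟧),
      Triangle.mk α (δM I J M) γ ∈ distTriang (Dual.D A) ∧
      Nonempty (((DRing.derivedCompletion I).obj ((DRing.RgammaI J).obj (Dual.inD A M))).obj ≅ N)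
      := by
  obtain ⟨s, hs⟩ := IsNoetherian.noetherian I
  have hl : Ideal.span {f | f ∈ s.toList} = I := by
    rw [← hs]
    congr 1
    ext f
    simp
  have hl' : ∀ f ∈ s.toList, f ∈ I := fun f hf => hl ▸ Ideal.subset_span hf
  obtain ⟨N, α, γ, hT⟩ := distinguished_cocone_triangle₁ (δM I J M)
  refine ⟨N, α, γ, hT, ?_⟩
  -- the comparison morphism
  let p : (G₀ (DRing.RgammaI J)).obj (ModuleCat.of A M) ⟶ ∏ᶜ (KM I J M) :=
    Pi.lift fun n => (G₀ (DRing.RgammaI J)).map (qM I M n)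
  have hp : p ≫ δM I J M = 0 := by
    refine Pi.hom_ext _ _ fun n => ?_
    rw [Category.assoc, Limits.Pi.lift_π, Preadditive.comp_sub, ← Category.assoc,
      Limits.Pi.lift_π, Limits.Pi.lift_π, zero_comp, hpM I M (DRing.RgammaI J) n.le_succ, sub_self]
  obtain ⟨φ, hφ⟩ := Triangle.coyoneda_exact₂ _ hT p hp
  change (G₀ (DRing.RgammaI J)).obj (ModuleCat.of A M) ⟶ N at φ
  change p = φ ≫ α at hφ
  have hφ' : ∀ n, φ ≫ α ≫ Pi.π (KM I J M) n = (G₀ (DRing.RgammaI J)).map (qM I M n) := by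
    intro n
    rw [← Category.assoc, ← hφ, Limits.Pi.lift_π]
  have hN : DRing.IsDerivedComplete I N :=
    isDerivedComplete_of_rlim I (KM I J M) hT fun n => complete_rgamma_quot I J M n
  have hb := bijective_of_pz I M (DRing.RgammaI J) (pz_main I J M s.toList hl) α γ hT φ hφ'
  exact exists_iso_of_isRefl I φ (isRefl_of_bijective I s.toList hl' φ hN hb)

end Groth.Agent.LoccohB.RlimComp
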