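import Groth.Agent.LoccohB.Tel
import Groth.Agent.FormalB.ModPowAff
import Groth.Agent.PerfA.Restrict
import Groth.Agent.PerfA.QCohSerre
import Groth.Agent.PerfB.ModExactCoprod

/-!
# The telescope of multiplication by `g` on a quasi-coherent module vanishing on `D(g)` vanishes
-/

set_option autoImplicit false

universe w v u

open CategoryTheory CategoryTheory.Limits AlgebraicGeometry Opposite

namespace Groth.Agent.LoccohB.TelMod

open Tel CohtopA.Compact FormalB.ModPowAff CohqB.QC2

section Ring

variable {R : Type u} [CommRing R]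

/-- The elements of a coproduct of modules are finite sums. -/
lemma exists_finset_sum {ι : Type u} (X : ι → ModuleCat.{u} R) {c : Cofan X} (hc : IsColimit c)
    (x : c.pt) : ∃ (s : Finset ι) (y : ∀ i, X i), x = ∑ i ∈ s, (c.inj i).hom (y i) := by
  classical
  let S : Submodule R c.pt := ⨆ i, LinearMap.range (c.inj i).hom
  have hS : S = ⊤ := by
    have h1 : ModuleCat.ofHom S.mkQ = (0 : c.pt ⟶ ModuleCat.of R (c.pt ⧸ S)) := by
      refine Cofan.IsColimit.hom_ext hc _ _ (fun i => ?_)
      ext y
      simp only [ModuleCat.hom_comp, ModuleCat.hom_ofHom, LinearMap.comp_apply, comp_zero,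
        ModuleCat.hom_zero, LinearMap.zero_apply]
      rw [Submodule.mkQ_apply, Submodule.Quotient.mk_eq_zero]
      exact Submodule.mem_iSup_of_mem i ⟨y, rfl⟩
    rw [eq_top_iff]
    intro x _
    rw [← Submodule.Quotient.mk_eq_zero, ← Submodule.mkQ_apply]
    have := congr_arg (fun f => f.hom x) h1
    exact this
  have hx : x ∈ S := by rw [hS]; trivial
  induction hx using Submodule.iSup_induction' with
  | mem i x hx =>
    obtain ⟨y, rfl⟩ := hx
    refine ⟨{i}, fun j => if h : i = j then (eqToHom (by rw [h]) : X i ⟶ X j).hom y else 0, ?_⟩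
    simp
  | zero => exact ⟨∅, fun _ => 0, by simp⟩
  | add x y _ _ hx hy =>
    obtain ⟨s, a, rfl⟩ := hx
    obtain ⟨t, b, rfl⟩ := hy
    refine ⟨s ∪ t, fun i => (if i ∈ s then a i else 0) + (if i ∈ t then b i else 0), ?_⟩
    simp only [map_add, Finset.sum_add_distrib]
    congr 1
    · rw [← Finset.sum_subset (Finset.subset_union_left (s₁ := s) (s₂ := t))]
      · exact Finset.sum_congr rfl (fun i hi => by simp [hi])
      · intro i _ hi
        simp [hi]
    · rw [← Finset.sum_subset (Finset.subset_union_right (s₁ := s) (s₂ := t))]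
      · exact Finset.sum_congr rfl (fun i hi => by simp [hi])
      · intro i _ hi
        simp [hi]

lemma telZero_moduleCat (M : ModuleCat.{u} R) (t : M ⟶ M)
    (ht : ∀ x : M, ∃ n : ℕ, (tpow t n).hom x = 0) : TelZero.{u} t := by
  let el : ∀ {N : ModuleCat.{u} R} (x : N), ModuleCat.of R R ⟶ N :=
    fun x => ModuleCat.ofHom (LinearMap.toSpanSingleton R _ x)
  have hel : ∀ {N : ModuleCat.{u} R} (x : N), (el x).hom (1 : R) = x := fun x => by simp [el]
  have hext : ∀ {N : ModuleCat.{u} R} (f g : ModuleCat.of R R ⟶ N)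
      (_ : f.hom (1 : R) = g.hom (1 : R)), f = g := fun f g h => by
    ext
    exact h
  have hfin : ∀ {ι : Type u} (X : ι → ModuleCat.{u} R) {c : Cofan X} (_ : IsColimit c)
      (f : ModuleCat.of R R ⟶ c.pt), IsFiniteSum c f := by
    intro ι X c hc f
    obtain ⟨s, y, h⟩ := exists_finset_sum X hc (f.hom (1 : R))
    refine ⟨s, fun i => el (y i), hext _ _ ?_⟩
    rw [h, ModuleCat.hom_sum, LinearMap.sum_apply]
    exact Finset.sum_congr rfl (fun i _ => by
      simp only [ModuleCat.hom_comp, LinearMap.comp_apply, hel])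
  have h1 : Function.Bijective (oneSub.{u} t).hom := by
    constructor
    · rw [injective_iff_map_eq_zero]
      intro x hx
      have := injective_comp_oneSub t (el x) (hfin _ (isColimitTcofan.{u} M) _) (hext _ _ (by
        simp only [ModuleCat.hom_comp, LinearMap.comp_apply, hel, ModuleCat.hom_zero,
          LinearMap.zero_apply]
        exact hx))
      have h2 := hel x
      rw [this] at h2
      exact h2.symm
    · intro x
      obtain ⟨s, g, hg⟩ := exists_finset_sum _ (isColimitTcofan.{u} M) x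
      have h3 : ∀ i : ULift.{u} ℕ, ∃ y, (oneSub.{u} t).hom y = ((tcofan.{u} M).inj i).hom (g i) := by
        intro i
        obtain ⟨n, hn⟩ := ht (g i)
        obtain ⟨f, hf⟩ := exists_comp_oneSub.{u} t (el (g i)) n (hext _ _ (by
          simp only [ModuleCat.hom_comp, LinearMap.comp_apply, hel, ModuleCat.hom_zero,
            LinearMap.zero_apply]
          exact hn)) i.down
        refine ⟨f.hom (1 : R), ?_⟩
        have := congr_arg (fun f => f.hom (1 : R)) hf
        simp only [ModuleCat.hom_comp, LinearMap.comp_apply, hel] at this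
        exact this
      choose y hy using h3
      refine ⟨∑ i ∈ s, y i, ?_⟩
      rw [map_sum, hg]
      exact Finset.sum_congr rfl (fun i _ => hy i)
  exact (ConcreteCategory.isIso_iff_bijective (oneSub.{u} t)).2 h1

end Ring

section Spec

variable {R : CommRingCat.{u}}

lemma tpow_smulMC (P : ModuleCat.{u} R) (b : R) (n : ℕ) (x : P) :
    (tpow (smulMC P b) n).hom x = b ^ n • x := by
  induction n generalizing x with
  | zero => simp
  | succ n ih =>
    rw [tpow_succ, ModuleCat.hom_comp, LinearMap.comp_apply, ih]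
    change b • b ^ n • x = _
    rw [smul_smul, pow_succ']

lemma telZero_spec (N : (Spec R).Modules) (hN : Coh.IsQCoh N) (b : R)
    (h : ∀ x : (moduleSpecΓFunctor (R := R)).obj N, ∃ n : ℕ, b ^ n • x = 0) :
    TelZero.{u} (smulSpec N b) := by
  have h0 : IsIso N.fromTildeΓ := (isQuasicoherent_iff_isIso_fromTildeΓ N).1 hN
  let P := (moduleSpecΓFunctor (R := R)).obj N
  let c : (tilde.functor R).obj P ⟶ N := (tilde.adjunction (R := R)).counit.app N
  have hc : IsIso c := h0
  have h1 : TelZero.{u} (smulMC P b) := telZero_moduleCat P _ (fun x => by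
    obtain ⟨n, hn⟩ := h x
    exact ⟨n, by rw [tpow_smulMC]; exact hn⟩)
  have : PreservesColimits (tilde.functor R) := tilde.adjunction.leftAdjoint_preservesColimits
  have h2 : TelZero.{u} (smulSpec ((tilde.functor R).obj P) b) := by
    rw [← tilde_map_smulMC]
    exact h1.map (tilde.functor R)
  exact h2.of_iso (asIso c) (smulSpec_naturality c b)

end Spec

section Scheme

variable {X : Scheme.{u}}

lemma eq_zero_of_isZero {M : X.Modules} (hM : IsZero M) (U : X.Opens) (x : Γ(M, U)) : x = 0 := by
  have h1 : (𝟙 M : M ⟶ M) = 0 := hM.eq_of_src _ _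
  have h2 : (𝟙 M : M ⟶ M).app U x = (0 : M ⟶ M).app U x := by rw [h1]
  exact h2

lemma eq_zero_of_isZero_restrict {M : X.Modules} {W : X.Opens} (hM : IsZero (M.restrict W.ι))
    {V : X.Opens} (hV : V ≤ W) (x : Γ(M, V)) : x = 0 := by
  have h1 : V = W.ι ''ᵁ (W.ι ⁻¹ᵁ V) := by
    rw [Scheme.Hom.image_preimage_eq_opensRange_inf, Scheme.Opens.opensRange_ι, inf_eq_right.2 hV]
  have h2 : ∀ y : Γ(M, W.ι ''ᵁ (W.ι ⁻¹ᵁ V)), y = 0 := fun y => by
    have := eq_zero_of_isZero hM (W.ι ⁻¹ᵁ V) ((M.restrictAppIso W.ι (W.ι ⁻¹ᵁ V)).inv y)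
    have h3 := congr_arg (M.restrictAppIso W.ι (W.ι ⁻¹ᵁ V)).hom this
    rw [map_zero] at h3
    simpa using h3
  apply (res_injective_of_eq M h1.ge h1).1
  rw [h2 (res M h1.ge x), map_zero]

instance hasCoproducts_modules : HasCoproducts.{u} X.Modules := fun _ => inferInstance

/-- The telescope of multiplication by `g` vanishes on a quasi-coherent module vanishing on
`D(g)`. -/
theorem telZero_of_isZero_restrict (M : X.Modules) (hM : Coh.IsQCoh M) (g : Γ(X, ⊤))
    (hg : IsZero (M.restrict (X.basicOpen g).ι)) : TelZero.{u} (Formal.smulModΓ M g) := by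
  refine PerfA.Restrict.isIso_of_restrict _ (fun x => ?_)
  obtain ⟨U, hU, hxU, -⟩ := exists_isAffineOpen_mem_and_subset (x := x) (U := ⊤) trivial
  obtain ⟨y, hy⟩ : x ∈ Set.range hU.fromSpec := by
    rw [← Scheme.Hom.coe_opensRange, hU.opensRange_fromSpec]
    exact hxU
  refine ⟨_, hU.fromSpec, inferInstance, y, hy, ?_⟩
  refine isIso_map_oneSub _ ?_
  rw [smulSpec_restrict M hU g]
  refine telZero_spec _ (PerfA.QCohSerre.isQCoh_restrict hU.fromSpec hM) _ (fun z => ?_)
  have hloc : Loc M U := (isQuasicoherent_iff_loc M).1 hM U hU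
  let g' : Γ(X, U) := FormalB.ModPow.resΓ X U g
  have hg' : X.basicOpen g' ≤ X.basicOpen g := by
    have : X.basicOpen g' = U ⊓ X.basicOpen g := X.basicOpen_res g (homOfLE le_top).op
    rw [this]
    exact inf_le_right
  obtain ⟨n, hn⟩ := hloc.eq_zero g' (topEquiv M hU z) (eq_zero_of_isZero_restrict hg hg' _)
  refine ⟨n, (topEquiv M hU).injective ?_⟩
  exact ((topEquiv_smul M hU (g' ^ n) z).trans hn).trans (map_zero (topEquiv M hU)).symm

end Scheme

end Groth.Agent.LoccohB.TelMod
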