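import Groth.Agent.LoccohB.IdEnd
import Groth.Agent.LoccohB.TelMod
import Groth.Agent.LoccohB.DQCohTri
import Groth.Agent.CohtopA.ExactDer
import Groth.Agent.PerfA.HomologyCoprod
import Groth.Agent.Dcoh.DerSch

/-!
# The action of global functions on `D(O_X)`

* `act g : 𝟭 X.Modules ⟶ 𝟭 X.Modules`, `actD g : 𝟭 (D X) ⟶ 𝟭 (D X)`;
* compatibility with homology, `restrictD`, `Rpush`;
* `telZero_actD`: if `Q ∈ D_QCoh` vanishes on `D(g)`, the telescope of `g` on `Q` vanishes;
* `isZero_restrictD_of_telZero`: if the telescope of `g` on `M` vanishes then `M|_{D(g)} = 0`.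
-/

set_option autoImplicit false

universe u

open CategoryTheory CategoryTheory.Limits AlgebraicGeometry Opposite

attribute [local instance] HasDerivedCategory.standard

namespace Groth.Agent.LoccohB.SecAct

open Tel TelMod PerfA.Restrict

variable {X Y : Scheme.{u}}

/-- Multiplication by a global function. -/
@[simps]
noncomputable def act (g : Γ(X, ⊤)) : 𝟭 X.Modules ⟶ 𝟭 X.Modules where
  app M := Formal.smulModΓ M g
  naturality _ _ φ := (FormalB.ModPow.smulModΓ_naturality φ g).symm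

/-- Multiplication by a global function on `D(O_X)`. -/
noncomputable def actD (g : Γ(X, ⊤)) : 𝟭 (DCoh.D X) ⟶ 𝟭 (DCoh.D X) := IdEnd.d (act g)

lemma homology_actD (g : Γ(X, ⊤)) (K : DCoh.D X) (i : ℤ) :
    (DerivedCategory.homologyFunctor X.Modules i).map ((actD g).app K) =
      Formal.smulModΓ (DCoh.HD K i) g := IdEnd.homology_d (act g) K i

@[reassoc]
lemma actD_nat (g : Γ(X, ⊤)) {K L : DCoh.D X} (f : K ⟶ L) :
    f ≫ (actD g).app L = (actD g).app K ≫ f := IdEnd.d_nat (act g) f

section Push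

variable (f : X ⟶ Y) (g : Γ(Y, ⊤))

lemma pushforward_map_act (M : X.Modules) :
    (Scheme.Modules.pushforward f).map ((act (f.appTop g)).app M) =
      (act g).app ((Scheme.Modules.pushforward f).obj M) := by
  ext U m
  change FormalB.ModPow.resΓ X (f ⁻¹ᵁ U) (f.appTop g) • (show Γ(M, f ⁻¹ᵁ U) from m) =
    (f.app U (FormalB.ModPow.resΓ Y U g)) • (show Γ(M, f ⁻¹ᵁ U) from m)
  congr 1
  exact congr($(f.naturality (homOfLE le_top : U ⟶ ⊤).op).hom g).symm

lemma Rpush_map_actD [DCoh.HasRpush f] (K : DCoh.D X) :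
    (DCoh.Rpush f).map ((actD (f.appTop g)).app K) = (actD g).app ((DCoh.Rpush f).obj K) :=
  IdEnd.rightDerived_d (act (f.appTop g)) (act g) (Scheme.Modules.pushforward f) (DCoh.Rpush f)
    (Dcoh.DerSch.rpushUnit f) (pushforward_map_act f g) K

end Push

section Restrict

variable (j : X ⟶ Y) [IsOpenImmersion j] (g : Γ(Y, ⊤))

lemma restrict_map_act (M : Y.Modules) :
    (Scheme.Modules.restrictFunctor j).map ((act g).app M) =
      (act (j.appTop g)).app ((Scheme.Modules.restrictFunctor j).obj M) := by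
  ext U m
  have h1 : (j.appIso U).inv.hom (FormalB.ModPow.resΓ X U (j.appTop g)) =
      FormalB.ModPow.resΓ Y (j ''ᵁ U) g := by
    have := j.appLE_appIso_inv (U := ⊤) (V := U) le_top
    exact congr($(this).hom g)
  change FormalB.ModPow.resΓ Y (j ''ᵁ U) g • (show Γ(M, j ''ᵁ U) from m) =
    (j.appIso U).inv.hom (FormalB.ModPow.resΓ X U (j.appTop g)) • (show Γ(M, j ''ᵁ U) from m)
  rw [h1]

lemma restrictD_map_actD (K : DCoh.D Y) :
    (restrictD j).map ((actD g).app K) = (actD (j.appTop g)).app ((restrictD j).obj K) :=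
  IdEnd.mapDerivedCategory_d (act g) (act (j.appTop g)) _ (restrict_map_act j g) K

end Restrict

section Unit

lemma isIso_act_of_isUnit (g : Γ(X, ⊤)) (hg : IsUnit g) (M : X.Modules) :
    IsIso ((act g).app M) := by
  obtain ⟨g, rfl⟩ := hg
  refine ⟨⟨(act (g⁻¹ : Γ(X, ⊤)ˣ).val).app M, ?_, ?_⟩⟩
  · have := FormalB.ModPow.smulModΓ_mul M ((g⁻¹ : Γ(X, ⊤)ˣ).val) g.val
    have h1 : (((g⁻¹ : Γ(X, ⊤)ˣ).val : Coh.Γtop X) * (g.val : Coh.Γtop X)) = 1 := g.inv_mul
    exact this.symm.trans ((congrArg (Formal.smulModΓ M) h1).trans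
      (FormalB.ModPow.smulModΓ_one M))
  · have := FormalB.ModPow.smulModΓ_mul M g.val ((g⁻¹ : Γ(X, ⊤)ˣ).val)
    have h1 : ((g.val : Coh.Γtop X) * ((g⁻¹ : Γ(X, ⊤)ˣ).val : Coh.Γtop X)) = 1 := g.mul_inv
    exact this.symm.trans ((congrArg (Formal.smulModΓ M) h1).trans
      (FormalB.ModPow.smulModΓ_one M))

lemma isIso_actD_of_isUnit (g : Γ(X, ⊤)) (hg : IsUnit g) (K : DCoh.D X) :
    IsIso ((actD g).app K) :=
  IdEnd.isIso_d_app _ _ (fun _ => isIso_act_of_isUnit g hg _)

end Unit

section Tel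

lemma isUnit_appTop_basicOpen (g : Γ(X, ⊤)) : IsUnit ((X.basicOpen g).ι.appTop g) := by
  have h1 : (X.basicOpen g : Scheme.{u}).basicOpen ((X.basicOpen g).ι.appTop g) = ⊤ := by
    have := Scheme.preimage_basicOpen (X.basicOpen g).ι g
    refine this.symm.trans ?_
    simp
  refine RingedSpace.isUnit_of_isUnit_germ _ _ _ (fun x hx => ?_)
  have h2 : x ∈ (X.basicOpen g : Scheme.{u}).basicOpen ((X.basicOpen g).ι.appTop g) := by
    rw [h1]; trivial
  exact (Scheme.mem_basicOpen _ _ _ hx).1 h2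

instance preservesCoproducts_restrictD (j : X ⟶ Y) [IsOpenImmersion j] (J : Type u) :
    PreservesColimitsOfShape (Discrete J) (restrictD j) :=
  CohtopA.ExactDer.preservesCoproducts_mapDerivedCategory _ J

/-- If the telescope of `g` on `M` vanishes, then `M|_{D(g)} = 0`. -/
theorem isZero_restrictD_of_telZero (M : DCoh.D X) (g : Γ(X, ⊤))
    (h : TelZero.{u} ((actD g).app M)) : IsZero ((restrictD (X.basicOpen g).ι).obj M) := by
  have h1 := h.map (restrictD (X.basicOpen g).ι)
  rw [restrictD_map_actD] at h1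
  have : IsIso ((actD ((X.basicOpen g).ι.appTop g)).app ((restrictD (X.basicOpen g).ι).obj M)) :=
    isIso_actD_of_isUnit _ (isUnit_appTop_basicOpen g) _
  exact h1.isZero_of_isIso

/-- If `M ∈ D_QCoh` vanishes on `D(g)` then the telescope of `g` on `M` vanishes. -/
theorem telZero_actD (M : DCoh.D X) (hM : DCoh.IsQCohD M) (g : Γ(X, ⊤))
    (h : IsZero ((restrictD (X.basicOpen g).ι).obj M)) : TelZero.{u} ((actD g).app M) := by
  change IsIso (oneSub.{u} ((actD g).app M))
  rw [DerivedCategory.isIso_iff]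
  refine fun i => isIso_map_oneSub _ ?_
  rw [homology_actD]
  refine telZero_of_isZero_restrict _ (hM i) g ?_
  exact (Functor.map_isZero (DerivedCategory.homologyFunctor _ i) h).of_iso
    (HDrestrict (X.basicOpen g).ι M i).symm

end Tel

end Groth.Agent.LoccohB.SecAct
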