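import Groth.Agent.LoccohB.HHmap
import Groth.Agent.Dcoh.DerSch
import Mathlib.Algebra.Homology.DerivedCategory.Linear
import Groth.Prelude.Def_DCoh3

/-!
# `O_X`-modules form a `Γ(X, ⊤)`-linear category, and so does `D(O_X)`

The functors `f_*`, `j^*`, `M ↦ M~`, and their derived versions are (semi)linear.
-/

set_option autoImplicit false
universe w₁ w₂ v₁ v₂ u₁ u₂ u

open CategoryTheory CategoryTheory.Limits AlgebraicGeometry TopologicalSpace Opposite

attribute [local instance] HasDerivedCategory.standard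

namespace Groth.Agent.LoccohB.SectLin303

open GlueHom HHmap

section Mod

variable {X Y : Scheme.{u}}

lemma smulHom_add (F : X.Modules) (r s : Γ(X, ⊤)) : smulHom F (r + s) = smulHom F r + smulHom F s := by
  apply Scheme.Modules.hom_ext
  intro V
  ext x
  change resO (le_top : V ≤ ⊤) (r + s) • x = resO (le_top : V ≤ ⊤) r • x + resO (le_top : V ≤ ⊤) s • x
  rw [_root_.map_add, add_smul]

lemma smulHom_mul (F : X.Modules) (r s : Γ(X, ⊤)) : smulHom F (r * s) = smulHom F s ≫ smulHom F r := by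
  apply Scheme.Modules.hom_ext
  intro V
  ext x
  change resO (le_top : V ≤ ⊤) (r * s) • x = resO (le_top : V ≤ ⊤) r • (resO (le_top : V ≤ ⊤) s • x)
  rw [map_mul, mul_smul]

lemma smulHom_one (F : X.Modules) : smulHom F 1 = 𝟙 F := by
  apply Scheme.Modules.hom_ext
  intro V
  ext x
  change resO (le_top : V ≤ ⊤) 1 • x = x
  rw [map_one, one_smul]

lemma smulHom_zero (F : X.Modules) : smulHom F 0 = 0 := by
  apply Scheme.Modules.hom_ext
  intro V
  ext x
  change resO (le_top : V ≤ ⊤) 0 • x = 0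
  rw [_root_.map_zero, zero_smul]

variable (X) in
/-- `O_X`-modules form a `Γ(X, ⊤)`-linear category. -/
noncomputable instance linMod : Linear Γ(X, ⊤) X.Modules where
  homModule M N :=
    { smul := fun r φ => smulHom M r ≫ φ
      one_smul := fun φ => by
        change smulHom M 1 ≫ φ = φ
        rw [smulHom_one, Category.id_comp]
      mul_smul := fun r s φ => by
        change smulHom M (r * s) ≫ φ = smulHom M r ≫ smulHom M s ≫ φ
        rw [mul_comm, smulHom_mul, Category.assoc]
      smul_zero := fun r => comp_zero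
      smul_add := fun r φ ψ => Preadditive.comp_add _ _ _ _ _ _
      add_smul := fun r s φ => by
        change smulHom M (r + s) ≫ φ = smulHom M r ≫ φ + smulHom M s ≫ φ
        rw [smulHom_add, Preadditive.add_comp]
      zero_smul := fun φ => by
        change smulHom M 0 ≫ φ = 0
        rw [smulHom_zero, zero_comp] }
  smul_comp M N K r φ ψ := Category.assoc _ _ _
  comp_smul M N K φ r ψ := by
    change φ ≫ smulHom N r ≫ ψ = smulHom M r ≫ φ ≫ ψ
    rw [← Category.assoc, ← smulHom_comp, Category.assoc]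

lemma smul_eq {M N : X.Modules} (r : Γ(X, ⊤)) (φ : M ⟶ N) : r • φ = smulHom M r ≫ φ := rfl

lemma smul_app {M N : X.Modules} (r : Γ(X, ⊤)) (φ : M ⟶ N) (V : X.Opens) (s : Γ(M, V)) :
    (r • φ).app V s = resO (le_top : V ≤ ⊤) r • φ.app V s := by
  change φ.app V (resO (le_top : V ≤ ⊤) r • s) = _
  rw [Scheme.Modules.Hom.app_smul]

end Mod

section Inter

variable {R S T : Type*} [Ring R] [Ring S] [Ring T] {A : Type u₁} [Category.{v₁} A] [Preadditive A] [Linear R A]
  {B : Type u₂} [Category.{v₂} B] [Preadditive B] [Linear S B]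

/-- The functor `F` intertwines multiplication by `r` and multiplication by `s`. -/
def Inter (F : A ⥤ B) (r : R) (s : S) : Prop := ∀ M : A, F.map (r • 𝟙 M) = s • 𝟙 (F.obj M)

lemma Inter.map_smul {F : A ⥤ B} {r : R} {s : S} (h : Inter F r s) {M N : A} (φ : M ⟶ N) :
    F.map (r • φ) = s • F.map φ := by
  have h1 : r • φ = (r • 𝟙 M) ≫ φ := by rw [Linear.smul_comp, Category.id_comp]
  rw [h1, Functor.map_comp, h M, Linear.smul_comp, Category.id_comp]

lemma Inter.one (F : A ⥤ B) : Inter F (1 : R) (1 : S) := fun M => by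
  rw [one_smul, one_smul, CategoryTheory.Functor.map_id]

lemma Inter.mul {F : A ⥤ B} {r r' : R} {s s' : S} (h : Inter F r s) (h' : Inter F r' s') :
    Inter F (r * r') (s * s') := fun M => by
  rw [mul_smul, h.map_smul, h' M, mul_smul]

lemma Inter.pow {F : A ⥤ B} {r : R} {s : S} (h : Inter F r s) (n : ℕ) : Inter F (r ^ n) (s ^ n) := by
  induction n with
  | zero => rw [pow_zero, pow_zero]; exact Inter.one F
  | succ n ih => rw [pow_succ, pow_succ]; exact ih.mul h

lemma Inter.of_iso {F G : A ⥤ B} (e : F ≅ G) {r : R} {s : S} (h : Inter F r s) : Inter G r s := fun M => by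
  rw [← cancel_epi (e.hom.app M), ← e.hom.naturality, h M, Linear.smul_comp, Linear.comp_smul, Category.id_comp,
    Category.comp_id]

lemma Inter.comp {C : Type*} [Category* C] [Preadditive C] [Linear T C] {F : A ⥤ B} {G : B ⥤ C}
    {r : R} {s : S} {t : T} (h : Inter F r s) (h' : Inter G s t) : Inter (F ⋙ G) r t := fun M => by
  rw [Functor.comp_map, h M, h' _]
  rfl

lemma Inter.isIso_map_smul {F : A ⥤ B} {r : R} {s : S} (h : Inter F r s) (hs : IsUnit s) (M : A) :
    IsIso (F.map (r • 𝟙 M)) := by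
  rw [h M]
  obtain ⟨u, rfl⟩ := hs
  exact ⟨(↑u⁻¹ : S) • 𝟙 _, by rw [Linear.smul_comp, Linear.comp_smul, smul_smul, Units.mul_inv, one_smul,
    Category.id_comp], by rw [Linear.smul_comp, Linear.comp_smul, smul_smul, Units.inv_mul, one_smul,
    Category.id_comp]⟩

lemma eq_zero_of_smul {s : S} (hs : IsUnit s) {M N : B} {φ : M ⟶ N} (h : s • φ = 0) : φ = 0 := by
  obtain ⟨u, rfl⟩ := hs
  rw [← one_smul S φ, ← Units.inv_mul u, mul_smul, h, smul_zero]

end Inter

section Derived

variable {R S : Type*} [Ring R] [Ring S] {A : Type u₁} [Category.{v₁} A] [Abelian A] [Linear R A]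
  {B : Type u₂} [Category.{v₂} B] [Abelian B] [Linear S B]

lemma Inter.mapHomologicalComplex {F : A ⥤ B} [F.Additive] {r : R} {s : S} (h : Inter F r s)
    {ι : Type*} (c : ComplexShape ι) : Inter (F.mapHomologicalComplex c) r s := fun K => by
  ext i
  exact h (K.X i)

variable [HasDerivedCategory.{w₁} A] [HasDerivedCategory.{w₂} B]

omit [HasDerivedCategory.{w₂} B] in
lemma Q_map_smul_id (r : R) (K : CochainComplex A ℤ) :
    DerivedCategory.Q.map (r • 𝟙 K) = r • 𝟙 (DerivedCategory.Q.obj K) := by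
  rw [Functor.map_smul, CategoryTheory.Functor.map_id]

/-- Intertwining can be checked on `Q.obj K` for `K` in a class of complexes which is big enough. -/
lemma inter_of_Q {D : Type*} [Category* D] [Preadditive D] [Linear S D] (F : DerivedCategory A ⥤ D) (r : R) (s : S)
    (h : ∀ M : DerivedCategory A, ∃ (K : CochainComplex A ℤ), Nonempty (DerivedCategory.Q.obj K ≅ M) ∧
      F.map (DerivedCategory.Q.map (r • 𝟙 K)) = s • 𝟙 (F.obj (DerivedCategory.Q.obj K))) : Inter F r s := by
  intro M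
  obtain ⟨K, ⟨e⟩, hK⟩ := h M
  rw [Q_map_smul_id] at hK
  have h2 : (r • 𝟙 (DerivedCategory.Q.obj K)) ≫ e.hom = e.hom ≫ (r • 𝟙 M) := by
    rw [Linear.smul_comp, Linear.comp_smul, Category.id_comp, Category.comp_id]
  rw [← cancel_epi (F.map e.hom), ← F.map_comp, ← h2, F.map_comp, hK, Linear.smul_comp, Linear.comp_smul,
    Category.id_comp, Category.comp_id]

lemma Inter.mapDerivedCategory {F : A ⥤ B} [F.Additive] [PreservesFiniteLimits F] [PreservesFiniteColimits F]
    {r : R} {s : S} (h : Inter F r s) : Inter F.mapDerivedCategory r s := by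
  apply inter_of_Q
  intro M
  refine ⟨_, ⟨DerivedCategory.Q.objObjPreimageIso M⟩, ?_⟩
  set K := DerivedCategory.Q.objPreimage M
  have h1 : F.mapDerivedCategory.map (DerivedCategory.Q.map (r • 𝟙 K)) ≫
      F.mapDerivedCategoryFactors.hom.app K = F.mapDerivedCategoryFactors.hom.app K ≫
        DerivedCategory.Q.map ((F.mapHomologicalComplex (ComplexShape.up ℤ)).map (r • 𝟙 K)) :=
    F.mapDerivedCategoryFactors.hom.naturality (r • 𝟙 K)
  have h2 : DerivedCategory.Q.map ((F.mapHomologicalComplex (ComplexShape.up ℤ)).map (r • 𝟙 K)) =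
      s • 𝟙 (DerivedCategory.Q.obj ((F.mapHomologicalComplex (ComplexShape.up ℤ)).obj K)) := by
    rw [(h.mapHomologicalComplex (ComplexShape.up ℤ)) K, Q_map_smul_id]
  rw [h2, Linear.comp_smul] at h1
  rw [← cancel_mono (F.mapDerivedCategoryFactors.hom.app K), h1, Linear.smul_comp]
  congr 1
  exact (Category.comp_id _).trans (Category.id_comp _).symm

end Derived

section Schemes

variable {X Y U : Scheme.{u}}

lemma inter_pushforward (f : X ⟶ Y) (g : Γ(Y, ⊤)) : Inter (Scheme.Modules.pushforward f) (f.appTop g) g := by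
  intro M
  apply Scheme.Modules.hom_ext
  intro V
  ext s
  rw [smul_app]
  change (f.appTop g • 𝟙 M : M ⟶ M).app (f ⁻¹ᵁ V) s = _
  rw [smul_app]
  change resO (le_top : f ⁻¹ᵁ V ≤ ⊤) (f.appTop g) • (show Γ(M, f ⁻¹ᵁ V) from s) =
    f.app V (resO (le_top : V ≤ ⊤) g) • (show Γ(M, f ⁻¹ᵁ V) from s)
  congr 1
  exact (ConcreteCategory.congr_hom (f.naturality (homOfLE (le_top : V ≤ ⊤)).op) g).symm

lemma inter_restrict (j : U ⟶ X) [IsOpenImmersion j] (g : Γ(X, ⊤)) :
    Inter (Scheme.Modules.restrictFunctor j) g (j.appTop g) := by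
  intro M
  apply Scheme.Modules.hom_ext
  intro V
  ext s
  rw [smul_app]
  change (g • 𝟙 M : M ⟶ M).app (j ''ᵁ V) s = _
  rw [smul_app]
  change resO (le_top : j ''ᵁ V ≤ ⊤) g • (show Γ(M, j ''ᵁ V) from s) =
    (j.appIso V).inv (resO (le_top : V ≤ ⊤) (j.appTop g)) • (show Γ(M, j ''ᵁ V) from s)
  congr 1
  exact (ConcreteCategory.congr_hom (j.appLE_appIso_inv (U := ⊤) (V := V) le_top) g).symm

lemma inter_restrictD (j : U ⟶ X) [IsOpenImmersion j] (g : Γ(X, ⊤)) :
    Inter (DCoh.restrictD j) g (j.appTop g) :=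
  (inter_restrict j g).mapDerivedCategory

lemma inter_rpush (f : X ⟶ Y) [DCoh.HasRpush f] (g : Γ(Y, ⊤)) : Inter (DCoh.Rpush f) (f.appTop g) g := by
  apply inter_of_Q
  intro M
  obtain ⟨I, φ, hI, hφ⟩ := Dcoh.DerSch.hasKInj X (DerivedCategory.Q.objPreimage M)
  refine ⟨I, ⟨(asIso (DerivedCategory.Q.map φ)).symm ≪≫ DerivedCategory.Q.objObjPreimageIso M⟩, ?_⟩
  have := Dcoh.DerSch.isIso_rpushUnitQ_app f I hI
  have h1 : DerivedCategory.Q.map (((Scheme.Modules.pushforward f).mapHomologicalComplex (ComplexShape.up ℤ)).map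
      (f.appTop g • 𝟙 I)) ≫ (Dcoh.DerSch.rpushUnitQ f).app I = (Dcoh.DerSch.rpushUnitQ f).app I ≫
        (DCoh.Rpush f).map (DerivedCategory.Q.map (f.appTop g • 𝟙 I)) :=
    (Dcoh.DerSch.rpushUnitQ f).naturality (f.appTop g • 𝟙 I)
  have h2 : DerivedCategory.Q.map (((Scheme.Modules.pushforward f).mapHomologicalComplex (ComplexShape.up ℤ)).map
      (f.appTop g • 𝟙 I)) = g • 𝟙 _ := by
    rw [((inter_pushforward f g).mapHomologicalComplex (ComplexShape.up ℤ)) I, Q_map_smul_id]
  rw [h2, Linear.smul_comp] at h1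
  rw [← cancel_epi ((Dcoh.DerSch.rpushUnitQ f).app I), ← h1, Linear.comp_smul]
  congr 1
  exact (Category.id_comp _).trans (Category.comp_id _).symm

end Schemes

section Tilde

lemma inter_tilde (R : CommRingCat.{u}) (a : R) :
    Inter (tilde.functor R) a ((Scheme.ΓSpecIso R).inv a) := by
  intro M
  apply (tilde.adjunction.homEquiv _ _).injective
  rw [Adjunction.homEquiv_unit, Adjunction.homEquiv_unit]
  have h1 : ∀ {N N' : (Spec (CommRingCat.of R)).Modules} (φ : N ⟶ N'),
      moduleSpecΓFunctor.map (((Scheme.ΓSpecIso R).inv a : Γ(Spec (CommRingCat.of R), ⊤)) • φ) =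
        a • moduleSpecΓFunctor.map φ := by
    intro N N' φ
    ext s
    exact smul_app _ _ _ _
  have h2 := (tilde.adjunction (R := R)).unit.naturality (a • 𝟙 M)
  rw [h1]
  refine h2.symm.trans ?_
  rw [Functor.id_map, Linear.smul_comp, Linear.comp_smul, CategoryTheory.Functor.map_id]
  congr 1

lemma inter_tildeD (R : CommRingCat.{u}) [PreservesFiniteLimits (tilde.functor R)] (a : R) :
    Inter (DCoh.tildeD R) a ((Scheme.ΓSpecIso R).inv a : Γ(Spec (CommRingCat.of R), ⊤)) :=
  (inter_tilde R a).mapDerivedCategory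

end Tilde

end Groth.Agent.LoccohB.SectLin303
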