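import Groth.Agent.LoccohB.LBC2
import Groth.Agent.LoccohB.HomBC2
import Groth.Prelude.Def_DualSh

/-!
Cohomology of `φ^!(K)` as a module: `H^i(R_ψ(K)[n]) = Hom_{D(P)}(A, K[n+i])`, `A`-linearly.
-/

set_option autoImplicit false

universe u

open CategoryTheory CategoryTheory.Limits

attribute [local instance] HasDerivedCategory.standard

namespace Groth.Agent.LoccohB.ShriekHD

open DerivedCategory Groth.Agent.LoccohB.LBC

variable {P A : Type u} [CommRing P] [CommRing A] (ψ : P →+* A)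

/-- `H^i(R_ψ(K)[n]) ≃ Hom_{D(A)}(A, R_ψ(K[j]))`, for `n + i = j`. -/
theorem exists_equiv {Rψ : Dual.D P ⥤ Dual.D A} (adj : DRing.restrictD ψ ⊣ Rψ) (K : Dual.D P)
    (n i j : ℤ) (h : n + i = j) :
    Nonempty (Dual.HD A ((Rψ.obj K)⟦n⟧) i ≃ₗ[A] (Dual.inD A A ⟶ Rψ.obj (K⟦j⟧))) := by
  obtain ⟨e⟩ := radj_shift ψ adj K j
  exact ⟨(Groth.Agent.LoccohB.HomBC.homShiftEquivHD i ((Rψ.obj K)⟦n⟧)).symm ≪≫ₗ
    Linear.homCongr A (Iso.refl _)
      (((shiftFunctorAdd' (Dual.D A) n i j h).app (Rψ.obj K)).symm ≪≫ e.symm)⟩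

/-- Restriction of `A[0]`. -/
noncomputable def restrictSelf :
    (DRing.restrictD ψ).obj (Dual.inD A A) ≅ (singleFunctor (ModuleCat.{u} P) 0).obj
      ((ModuleCat.restrictScalars.{u} ψ).obj (ModuleCat.of A A)) :=
  ((ModuleCat.restrictScalars.{u} ψ).mapDerivedCategorySingleFunctor 0).app _

/-- If every map `A → K[j]` in `D(P)` is killed by something outside `ψ⁻¹ q`, then so is every
element of `H^i(R_ψ(K)[n])`, `n + i = j`. -/
theorem torsion_HD {Rψ : Dual.D P ⥤ Dual.D A} (adj : DRing.restrictD ψ ⊣ Rψ) (K : Dual.D P)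
    (n i j : ℤ) (h : n + i = j) (q : Ideal A)
    (hK : ∀ f : (singleFunctor (ModuleCat.{u} P) 0).obj
      ((ModuleCat.restrictScalars.{u} ψ).obj (ModuleCat.of A A)) ⟶ K⟦j⟧,
        ∃ s : P, ψ s ∉ q ∧ s • f = 0) (x : Dual.HD A ((Rψ.obj K)⟦n⟧) i) :
    ∃ s : A, s ∉ q ∧ s • x = 0 := by
  obtain ⟨e⟩ := exists_equiv ψ adj K n i j h
  let g : (DRing.restrictD ψ).obj (Dual.inD A A) ⟶ K⟦j⟧ := (adj.homEquiv _ _).symm (e x)
  obtain ⟨s, hs, hsg⟩ := hK ((restrictSelf ψ).inv ≫ g)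
  refine ⟨ψ s, hs, ?_⟩
  apply e.injective
  rw [map_smul, map_zero]
  have h1 : s • g = 0 := by
    have : s • g = (restrictSelf ψ).hom ≫ (s • ((restrictSelf ψ).inv ≫ g)) := by
      rw [Linear.comp_smul, Iso.hom_inv_id_assoc]
    rw [this, hsg, comp_zero]
  have h2 : e x = adj.homEquiv _ _ g := by
    rw [Equiv.apply_symm_apply]
  rw [h2, ← radj_homEquiv_smul, h1]
  have : (adj.homEquiv (Dual.inD A A) (K⟦j⟧)) 0 = 0 := by
    rw [Adjunction.homEquiv_unit]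
    have := adj.right_adjoint_additive
    rw [Functor.map_zero, comp_zero]
  exact this

end Groth.Agent.LoccohB.ShriekHD
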