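import Groth.Agent.LoccohB.ShriekHD
import Groth.Agent.LoccohB.FlatDual
import Groth.Agent.LoccohB.RAdjFin
import Groth.Agent.LoccohB.FrobGood
import Mathlib.RingTheory.Jacobson.Ring

/-!
# `φ^!` of a normalized complex, at a closed point over the closed point

`R` local, `R → A` of finite type, `m` a maximal ideal of `A` over the maximal ideal of `R`:
if `Hom(k, K[i]) = 0` then `Hom(A/m, φ^!(K)[i]) = 0`.
-/

set_option autoImplicit false

universe u

open CategoryTheory CategoryTheory.Limits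

attribute [local instance] HasDerivedCategory.standard

namespace Groth.Agent.LoccohB.ShriekNorm

open DerivedCategory Groth.Agent.LoccohB.LBC

section Residue

variable {R k : Type u} [CommRing R] [Field k] [Algebra R k] {V : Type u} [AddCommGroup V]
  [Module R V] [Module k V] [IsScalarTower R k V]

/-- Maps out of a finite dimensional `k`-vector space vanish if maps out of `k` do. -/
lemma subsingleton_inD [Module.Finite k V] {K : Dual.D R}
    (h : Subsingleton (Dual.inD R k ⟶ K)) : Subsingleton (Dual.inD R V ⟶ K) := by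
  let b := Module.finBasis k V
  let inc (j : Fin (Module.finrank k V)) : k →ₗ[R] V :=
    (LinearMap.toSpanSingleton k V (b j)).restrictScalars R
  let pr (j : Fin (Module.finrank k V)) : V →ₗ[R] k := (b.coord j).restrictScalars R
  have h1 : ∑ j, (inc j) ∘ₗ (pr j) = LinearMap.id := by
    ext v
    simp only [LinearMap.coe_sum, Finset.sum_apply, LinearMap.comp_apply, LinearMap.id_apply]
    change ∑ j, (b.repr v j) • b j = v
    exact b.sum_repr v
  let F := singleFunctor (ModuleCat.{u} R) 0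
  have h2 : ∑ j, F.map (ModuleCat.ofHom (pr j)) ≫ F.map (ModuleCat.ofHom (inc j)) =
      𝟙 (F.obj (ModuleCat.of R V)) := by
    have h3 : ∑ j, ModuleCat.ofHom ((inc j) ∘ₗ (pr j)) = 𝟙 (ModuleCat.of R V) := by
      apply ModuleCat.hom_ext
      rw [ModuleCat.hom_sum]
      exact h1
    rw [← F.map_id, ← h3, F.map_sum]
    refine Finset.sum_congr rfl fun j _ => ?_
    rw [← F.map_comp, ← ModuleCat.ofHom_comp]
  have h4 : ∀ f : F.obj (ModuleCat.of R V) ⟶ K, f = 0 := by
    intro f
    rw [← Category.id_comp f, ← h2, Preadditive.sum_comp]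
    refine Finset.sum_eq_zero fun j _ => ?_
    have h5 : F.map (ModuleCat.ofHom (inc j)) ≫ f = 0 :=
      @Subsingleton.elim _ h _ _
    rw [Category.assoc, h5, comp_zero]
  exact ⟨fun f g => (h4 f).trans (h4 g).symm⟩

end Residue

section Finite

variable {R A : Type u} [CommRing R] [CommRing A] [Algebra R A]

/-- Nullstellensatz over a local ring. -/
lemma finite_quotient [IsLocalRing R] [Algebra.FiniteType R A] (m : Ideal A) [m.IsMaximal]
    (hm : m.comap (algebraMap R A) = IsLocalRing.maximalIdeal R) :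
    ∃ (_ : Algebra (IsLocalRing.ResidueField R) (A ⧸ m)),
      IsScalarTower R (IsLocalRing.ResidueField R) (A ⧸ m) ∧
      Module.Finite (IsLocalRing.ResidueField R) (A ⧸ m) := by
  let f : IsLocalRing.ResidueField R →+* (A ⧸ m) :=
    Ideal.quotientMap m (algebraMap R A) (by rw [hm])
  let alg : Algebra (IsLocalRing.ResidueField R) (A ⧸ m) := f.toAlgebra
  have h1 : IsScalarTower R (IsLocalRing.ResidueField R) (A ⧸ m) :=
    IsScalarTower.of_algebraMap_eq (fun r => by
      change _ = f (IsLocalRing.residue R r)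
      rfl)
  refine ⟨alg, h1, ?_⟩
  have h2 : Algebra.FiniteType R (A ⧸ m) := inferInstance
  have h3 : Algebra.FiniteType (IsLocalRing.ResidueField R) (A ⧸ m) :=
    Algebra.FiniteType.of_restrictScalars_finiteType R _ _
  let := Ideal.Quotient.field m
  exact finite_of_finite_type_of_isJacobsonRing (IsLocalRing.ResidueField R) (A ⧸ m)

end Finite

section Aux

variable {A B : Type u} [CommRing A] [CommRing B] (φ : A →+* B)

/-- Restriction of `B`. -/
noncomputable def resIso [Module A B] (h : ∀ (a : A) (b : B), a • b = φ a * b) :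
    (ModuleCat.restrictScalars.{u} φ).obj (ModuleCat.of B B) ≅ ModuleCat.of A B where
  hom := ModuleCat.ofHom (X := (ModuleCat.restrictScalars.{u} φ).obj (ModuleCat.of B B)) (Y := B)
      { toFun := fun x => x
        map_add' := fun _ _ => rfl
        map_smul' := fun a x => (h a x).symm }
  inv := ModuleCat.ofHom (Y := (ModuleCat.restrictScalars.{u} φ).obj (ModuleCat.of B B)) (X := B)
      { toFun := fun x => x
        map_add' := fun _ _ => rfl
        map_smul' := fun a x => (h a x) }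

/-- Restriction of `B[0]`. -/
noncomputable def restrictSelfIso [Module A B] (h : ∀ (a : A) (b : B), a • b = φ a * b) :
    (DRing.restrictD φ).obj (Dual.inD B B) ≅ Dual.inD A B :=
  RAdjFin.restrictDSingle φ 0 (ModuleCat.of B B) ≪≫ (singleFunctor (ModuleCat.{u} A) 0).mapIso
    (resIso φ h)

/-- `Hom(B, R(K)[i]) = 0` iff `Hom_{D(A)}(B, K[i]) = 0`. -/
lemma subsingleton_radj_iff [Module A B] (h : ∀ (a : A) (b : B), a • b = φ a * b)
    {R : Dual.D A ⥤ Dual.D B} (adj : DRing.restrictD φ ⊣ R) (K : Dual.D A) (i : ℤ) :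
    Subsingleton (Dual.inD B B ⟶ (R.obj K)⟦i⟧) ↔ Subsingleton (Dual.inD A B ⟶ K⟦i⟧) := by
  obtain ⟨e⟩ := radj_shift φ adj K i
  have e1 : (Dual.inD B B ⟶ (R.obj K)⟦i⟧) ≃ (Dual.inD A B ⟶ K⟦i⟧) :=
    (e.symm.homToEquiv (Z := Dual.inD B B)).trans ((adj.homEquiv _ _).symm.trans
      (Iso.homFromEquiv (restrictSelfIso φ h)))
  exact e1.subsingleton_congr

end Aux

section Main

variable {R A : Type u} [CommRing R] [CommRing A] [Algebra R A] (n : ℕ)
  (ψ : MvPolynomial (Fin n) R →ₐ[R] A) (hψ : Function.Surjective ψ)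
  [DRing.HasLBaseChange (algebraMap R (MvPolynomial (Fin n) R))]
  (Rψ : Dual.D (MvPolynomial (Fin n) R) ⥤ Dual.D A) (adj : DRing.restrictD ψ.toRingHom ⊣ Rψ)
  [IsLocalRing R] (m : Ideal A) [m.IsMaximal]
  (hm : m.comap (algebraMap R A) = IsLocalRing.maximalIdeal R)

include hψ adj hm in
/-- If `Hom(k, K[i]) = 0` then `Hom(A/m, φ^!(K)[i]) = 0`. -/
theorem subsingleton_quot (K : Dual.D R) (i : ℤ)
    (h : Subsingleton (Dual.inD R (IsLocalRing.ResidueField R) ⟶ K⟦i⟧)) :
    Subsingleton (Dual.inD A (A ⧸ m) ⟶ (Dual2.shriekVia n Rψ K)⟦i⟧) := by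
  have hft : Algebra.FiniteType R A := Algebra.FiniteType.of_surjective ψ hψ
  obtain ⟨_, ht, hfin⟩ := finite_quotient (R := R) m hm
  -- maps out of the residue field of `A`
  have h1 : Subsingleton (Dual.inD R (A ⧸ m) ⟶ K⟦i⟧) := subsingleton_inD h
  -- the composed presentation
  let π : A →ₐ[R] (A ⧸ m) := Ideal.Quotient.mkₐ R m
  let ψ' : MvPolynomial (Fin n) R →ₐ[R] (A ⧸ m) := π.comp ψ
  let Rπ : Dual.D A ⥤ Dual.D (A ⧸ m) := RAdj.RCoext π.toRingHom
  let adjπ : DRing.restrictD π.toRingHom ⊣ Rπ := RAdj.coextAdj π.toRingHom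
  let adj' : DRing.restrictD ψ'.toRingHom ⊣ Rψ ⋙ Rπ :=
    (adjπ.comp adj).ofNatIsoLeft (RAdj.restrictDComp ψ.toRingHom π.toRingHom).symm
  let R' : Dual.D R ⥤ Dual.D (A ⧸ m) := RAdj.RCoext (algebraMap R (A ⧸ m))
  let adjR : DRing.restrictD (algebraMap R (A ⧸ m)) ⊣ R' := RAdj.coextAdj _
  have hint : Module.Finite R (A ⧸ m) := by
    have : Module.Finite R (IsLocalRing.ResidueField R) :=
      Module.Finite.of_surjective (Algebra.linearMap R (IsLocalRing.ResidueField R))
        IsLocalRing.residue_surjective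
    exact Module.Finite.trans (IsLocalRing.ResidueField R) (A ⧸ m)
  obtain ⟨e⟩ := FrobGood.shriekVia_finite R (A ⧸ m) n ψ' (Rψ ⋙ Rπ) adj' R' adjR K
  have h2 : Subsingleton (Dual.inD (A ⧸ m) (A ⧸ m) ⟶ (R'.obj K)⟦i⟧) :=
    (subsingleton_radj_iff (algebraMap R (A ⧸ m)) (fun a b => Algebra.smul_def a b) adjR K i).2 h1
  obtain ⟨e2⟩ := radj_shift π.toRingHom adjπ
    (Rψ.obj ((DRing.LBaseChange (algebraMap R (MvPolynomial (Fin n) R))).obj K)) n
  have h3 : Subsingleton (Dual.inD (A ⧸ m) (A ⧸ m) ⟶ (Rπ.obj (Dual2.shriekVia n Rψ K))⟦i⟧) :=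
    InjRep.subsingleton_of_iso (e2 ≪≫ e) i h2
  exact (subsingleton_radj_iff π.toRingHom (fun a b => rfl) adjπ (Dual2.shriekVia n Rψ K) i).1 h3

end Main

end Groth.Agent.LoccohB.ShriekNorm
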