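import Groth.Agent.LoccohB.ShriekHD
import Groth.Agent.LoccohB.FibreReg
import Groth.Agent.LoccohB.ExtTors
import Groth.Agent.LoccohB.FinInj
import Mathlib.Algebra.Category.ModuleCat.Ext.HasExt

/-!
Torsion of `Hom_{D(P)}(A, (P ⊗ N)[j])` at a prime, for `j < n - d` (Stacks 0E9P).
-/

set_option autoImplicit false

universe u

open CategoryTheory CategoryTheory.Limits TensorProduct

attribute [local instance] HasDerivedCategory.standard

namespace Groth.Agent.LoccohB.ShriekVan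

open DerivedCategory Abelian RingTheory.Sequence

/-- `ExtTors.ext_torsion` for morphisms in the derived category, all integer degrees. -/
theorem hom_torsion {P : Type u} [CommRing P] [IsNoetherianRing P] (q : Ideal P) [q.IsPrime]
    (X : ModuleCat.{u} P) (fs : List P) (hX : ∀ f ∈ fs, ∀ x : X, f • x = 0)
    (M : ModuleCat.{u} P) [Module.Finite P M]
    (hM : IsWeaklyRegular ((Localization.AtPrime q) ⊗[P] M) fs) (j : ℤ) (hj : j < fs.length)
    (f : (singleFunctor (ModuleCat.{u} P) 0).obj X ⟶ ((singleFunctor (ModuleCat.{u} P) 0).obj M)⟦j⟧) :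
    ∃ s : P, s ∉ q ∧ s • f = 0 := by
  rcases lt_or_ge j 0 with hj0 | hj0
  · refine ⟨1, fun h => (Ideal.IsPrime.ne_top inferInstance) ((Ideal.eq_top_iff_one q).2 h), ?_⟩
    have := Groth.Agent.LoccohB.FinInj.subsingleton_of_isGE X
      ((singleFunctor (ModuleCat.{u} P) 0).obj M) 0 j hj0
    exact this.elim _ _
  · obtain ⟨k, rfl⟩ := Int.eq_ofNat_of_zero_le hj0
    obtain ⟨s, hs, hsx⟩ := Groth.Agent.LoccohB.ExtTors.ext_torsion q X fs hX M hM k
      (by exact_mod_cast hj) ((Ext.homLinearEquiv (R := P)).symm f)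
    refine ⟨s, hs, ?_⟩
    rw [← map_smul] at hsx
    exact (LinearEquiv.map_eq_zero_iff _).1 hsx

variable {R A : Type u} [CommRing R] [IsNoetherianRing R] [CommRing A] [Algebra R A]

theorem hom_torsion_fibre (n : ℕ) (ψ : MvPolynomial (Fin n) R →ₐ[R] A)
    (hψ : Function.Surjective ψ) (q : PrimeSpectrum A) (d : ℕ)
    (hd : FlatMor.fibreDimAt (AlgebraicGeometry.Spec.map
      (CommRingCat.ofHom (algebraMap R A))) q ≤ d)
    (N : Type u) [AddCommGroup N] [Module R N] [Module.Finite R N] (j : ℤ) (hj : j + d < n)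
    (f : (singleFunctor (ModuleCat.{u} (MvPolynomial (Fin n) R)) 0).obj
      ((ModuleCat.restrictScalars.{u} ψ.toRingHom).obj (ModuleCat.of A A)) ⟶
      ((singleFunctor (ModuleCat.{u} (MvPolynomial (Fin n) R)) 0).obj
        (ModuleCat.of (MvPolynomial (Fin n) R) ((MvPolynomial (Fin n) R) ⊗[R] N)))⟦j⟧) :
    ∃ s : MvPolynomial (Fin n) R, ψ s ∉ q.asIdeal ∧ s • f = 0 := by
  obtain ⟨m, hm, fs, hqm, hfs, hlen, hreg⟩ :=
    Groth.Agent.LoccohB.FibreReg.exists_seq n ψ hψ q d hd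
  obtain ⟨s, hs, hsf⟩ := hom_torsion m
    ((ModuleCat.restrictScalars.{u} ψ.toRingHom).obj (ModuleCat.of A A)) fs
    (fun g hg (x : A) => by
      change ψ g * x = 0
      rw [hfs g hg, zero_mul])
    (ModuleCat.of (MvPolynomial (Fin n) R) ((MvPolynomial (Fin n) R) ⊗[R] N)) (hreg N) j
    (by
      have : (n : ℤ) ≤ fs.length + d := by exact_mod_cast hlen
      linarith) f
  exact ⟨s, fun h => hs (hqm h), hsf⟩

/-- Elements of `H^i(ω_{A/R})`, `i < -d`, are killed outside `q` (Stacks 0E9P). -/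
theorem torsion_HD_shriek (n : ℕ)
    (ψ : MvPolynomial (Fin n) R →ₐ[R] A) (hψ : Function.Surjective ψ)
    [DRing.HasLBaseChange (algebraMap R (MvPolynomial (Fin n) R))]
    (Rψ : Dual.D (MvPolynomial (Fin n) R) ⥤ Dual.D A) (adj : DRing.restrictD ψ.toRingHom ⊣ Rψ)
    (q : PrimeSpectrum A) (d : ℕ)
    (hd : FlatMor.fibreDimAt (AlgebraicGeometry.Spec.map
      (CommRingCat.ofHom (algebraMap R A))) q ≤ d)
    (i : ℤ) (hi : i < -(d : ℤ)) (x : Dual.HD A (Dual2.shriekVia n Rψ (Dual.inD R R)) i) :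
    ∃ s : A, s ∉ q.asIdeal ∧ s • x = 0 := by
  refine ShriekHD.torsion_HD ψ.toRingHom adj
    ((DRing.LBaseChange (algebraMap R (MvPolynomial (Fin n) R))).obj (Dual.inD R R)) n i (n + i) rfl
    q.asIdeal ?_ x
  intro f
  let P := MvPolynomial (Fin n) R
  let e1 : (DRing.LBaseChange (algebraMap R P)).obj (Dual.inD R R) ≅
      (DerivedCategory.singleFunctor (ModuleCat.{u} P) 0).obj (ModuleCat.of P P) :=
    LBC.lbcSelfIso (algebraMap R P) 0
  let e2 : ModuleCat.of P P ≅ ModuleCat.of P (P ⊗[R] R) :=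
    (TensorProduct.AlgebraTensorModule.rid R P P).symm.toModuleIso
  let e : (DRing.LBaseChange (algebraMap R P)).obj (Dual.inD R R) ≅
      (DerivedCategory.singleFunctor (ModuleCat.{u} P) 0).obj (ModuleCat.of P (P ⊗[R] R)) :=
    e1 ≪≫ (DerivedCategory.singleFunctor (ModuleCat.{u} P) 0).mapIso e2
  obtain ⟨s, hs, hsf⟩ := hom_torsion_fibre n ψ hψ q d hd R (n + i) (by omega)
    (f ≫ (CategoryTheory.shiftFunctor _ ((n : ℤ) + i)).map e.hom)
  refine ⟨s, hs, ?_⟩
  rw [← Linear.smul_comp] at hsf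
  have h1 : s • f = ((s • f) ≫ (CategoryTheory.shiftFunctor _ ((n : ℤ) + i)).map e.hom) ≫
      (CategoryTheory.shiftFunctor _ ((n : ℤ) + i)).map e.inv := by
    rw [Category.assoc, ← CategoryTheory.Functor.map_comp, e.hom_inv_id,
      CategoryTheory.Functor.map_id, Category.comp_id]
  rw [h1, hsf, Limits.zero_comp]

end Groth.Agent.LoccohB.ShriekVan
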