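import Groth.Agent.LoccohB.PerfAmp
import Groth.Agent.LoccohB.RHomPerf
import Groth.Agent.LoccohB.DualCok
import Groth.Agent.LoccohB.ShriekVan

/-!
# Tor amplitude over `R` of `ω_{A/R} = φ^!(R)` for `R → A` flat

* `hasTorAmplitudeIn_of_flat_cok`, `hasTorAmplitudeIn_shift`.
* `subsingleton_HD_pos`: `H^i(ω_{A/R}) = 0` for `i > 0`.
* `hasTorAmplitudeIn_shriek`: if all fibres have local dimension `≤ d` then `ω_{A/R}` has tor
  amplitude in `[-d, 0]` over `R`.
-/

set_option autoImplicit false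

universe u

open CategoryTheory CategoryTheory.Limits
open scoped TensorProduct

attribute [local instance] HasDerivedCategory.standard

namespace Groth.Agent.LoccohB.ShriekTor

open DerivedCategory Groth.Agent.LoccohB.LBC Flat2C.TorAmpCone DualCok

section Amp

variable {R : Type u} [CommRing R]

/-- Truncation. -/
theorem hasTorAmplitudeIn_of_flat_cok (P : DRing.Cx R) (a b h : ℤ) (hha : h + 1 = a)
    (hP0 : ∀ i, b < i → IsZero (P.X i)) (hex : ∀ i, i < a → P.ExactAt i)
    (hPf : ∀ i, Module.Flat R (P.X i)) (hcok : Module.Flat R (Cok P h a)) :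
    DRing.HasTorAmplitudeIn R a b (DRing.toD P) := by
  have hGE : P.IsGE a := by
    rw [CochainComplex.isGE_iff]
    exact hex
  have hcok' : Module.Flat R (P.opcycles a) := by
    obtain ⟨e1⟩ := Flat2C.TorAmpRestr.nonempty_opcycles_equiv P hha
    exact Module.Flat.of_linearEquiv e1
  refine ⟨P.truncGE a, ?_, ?_, ⟨(asIso (DerivedCategory.Q.map (P.πTruncGE a))).symm⟩⟩
  · rintro i (hi | hi)
    · exact CochainComplex.isZero_of_isStrictlyGE _ a i hi
    · rcases lt_trichotomy i a with h | h | h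
      · exact CochainComplex.isZero_of_isStrictlyGE _ a i h
      · subst h
        refine IsZero.of_iso ?_ (P.truncGEXIsoOpcycles i)
        exact IsZero.of_epi (P.pOpcycles i) (hP0 i hi)
      · exact IsZero.of_iso (hP0 i hi) (P.truncGEXIso a i h)
  · intro i
    rcases lt_trichotomy i a with h | h | h
    · have := ModuleCat.subsingleton_of_isZero
        (CochainComplex.isZero_of_isStrictlyGE (P.truncGE a) a i h)
      infer_instance
    · subst h
      exact Module.Flat.of_linearEquiv (P.truncGEXIsoOpcycles i).toLinearEquiv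
    · have := hPf i
      exact Module.Flat.of_linearEquiv (P.truncGEXIso a i h).toLinearEquiv

lemma hasTorAmplitudeIn_of_iso {a b : ℤ} {K L : Dual.D R} (e : K ≅ L)
    (h : DRing.HasTorAmplitudeIn R a b K) : DRing.HasTorAmplitudeIn R a b L := by
  obtain ⟨E, h1, h2, ⟨i⟩⟩ := h
  exact ⟨E, h1, h2, ⟨i ≪≫ e⟩⟩

lemma hasTorAmplitudeIn_shift {a b : ℤ} {K : Dual.D R} (n : ℤ)
    (h : DRing.HasTorAmplitudeIn R a b K) :
    DRing.HasTorAmplitudeIn R (a - n) (b - n) (K⟦n⟧) := by
  obtain ⟨E, h1, h2, ⟨i⟩⟩ := h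
  exact ⟨E⟦n⟧, fun i hi => h1 (i + n) (by omega), fun i => h2 (i + n),
    ⟨(DerivedCategory.Q.commShiftIso n).app E ≪≫ (shiftFunctor (Dual.D R) n).mapIso i⟩⟩

end Amp

section Hom

variable {R A : Type u} [CommRing R] [CommRing A] [Algebra R A] [IsNoetherianRing R]

/-- Vanishing of `Hom_{D(P)}(A, X[k])`, `X = P ⊗_R N`, `k < n - d`. -/
theorem subsingleton_hom (n : ℕ) (ψ : MvPolynomial (Fin n) R →ₐ[R] A)
    (hψ : Function.Surjective ψ) (d : ℕ)
    (hd : ∀ q : PrimeSpectrum A, FlatMor.fibreDimAt (AlgebraicGeometry.Spec.map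
      (CommRingCat.ofHom (algebraMap R A))) q ≤ (d : WithBot ℕ∞))
    (N : Type u) [AddCommGroup N] [Module R N] [Module.Finite R N] (k : ℤ) (hk : k + d < n) :
    Subsingleton ((singleFunctor (ModuleCat.{u} (MvPolynomial (Fin n) R)) 0).obj
      ((ModuleCat.restrictScalars.{u} ψ.toRingHom).obj (ModuleCat.of A A)) ⟶
      ((singleFunctor (ModuleCat.{u} (MvPolynomial (Fin n) R)) 0).obj
        (ModuleCat.of (MvPolynomial (Fin n) R) ((MvPolynomial (Fin n) R) ⊗[R] N)))⟦k⟧) := by
  refine ⟨fun f g => ?_⟩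
  rw [← sub_eq_zero]
  generalize f - g = f
  let a : Ideal (MvPolynomial (Fin n) R) :=
    LinearMap.ker (LinearMap.toSpanSingleton (MvPolynomial (Fin n) R) _ f)
  have ha : ∀ s, s ∈ a ↔ s • f = 0 := fun s => Iff.rfl
  have h1 : a.map ψ.toRingHom = ⊤ := by
    by_contra hne
    obtain ⟨m, hm, hle⟩ := Ideal.exists_le_maximal _ hne
    obtain ⟨s, hs, hsf⟩ := ShriekVan.hom_torsion_fibre n ψ hψ ⟨m, hm.isPrime⟩ d
      (hd ⟨m, hm.isPrime⟩) N k hk f
    exact hs (hle (Ideal.mem_map_of_mem _ ((ha s).2 hsf)))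
  have h2 : (1 : A) ∈ a.map ψ.toRingHom := by rw [h1]; exact Submodule.mem_top
  rw [Ideal.mem_map_iff_of_surjective ψ.toRingHom hψ] at h2
  obtain ⟨s, hs, hs1⟩ := h2
  have h3 : (1 - s) • f = 0 := by
    have h4 : (1 - s) • (𝟙 ((ModuleCat.restrictScalars.{u} ψ.toRingHom).obj
        (ModuleCat.of A A))) = 0 := by
      ext (x : A)
      change ψ.toRingHom (1 - s) * x = 0
      rw [map_sub, hs1, map_one, sub_self, zero_mul]
    have h5 : (1 - s) • f = ((1 - s) • (𝟙 ((singleFunctor (ModuleCat.{u}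
        (MvPolynomial (Fin n) R)) 0).obj ((ModuleCat.restrictScalars.{u} ψ.toRingHom).obj
          (ModuleCat.of A A))))) ≫ f := by
      rw [Linear.smul_comp, Category.id_comp]
    rw [h5, ← CategoryTheory.Functor.map_id, ← CategoryTheory.Functor.map_smul, h4,
      CategoryTheory.Functor.map_zero, zero_comp]
  have h6 : f = s • f + (1 - s) • f := by rw [← add_smul, add_sub_cancel, one_smul]
  rw [h6, (ha s).1 hs, h3, add_zero]

end Hom

section Main

variable {R A : Type u} [CommRing R] [CommRing A] [Algebra R A] [IsNoetherianRing R]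

/-- Vanishing of `Hom_{D(P)}(F, (P/IP)[k])`, for a complex `F ≅ A`. -/
theorem subsingleton_toD (n : ℕ) (ψ : MvPolynomial (Fin n) R →ₐ[R] A)
    (hψ : Function.Surjective ψ) (d : ℕ)
    (hd : ∀ q : PrimeSpectrum A, FlatMor.fibreDimAt (AlgebraicGeometry.Spec.map
      (CommRingCat.ofHom (algebraMap R A))) q ≤ (d : WithBot ℕ∞))
    (F : DRing.Cx (MvPolynomial (Fin n) R))
    (e : DRing.toD F ≅ (DRing.restrictD ψ.toRingHom).obj (Dual.inD A A))
    (N : Type u) [AddCommGroup N] [Module R N] [Module.Finite R N]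
    (M : Type u) [AddCommGroup M] [Module (MvPolynomial (Fin n) R) M]
    (eM : M ≃ₗ[MvPolynomial (Fin n) R] (MvPolynomial (Fin n) R) ⊗[R] N) (k : ℤ) (hk : k + d < n) :
    Subsingleton (DRing.toD F ⟶ (DRing.toD (sg (P := MvPolynomial (Fin n) R) M))⟦k⟧) := by
  have h1 := subsingleton_hom n ψ hψ d hd N k hk
  have e1 : DRing.toD F ≅ (singleFunctor (ModuleCat.{u} (MvPolynomial (Fin n) R)) 0).obj
      ((ModuleCat.restrictScalars.{u} ψ.toRingHom).obj (ModuleCat.of A A)) :=
    e ≪≫ ShriekHD.restrictSelf ψ.toRingHom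
  have e2 : (singleFunctor (ModuleCat.{u} (MvPolynomial (Fin n) R)) 0).obj
      (ModuleCat.of (MvPolynomial (Fin n) R) M) ≅
      (singleFunctor (ModuleCat.{u} (MvPolynomial (Fin n) R)) 0).obj
        (ModuleCat.of (MvPolynomial (Fin n) R) ((MvPolynomial (Fin n) R) ⊗[R] N)) :=
    (singleFunctor (ModuleCat.{u} (MvPolynomial (Fin n) R)) 0).mapIso eM.toModuleIso
  exact InjRep.subsingleton_of_iso_left e1 (InjRep.subsingleton_of_iso e2 k h1)

omit [CommRing A] [Algebra R A] [IsNoetherianRing R] in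
lemma isZero_homCx_X {P : Type u} [CommRing P] (F : DRing.Cx P) {i : ℤ}
    (hi : IsZero (F.X (-i))) : IsZero ((DRing.homCx F (sg P)).X i) := by
  have : Subsingleton (F.X (-i)) := ModuleCat.subsingleton_of_isZero hi
  have h2 : Subsingleton (CochainComplex.HomComplex.Cochain F (sg P) i) :=
    (toS F P i).toEquiv.subsingleton
  exact ModuleCat.isZero_iff_subsingleton.2 h2

/-- `H^i(ω_{A/R}) = 0` for `i > 0` if `A` has a resolution of length `n` over `R[x_1..x_n]`. -/
theorem subsingleton_HD_pos (n : ℕ) (ψ : MvPolynomial (Fin n) R →ₐ[R] A)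
    (hψ : Function.Surjective ψ) [Module.Flat R A]
    [DRing.HasLBaseChange (algebraMap R (MvPolynomial (Fin n) R))]
    (Rψ : Dual.D (MvPolynomial (Fin n) R) ⥤ Dual.D A) (adj : DRing.restrictD ψ.toRingHom ⊣ Rψ)
    (i : ℤ) (hi : 0 < i) :
    Subsingleton (Dual.HD A (Dual2.shriekVia n Rψ (Dual.inD R R)) i) := by
  obtain ⟨F, hF0, hF, ⟨e⟩⟩ := PerfAmp.perfIn_restrictD ψ hψ
  have : F.IsKProjective :=
    PerfTri.isKProjective_of_vanishesAbove (fun i hi => hF0 i (Or.inr hi)) (fun i => (hF i).2)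
  let P := MvPolynomial (Fin n) R
  let K := (DRing.LBaseChange (algebraMap R P)).obj (Dual.inD R R)
  have e1 : K ≅ DRing.toD (sg P) := LBC.lbcSelfIso (algebraMap R P) 0
  have h1 : Subsingleton ((DRing.homCx F (sg P)).homology (n + i)) := by
    rw [← ModuleCat.isZero_iff_subsingleton, ← HomologicalComplex.exactAt_iff_isZero_homology]
    exact HomologicalComplex.ExactAt.of_isZero (isZero_homCx_X F (hF0 _ (by omega)))
  have h2 : Subsingleton (DRing.toD F ⟶ (DRing.toD (sg P))⟦(n : ℤ) + i⟧) :=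
    (HomCxHD.homologyEquiv F (sg P) (n + i)
      (HomCxHD.computes_of_isKProjective F (sg P))).toEquiv.subsingleton_congr.1 h1
  have h3 : Subsingleton ((DRing.restrictD ψ.toRingHom).obj (Dual.inD A A) ⟶ K⟦(n : ℤ) + i⟧) :=
    InjRep.subsingleton_of_iso_left e.symm (InjRep.subsingleton_of_iso e1 _ h2)
  obtain ⟨e4⟩ := ShriekHD.exists_equiv ψ.toRingHom adj K n i (n + i) rfl
  exact e4.toEquiv.subsingleton_congr.2 ((adj.homEquiv _ _).subsingleton_congr.1 h3)

omit [IsNoetherianRing R] in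
/-- The dual complex computes `φ^!(R)[-n]` over `R`. -/
theorem exists_iso (n : ℕ) (ψ : MvPolynomial (Fin n) R →ₐ[R] A)
    [DRing.HasLBaseChange (algebraMap R (MvPolynomial (Fin n) R))]
    (Rψ : Dual.D (MvPolynomial (Fin n) R) ⥤ Dual.D A) (adj : DRing.restrictD ψ.toRingHom ⊣ Rψ)
    (F : DRing.Cx (MvPolynomial (Fin n) R)) [F.IsKProjective]
    (e : DRing.toD F ≅ (DRing.restrictD ψ.toRingHom).obj (Dual.inD A A)) :
    Nonempty ((DRing.restrictD (algebraMap R A)).obj (Dual2.shriekVia n Rψ (Dual.inD R R)) ≅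
      (DRing.toD ((DRing.restrictCx (algebraMap R (MvPolynomial (Fin n) R))).obj
        (DRing.homCx F (sg (MvPolynomial (Fin n) R)))))⟦(n : ℤ)⟧) := by
  let P := MvPolynomial (Fin n) R
  let K := (DRing.LBaseChange (algebraMap R P)).obj (Dual.inD R R)
  have e1 : K ≅ DRing.toD (sg P) := LBC.lbcSelfIso (algebraMap R P) 0
  obtain ⟨e2⟩ := RHomPerf.exists_iso_homCx ψ.toRingHom adj F e (sg P)
  have hc : algebraMap R A = ψ.toRingHom.comp (algebraMap R P) := by
    ext r
    exact (ψ.commutes r).symm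
  have e3 : (DRing.restrictD (algebraMap R A)).obj (Rψ.obj K) ≅
      DRing.toD ((DRing.restrictCx (algebraMap R P)).obj (DRing.homCx F (sg P))) :=
    (LBC.restrictDComp (algebraMap R P) ψ.toRingHom (algebraMap R A) hc).symm.app _ ≪≫
      (DRing.restrictD (algebraMap R P)).mapIso ((DRing.restrictD ψ.toRingHom).mapIso
        (Rψ.mapIso e1) ≪≫ e2) ≪≫ Flat2C.TorAmpRestr.restrictIso _ _
  exact ⟨((DRing.restrictD (algebraMap R A)).commShiftIso (n : ℤ)).app (Rψ.obj K) ≪≫
    (CategoryTheory.shiftFunctor (Dual.D R) (n : ℤ)).mapIso e3⟩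

/-- `ω_{A/R}` has tor amplitude in `[-d, 0]` over `R`. -/
theorem hasTorAmplitudeIn_shriek (n : ℕ) (ψ : MvPolynomial (Fin n) R →ₐ[R] A)
    (hψ : Function.Surjective ψ) [Module.Flat R A]
    [DRing.HasLBaseChange (algebraMap R (MvPolynomial (Fin n) R))]
    (Rψ : Dual.D (MvPolynomial (Fin n) R) ⥤ Dual.D A) (adj : DRing.restrictD ψ.toRingHom ⊣ Rψ)
    (d : ℕ)
    (hd : ∀ q : PrimeSpectrum A, FlatMor.fibreDimAt (AlgebraicGeometry.Spec.map
      (CommRingCat.ofHom (algebraMap R A))) q ≤ (d : WithBot ℕ∞)) :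
    DRing.HasTorAmplitudeIn R (-(d : ℤ)) 0
      ((DRing.restrictD (algebraMap R A)).obj (Dual2.shriekVia n Rψ (Dual.inD R R))) := by
  obtain ⟨F, hF0, hF, ⟨e⟩⟩ := PerfAmp.perfIn_restrictD ψ hψ
  have : F.IsKProjective :=
    PerfTri.isKProjective_of_vanishesAbove (fun i hi => hF0 i (Or.inr hi)) (fun i => (hF i).2)
  obtain ⟨e1⟩ := exists_iso n ψ Rψ adj F e
  let P := MvPolynomial (Fin n) R
  let φ : R →+* P := algebraMap R P
  have hφ : φ.Flat := RingHom.flat_algebraMap_iff.2 inferInstance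
  let G := DRing.homCx F (sg P)
  have h1 : DRing.HasTorAmplitudeIn R ((n : ℤ) - d) n (DRing.toD ((DRing.restrictCx φ).obj G)) := by
    refine hasTorAmplitudeIn_of_flat_cok _ _ _ ((n : ℤ) - d - 1) (by omega) ?_ ?_ ?_ ?_
    · intro i hi
      refine (ModuleCat.restrictScalars φ).map_isZero ?_
      have hi0 : IsZero (F.X (-i)) := hF0 (-i) (by omega)
      exact isZero_homCx_X F hi0
    · intro i hi
      rw [Flat2C.TorAmpRestr.exactAt_restrict_iff, HomologicalComplex.exactAt_iff_isZero_homology,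
        ModuleCat.isZero_iff_subsingleton]
      have h2 := subsingleton_toD n ψ hψ d hd F e R P
        (TensorProduct.AlgebraTensorModule.rid R P P).symm i (by omega)
      exact (HomCxHD.homologyEquiv F (sg P) i
        (HomCxHD.computes_of_isKProjective F (sg P))).toEquiv.subsingleton_congr.2 h2
    · intro i
      exact flat_restrict φ hφ _ (flat_homCx_X F hF i)
    · have h2 := flat_cok φ F hF hφ ((n : ℤ) - d - 1) (by
        intro I
        exact subsingleton_toD n ψ hψ d hd F e (R ⧸ I) (P ⧸ I.map φ)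
          (Algebra.TensorProduct.quotIdealMapEquivTensorQuot P I).toLinearEquiv
          ((n : ℤ) - d - 1) (by omega))
      have h3 : (n : ℤ) - d - 1 + 1 = n - d := by omega
      rw [h3] at h2
      exact h2
  have h2 := hasTorAmplitudeIn_of_iso e1.symm (hasTorAmplitudeIn_shift (n : ℤ) h1)
  have h3 : (n : ℤ) - d - n = -d := by omega
  rw [h3, sub_self] at h2
  exact h2

end Main

end Groth.Agent.LoccohB.ShriekTor
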