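import Groth.Agent.CohtopA.BrownW

/-!
# Vanishing of the telescope of an endomorphism, without cones

For an endomorphism `t : M ⟶ M` in a preadditive category with countable coproducts,
`TelZero t` says that `1 - shift ∘ t : ⨁_ℕ M ⟶ ⨁_ℕ M` is an isomorphism, i.e. that the
homotopy colimit of `M → M → M → ⋯` vanishes.

* `TelZero.map`: preserved by additive functors which preserve countable coproducts;
  `telZero_of_map` if the functor reflects isomorphisms.
* `TelZero.isZero_of_isIso`: if `t` is an isomorphism, then `M` is zero.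
* `TelZero.exists_pow`: if `K` is compact, every `K ⟶ M` is killed by a power of `t`.
* `telZero_of_generates`: the converse.
-/

set_option autoImplicit false

universe w v u v' u' t

open CategoryTheory CategoryTheory.Limits Pretriangulated

namespace Groth.Agent.LoccohB.Tel

set_option linter.unusedSectionVars false

open Groth.Agent.CohtopA.BrownW Groth.Agent.CohtopA.Compact

section Pow

variable {C : Type u} [Category.{v} C] {D : Type u'} [Category.{v'} D]

/-- powers of an endomorphism -/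
def tpow {M : C} (t : M ⟶ M) : ℕ → (M ⟶ M)
  | 0 => 𝟙 M
  | n + 1 => tpow t n ≫ t

@[simp] lemma tpow_zero {M : C} (t : M ⟶ M) : tpow t 0 = 𝟙 M := rfl

lemma tpow_succ {M : C} (t : M ⟶ M) (n : ℕ) : tpow t (n + 1) = tpow t n ≫ t := rfl

lemma tpow_add {M : C} (t : M ⟶ M) (m n : ℕ) : tpow t (m + n) = tpow t m ≫ tpow t n := by
  induction n with
  | zero => simp
  | succ n ih => rw [← Nat.add_assoc, tpow_succ, ih, tpow_succ, Category.assoc]

lemma map_tpow (F : C ⥤ D) {M : C} (t : M ⟶ M) (n : ℕ) : F.map (tpow t n) = tpow (F.map t) n := by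
  induction n with
  | zero => simp
  | succ n ih => rw [tpow_succ, tpow_succ, F.map_comp, ih]

end Pow

section Basic

variable {C : Type u} [Category.{v} C] [Preadditive C] [HasCoproducts.{w} C]

/-- The coproduct of `ℕ` copies of `M`. -/
noncomputable abbrev tsum (M : C) : C := ∐ (fun _ : ULift.{w} ℕ => M)

/-- the inclusions -/
noncomputable abbrev tι (M : C) (n : ℕ) : M ⟶ tsum.{w} M := Sigma.ι (fun _ : ULift.{w} ℕ => M) ⟨n⟩

lemma tsum_hom_ext {M N : C} {f g : tsum.{w} M ⟶ N} (h : ∀ n, tι M n ≫ f = tι M n ≫ g) : f = g :=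
  Sigma.hom_ext _ _ (fun ⟨n⟩ => h n)

/-- descent -/
noncomputable def tdesc {M N : C} (f : ℕ → (M ⟶ N)) : tsum.{w} M ⟶ N :=
  Sigma.desc (fun n : ULift.{w} ℕ => f n.down)

@[reassoc (attr := simp)]
lemma tι_tdesc {M N : C} (f : ℕ → (M ⟶ N)) (n : ℕ) : tι.{w} M n ≫ tdesc f = f n := by
  simp [tdesc]

/-- `1 - shift ∘ t`. -/
noncomputable def oneSub {M : C} (t : M ⟶ M) : tsum.{w} M ⟶ tsum.{w} M :=
  tdesc (fun n => tι M n - t ≫ tι M (n + 1))

@[reassoc (attr := simp)]
lemma tι_oneSub {M : C} (t : M ⟶ M) (n : ℕ) :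
    tι.{w} M n ≫ oneSub t = tι M n - t ≫ tι M (n + 1) := by
  simp [oneSub]

/-- the telescope of `t` vanishes. -/
def TelZero {M : C} (t : M ⟶ M) : Prop := IsIso (oneSub.{w} t)

lemma TelZero.isZero_of_isIso {M : C} {t : M ⟶ M} (h : TelZero.{w} t) [IsIso t] : IsZero M := by
  have h' : IsIso (oneSub.{w} t) := h
  let p : ℕ → (M ⟶ M) := fun n => Nat.rec (𝟙 M) (fun _ q => inv t ≫ q) n
  have hp : ∀ n, t ≫ p (n + 1) = p n := fun n => by simp [p]
  have h1 : oneSub.{w} t ≫ tdesc p = 0 := by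
    refine tsum_hom_ext (fun n => ?_)
    rw [tι_oneSub_assoc, Preadditive.sub_comp, Category.assoc, tι_tdesc, tι_tdesc, hp, sub_self,
      comp_zero]
  have h2 : tdesc.{w} p = 0 := by
    rw [← cancel_epi (oneSub.{w} t), h1, comp_zero]
  have h3 : 𝟙 M = 0 := by
    have := tι_tdesc.{w} p 0
    rw [h2, comp_zero] at this
    exact this.symm
  exact (IsZero.iff_id_eq_zero M).2 h3

lemma TelZero.of_iso {M N : C} {t : M ⟶ M} {t' : N ⟶ N} (h : TelZero.{w} t) (e : M ≅ N)
    (he : t ≫ e.hom = e.hom ≫ t') : TelZero.{w} t' := by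
  have h' : IsIso (oneSub.{w} t) := h
  let E : tsum.{w} M ≅ tsum.{w} N := Sigma.mapIso (fun _ => e)
  have hE : ∀ n, tι.{w} M n ≫ E.hom = e.hom ≫ tι N n := fun n => by simp [E]
  have h1 : oneSub.{w} t ≫ E.hom = E.hom ≫ oneSub.{w} t' := by
    refine tsum_hom_ext (fun n => ?_)
    rw [tι_oneSub_assoc, Preadditive.sub_comp, hE, reassoc_of% (hE n), tι_oneSub,
      Preadditive.comp_sub, Category.assoc, hE, reassoc_of% he]
  have : oneSub.{w} t' = E.inv ≫ oneSub.{w} t ≫ E.hom := by rw [h1, E.inv_hom_id_assoc]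
  change IsIso (oneSub.{w} t')
  rw [this]
  infer_instance

end Basic

section Functor

variable {C : Type u} [Category.{v} C] [Preadditive C] [HasCoproducts.{w} C]
  {D : Type u'} [Category.{v'} D] [Preadditive D] [HasCoproducts.{w} D]
  (F : C ⥤ D) [F.Additive] [PreservesColimitsOfShape (Discrete (ULift.{w} ℕ)) F]

/-- comparison -/
noncomputable def cmp (M : C) : tsum.{w} (F.obj M) ≅ F.obj (tsum.{w} M) :=
  haveI := isIso_sigmaComparison_of_preservesColimitsOfShape F (fun _ : ULift.{w} ℕ => M)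
  asIso (sigmaComparison F (fun _ : ULift.{w} ℕ => M))
where
  isIso_sigmaComparison_of_preservesColimitsOfShape {J : Type w} (F : C ⥤ D)
    [PreservesColimitsOfShape (Discrete J) F] (f : J → C) : IsIso (sigmaComparison F f) := by
    infer_instance

@[reassoc (attr := simp)]
lemma tι_cmp (M : C) (n : ℕ) : tι.{w} (F.obj M) n ≫ (cmp.{w} F M).hom = F.map (tι M n) := by
  simp [cmp]

lemma oneSub_map {M : C} (t : M ⟶ M) :
    oneSub.{w} (F.map t) ≫ (cmp.{w} F M).hom = (cmp.{w} F M).hom ≫ F.map (oneSub.{w} t) := by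
  refine tsum_hom_ext (fun n => ?_)
  rw [tι_oneSub_assoc, Preadditive.sub_comp, tι_cmp, Category.assoc, tι_cmp, tι_cmp_assoc]
  simp only [← F.map_comp, tι_oneSub, F.map_sub]

lemma TelZero.map {M : C} {t : M ⟶ M} (h : TelZero.{w} t) : TelZero.{w} (F.map t) := by
  have h' : IsIso (oneSub.{w} t) := h
  have h1 : oneSub.{w} (F.map t) = (cmp.{w} F M).hom ≫ F.map (oneSub.{w} t) ≫ (cmp.{w} F M).inv := by
    rw [← reassoc_of% (oneSub_map.{w} F t), Iso.hom_inv_id, Category.comp_id]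
  change IsIso (oneSub.{w} (F.map t))
  rw [h1]
  infer_instance

lemma isIso_map_oneSub {M : C} {t : M ⟶ M} (h : TelZero.{w} (F.map t)) :
    IsIso (F.map (oneSub.{w} t)) := by
  have h' : IsIso (oneSub.{w} (F.map t)) := h
  have h1 : F.map (oneSub.{w} t) = (cmp.{w} F M).inv ≫ oneSub.{w} (F.map t) ≫ (cmp.{w} F M).hom := by
    rw [oneSub_map.{w} F t, Iso.inv_hom_id_assoc]
  rw [h1]
  infer_instance

lemma telZero_of_map [F.ReflectsIsomorphisms] {M : C} {t : M ⟶ M}
    (h : TelZero.{w} (F.map t)) : TelZero.{w} t := by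
  have := isIso_map_oneSub F h
  exact isIso_of_reflects_iso _ F

end Functor

section Compact

variable {C : Type u} [Category.{v} C] [Preadditive C] [HasCoproducts.{w} C]

/-- the colimit cofan of `tsum M`. -/
noncomputable abbrev tcofan (M : C) : Cofan (fun _ : ULift.{w} ℕ => M) :=
  Cofan.mk (tsum.{w} M) (Sigma.ι (fun _ : ULift.{w} ℕ => M))

/-- it is a colimit cofan -/
noncomputable def isColimitTcofan (M : C) : IsColimit (tcofan.{w} M) :=
  coproductIsCoproduct _

open scoped Classical in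
lemma oneSub_proj_zero {M : C} (t : M ⟶ M) :
    oneSub.{w} t ≫ proj (isColimitTcofan.{w} M) ⟨0⟩ = proj (isColimitTcofan.{w} M) ⟨0⟩ := by
  refine tsum_hom_ext (fun n => ?_)
  rw [tι_oneSub_assoc, Preadditive.sub_comp, Category.assoc]
  have h := inj_proj_of_ne (isColimitTcofan.{w} M) ⟨n + 1⟩ ⟨0⟩ (by simp)
  simp only [Cofan.inj, Cofan.mk_ι_app] at h
  rw [h, comp_zero, sub_zero]

lemma oneSub_proj_succ {M : C} (t : M ⟶ M) (k : ℕ) :
    oneSub.{w} t ≫ proj (isColimitTcofan.{w} M) ⟨k + 1⟩ = proj (isColimitTcofan.{w} M) ⟨k + 1⟩ -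
      proj (isColimitTcofan.{w} M) ⟨k⟩ ≫ t := by
  refine tsum_hom_ext (fun n => ?_)
  rw [tι_oneSub_assoc, Preadditive.sub_comp, Category.assoc, Preadditive.comp_sub]
  congr 1
  by_cases hnk : n = k
  · subst hnk
    have h := inj_proj_self (isColimitTcofan.{w} M) ⟨n + 1⟩
    have h' := inj_proj_self (isColimitTcofan.{w} M) ⟨n⟩
    simp only [Cofan.inj, Cofan.mk_ι_app] at h h'
    rw [h, reassoc_of% h', Category.comp_id]
  · have h := inj_proj_of_ne (isColimitTcofan.{w} M) ⟨n + 1⟩ ⟨k + 1⟩ (by simpa using hnk)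
    have h' := inj_proj_of_ne (isColimitTcofan.{w} M) ⟨n⟩ ⟨k⟩ (by simpa using hnk)
    simp only [Cofan.inj, Cofan.mk_ι_app] at h h'
    rw [h, comp_zero, reassoc_of% h', zero_comp]

/-- If the telescope of `t` vanishes, maps from compact objects are killed by a power of `t`. -/
lemma TelZero.exists_pow {M : C} {t : M ⟶ M} (h : TelZero.{w} t) {K : C} (hK : IsCompactW.{w} K)
    (ψ : K ⟶ M) : ∃ m : ℕ, ψ ≫ tpow t m = 0 := by
  have h' : IsIso (oneSub.{w} t) := h
  let f : K ⟶ tsum.{w} M := ψ ≫ tι M 0 ≫ inv (oneSub.{w} t)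
  have hf : f ≫ oneSub.{w} t = ψ ≫ tι M 0 := by simp [f]
  obtain ⟨s, hs, -⟩ := IsFiniteSum.eq_sum_proj (isColimitTcofan.{w} M)
    (hK _ _ _ (isColimitTcofan.{w} M) f)
  have key : ∀ n : ℕ, f ≫ proj (isColimitTcofan.{w} M) ⟨n⟩ = ψ ≫ tpow t n := by
    intro n
    induction n with
    | zero =>
      rw [← oneSub_proj_zero t, reassoc_of% hf, tpow_zero]
      have h := inj_proj_self (isColimitTcofan.{w} M) ⟨0⟩
      simp only [Cofan.inj, Cofan.mk_ι_app] at h
      rw [h]
    | succ n ih =>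
      have h1 := oneSub_proj_succ.{w} t n
      have h2 : f ≫ oneSub.{w} t ≫ proj (isColimitTcofan.{w} M) ⟨n + 1⟩ = 0 := by
        rw [reassoc_of% hf]
        have h := inj_proj_of_ne (isColimitTcofan.{w} M) ⟨0⟩ ⟨n + 1⟩ (by simp)
        simp only [Cofan.inj, Cofan.mk_ι_app] at h
        rw [h, comp_zero]
      rw [h1, Preadditive.comp_sub, sub_eq_zero] at h2
      rw [h2, tpow_succ, reassoc_of% ih]
  obtain ⟨m, hm⟩ := (Set.Finite.image (fun i : ULift.{w} ℕ => i.down) s.finite_toSet).bddAbove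
  refine ⟨m + 1, ?_⟩
  rw [← key]
  refine hs _ (fun hmem => ?_)
  have := hm ⟨⟨m + 1⟩, hmem, rfl⟩
  dsimp at this
  omega

lemma injective_comp_oneSub {M : C} (t : M ⟶ M) {K : C} (f : K ⟶ tsum.{w} M)
    (hfin : IsFiniteSum (tcofan.{w} M) f) (hf : f ≫ oneSub.{w} t = 0) : f = 0 := by
  obtain ⟨s, -, hs⟩ := IsFiniteSum.eq_sum_proj (isColimitTcofan.{w} M) hfin
  have key : ∀ n : ℕ, f ≫ proj (isColimitTcofan.{w} M) ⟨n⟩ = 0 := by
    intro n
    induction n with
    | zero => rw [← oneSub_proj_zero t, reassoc_of% hf, zero_comp]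
    | succ n ih =>
      have h1 := oneSub_proj_succ.{w} t n
      have h2 : f ≫ oneSub.{w} t ≫ proj (isColimitTcofan.{w} M) ⟨n + 1⟩ = 0 := by
        rw [reassoc_of% hf, zero_comp]
      rw [h1, Preadditive.comp_sub, sub_eq_zero] at h2
      rw [h2, reassoc_of% ih, zero_comp]
  rw [hs]
  refine Finset.sum_eq_zero (fun i _ => ?_)
  have := key i.down
  rw [show (⟨i.down⟩ : ULift.{w} ℕ) = i from rfl] at this
  rw [this, zero_comp]

lemma exists_comp_oneSub {M : C} (t : M ⟶ M) {K : C} (g : K ⟶ M) (m : ℕ)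
    (hg : g ≫ tpow t m = 0) (i : ℕ) : ∃ f : K ⟶ tsum.{w} M, f ≫ oneSub.{w} t = g ≫ tι M i := by
  refine ⟨∑ k ∈ Finset.range m, (g ≫ tpow t k) ≫ tι M (i + k), ?_⟩
  have : ∀ n : ℕ, (∑ k ∈ Finset.range n, (g ≫ tpow t k) ≫ tι M (i + k)) ≫ oneSub.{w} t =
      g ≫ tι M i - (g ≫ tpow t n) ≫ tι M (i + n) := by
    intro n
    induction n with
    | zero => simp
    | succ n ih =>
      rw [Finset.sum_range_succ, Preadditive.add_comp, ih, Category.assoc (g ≫ tpow t n), tι_oneSub,
        Preadditive.comp_sub, tpow_succ]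
      simp only [Category.assoc, Nat.add_assoc]
      abel
  rw [this m, hg, zero_comp, sub_zero]

end Compact

section Tri

variable {D : Type u} [Category.{v} D] [Preadditive D] [HasZeroObject D] [HasShift D ℤ]
    [∀ n : ℤ, (shiftFunctor D n).Additive] [Pretriangulated D] [HasCoproducts.{w} D]

lemma telZero_of_generates {κ : Type t} (E : κ → D) (hE : ∀ k, IsCompactW.{w} (E k))
    (hE' : CohDer.Generates E) {M : D} (t : M ⟶ M)
    (h : ∀ (k : κ) (n : ℤ) (ψ : (E k)⟦n⟧ ⟶ M), ∃ m : ℕ, ψ ≫ tpow t m = 0) : TelZero.{w} t := by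
  refine isIso_of_generates E hE' _ (fun k n => ⟨?_, ?_⟩)
  · intro f g hfg
    have hK := isCompactW_shift (hE k) n
    rw [← sub_eq_zero]
    refine injective_comp_oneSub t (f - g) (hK _ _ _ (isColimitTcofan.{w} M) _) ?_
    rw [Preadditive.sub_comp, sub_eq_zero]
    exact hfg
  · intro f
    have hK := isCompactW_shift (hE k) n
    obtain ⟨s, g, hg⟩ := hK _ _ _ (isColimitTcofan.{w} M) f
    choose f' hf' using fun i : ULift.{w} ℕ => exists_comp_oneSub.{w} t (g i) _
      (h k n (g i)).choose_spec i.down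
    refine ⟨∑ i ∈ s, f' i, ?_⟩
    dsimp only
    rw [Preadditive.sum_comp, hg]
    exact Finset.sum_congr rfl (fun i _ => hf' i)

end Tri

end Groth.Agent.LoccohB.Tel
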