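import Groth.Prelude.Def_DRing4
import Mathlib.Algebra.Homology.BifunctorHomotopy

/-!
# Tensor product of complexes of modules: elementwise API and tensor-hom adjunction
-/

set_option autoImplicit false

universe u

open CategoryTheory Limits MonoidalCategory CochainComplex CochainComplex.HomComplex

namespace Groth.Agent.LoccohB.TenCx

variable {A : Type u} [CommRing A]

/-- the inclusion `K^p ⊗ E^q ⟶ (K ⊗ E)^n`. -/
noncomputable def tι (K E : DRing.Cx A) (p q n : ℤ) (h : p + q = n) :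
    K.X p ⊗ E.X q ⟶ (K ⊗ E : DRing.Cx A).X n :=
  HomologicalComplex.ιTensorObj K E p q n h

/-- the bilinear map `K^p × E^q → (K ⊗ E)^n`. -/
noncomputable def tmk (K E : DRing.Cx A) (p q n : ℤ) (h : p + q = n) :
    K.X p →ₗ[A] E.X q →ₗ[A] (K ⊗ E : DRing.Cx A).X n :=
  LinearMap.compr₂ (TensorProduct.mk A (K.X p) (E.X q)) (tι K E p q n h).hom

lemma tmk_apply (K E : DRing.Cx A) (p q n : ℤ) (h : p + q = n) (x : K.X p) (y : E.X q) :
    tmk K E p q n h x y = (tι K E p q n h).hom (TensorProduct.tmul A x y) := rfl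

lemma tι_d (K E : DRing.Cx A) (p q n : ℤ) (h : p + q = n) :
    tι K E p q n h ≫ (K ⊗ E : DRing.Cx A).d n (n + 1) =
      (K.d p (p + 1) ▷ E.X q) ≫ tι K E (p + 1) q (n + 1) (by omega) +
      p.negOnePow • ((K.X p ◁ E.d q (q + 1)) ≫ tι K E p (q + 1) (n + 1) (by omega)) := by
  have e1 := HomologicalComplex.mapBifunctor.d_eq K E (curriedTensor (ModuleCat.{u} A))
    (ComplexShape.up ℤ) n (n + 1)
  have e2 := HomologicalComplex.mapBifunctor.ι_D₁ K E (curriedTensor (ModuleCat.{u} A))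
    (ComplexShape.up ℤ) n (n + 1) p q h
  have e3 := HomologicalComplex.mapBifunctor.ι_D₂ K E (curriedTensor (ModuleCat.{u} A))
    (ComplexShape.up ℤ) n (n + 1) p q h
  have e4 := HomologicalComplex.mapBifunctor.d₁_eq K E (curriedTensor (ModuleCat.{u} A))
    (ComplexShape.up ℤ) (i₁ := p) (i₁' := p + 1) rfl q (n + 1) (by change p + 1 + q = n + 1; omega)
  have e5 := HomologicalComplex.mapBifunctor.d₂_eq K E (curriedTensor (ModuleCat.{u} A))
    (ComplexShape.up ℤ) p (i₂ := q) (i₂' := q + 1) rfl (n + 1) (by change p + (q + 1) = n + 1; omega)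
  refine (congrArg (fun t => HomologicalComplex.ιMapBifunctor K E (curriedTensor (ModuleCat.{u} A))
    (ComplexShape.up ℤ) p q n h ≫ t) e1).trans ?_
  rw [Preadditive.comp_add, e2, e3, e4, e5]
  congr 1
  exact one_smul _ _

/-- `d (x ⊗ y) = d x ⊗ y + (-1)^p x ⊗ d y`. -/
lemma d_tmk (K E : DRing.Cx A) (p q n : ℤ) (h : p + q = n) (x : K.X p) (y : E.X q) :
    ((K ⊗ E : DRing.Cx A).d n (n + 1)).hom (tmk K E p q n h x y) =
      tmk K E (p + 1) q (n + 1) (by omega) ((K.d p (p + 1)).hom x) y +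
      p.negOnePow • tmk K E p (q + 1) (n + 1) (by omega) x ((E.d q (q + 1)).hom y) :=
  congr($(tι_d K E p q n h).hom (TensorProduct.tmul A x y))

/-- version with arbitrary target indices. -/
lemma d_tmk' (K E : DRing.Cx A) (p q n p' q' n' : ℤ) (h : p + q = n) (hp : p + 1 = p')
    (hq : q + 1 = q') (hn : n + 1 = n') (x : K.X p) (y : E.X q) :
    ((K ⊗ E : DRing.Cx A).d n n').hom (tmk K E p q n h x y) =
      tmk K E p' q n' (by omega) ((K.d p p').hom x) y +
      p.negOnePow • tmk K E p q' n' (by omega) x ((E.d q q').hom y) := by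
  subst hp hq hn
  exact d_tmk K E p q n h x y

lemma hom_ext_tι {K E : DRing.Cx A} {n : ℤ} {M : ModuleCat.{u} A}
    {f g : (K ⊗ E : DRing.Cx A).X n ⟶ M}
    (h : ∀ (p q : ℤ) (hpq : p + q = n), tι K E p q n hpq ≫ f = tι K E p q n hpq ≫ g) : f = g :=
  HomologicalComplex.mapBifunctor.hom_ext h

lemma hom_ext_tmk {K E : DRing.Cx A} {n : ℤ} {M : ModuleCat.{u} A}
    {f g : (K ⊗ E : DRing.Cx A).X n ⟶ M}
    (h : ∀ (p q : ℤ) (hpq : p + q = n) (x : K.X p) (y : E.X q),
      f.hom (tmk K E p q n hpq x y) = g.hom (tmk K E p q n hpq x y)) : f = g := by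
  refine hom_ext_tι fun p q hpq => ?_
  refine ModuleCat.hom_ext (TensorProduct.ext' fun x y => ?_)
  exact h p q hpq x y

/-- maps out of `(K ⊗ E)^n`. -/
noncomputable def descT {K E : DRing.Cx A} {n : ℤ} {M : ModuleCat.{u} A}
    (f : ∀ (p q : ℤ), p + q = n → (K.X p →ₗ[A] E.X q →ₗ[A] M)) :
    (K ⊗ E : DRing.Cx A).X n ⟶ M :=
  HomologicalComplex.mapBifunctorDesc (K₁ := K) (K₂ := E) (F := curriedTensor (ModuleCat.{u} A))
    (c := ComplexShape.up ℤ) (j := n)
    (fun p q hpq => ModuleCat.ofHom (X := TensorProduct A (K.X p) (E.X q))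
      (TensorProduct.lift (f p q hpq)))

lemma descT_tmk {K E : DRing.Cx A} {n : ℤ} {M : ModuleCat.{u} A}
    (f : ∀ (p q : ℤ), p + q = n → (K.X p →ₗ[A] E.X q →ₗ[A] M)) (p q : ℤ) (h : p + q = n)
    (x : K.X p) (y : E.X q) : (descT f).hom (tmk K E p q n h x y) = f p q h x y := by
  have := HomologicalComplex.ι_mapBifunctorDesc (K₁ := K) (K₂ := E)
    (F := curriedTensor (ModuleCat.{u} A))
    (c := ComplexShape.up ℤ) (j := n)
    (fun p q hpq => ModuleCat.ofHom (X := TensorProduct A (K.X p) (E.X q))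
      (TensorProduct.lift (f p q hpq))) p q h
  exact (congr($(this).hom (TensorProduct.tmul A x y))).trans (TensorProduct.lift.tmul x y)

/-- Construction of a morphism of complexes `K ⊗ E ⟶ L`. -/
noncomputable def homMk {K E L : DRing.Cx A}
    (f : ∀ (p q n : ℤ), p + q = n → (K.X p →ₗ[A] E.X q →ₗ[A] L.X n))
    (hf : ∀ (p q n : ℤ) (h : p + q = n) (x : K.X p) (y : E.X q),
      (L.d n (n + 1)).hom (f p q n h x y) =
        f (p + 1) q (n + 1) (by omega) ((K.d p (p + 1)).hom x) y +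
        p.negOnePow • f p (q + 1) (n + 1) (by omega) x ((E.d q (q + 1)).hom y)) :
    (K ⊗ E : DRing.Cx A) ⟶ L where
  f n := descT fun p q h => f p q n h
  comm' := by
    rintro i _ rfl
    refine hom_ext_tmk fun p q h x y => ?_
    change (L.d i (i + 1)).hom ((descT fun p q h => f p q i h).hom (tmk K E p q i h x y)) =
      (descT fun p q h => f p q (i + 1) h).hom
        (((K ⊗ E : DRing.Cx A).d i (i + 1)).hom (tmk K E p q i h x y))
    rw [descT_tmk, d_tmk, hf, map_add, descT_tmk]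
    congr 1
    rw [Units.smul_def, Units.smul_def, map_zsmul, descT_tmk]

lemma homMk_tmk {K E L : DRing.Cx A}
    (f : ∀ (p q n : ℤ), p + q = n → (K.X p →ₗ[A] E.X q →ₗ[A] L.X n))
    (hf : ∀ (p q n : ℤ) (h : p + q = n) (x : K.X p) (y : E.X q),
      (L.d n (n + 1)).hom (f p q n h x y) =
        f (p + 1) q (n + 1) (by omega) ((K.d p (p + 1)).hom x) y +
        p.negOnePow • f p (q + 1) (n + 1) (by omega) x ((E.d q (q + 1)).hom y))
    (p q n : ℤ) (h : p + q = n) (x : K.X p) (y : E.X q) :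
    ((homMk f hf).f n).hom (tmk K E p q n h x y) = f p q n h x y := by
  change (descT fun p q h => f p q n h).hom (tmk K E p q n h x y) = f p q n h x y
  exact descT_tmk (fun p q h => f p q n h) p q h x y

lemma tι_whiskerRight {K K' : DRing.Cx A} (f : K ⟶ K') (E : DRing.Cx A) (p q n : ℤ)
    (h : p + q = n) :
    tι K E p q n h ≫ (f ▷ E).f n = (f.f p ▷ E.X q) ≫ tι K' E p q n h := by
  refine (HomologicalComplex.ι_mapBifunctorMap f (𝟙 E) (curriedTensor (ModuleCat.{u} A))
    (ComplexShape.up ℤ) p q n h).trans ?_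
  refine congrArg (fun t => (f.f p ▷ E.X q) ≫ t) ?_
  refine (congrArg (fun t => t ≫ tι K' E p q n h) ?_).trans (Category.id_comp _)
  exact (((curriedTensor (ModuleCat.{u} A)).obj (K'.X p)).map_id (E.X q))

lemma tι_whiskerLeft (K : DRing.Cx A) {E E' : DRing.Cx A} (g : E ⟶ E') (p q n : ℤ)
    (h : p + q = n) :
    tι K E p q n h ≫ (K ◁ g).f n = (K.X p ◁ g.f q) ≫ tι K E' p q n h := by
  refine (HomologicalComplex.ι_mapBifunctorMap (𝟙 K) g (curriedTensor (ModuleCat.{u} A))
    (ComplexShape.up ℤ) p q n h).trans ?_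
  refine (congrArg (fun t => t ≫ ((K.X p ◁ g.f q) ≫ tι K E' p q n h)) ?_).trans
    (Category.id_comp _)
  exact congr(($((curriedTensor (ModuleCat.{u} A)).map_id (K.X p))).app (E.X q))

lemma whiskerRight_tmk {K K' : DRing.Cx A} (f : K ⟶ K') (E : DRing.Cx A) (p q n : ℤ)
    (h : p + q = n) (x : K.X p) (y : E.X q) :
    ((f ▷ E).f n).hom (tmk K E p q n h x y) = tmk K' E p q n h ((f.f p).hom x) y :=
  congr($(tι_whiskerRight f E p q n h).hom (TensorProduct.tmul A x y))

lemma whiskerLeft_tmk (K : DRing.Cx A) {E E' : DRing.Cx A} (g : E ⟶ E') (p q n : ℤ)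
    (h : p + q = n) (x : K.X p) (y : E.X q) :
    ((K ◁ g).f n).hom (tmk K E p q n h x y) = tmk K E' p q n h x ((g.f q).hom y) :=
  congr($(tι_whiskerLeft K g p q n h).hom (TensorProduct.tmul A x y))

/-- The evaluation of an element of `Hom•(E, L)^p`. -/
noncomputable def evC (E L : DRing.Cx A) (p q n : ℤ) (h : p + q = n) :
    Cochain E L p →ₗ[A] E.X q →ₗ[A] L.X n :=
  LinearMap.mk₂ A (fun (z : Cochain E L p) (y : E.X q) => (z.v q n (by omega)).hom y)
    (fun _ _ _ => by rw [Cochain.add_v]; rfl)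
    (fun a z y => by rw [Cochain.smul_v]; rfl)
    (fun z y y' => map_add _ _ _)
    (fun a z y => map_smul _ _ _)

/-- The evaluation of an element of `Hom•(E, L)^p`. -/
noncomputable def ev (E L : DRing.Cx A) (p q n : ℤ) (h : p + q = n) :
    (DRing.homCx E L).X p →ₗ[A] E.X q →ₗ[A] L.X n := evC E L p q n h

lemma ev_apply (E L : DRing.Cx A) (p q n : ℤ) (h : p + q = n) (z : Cochain E L p) (y : E.X q) :
    ev E L p q n h z y = (z.v q n (by omega)).hom y := rfl

lemma ext_evC {E L : DRing.Cx A} {p : ℤ} {z z' : Cochain E L p}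
    (h : ∀ (q n : ℤ) (h : p + q = n) (y : E.X q), evC E L p q n h z y = evC E L p q n h z' y) :
    z = z' := by
  ext q n hq y
  exact h q n (by omega) y

lemma ext_ev {E L : DRing.Cx A} {p : ℤ} {z z' : (DRing.homCx E L).X p}
    (h : ∀ (q n : ℤ) (h : p + q = n) (y : E.X q), ev E L p q n h z y = ev E L p q n h z' y) :
    z = z' := ext_evC h

lemma evC_δ (E L : DRing.Cx A) (p q n : ℤ) (h : p + q = n) (z : Cochain E L p)
    (y : E.X q) :
    evC E L (p + 1) q (n + 1) (by omega) (δ p (p + 1) z) y =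
      (L.d n (n + 1)).hom (evC E L p q n h z y) -
      p.negOnePow • evC E L p (q + 1) (n + 1) (by omega) z ((E.d q (q + 1)).hom y) := by
  refine (congr($(δ_v p (p + 1) rfl z q (n + 1) (by omega) n (q + 1) (by omega) rfl).hom y)).trans
    (Eq.trans ?_ (sub_eq_add_neg _ _).symm)
  rw [Int.negOnePow_succ, Units.neg_smul]
  rfl

lemma ev_d (E L : DRing.Cx A) (p q n : ℤ) (h : p + q = n) (z : (DRing.homCx E L).X p)
    (y : E.X q) :
    ev E L (p + 1) q (n + 1) (by omega) (((DRing.homCx E L).d p (p + 1)).hom z) y =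
      (L.d n (n + 1)).hom (ev E L p q n h z y) -
      p.negOnePow • ev E L p (q + 1) (n + 1) (by omega) z ((E.d q (q + 1)).hom y) :=
  evC_δ E L p q n h z y

/-- The element of `Hom•(E, L)^p` with given values. -/
noncomputable def mkC (E L : DRing.Cx A) (p : ℤ) (f : ∀ (q n : ℤ), p + q = n → (E.X q →ₗ[A] L.X n)) :
    Cochain E L p := Cochain.mk fun q n hq => ModuleCat.ofHom (f q n (by omega))

lemma evC_mkC (E L : DRing.Cx A) (p : ℤ) (f : ∀ (q n : ℤ), p + q = n → (E.X q →ₗ[A] L.X n))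
    (q n : ℤ) (h : p + q = n) (y : E.X q) : evC E L p q n h (mkC E L p f) y = f q n h y := by
  have := Cochain.mk_v (F := E) (G := L) (n := p)
    (fun q n hq => ModuleCat.ofHom (f q n (by omega))) q n (by omega)
  exact congr($(this).hom y)

/-- curry. -/
noncomputable def curryX {K E L : DRing.Cx A} (φ : (K ⊗ E : DRing.Cx A) ⟶ L) (p : ℤ) :
    K.X p →ₗ[A] Cochain E L p where
  toFun x := mkC E L p fun q n h => (φ.f n).hom ∘ₗ tmk K E p q n h x
  map_add' x x' := by
    refine ext_evC fun q n h y => ?_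
    rw [evC_mkC, map_add (evC E L p q n h), LinearMap.add_apply, evC_mkC, evC_mkC]
    simp only [map_add, LinearMap.comp_apply, LinearMap.add_apply]
  map_smul' a x := by
    refine ext_evC fun q n h y => ?_
    rw [evC_mkC, RingHom.id_apply, map_smul (evC E L p q n h), LinearMap.smul_apply, evC_mkC]
    simp only [map_smul, LinearMap.comp_apply, LinearMap.smul_apply]

lemma evC_curryX {K E L : DRing.Cx A} (φ : (K ⊗ E : DRing.Cx A) ⟶ L) (p q n : ℤ) (h : p + q = n)
    (x : K.X p) (y : E.X q) :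
    evC E L p q n h (curryX φ p x) y = (φ.f n).hom (tmk K E p q n h x y) :=
  evC_mkC _ _ _ _ _ _ h y

/-- curry. -/
noncomputable def curry {K E L : DRing.Cx A} (φ : (K ⊗ E : DRing.Cx A) ⟶ L) :
    K ⟶ DRing.homCx E L where
  f p := ModuleCat.ofHom (Y := Cochain E L p) (curryX φ p)
  comm' := by
    rintro p _ rfl
    refine ModuleCat.hom_ext (LinearMap.ext fun x => ?_)
    change δ p (p + 1) (curryX φ p x) = curryX φ (p + 1) ((K.d p (p + 1)).hom x)
    refine ext_evC fun q n h y => ?_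
    obtain ⟨n, rfl⟩ : ∃ n', n = n' + 1 := ⟨n - 1, by omega⟩
    rw [evC_δ E L p q n (by omega), evC_curryX, evC_curryX, evC_curryX]
    have e : (L.d n (n + 1)).hom ((φ.f n).hom (tmk K E p q n (by omega) x y)) =
      (φ.f (n + 1)).hom (((K ⊗ E : DRing.Cx A).d n (n + 1)).hom
        (tmk K E p q n (by omega) x y)) :=
      congr($(φ.comm n (n + 1)).hom (tmk K E p q n (by omega) x y))
    rw [e, d_tmk, map_add, Units.smul_def, Units.smul_def, map_zsmul, add_sub_cancel_right]

/-- uncurry. -/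
noncomputable def uncurry {K E L : DRing.Cx A} (ψ : K ⟶ DRing.homCx E L) :
    (K ⊗ E : DRing.Cx A) ⟶ L :=
  homMk (fun p q n h => (ev E L p q n h) ∘ₗ (ψ.f p).hom) (by
    intro p q n h x y
    have e : (ψ.f (p + 1)).hom ((K.d p (p + 1)).hom x) =
      ((DRing.homCx E L).d p (p + 1)).hom ((ψ.f p).hom x) :=
      (congr($(ψ.comm p (p + 1)).hom x)).symm
    change _ = ev E L (p + 1) q (n + 1) (by omega) ((ψ.f (p + 1)).hom ((K.d p (p + 1)).hom x)) y + _
    rw [e, ev_d E L p q n h]
    exact (sub_add_cancel _ _).symm)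

lemma uncurry_tmk {K E L : DRing.Cx A} (ψ : K ⟶ DRing.homCx E L) (p q n : ℤ) (h : p + q = n)
    (x : K.X p) (y : E.X q) :
    ((uncurry ψ).f n).hom (tmk K E p q n h x y) = ev E L p q n h ((ψ.f p).hom x) y :=
  homMk_tmk _ _ p q n h x y

lemma ev_curry {K E L : DRing.Cx A} (φ : (K ⊗ E : DRing.Cx A) ⟶ L) (p q n : ℤ) (h : p + q = n)
    (x : K.X p) (y : E.X q) :
    ev E L p q n h (((curry φ).f p).hom x) y = (φ.f n).hom (tmk K E p q n h x y) :=
  evC_curryX φ p q n h x y

lemma cx_hom_ext {K E L : DRing.Cx A} {φ φ' : (K ⊗ E : DRing.Cx A) ⟶ L}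
    (h : ∀ (p q n : ℤ) (h : p + q = n) (x : K.X p) (y : E.X q),
      (φ.f n).hom (tmk K E p q n h x y) = (φ'.f n).hom (tmk K E p q n h x y)) : φ = φ' :=
  HomologicalComplex.hom_ext _ _ fun n => hom_ext_tmk fun p q hpq x y => h p q n hpq x y

lemma cx_hom_ext_homCx {K E L : DRing.Cx A} {ψ ψ' : K ⟶ DRing.homCx E L}
    (h : ∀ (p q n : ℤ) (h : p + q = n) (x : K.X p) (y : E.X q),
      ev E L p q n h ((ψ.f p).hom x) y = ev E L p q n h ((ψ'.f p).hom x) y) : ψ = ψ' :=
  HomologicalComplex.hom_ext _ _ fun p => ModuleCat.hom_ext (LinearMap.ext fun x =>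
    ext_ev fun q n hpq y => h p q n hpq x y)

lemma evC_comp_ofHom (E : DRing.Cx A) {L L' : DRing.Cx A} (g : L ⟶ L') (p q n : ℤ)
    (h : p + q = n) (z : Cochain E L p) (y : E.X q) :
    evC E L' p q n h (z.comp (Cochain.ofHom g) (add_zero p)) y =
      (g.f n).hom (evC E L p q n h z y) := by
  change ((z.comp (Cochain.ofHom g) (add_zero p)).v q n (by omega)).hom y = _
  rw [Cochain.comp_v _ _ _ q n n (by omega) (by omega), Cochain.ofHom_v]
  rfl

lemma ev_homCxMap (E : DRing.Cx A) {L L' : DRing.Cx A} (g : L ⟶ L') (p q n : ℤ) (h : p + q = n)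
    (z : (DRing.homCx E L).X p) (y : E.X q) :
    ev E L' p q n h (((DRing.homCxMap E g).f p).hom z) y = (g.f n).hom (ev E L p q n h z y) :=
  evC_comp_ofHom E g p q n h z y

/-- The hom-set bijection of the tensor-hom adjunction. -/
noncomputable def thEquiv (K E L : DRing.Cx A) :
    ((tensorRight E).obj K ⟶ L) ≃ (K ⟶ (DRing.homCxFunctor E).obj L) where
  toFun φ := curry φ
  invFun ψ := uncurry ψ
  left_inv φ := cx_hom_ext fun p q n h x y =>
    (uncurry_tmk (curry φ) p q n h x y).trans (ev_curry φ p q n h x y)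
  right_inv ψ := cx_hom_ext_homCx fun p q n h x y =>
    (ev_curry (uncurry (K := K) (E := E) (L := L) ψ) p q n h x y).trans
      (uncurry_tmk (K := K) (E := E) (L := L) ψ p q n h x y)

/-- The tensor-hom adjunction on complexes of modules. -/
noncomputable def thAdj (E : DRing.Cx A) : tensorRight E ⊣ DRing.homCxFunctor E :=
  Adjunction.mkOfHomEquiv
    { homEquiv := fun K L => thEquiv K E L
      homEquiv_naturality_left_symm := fun {K' K L} f ψ => by
        refine cx_hom_ext fun p q n h x y => ?_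
        refine (uncurry_tmk (K := K') (E := E) (L := L) (f ≫ ψ) p q n h x y).trans ?_
        refine ((congrArg (((uncurry (K := K) (E := E) (L := L) ψ).f n).hom)
          (whiskerRight_tmk f E p q n h x y)).trans
          (uncurry_tmk (K := K) (E := E) (L := L) ψ p q n h ((f.f p).hom x) y)).symm
      homEquiv_naturality_right := fun {K L L'} φ g => by
        refine cx_hom_ext_homCx fun p q n h x y => ?_
        refine (ev_curry (K := K) (E := E) (L := L') (φ ≫ g) p q n h x y).trans ?_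
        refine ((ev_homCxMap E g p q n h _ y).trans
          (congrArg (g.f n).hom (ev_curry (K := K) (E := E) (L := L) φ p q n h x y))).symm }

end Groth.Agent.LoccohB.TenCx
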