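import Groth.Agent.LoccohB.TildeTen3
import Groth.Agent.LoccohB.LTen
import Groth.Agent.LoccohB.KProj
import Groth.Agent.PerfC.DTens
import Groth.Agent.PerfC.TildeKFlat

/-!
# `tildeD (M ⊗ᴸ K) ≅ tildeD M ⊗ᴸ tildeD K`, naturally in `M`
-/

set_option autoImplicit false

universe u

open CategoryTheory CategoryTheory.Limits AlgebraicGeometry MonoidalCategory

attribute [local instance] HasDerivedCategory.standard

namespace Groth.Agent.LoccohB.Theta

open Groth.Agent.PerfC Groth.Agent.LoccohB.TildeTen Groth.Agent.LoccohB.LTen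

section X

variable {X : Scheme.{u}}

/-- `- ⊗ᴸ Q E` is computed by `- ⊗ E` for `E` K-flat, naturally. -/
noncomputable def tenQ (E : CochainComplex X.Modules ℤ) (hE : DCoh.IsKFlat E) :
    DerivedCategory.Q ⋙ (DTens.LTX X).flip.obj (DerivedCategory.Q.obj E) ≅
      (DCoh.tensorCx (X := X)).flip.obj E ⋙ DerivedCategory.Q :=
  NatIso.ofComponents (fun K => DTens.κIso' K E hE) (fun w => DTens.κX_nat₁ w E)

end X

section A

variable {A : Type u} [CommRing A]

/-- `- ⊗ᴸ P` is computed by `- ⊗ P` for `P` K-projective, naturally. -/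
noncomputable def ltenQ (P : DRing.Cx A) [DRing.HasLTensorCx A P] [P.IsKProjective] :
    DerivedCategory.Q ⋙ DRing.LTensorCx A P ≅ tensorRight P ⋙ DerivedCategory.Q :=
  @asIso _ _ _ _ (ltenCounit P) (by
    rw [NatTrans.isIso_iff_isIso_app]
    intro K
    exact isIso_ltenCounit_app' P K)

theorem zero_whiskerRight (P L L' : DRing.Cx A) : (0 : L ⟶ L') ▷ P = 0 := by
  refine LoccohB.TenCx.cx_hom_ext fun p q n h x y => ?_
  refine (LoccohB.TenCx.whiskerRight_tmk (0 : L ⟶ L') P p q n h x y).trans ?_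
  have h0 : (((0 : L ⟶ L').f p).hom x) = 0 := rfl
  rw [h0, map_zero]
  rfl

theorem acyclic_tensorRight (P : DRing.Cx A) [P.IsKProjective] (L : DRing.Cx A)
    (hL : ∀ i : ℤ, IsZero (L.homology i)) (i : ℤ) :
    IsZero (((tensorRight P).obj L).homology i) := by
  have hq : QuasiIso (0 : L ⟶ L) := by
    rw [quasiIso_iff]
    intro j
    rw [quasiIsoAt_iff_isIso_homologyMap]
    exact ⟨0, (hL j).eq_of_src _ _, (hL j).eq_of_src _ _⟩
  have h1 := quasiIso_whiskerRight P (0 : L ⟶ L)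
  rw [zero_whiskerRight] at h1
  have h3 := (quasiIso_iff _).1 h1 i
  rw [quasiIsoAt_iff_isIso_homologyMap] at h3
  have h4 : HomologicalComplex.homologyMap (0 : (L ⊗ P : DRing.Cx A) ⟶ (L ⊗ P : DRing.Cx A)) i = 0 :=
    HomologicalComplex.homologyMap_zero _ _ _
  rw [h4] at h3
  exact ((isIsoZero_iff_source_target_isZero _ _).1 h3).1

end A

section R

variable (R : CommRingCat.{u}) [PreservesFiniteLimits (tilde.functor R)]

/-- `Q ⋙ tildeD = tildeCx ⋙ Q`. -/
noncomputable def tildeQ : DerivedCategory.Q ⋙ DCoh.tildeD R ≅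
    tildeCx R ⋙ DerivedCategory.Q :=
  (tilde.functor R).mapDerivedCategoryFactors

variable {R}

omit [PreservesFiniteLimits (tilde.functor R)] in
theorem isKFlat_tildeCx (P : DRing.Cx R) [P.IsKProjective] : DCoh.IsKFlat ((tildeCx R).obj P) :=
  TildeKFlat.isKFlat_tilde P (acyclic_tensorRight P)

/-- The two functors agree on complexes. -/
theorem nonempty_thetaQ (P : DRing.Cx R) [DRing.HasLTensorCx R P] [P.IsKProjective] :
    Nonempty (DerivedCategory.Q ⋙ DCoh.tildeD R ⋙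
      (DTens.LTX (Spec (CommRingCat.of R))).flip.obj
        (DerivedCategory.Q.obj ((tildeCx R).obj P)) ≅
      DerivedCategory.Q ⋙ DRing.LTensorCx R P ⋙ DCoh.tildeD R) :=
  ⟨(Functor.associator _ _ _).symm ≪≫
    Functor.isoWhiskerRight (tildeQ R) ((DTens.LTX (Spec (CommRingCat.of R))).flip.obj
        (DerivedCategory.Q.obj ((tildeCx R).obj P))) ≪≫
    Functor.associator _ _ _ ≪≫
    Functor.isoWhiskerLeft (tildeCx R) (tenQ ((tildeCx R).obj P) (isKFlat_tildeCx P)) ≪≫
    (Functor.associator _ _ _).symm ≪≫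
    Functor.isoWhiskerRight (ttCx R P).symm DerivedCategory.Q ≪≫
    Functor.associator _ _ _ ≪≫
    Functor.isoWhiskerLeft (tensorRight P) (tildeQ R).symm ≪≫
    (Functor.associator _ _ _).symm ≪≫
    Functor.isoWhiskerRight (ltenQ P).symm (DCoh.tildeD R) ≪≫
    Functor.associator _ _ _⟩

/-- Functors out of the derived category are determined on complexes. -/
theorem nonempty_iso_of_Q {C : Type*} [Category C] [Abelian C] [HasDerivedCategory C]
    {E : Type*} [Category E] {F G : DerivedCategory C ⥤ E}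
    (h : Nonempty (DerivedCategory.Q ⋙ F ≅ DerivedCategory.Q ⋙ G)) : Nonempty (F ≅ G) := by
  obtain ⟨e⟩ := h
  let _ : Localization.Lifting (DerivedCategory.Q (C := C))
      (HomologicalComplex.quasiIso C (ComplexShape.up ℤ)) (DerivedCategory.Q ⋙ F) F := ⟨Iso.refl _⟩
  let _ : Localization.Lifting (DerivedCategory.Q (C := C))
      (HomologicalComplex.quasiIso C (ComplexShape.up ℤ)) (DerivedCategory.Q ⋙ G) G := ⟨Iso.refl _⟩
  exact ⟨Localization.liftNatIso DerivedCategory.Q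
    (HomologicalComplex.quasiIso C (ComplexShape.up ℤ)) _ _ F G e⟩

theorem nonempty_thetaP (P : DRing.Cx R) [DRing.HasLTensorCx R P] [P.IsKProjective] :
    Nonempty (DCoh.tildeD R ⋙
      (DTens.LTX (Spec (CommRingCat.of R))).flip.obj
        (DerivedCategory.Q.obj ((tildeCx R).obj P)) ≅
      DRing.LTensorCx R P ⋙ DCoh.tildeD R) :=
  nonempty_iso_of_Q (nonempty_thetaQ P)


omit [PreservesFiniteLimits (tilde.functor R)] in
theorem nonempty_mapLTX (E : CochainComplex (Spec (CommRingCat.of R)).Modules ℤ) [DCoh.HasLTensorCx E]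
    (E' : DerivedCategory (Spec (CommRingCat.of R)).Modules)
    (e : Nonempty (DerivedCategory.Q.obj E ≅ E')) :
    Nonempty (DCoh.LTensorCx E ≅ (DTens.LTX (Spec (CommRingCat.of R))).flip.obj E') := by
  obtain ⟨e⟩ := e
  exact ⟨(DTens.LTXcx E).symm ≪≫ (DTens.LTX (Spec (CommRingCat.of R))).flip.mapIso e⟩

theorem nonempty_e2 (K : DRing.Cx R)
    (E : CochainComplex (Spec (CommRingCat.of R)).Modules ℤ)
    (hE : Nonempty (DCoh.toD (Spec (CommRingCat.of R)) E ≅ (DCoh.tildeD R).obj (DRing.toD K)))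
    (P : DRing.Cx R) (p : P ⟶ K) [QuasiIso p] :
    Nonempty (DerivedCategory.Q.obj E ≅ DerivedCategory.Q.obj ((tildeCx R).obj P)) := by
  obtain ⟨e⟩ := hE
  exact ⟨e ≪≫ (DCoh.tildeD R).mapIso (asIso (DerivedCategory.Q.map p)).symm ≪≫ (tildeQ R).app P⟩

theorem nonempty_comp3 {C D C' D' : Type*} [Category C] [Category D] [Category C'] [Category D']
   {T : C ⥤ D} {F F' : D ⥤ D'} {G G' : C ⥤ C'} {T' : C' ⥤ D'} 
   (a : Nonempty (F ≅ F')) (t : Nonempty (T ⋙ F' ≅ G' ⋙ T')) (b : Nonempty (G' ≅ G)) :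
   Nonempty (T ⋙ F ≅ G ⋙ T') := by
  obtain ⟨a⟩ := a
  obtain ⟨b⟩ := b
  obtain ⟨t⟩ := t
  exact ⟨Functor.isoWhiskerLeft T a ≪≫ t ≪≫ Functor.isoWhiskerRight b T'⟩


theorem thetaR (K : DRing.Cx R) [DRing.HasLTensorCx R K]
    (E : CochainComplex (Spec (CommRingCat.of R)).Modules ℤ)
    (hE : Nonempty (DCoh.toD (Spec (CommRingCat.of R)) E ≅ (DCoh.tildeD R).obj (DRing.toD K)))
    [DCoh.HasLTensorCx E] :
    Nonempty (DCoh.tildeD R ⋙ DCoh.LTensorCx E ≅ DRing.LTensorCx R K ⋙ DCoh.tildeD R) := by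
  obtain ⟨P, p, hP, hp, -, -⟩ := KProj.exists_kprojective K
  have := hasLTensorCx P
  exact nonempty_comp3 (nonempty_mapLTX E _ (nonempty_e2 K E hE P p)) (nonempty_thetaP P)
    (ltenCongr (E := P) (E' := K) (asIso (DerivedCategory.Q.map p)))

end R


/-- Transport of `thetaR` along an equality of schemes. -/
theorem bridge {C C' : Type*} [Category C] [Category C'] {X Y : Scheme.{u}} (e : X = Y)
    (T : C ⥤ DCoh.D X) (T' : C ⥤ DCoh.D Y) (hT : HEq T T')
    (G : C' ⥤ DCoh.D X) (G' : C' ⥤ DCoh.D Y) (hG : HEq G G') (L : C ⥤ C')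
    (E : CochainComplex X.Modules ℤ) (E' : CochainComplex Y.Modules ℤ) (hE : HEq E E')
    [h : DCoh.HasLTensorCx E']
    (H : ∀ [DCoh.HasLTensorCx E], Nonempty (T ⋙ DCoh.LTensorCx E ≅ L ⋙ G)) :
    Nonempty (T' ⋙ DCoh.LTensorCx E' ≅ L ⋙ G') := by
  subst e
  obtain rfl := eq_of_heq hT
  obtain rfl := eq_of_heq hG
  obtain rfl := eq_of_heq hE
  exact H

/-- `tildeD (M ⊗ᴸ K) ≅ tildeD M ⊗ᴸ E` naturally in `M`, when `E` represents `tildeD K`. -/
theorem theta (A : Type u) [CommRing A] [PreservesFiniteLimits (tilde.functor (CommRingCat.of A))]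
    (K : DRing.Cx A) [DRing.HasLTensorCx A K]
    (E : CochainComplex (Spec (CommRingCat.of A)).Modules ℤ)
    (hE : Nonempty (DCoh.toD (Spec (CommRingCat.of A)) E ≅
      (DCoh.tildeD (CommRingCat.of A)).obj (DRing.toD K)))
    [DCoh.HasLTensorCx E] :
    Nonempty (DCoh.tildeD (CommRingCat.of A) ⋙ DCoh.LTensorCx (X := Spec (CommRingCat.of A)) E ≅
      DRing.LTensorCx A K ⋙ DCoh.tildeD (CommRingCat.of A)) :=
  bridge (X := (fun R : CommRingCat.{u} => Spec (CommRingCat.of R)) (CommRingCat.of A)) (Y := Spec (CommRingCat.of A)) rfl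
    (DCoh.tildeD (CommRingCat.of A)) (DCoh.tildeD (CommRingCat.of A)) (HEq.refl _)
    (DCoh.tildeD (CommRingCat.of A)) (DCoh.tildeD (CommRingCat.of A)) (HEq.refl _)
    (DRing.LTensorCx A K) E E (HEq.refl _) (fun {h'} => @thetaR (CommRingCat.of A) _ K _ E hE h')

end Groth.Agent.LoccohB.Theta
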