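import Groth.Agent.Ega1.TensorTilde
import Groth.Agent.Ega2.TensLift
import Groth.Agent.PerfC.TildeHom
import Groth.Prelude.Def_DCoh4
import Mathlib.Algebra.Category.ModuleCat.Monoidal.Basic

/-!
# `M ↦ M^~` is compatible with tensor products, naturally in both variables

`tt M N : (M ⊗ N)^~ ≅ M^~ ⊗ N^~` and the isomorphism of bifunctors `ttNat`.
-/

set_option autoImplicit false
universe u

open CategoryTheory CategoryTheory.Limits AlgebraicGeometry TopologicalSpace Opposite PrimeSpectrum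
open scoped TensorProduct

namespace Groth.Agent.LoccohB.TildeTen

open Groth.Agent.Ega1 Groth.Agent.Ega2 Groth.Agent.PerfC

variable {R : CommRingCat.{u}}

/-- The canonical map `N → Γ(N^~, ⊤)` for `N : ModuleCat R`. -/
noncomputable def top (N : ModuleCat.{u} R) : N →ₗ[R] Γ(tilde N, ⊤) := (tilde.toOpen N ⊤).hom

lemma tmul_smul_Spec {F G : (Spec R).Modules} (U : (Spec R).Opens) (r : R) (s : Γ(F, U))
    (t : Γ(G, U)) : Tens.tmul (r • s) t = r • Tens.tmul s t := by
  exact Tens.smul_tmul (algebraMap R Γ(Spec R, U) r) s t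

lemma tmul_smul_Spec' {F G : (Spec R).Modules} (U : (Spec R).Opens) (r : R) (s : Γ(F, U))
    (t : Γ(G, U)) : Tens.tmul s (r • t) = r • Tens.tmul s t := by
  exact Tens.tmul_smul (algebraMap R Γ(Spec R, U) r) s t

/-- `M ⊗ N → Γ(M^~ ⊗ N^~, ⊤)`. -/
noncomputable def ttLin (M N : ModuleCat.{u} R) :
    (M ⊗[R] N) →ₗ[R] Γ(CohB1.tensorMod (tilde M) (tilde N), ⊤) :=
  TensorProduct.lift (LinearMap.mk₂ R (fun m n => Tens.tmul (top M m) (top N n))
    (fun m m' n => by rw [map_add, Tens.add_tmul])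
    (fun r m n => by rw [map_smul, tmul_smul_Spec])
    (fun m n n' => by rw [map_add, Tens.tmul_add])
    (fun r m n => by rw [map_smul, tmul_smul_Spec']))

@[simp]
lemma ttLin_tmul (M N : ModuleCat.{u} R) (m : M) (n : N) :
    ttLin M N (m ⊗ₜ n) = Tens.tmul (top M m) (top N n) := rfl

/-- The map `(M ⊗ N)^~ ⟶ M^~ ⊗ N^~`. -/
noncomputable def ttHom (M N : ModuleCat.{u} R) :
    tilde (ModuleCat.of R (M ⊗[R] N)) ⟶ CohB1.tensorMod (tilde M) (tilde N) :=
  TildeHom.tildeMap (ttLin M N)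

lemma ttHom_app (M N : ModuleCat.{u} R) (x : M ⊗[R] N) :
    (ttHom M N).app ⊤ (TildeHom.toOpenL (M ⊗[R] N) ⊤ x) = ttLin M N x := by
  have h := TildeHom.tildeMap_app_toOpen (ttLin M N) ⊤ x
  refine h.trans ?_
  have : (homOfLE (le_top : (⊤ : (Spec R).Opens) ≤ ⊤)) = 𝟙 _ := rfl
  rw [this, op_id, CategoryTheory.Functor.map_id]
  rfl

lemma toSh_tmul {F G : (Spec R).Modules} (U : (Spec R).Opens) (s : Γ(F, U)) (t : Γ(G, U)) :
    (SheafifyBasis.toSh (TensorTilde.pre F G)).app (op U) (TensorTilde.tmul s t) =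
      (show Γ(CohB1.tensorMod F G, U) from Tens.tmul s t) := rfl

lemma tensorModIso_hom_app {F G : (Spec R).Modules} (hF : IsIso F.fromTildeΓ)
    (hG : IsIso G.fromTildeΓ) (s : Γ(F, ⊤)) (t : Γ(G, ⊤)) :
    (TensorTilde.tensorModIso F G hF hG).hom.app ⊤ (Tens.tmul s t) =
      TildeHom.toOpenL (Γ(F, ⊤) ⊗[R] Γ(G, ⊤)) ⊤ (s ⊗ₜ t) := by
  have h1 := SheafifyBasis.toSh_desc (TildeCriterion.toTilde (TensorTilde.pre F G) _
    (TensorTilde.j F G) (TensorTilde.isLocalizing_j F G hF hG))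
  have h2 := congrArg (fun ψ => ψ.app (op ⊤) (TensorTilde.tmul s t)) h1
  have h3 := TildeCriterion.toP_toTildeAux (TensorTilde.pre F G) _
    (TensorTilde.j F G) (TensorTilde.isLocalizing_j F G hF hG) ⊤ (s ⊗ₜ t)
  rw [TildeCriterion.toP_top] at h3
  exact h2.trans h3

lemma topEquiv_apply (M : ModuleCat.{u} R) (m : M) : TensorTilde.topEquiv M m = top M m := rfl

/-- The isomorphism `M ⊗ N ≅ Γ(M^~) ⊗ Γ(N^~)`. -/
noncomputable def cong (M N : ModuleCat.{u} R) : ModuleCat.of R (M ⊗[R] N) ≅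
    ModuleCat.of R (Γ(tilde M, ⊤) ⊗[R] Γ(tilde N, ⊤)) :=
  (TensorProduct.congr (TensorTilde.topEquiv M) (TensorTilde.topEquiv N)).toModuleIso

lemma cong_tmul (M N : ModuleCat.{u} R) (m : M) (n : N) :
    (cong M N).hom.hom (m ⊗ₜ n) = (top M m) ⊗ₜ[R] (top N n) := rfl

lemma map_cong_app (M N : ModuleCat.{u} R) (x : M ⊗[R] N) :
    (tilde.map (cong M N).hom).app ⊤ (TildeHom.toOpenL (M ⊗[R] N) ⊤ x) =
      TildeHom.toOpenL (Γ(tilde M, ⊤) ⊗[R] Γ(tilde N, ⊤)) ⊤ ((cong M N).hom.hom x) :=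
  congr($(tilde.toOpen_map_app (cong M N).hom ⊤) x)

lemma ttHom_comp (M N : ModuleCat.{u} R) :
    ttHom M N ≫ (TensorTilde.tensorModIso (tilde M) (tilde N)
        (TensorTilde.isIso_fromTildeΓ_tilde M) (TensorTilde.isIso_fromTildeΓ_tilde N)).hom =
      tilde.map (cong M N).hom := by
  refine TildeHom.tilde_hom_ext (N := M ⊗[R] N) fun x => ?_
  refine Eq.trans ?_ (map_cong_app M N x).symm
  change (TensorTilde.tensorModIso (tilde M) (tilde N) (TensorTilde.isIso_fromTildeΓ_tilde M)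
      (TensorTilde.isIso_fromTildeΓ_tilde N)).hom.app ⊤
      ((ttHom M N).app ⊤ (TildeHom.toOpenL (M ⊗[R] N) ⊤ x)) = _
  rw [ttHom_app]
  induction x using TensorProduct.induction_on with
  | zero => simp
  | tmul m n =>
    rw [ttLin_tmul, tensorModIso_hom_app, cong_tmul]
  | add x y hx hy =>
    rw [map_add, map_add, map_add, map_add, hx, hy]

lemma tildeTensorIso_hom_eq (M N : ModuleCat.{u} R) :
    (TensorTilde.tildeTensorIso M N).hom = ttHom M N := by
  rw [TensorTilde.tildeTensorIso, Iso.trans_hom, Iso.symm_hom, Iso.comp_inv_eq]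
  exact (ttHom_comp M N).symm

instance isIso_ttHom (M N : ModuleCat.{u} R) : IsIso (ttHom M N) := by
  rw [← tildeTensorIso_hom_eq]
  infer_instance

/-- Naturality of `ttHom`. -/
lemma ttHom_naturality {M M' N N' : ModuleCat.{u} R} (f : M ⟶ M') (g : N ⟶ N') :
    tilde.map (ModuleCat.ofHom (TensorProduct.map f.hom g.hom)) ≫ ttHom M' N' =
      ttHom M N ≫ Tens.mapT (tilde.map f) (tilde.map g) := by
  refine TildeHom.tilde_hom_ext (N := M ⊗[R] N) fun x => ?_
  have h1 : (tilde.map (ModuleCat.ofHom (TensorProduct.map f.hom g.hom))).app ⊤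
      (TildeHom.toOpenL (M ⊗[R] N) ⊤ x) =
      TildeHom.toOpenL (M' ⊗[R] N') ⊤ (TensorProduct.map f.hom g.hom x) :=
    congr($(tilde.toOpen_map_app (ModuleCat.ofHom (TensorProduct.map f.hom g.hom)) ⊤) x)
  change (ttHom M' N').app ⊤ ((tilde.map (ModuleCat.ofHom (TensorProduct.map f.hom g.hom))).app ⊤
      (TildeHom.toOpenL (M ⊗[R] N) ⊤ x)) =
    (Tens.mapT (tilde.map f) (tilde.map g)).app ⊤ ((ttHom M N).app ⊤
      (TildeHom.toOpenL (M ⊗[R] N) ⊤ x))
  rw [h1, ttHom_app, ttHom_app]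
  induction x using TensorProduct.induction_on with
  | zero => simp
  | tmul m n =>
    rw [TensorProduct.map_tmul, ttLin_tmul, ttLin_tmul, Tens.mapT_tmul]
    congr 1
    · exact congr($(tilde.toOpen_map_app f ⊤) m).symm
    · exact congr($(tilde.toOpen_map_app g ⊤) n).symm
  | add x y hx hy =>
    have hx := hx (congr($(tilde.toOpen_map_app (ModuleCat.ofHom (TensorProduct.map f.hom g.hom)) ⊤) x))
    have hy := hy (congr($(tilde.toOpen_map_app (ModuleCat.ofHom (TensorProduct.map f.hom g.hom)) ⊤) y))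
    rw [map_add, map_add, map_add, map_add, hx, hy]

end Groth.Agent.LoccohB.TildeTen
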