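import Groth.Agent.LoccohB.TildeTen
import Groth.Agent.PerfC.CxNat
import Groth.Agent.PerfB.TensExact
import Mathlib.Algebra.Homology.Monoidal

/-!
# The bifunctorial isomorphism `(M ⊗ N)^~ ≅ M^~ ⊗ N^~`, and its version for complexes
-/

set_option autoImplicit false
universe u

open CategoryTheory CategoryTheory.Limits AlgebraicGeometry TopologicalSpace Opposite PrimeSpectrum
  MonoidalCategory

namespace Groth.Agent.LoccohB.TildeTen

open Groth.Agent.Ega1 Groth.Agent.Ega2 Groth.Agent.PerfC

section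

variable {X : Scheme.{u}}

theorem tensorBi_obj_map_tmul (M : X.Modules) {N N' : X.Modules} (f : N ⟶ N') (U : X.Opens)
    (m : Γ(M, U)) (n : Γ(N, U)) :
    ((DCoh.tensorBi.obj M).map f).app U (Tens.tmul m n) = Tens.tmul m (f.app U n) := by
  let adj := PresheafOfModules.sheafificationAdjunction (R := X.ringCatSheaf) (𝟙 X.ringCatSheaf.obj)
  let P : X.PresheafOfModules := CohB1.tensorPre M N
  let Q : X.PresheafOfModules := CohB1.tensorPre M N'
  let g : P ⟶ Q := (tensorLeft (CohB1.toPMod M)).map (DCoh.toP.map f)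
  have h := adj.unit.naturality g
  exact (congrArg (fun φ => (PresheafOfModules.Hom.app φ (op U)).hom (Tens.pt m n)) h).symm

theorem tensorBi_obj_map_eq (M : X.Modules) {N N' : X.Modules} (f : N ⟶ N') :
    (DCoh.tensorBi.obj M).map f = Tens.mapT (𝟙 M) f :=
  Tens.hom_ext _ _ fun U m n => (tensorBi_obj_map_tmul M f U m n).trans
    ((Tens.mapT_tmul (𝟙 M) f m n).trans rfl).symm

theorem tensorBi_map_app_eq {M M' : X.Modules} (f : M ⟶ M') (N : X.Modules) :
    (DCoh.tensorBi.map f).app N = Tens.mapT f (𝟙 N) :=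
  PerfB.TensExact.tensorRightMod_map_eq N f

end

variable (R : CommRingCat.{u})

variable {R} in
/-- The isomorphism `(M ⊗ N)^~ ≅ M^~ ⊗ N^~`. -/
noncomputable def ttIso (M N : ModuleCat.{u} R) :
    tilde (ModuleCat.of R (TensorProduct R M N)) ≅ CohB1.tensorMod (tilde M) (tilde N) :=
  asIso (ttHom M N)

variable {R} in
/-- The same isomorphism, in terms of the functors. -/
noncomputable def ttIso' (M N : ModuleCat.{u} R) :
    (tilde.functor R).obj (((curriedTensor (ModuleCat.{u} R)).obj M).obj N) ≅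
      (DCoh.tensorBi.obj ((tilde.functor R).obj M)).obj ((tilde.functor R).obj N) :=
  ttIso M N

/-- `(M ⊗ N)^~ ≅ M^~ ⊗ N^~` as bifunctors. -/
noncomputable def ttNat :
    curriedTensor (ModuleCat.{u} R) ⋙ (Functor.whiskeringRight _ _ _).obj (tilde.functor R) ≅
      tilde.functor R ⋙ DCoh.tensorBi ⋙ (Functor.whiskeringLeft _ _ _).obj (tilde.functor R) :=
  NatIso.ofComponents (fun M => NatIso.ofComponents (fun N => ttIso' M N) (by
    intro N N' g
    have h := ttHom_naturality (𝟙 M) g
    have h2 : tilde.map (𝟙 M) = 𝟙 _ := tilde.map_id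
    rw [h2, ← tensorBi_obj_map_eq] at h
    refine Eq.trans ?_ h
    rfl)) (by
    intro M M' f
    ext N : 2
    have h := ttHom_naturality f (𝟙 N)
    have h2 : tilde.map (𝟙 N) = 𝟙 _ := tilde.map_id
    rw [h2, ← tensorBi_map_app_eq] at h
    refine Eq.trans ?_ h
    rfl)

end Groth.Agent.LoccohB.TildeTen
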