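import Groth.Agent.LoccohB.TildeTen2
import Groth.Agent.LoccohB.LTen
import Groth.Prelude.Def_DRing4

/-!
# `(K ⊗ E)^~ ≅ K^~ ⊗ E^~` for complexes
-/

set_option autoImplicit false
universe u

open CategoryTheory CategoryTheory.Limits AlgebraicGeometry TopologicalSpace Opposite PrimeSpectrum
  MonoidalCategory

namespace Groth.Agent.LoccohB.TildeTen

open Groth.Agent.Ega1 Groth.Agent.Ega2 Groth.Agent.PerfC

variable (R : CommRingCat.{u})

instance preservesColimits_tilde (J : Type) :
    PreservesColimitsOfShape (Discrete J) (tilde.functor R) :=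
  tilde.adjunction.leftAdjoint_preservesColimits.preservesColimitsOfShape

instance additive_tilde : (tilde.functor R).Additive := inferInstance

/-- Termwise tilde of complexes. -/
noncomputable abbrev tildeCx : CochainComplex (ModuleCat.{u} R) ℤ ⥤
    CochainComplex (Spec (CommRingCat.of R)).Modules ℤ :=
  (tilde.functor R).mapHomologicalComplex (ComplexShape.up ℤ)

instance (K₁ K₂ : CochainComplex (ModuleCat.{u} R) ℤ) :
    CochainComplex.HasMapBifunctor K₁ K₂ (curriedTensor (ModuleCat.{u} R)) :=
  inferInstance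

/-- `(K ⊗ E)^~ ≅ K^~ ⊗ E^~` as bifunctors on complexes. -/
noncomputable def ttCxNat :
    (curriedTensor (ModuleCat.{u} R)).map₂CochainComplex ⋙
      (Functor.whiskeringRight _ _ _).obj (tildeCx R) ≅
    tildeCx R ⋙ DCoh.tensorCx ⋙ (Functor.whiskeringLeft _ _ _).obj (tildeCx R) :=
  CxNat.natIso (ttNat R)

/-- `(K ⊗ E)^~ ≅ K^~ ⊗ E^~` for complexes, natural in `K`. -/
noncomputable def ttCx (E : CochainComplex (ModuleCat.{u} R) ℤ) :
    tensorRight E ⋙ tildeCx R ≅ tildeCx R ⋙ DCoh.tensorCx.flip.obj ((tildeCx R).obj E) :=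
  NatIso.ofComponents (fun K => ((ttCxNat R).app K).app E) (fun {K K'} f => by
    exact congr_app ((ttCxNat R).hom.naturality f) E)

end Groth.Agent.LoccohB.TildeTen
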