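import Groth.Agent.CurvesC.HomHV
import Groth.Agent.PerfA.HypAdj
import Groth.Agent.PerfA.UnitOU
import Groth.Agent.LoccohB.SecAct

/-!
# From `Hom_S(H^m(Rf_* F[-n]), Ñ)` to `Hom_A(H^p(X, F), N)`, `m = n + p`, `S = Spec A`
-/

set_option autoImplicit false

universe w v u v' u'

open CategoryTheory CategoryTheory.Limits AlgebraicGeometry Opposite

attribute [local instance] HasDerivedCategory.standard

namespace Groth.Agent.LoccohB.TopBridge540

section Shift

variable {C : Type u'} [Category.{v'} C] [Abelian C] [HasDerivedCategory.{w} C]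

open DerivedCategory

/-- `s : O[0] ⟶ F[p]` as a map `O[-m] ⟶ F[-n]`, `m = n + p`. -/
noncomputable def shiftHom (O F : C) (n m p : ℤ) (h : m = n + p)
    (s : (singleFunctor C 0).obj O ⟶ ((singleFunctor C 0).obj F)⟦p⟧) :
    (singleFunctor C m).obj O ⟶ (singleFunctor C n).obj F :=
  ((singleFunctors C).shiftIso (-m) m 0 (by lia)).inv.app O ≫ s⟦-m⟧' ≫
    (shiftFunctorAdd' (DerivedCategory C) p (-m) (-n) (by lia)).inv.app _ ≫
    ((singleFunctors C).shiftIso (-n) n 0 (by lia)).hom.app F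

lemma shiftHom_bijective (O F : C) (n m p : ℤ) (h : m = n + p) :
    Function.Bijective (shiftHom O F n m p h) := by
  have h1 : Function.Bijective (fun s : (singleFunctor C 0).obj O ⟶ ((singleFunctor C 0).obj F)⟦p⟧ =>
      s⟦-m⟧') := ⟨Functor.map_injective _, Functor.map_surjective _⟩
  have h2 := (Iso.homCongr (((singleFunctors C).shiftIso (-m) m 0 (by lia)).app O)
    ((shiftFunctorAdd' (DerivedCategory C) p (-m) (-n) (by lia)).symm.app ((singleFunctor C 0).obj F) ≪≫
    ((singleFunctors C).shiftIso (-n) n 0 (by lia)).app F)).bijective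
  exact h2.comp h1

lemma shiftHom_add (O F : C) (n m p : ℤ) (h : m = n + p)
    (s t : (singleFunctor C 0).obj O ⟶ ((singleFunctor C 0).obj F)⟦p⟧) :
    shiftHom O F n m p h (s + t) = shiftHom O F n m p h s + shiftHom O F n m p h t := by
  simp [shiftHom, Functor.map_add]

lemma shiftHom_map {O F G : C} (n m p : ℤ) (h : m = n + p) (φ : F ⟶ G)
    (s : (singleFunctor C 0).obj O ⟶ ((singleFunctor C 0).obj F)⟦p⟧) :
    shiftHom O G n m p h (s ≫ ((singleFunctor C 0).map φ)⟦p⟧') =
      shiftHom O F n m p h s ≫ (singleFunctor C n).map φ := by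
  have h1 := ((singleFunctors C).shiftIso (-n) n 0 (by lia)).hom.naturality φ
  have h2 := (shiftFunctorAdd' (DerivedCategory C) p (-m) (-n) (by lia)).inv.naturality
    ((singleFunctor C 0).map φ)
  dsimp at h1 h2
  simp only [shiftHom, Functor.map_comp, Category.assoc]
  congr 2
  rw [reassoc_of% h2]
  congr 1

end Shift

section Single

variable {C : Type u'} [Category.{v'} C] [Abelian C] (α : 𝟭 C ⟶ 𝟭 C)

lemma cx_single (n : ℤ) (M : C) : IdEnd.cx α ((HomologicalComplex.single C (ComplexShape.up ℤ) n).obj M) =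
    (HomologicalComplex.single C (ComplexShape.up ℤ) n).map (α.app M) := by
  apply HomologicalComplex.from_single_hom_ext
  rw [HomologicalComplex.single_map_f_self, IdEnd.cx_f]
  have h1 := IdEnd.nat α (HomologicalComplex.singleObjXSelf (ComplexShape.up ℤ) n M).hom
  rw [← Category.assoc]
  erw [h1]
  simp

lemma IdEnd_single [HasDerivedCategory.{w} C] (n : ℤ) (M : C) :
    (IdEnd.d α).app ((DerivedCategory.singleFunctor C n).obj M) =
      (DerivedCategory.singleFunctor C n).map (α.app M) := by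
  have h1 := IdEnd.d_nat α ((DerivedCategory.singleFunctorIsoCompQ C n).hom.app M)
  have h2 := (DerivedCategory.singleFunctorIsoCompQ C n).hom.naturality (α.app M)
  rw [← cancel_mono ((DerivedCategory.singleFunctorIsoCompQ C n).hom.app M), ← h1]
  refine Eq.trans ?_ h2.symm
  congr 1
  exact (IdEnd.d_app_Q α _).trans (congrArg _ (cx_single α n M))

end Single

section Theta

open Groth.Agent.PerfA Groth.Agent.PerfA.ExtZero Groth.Agent.PerfA.Hyp0 Groth.Agent.PerfA.Hyp1
  Groth.Agent.PerfA.HypTheta Groth.Agent.CurvesC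

variable {X S : Scheme.{u}} (f : X ⟶ S) [DCoh.HasRpush f] (F : X.Modules) (n m : ℤ) (p : ℕ) (h : m = n + p)

/-- The map `H^p(X, F) → Γ(S, H^m(Rf_* F[-n]))`. -/
noncomputable def β (x : HV X F p) :
    Γ(DCoh.HD ((DCoh.Rpush f).obj ((DerivedCategory.singleFunctor X.Modules n).obj F)) m, ⊤) :=
  θ (V := ⊤) f ((DerivedCategory.singleFunctor X.Modules m).map (UnitOU.unitIsoOU X).inv ≫
    shiftHom (Coh.structureModule X) F n m p h ((HomHV.homHV F p).symm x))

lemma β_add (x y : HV X F p) : β f F n m p h (x + y) = β f F n m p h x + β f F n m p h y := by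
  rw [β, map_add, shiftHom_add, Preadditive.comp_add]
  exact θ_add f _ _

lemma β_bijective [QuasiCompact f] [QuasiSeparated f] [IsAffine S]
    (hK : DCoh.IsQCohD ((DerivedCategory.singleFunctor X.Modules n).obj F)) :
    Function.Bijective (β f F n m p h) := by
  have h1 := HypAdj.θ_bijective f hK m (isAffineOpen_top S)
  have h2 : Function.Bijective (fun s : (DerivedCategory.singleFunctor X.Modules m).obj
      (Coh.structureModule X) ⟶ (DerivedCategory.singleFunctor X.Modules n).obj F =>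
      ((DerivedCategory.singleFunctor X.Modules m).map (UnitOU.unitIsoOU X).inv ≫ s :
        P m (f ⁻¹ᵁ ⊤) ⟶ (DerivedCategory.singleFunctor X.Modules n).obj F)) :=
    ((DerivedCategory.singleFunctor X.Modules m).mapIso (UnitOU.unitIsoOU X)).homFromEquiv.bijective
  exact h1.comp (h2.comp ((shiftHom_bijective _ F n m p h).comp (HomHV.homHV F p).symm.bijective))

end Theta

lemma smulModΓ_app_top {S : Scheme.{u}} (M : S.Modules) (g : Γ(S, ⊤)) (y : Γ(M, ⊤)) :
    (Formal.smulModΓ M g).app ⊤ y = g • y := by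
  rw [FormalB.ModPow.smulModΓ_app]
  congr 1
  exact congr($(S.presheaf.map_id (op ⊤)).hom g)

section Linear

open Groth.Agent.PerfA Groth.Agent.PerfA.ExtZero Groth.Agent.PerfA.Hyp0 Groth.Agent.PerfA.Hyp1
  Groth.Agent.PerfA.HypTheta Groth.Agent.CurvesC

variable (A : Type u) [CommRing A] {X : Scheme.{u}} [X.Over (Spec (CommRingCat.of A))]
  [DCoh.HasRpush (X ↘ Spec (CommRingCat.of A))] {F G : X.Modules} (n m : ℤ) (p : ℕ) (h : m = n + p)

lemma β_map (φ : F ⟶ G) (x : HV X F p) :
    β (X ↘ Spec (CommRingCat.of A)) G n m p h (HV.map A φ p x) =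
      ((DerivedCategory.homologyFunctor _ m).map ((DCoh.Rpush (X ↘ Spec (CommRingCat.of A))).map
        ((DerivedCategory.singleFunctor X.Modules n).map φ))).app ⊤
        (β (X ↘ Spec (CommRingCat.of A)) F n m p h x) := by
  have h1 : (HomHV.homHV G p).symm (HV.map A φ p x) = (HomHV.homHV F p).symm x ≫
      ((DerivedCategory.singleFunctor X.Modules 0).map φ)⟦(p : ℤ)⟧' := by
    rw [AddEquiv.symm_apply_eq, HomHV.homHV_map A, AddEquiv.apply_symm_apply]
  rw [β, h1, shiftHom_map, ← Category.assoc]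
  exact θ_comp _ _ _

/-- multiplication by a global function on `F[-n]` -/
lemma single_smulModΓ (M : X.Modules) (g : Γ(X, ⊤)) :
    (DerivedCategory.singleFunctor X.Modules n).map (Formal.smulModΓ M g) =
      (SecAct.actD g).app ((DerivedCategory.singleFunctor X.Modules n).obj M) :=
  (IdEnd_single (SecAct.act g) n M).symm

lemma β_smul (a : A) (x : HV X F p) :
    β (X ↘ Spec (CommRingCat.of A)) F n m p h (a • x) =
      (Scheme.ΓSpecIso (CommRingCat.of A)).inv.hom a • β (X ↘ Spec (CommRingCat.of A)) F n m p h x := by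
  rw [← HV.map_smulMod_apply, β_map, Formal.smulMod, single_smulModΓ]
  have h1 := SecAct.Rpush_map_actD (X ↘ Spec (CommRingCat.of A))
    ((Scheme.ΓSpecIso (CommRingCat.of A)).inv.hom a) ((DerivedCategory.singleFunctor X.Modules n).obj F)
  rw [show (Coh.toGlobal (X ↘ Spec (CommRingCat.of A)) a) = (X ↘ Spec (CommRingCat.of A)).appTop
    ((Scheme.ΓSpecIso (CommRingCat.of A)).inv.hom a) from rfl, h1, SecAct.homology_actD]
  exact smulModΓ_app_top _ _ _

end Linear

section LinearΓ

open Groth.Agent.PerfA Groth.Agent.PerfA.ExtZero Groth.Agent.PerfA.Hyp0 Groth.Agent.PerfA.Hyp1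
  Groth.Agent.PerfA.HypTheta Groth.Agent.CurvesC

variable (A : Type u) [CommRing A]

/-- Global sections on `Spec A`. -/
noncomputable abbrev ΓA : (Spec (CommRingCat.of A)).Modules ⥤ ModuleCat.{u} A :=
  moduleSpecΓFunctor (R := CommRingCat.of A)

lemma smul_Γ (M : (Spec (CommRingCat.of A)).Modules) (a : A) (x : Γ(M, ⊤)) :
    (a • (show (ΓA A).obj M from x) : (ΓA A).obj M) =
      (show (ΓA A).obj M from ((Scheme.ΓSpecIso (CommRingCat.of A)).inv.hom a • x)) := by
  change (((Spec (CommRingCat.of A)).presheaf.map (𝟙 _)).hom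
    ((Scheme.ΓSpecIso (CommRingCat.of A)).inv.hom a)) • x = _
  rw [(Spec (CommRingCat.of A)).presheaf.map_id (op ⊤)]
  rfl

lemma Γ_map {M N : (Spec (CommRingCat.of A)).Modules} (ψ : M ⟶ N) (x : Γ(M, ⊤)) :
    ((ΓA A).map ψ).hom x = ψ.app ⊤ x := rfl

variable {X : Scheme.{u}} [X.Over (Spec (CommRingCat.of A))]
  [DCoh.HasRpush (X ↘ Spec (CommRingCat.of A))] (F : X.Modules) {G : X.Modules} (n m : ℤ) (p : ℕ)
  (h : m = n + p)

/-- `R^p f_* F` as `H^m(Rf_* F[-n])`. -/
noncomputable abbrev RM : X.Modules ⥤ (Spec (CommRingCat.of A)).Modules :=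
  DerivedCategory.singleFunctor X.Modules n ⋙ DCoh.Rpush (X ↘ Spec (CommRingCat.of A)) ⋙
    DerivedCategory.homologyFunctor _ m

/-- `H^p(X, F) → Γ(S, H^m(Rf_* F[-n]))`, linear version. -/
noncomputable def βL : HV X F p →ₗ[A] (ΓA A).obj ((RM A n m).obj F) where
  toFun := β (X ↘ Spec (CommRingCat.of A)) F n m p h
  map_add' := β_add _ _ _ _ _ _
  map_smul' := fun a x => (β_smul A n m p h a x).trans (smul_Γ A _ a _).symm

variable {F} in
/-- `H^p(X, F) = Γ(S, H^m(Rf_* F[-n]))`, linear version. -/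
noncomputable def βE [QuasiCompact (X ↘ Spec (CommRingCat.of A))] [QuasiSeparated (X ↘ Spec (CommRingCat.of A))]
    (hK : DCoh.IsQCohD ((DerivedCategory.singleFunctor X.Modules n).obj F)) :
    HV X F p ≃ₗ[A] (ΓA A).obj ((RM A n m).obj F) :=
  LinearEquiv.ofBijective (βL A F n m p h) (β_bijective _ F n m p h hK)

variable {F} in
lemma βL_map (φ : F ⟶ G) (x : HV X F p) :
    βL A G n m p h (HV.map A φ p x) = ((ΓA A).map ((RM A n m).map φ)).hom (βL A F n m p h x) :=
  β_map A n m p h φ x

end LinearΓ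


section Main

universe v₁ v₂ u₁ u₂

/-- The right adjoint is bijective on maps out of objects with invertible counit. -/
lemma map_bijective_of_isIso_counit {C : Type u₁} [Category.{v₁} C] {D : Type u₂} [Category.{v₂} D]
    {L : C ⥤ D} {R : D ⥤ C} (adj : L ⊣ R) (M V : D) [IsIso (adj.counit.app M)] :
    Function.Bijective (fun φ : M ⟶ V => R.map φ) := by
  constructor
  · intro φ ψ h
    have h1 := adj.counit.naturality φ
    have h2 := adj.counit.naturality ψ
    dsimp at h h1 h2
    rw [← cancel_epi (adj.counit.app M)]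
    rw [← h1, ← h2, h]
  · intro g
    refine ⟨inv (adj.counit.app M) ≫ L.map g ≫ adj.counit.app V, ?_⟩
    dsimp only
    rw [← cancel_epi (R.map (adj.counit.app M)), ← R.map_comp, IsIso.hom_inv_id_assoc]
    have h1 : adj.unit.app (R.obj M) = inv (R.map (adj.counit.app M)) := by
      rw [← cancel_mono (R.map (adj.counit.app M)), adj.right_triangle_components, IsIso.inv_hom_id]
      rfl
    have h2 := adj.unit.naturality g
    have h3 := adj.right_triangle_components V
    dsimp at h2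
    rw [R.map_comp, ← cancel_epi (inv (R.map (adj.counit.app M))), IsIso.inv_hom_id_assoc, ← h1,
      ← Category.assoc, ← h2, Category.assoc, h3]
    exact Category.comp_id _

/-- Global sections are bijective on maps out of quasi-coherent modules. -/
lemma map_bijective (R : CommRingCat.{u}) (M V : (Spec R).Modules) (hM : Coh.IsQCoh M) :
    Function.Bijective (fun φ : M ⟶ V => moduleSpecΓFunctor.map φ) := by
  have h1 : IsIso ((tilde.adjunction (R := R)).counit.app M) :=
    (PerfA.QCohExt.isIso_counitΓ_iff R M).2 hM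
  exact map_bijective_of_isIso_counit (tilde.adjunction (R := R)) M V

lemma hom_bijective {A : Type u} [CommRing A] {B C N : ModuleCat.{u} A} (i : C ≅ N) (H : Type u)
    [AddCommGroup H] [Module A H] (e : H ≃ₗ[A] B) :
    Function.Bijective (fun g : B ⟶ C => (i.hom.hom ∘ₗ g.hom) ∘ₗ e.toLinearMap) := by
  constructor
  · intro a b hab
    ext x
    obtain ⟨y, rfl⟩ := e.surjective x
    have h4 := LinearMap.congr_fun hab y
    exact (ConcreteCategory.bijective_of_isIso i.hom).1 h4
  · intro ψ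
    refine ⟨ModuleCat.ofHom (ψ ∘ₗ e.symm.toLinearMap) ≫ i.inv, ?_⟩
    ext y
    simp

section Represent

open Groth.Agent.CurvesC

variable (A : Type u) [CommRing A] {X : Scheme.{u}} [X.Over (Spec (CommRingCat.of A))]
  [DCoh.HasRpush (X ↘ Spec (CommRingCat.of A))] [QuasiCompact (X ↘ Spec (CommRingCat.of A))]
  [QuasiSeparated (X ↘ Spec (CommRingCat.of A))] (n m : ℤ) (p : ℕ) (h : m = n + p)

include h

/-- If maps `F ⟶ w` are maps `H^m(Rf_* F[-n]) ⟶ V` and `V = Ñ`, they are `A`-linear maps `H^p(X, F) → N`. -/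
theorem represent (V : (Spec (CommRingCat.of A)).Modules) (N : ModuleCat.{u} A) (eV : (ΓA A).obj V ≅ N)
    (w : X.Modules) (u : (RM A n m).obj w ⟶ V) (P : X.Modules → Prop)
    (hP : ∀ F, P F → DCoh.IsQCohD ((DerivedCategory.singleFunctor X.Modules n).obj F))
    (hu : ∀ F, P F → Function.Bijective (fun φ : F ⟶ w => (RM A n m).map φ ≫ u)) :
    ∃ t : HV X w p →ₗ[A] N, ∀ F : X.Modules, P F →
      Function.Bijective (fun φ : F ⟶ w => t ∘ₗ HV.map A φ p) := by
  refine ⟨eV.hom.hom ∘ₗ ((ΓA A).map u).hom ∘ₗ βL A w n m p h, fun F hF => ?_⟩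
  have hK := hP F hF
  have h1 := hu F hF
  have h2 : Function.Bijective (fun φ : (RM A n m).obj F ⟶ V => (ΓA A).map φ) :=
    map_bijective (CommRingCat.of A) _ _
      (PerfA.HypAdj.isQCohD_Rpush (X ↘ Spec (CommRingCat.of A)) hK m)
  have h3 : Function.Bijective (fun g : (ΓA A).obj ((RM A n m).obj F) ⟶ (ΓA A).obj V =>
      (eV.hom.hom ∘ₗ g.hom) ∘ₗ (βE A n m p h hK).toLinearMap) :=
    hom_bijective eV _ (βE A n m p h hK)
  convert h3.comp (h2.comp h1) using 1
  funext φ
  ext x
  have h5 := βL_map A n m p h φ x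
  change eV.hom.hom (((ΓA A).map u).hom (βL A w n m p h (HV.map A φ p x))) =
    eV.hom.hom (((ΓA A).map ((RM A n m).map φ ≫ u)).hom (βL A F n m p h x))
  rw [h5, Functor.map_comp]
  rfl

/-- The version with `Coh.HH`. -/
theorem represent' (V : (Spec (CommRingCat.of A)).Modules) (N : ModuleCat.{u} A) (eV : (ΓA A).obj V ≅ N)
    (w : X.Modules) (u : (RM A n m).obj w ⟶ V) (P : X.Modules → Prop)
    (hP : ∀ F, P F → DCoh.IsQCohD ((DerivedCategory.singleFunctor X.Modules n).obj F))
    (hu : ∀ F, P F → Function.Bijective (fun φ : F ⟶ w => (RM A n m).map φ ≫ u)) :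
    ∃ t : Coh.HH X w p →ₗ[A] N, ∀ F : X.Modules, P F → ∀ ψ : Coh.HH X F p →ₗ[A] N,
      ∃! φ : F ⟶ w, ∀ x : Coh.HH X F p,
        ψ x = t (Sheaf.H.map ((SheafOfModules.toSheaf X.ringCatSheaf).map φ) p x) := by
  obtain ⟨t, ht⟩ := represent A n m p h V N eV w u P hP hu
  refine ⟨t ∘ₗ (HV.equiv A w p).symm.toLinearMap, fun F hF ψ => ?_⟩
  obtain ⟨φ, hφ⟩ := (ht F hF).2 (ψ ∘ₗ (HV.equiv A F p).toLinearMap)
  refine ⟨φ, fun x => ?_, fun φ' hφ' => (ht F hF).1 ?_⟩
  · exact (LinearMap.congr_fun hφ ((HV.equiv A F p).symm x)).symm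
  · refine Eq.trans ?_ hφ.symm
    ext x
    exact (hφ' (HV.equiv A F p x)).symm

end Represent

end Main

end Groth.Agent.LoccohB.TopBridge540
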