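import Groth.Agent.LoccohB.TopRepSec

/-!
# Naturality of `Γ(Y, R^n f_* F) ≅ H^n(X, F)`
-/

set_option autoImplicit false
universe u

open CategoryTheory CategoryTheory.Limits AlgebraicGeometry Opposite TopologicalSpace

namespace Groth.Agent.LoccohB.TopRepSec

open Groth.Agent.Ega3B Groth.Agent.Ega3B.HHRes

attribute [local instance 3000] HHRes.hasSheafify HHRes.hasExt

variable {X Y : Scheme.{u}} (f : X ⟶ Y)

open RpushCmp

theorem tθ_naturality {C D : CochainComplex X.Modules ℕ} (φ : C ⟶ D) (n : ℕ)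
    (z : Γ(C.cycles n, ⊤)) :
    tθ f D n ((HomologicalComplex.cyclesMap φ n).app ⊤ z) =
      (HomologicalComplex.homologyMap
        (((Scheme.Modules.pushforward f).mapHomologicalComplex _).map φ) n).app ⊤ (tθ f C n z) := by
  have h1 : (Scheme.Modules.pushforward f).map (HomologicalComplex.cyclesMap φ n) ≫ α f D n =
      α f C n ≫ HomologicalComplex.cyclesMap
        (((Scheme.Modules.pushforward f).mapHomologicalComplex _).map φ) n := by
    rw [← cancel_mono ((pushCx f D).iCycles n), Category.assoc, Category.assoc, α_iCycles,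
      HomologicalComplex.cyclesMap_i]
    refine ((Scheme.Modules.pushforward f).map_comp _ _).symm.trans ?_
    rw [HomologicalComplex.cyclesMap_i, Functor.map_comp]
    exact (congrArg (· ≫ (Scheme.Modules.pushforward f).map (φ.f n)) (α_iCycles f C n)).symm.trans
      (Category.assoc _ _ _)
  have h2 : ((Scheme.Modules.pushforward f).map (HomologicalComplex.cyclesMap φ n) ≫ α f D n) ≫
      (pushCx f D).homologyπ n = (α f C n ≫ (pushCx f C).homologyπ n) ≫
      HomologicalComplex.homologyMap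
        (((Scheme.Modules.pushforward f).mapHomologicalComplex _).map φ) n := by
    rw [h1, Category.assoc, Category.assoc, HomologicalComplex.homologyπ_naturality]
  exact ConcreteCategory.congr_hom (congrArg (fun k => Scheme.Modules.Hom.app k ⊤) h2) z

theorem isoCycles_inv_naturality {F G : X.Modules} (φ : F ⟶ G) (I : InjectiveResolution F)
    (J : InjectiveResolution G) (φ' : I.cocomplex ⟶ J.cocomplex)
    (comm : I.ι.f 0 ≫ φ'.f 0 = φ ≫ J.ι.f 0) :
    HomologicalComplex.cyclesMap φ' 0 ≫ (isoCycles J).inv = (isoCycles I).inv ≫ φ := by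
  have hI : ∀ {F : X.Modules} (I : InjectiveResolution F),
      (isoCycles I).hom ≫ I.cocomplex.iCycles 0 = I.ι.f 0 := fun I =>
    I.isLimitKernelFork.conePointUniqueUpToIso_hom_comp (I.cocomplex.cyclesIsKernel 0 1 (by simp))
      WalkingParallelPair.zero
  rw [Iso.comp_inv_eq, Category.assoc, Iso.eq_inv_comp,
    ← cancel_mono (J.cocomplex.iCycles 0), Category.assoc, Category.assoc,
    HomologicalComplex.cyclesMap_i, ← Category.assoc, hI, hI]
  exact comm

variable [HasInjectiveResolutions X.Modules]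

theorem isCmp_naturality (n : ℕ) {F G : X.Modules} (φ : F ⟶ G)
    (eF : Γ((Coh.Rpush f n).obj F, ⊤) ≃+ Coh.HH X F n)
    (eG : Γ((Coh.Rpush f n).obj G, ⊤) ≃+ Coh.HH X G n)
    (hF : IsCmp f n F eF) (hG : IsCmp f n G eG)
    (hsur : Function.Surjective (tθ f (injectiveResolution F).cocomplex n))
    (s : Γ((Coh.Rpush f n).obj F, ⊤)) :
    eG (((Coh.Rpush f n).map φ).app ⊤ s) = Sheaf.H.map ((Φ X).map φ) n (eF s) := by
  let I : InjectiveResolution F := injectiveResolution F
  let J : InjectiveResolution G := injectiveResolution G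
  let φ' : I.cocomplex ⟶ J.cocomplex := InjectiveResolution.desc φ J I
  have comm : I.ι.f 0 ≫ φ'.f 0 = φ ≫ J.ι.f 0 := InjectiveResolution.desc_commutes_zero φ J I
  let i := I.isoRightDerivedObj (Scheme.Modules.pushforward f) n
  let j := J.isoRightDerivedObj (Scheme.Modules.pushforward f) n
  obtain ⟨z, hz⟩ := hsur (i.hom.app ⊤ s)
  have hs : s = i.inv.app ⊤ (tθ f I.cocomplex n z) := by
    refine Eq.trans ?_ (congrArg (i.inv.app ⊤) hz).symm
    change s = (i.hom ≫ i.inv).app ⊤ s
    rw [i.hom_inv_id]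
    rfl
  have h1 : i.inv ≫ (Coh.Rpush f n).map φ = HomologicalComplex.homologyMap
      (((Scheme.Modules.pushforward f).mapHomologicalComplex _).map φ') n ≫ j.inv :=
    InjectiveResolution.isoRightDerivedObj_inv_naturality φ I J φ' comm _ n
  have h2 : ((Coh.Rpush f n).map φ).app ⊤ s =
      j.inv.app ⊤ (tθ f J.cocomplex n ((HomologicalComplex.cyclesMap φ' n).app ⊤ z)) := by
    rw [tθ_naturality, hs]
    exact ConcreteCategory.congr_hom (congrArg (fun k => Scheme.Modules.Hom.app k ⊤) h1)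
      (tθ f I.cocomplex n z)
  rw [h2]
  refine (hG _).trans ?_
  refine (congrArg _ (gψ_naturality I.cocomplex (fun n => I.cocomplex_exactAt_succ n)
    (fun n => J.cocomplex_exactAt_succ n) φ' n z)).trans ?_
  rw [← Sheaf.H.map_comp_apply, ← Functor.map_comp]
  rw [isoCycles_inv_naturality φ I J φ' comm, Functor.map_comp, Sheaf.H.map_comp_apply]
  rw [hs]
  exact congrArg _ (hF z).symm

theorem tθ_surjective (F : X.Modules)
    (hH : ∀ (k m : ℕ), 0 < m → Subsingleton (Coh.HHon Y ((Coh.Rpush f k).obj F) ⊤ m)) (n : ℕ) :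
    Function.Surjective (tθ f (injectiveResolution F).cocomplex n) := by
  let I : InjectiveResolution F := injectiveResolution F
  let C := I.cocomplex
  have hflas : ∀ k, TopCat.Sheaf.IsFlasque (X := X.toTopCat) (Coh.toAb (C.X k)) := fun k =>
    InjMod.isFlasque_of_injective _
  have hK : ∀ (k m : ℕ), 0 < m → Subsingleton (Coh.HHon Y ((pushCx f C).X k) ⊤ m) :=
    fun k m hm => subsingleton_HHon_of_isFlasque _ (isFlasque_push f _ (hflas k)) _ m hm
  let i : ∀ k, (Coh.Rpush f k).obj F ≅ (pushCx f C).homology k := fun k =>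
    I.isoRightDerivedObj (Scheme.Modules.pushforward f) k
  have hH' : ∀ (k m : ℕ), 0 < m → Subsingleton (Coh.HHon Y ((pushCx f C).homology k) ⊤ m) :=
    fun k m hm => Groth.Agent.Fga.HShift.subsingleton_of_iso
      ((Scheme.Modules.restrictFunctor (⊤ : Y.Opens).ι).mapIso (i k)) m (hH k m hm)
  exact θ_surjective f C ⊤ hK hH' n

section affine

variable [QuasiCompact f] [QuasiSeparated f] [IsAffine Y]

theorem acyc_of_isQCoh (F : X.Modules) (hF : Coh.IsQCoh F) (k m : ℕ) (hm : 0 < m) :
    Subsingleton (Coh.HHon Y ((Coh.Rpush f k).obj F) ⊤ m) :=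
  RpushAff.subsingleton_HHon _ (Groth.Agent.CohqA.RelCoh.isQCoh_Rpush f F hF k)
    (isAffineOpen_top Y) m hm

/-- `Γ(Y, R^n f_* F) ≅ H^n(X, F)` for `Y` affine and `F` quasi-coherent. -/
noncomputable def beta (n : ℕ) (F : X.Modules) (hF : Coh.IsQCoh F) :
    Γ((Coh.Rpush f n).obj F, ⊤) ≃+ Coh.HH X F n :=
  (exists_isCmp f F (acyc_of_isQCoh f F hF) n).choose

theorem beta_smul (n : ℕ) (F : X.Modules) (hF : Coh.IsQCoh F) (r : Γ(Y, ⊤))
    (s : Γ((Coh.Rpush f n).obj F, ⊤)) :
    beta f n F hF (r • s) = (show Coh.Γtop X from f.appTop r) • beta f n F hF s :=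
  (exists_isCmp f F (acyc_of_isQCoh f F hF) n).choose_spec.2 r s

theorem beta_naturality (n : ℕ) {F G : X.Modules} (hF : Coh.IsQCoh F) (hG : Coh.IsQCoh G)
    (φ : F ⟶ G) (s : Γ((Coh.Rpush f n).obj F, ⊤)) :
    beta f n G hG (((Coh.Rpush f n).map φ).app ⊤ s) =
      Sheaf.H.map ((SheafOfModules.toSheaf X.ringCatSheaf).map φ) n (beta f n F hF s) :=
  isCmp_naturality f n φ _ _ (exists_isCmp f F (acyc_of_isQCoh f F hF) n).choose_spec.1
    (exists_isCmp f G (acyc_of_isQCoh f G hG) n).choose_spec.1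
    (tθ_surjective f F (acyc_of_isQCoh f F hF) n) s

end affine

end Groth.Agent.LoccohB.TopRepSec
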