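import Groth.Agent.Ega3B.RpushCmp
import Groth.Agent.Ega3B.RpushAff

/-!
# `Γ(Y, R^n f_* F) ≅ H^n(X, F)` naturally in `F`, for `Y` affine

* `gψ K hK n : Γ(Z^n(K), ⊤) → H^n(X, Z^0(K))`.
* `exists_natural_equiv`: for `f` quasi-compact and quasi-separated, `Y` affine, the isomorphisms
  `Γ(Y, R^n f_* F) ≅ H^n(X, F)` (`F` quasi-coherent), natural in `F` and linear over `Γ(Y, O_Y)`.
-/

set_option autoImplicit false
universe u

open CategoryTheory CategoryTheory.Limits AlgebraicGeometry Opposite TopologicalSpace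

namespace Groth.Agent.LoccohB.TopRepSec

open Groth.Agent.Ega3B Groth.Agent.Ega3B.HHRes

attribute [local instance 3000] HHRes.hasSheafify HHRes.hasExt

section global

variable {X : Scheme.{u}}

theorem e_inv_smul (M : X.Modules) (r : Γ(X, ⊤)) (s : Γ(M, ⊤)) :
    ((e X).inv.app M).hom (r • s) = (show zSh X ⟶ (Φ X).obj M from ((e X).inv.app M).hom s) ≫
      (Φ X).map (Formal.smulModΓ M r) := by
  apply (homEquiv ((Φ X).obj M)).injective
  refine Eq.trans ?_ (homEquiv_comp _ _).symm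
  have h1 : ∀ t : Γ(M, ⊤), homEquiv ((Φ X).obj M) (((e X).inv.app M).hom t) = t :=
    fun t => AddEquiv.apply_symm_apply _ _
  refine (h1 _).trans ?_
  refine (smulModΓ_app M r _).symm.trans ?_
  exact congrArg ((Formal.smulModΓ M r).app ⊤) (h1 s).symm

variable (K : CochainComplex X.Modules ℕ) (hK : ∀ n, K.ExactAt (n + 1))

/-- The comparison map `Γ(Z^n(K), ⊤) → H^n(X, Z^0(K))`. -/
noncomputable def gψ (n : ℕ) : Γ(K.cycles n, ⊤) →+ Coh.HH X (K.cycles 0) n :=
  AcycExt.ψ (Φ X) (zSh X) K hK _ (e X) n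

theorem gψ_smul (n : ℕ) (r : Γ(X, ⊤)) (z : Γ(K.cycles n, ⊤)) :
    gψ K hK n (r • z) = (show Coh.Γtop X from r) • gψ K hK n z := by
  refine AcycExt.ψ_naturality' (Φ X) (zSh X) K hK _ (e X) (Φ X) hK _ (e X)
    (fun n => (Φ X).map (Formal.smulModΓ (K.X n) r))
    (fun n => (Φ X).map (Formal.smulModΓ (K.cycles n) r))
    (fun n => ?_) (fun n => ?_) n z (r • z) (e_inv_smul _ r z)
  · rw [← (Φ X).map_comp, ← (Φ X).map_comp]
    exact congrArg (Φ X).map (smulModΓ_naturality (K.iCycles n) r)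
  · rw [← (Φ X).map_comp, ← (Φ X).map_comp]
    exact congrArg (Φ X).map (smulModΓ_naturality (K.toCycles n (n + 1)) r)

theorem gψ_naturality {L : CochainComplex X.Modules ℕ} (hL : ∀ n, L.ExactAt (n + 1)) (f : K ⟶ L)
    (n : ℕ) (z : Γ(K.cycles n, ⊤)) :
    gψ L hL n ((HomologicalComplex.cyclesMap f n).app ⊤ z) =
      Sheaf.H.map ((Φ X).map (HomologicalComplex.cyclesMap f 0)) n (gψ K hK n z) :=
  AcycExt.ψ_naturality (Φ X) (zSh X) K hK _ (e X) hL f n z

theorem gψ_zero_injective : Function.Injective (gψ K hK 0) :=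
  AcycExt.ψ_zero_injective (Φ X) (zSh X) K hK _ (e X)

variable (acyc : ∀ (k m : ℕ), 0 < m → Subsingleton (Coh.HH X (K.X k) m))

include acyc

theorem gψ_surjective (n : ℕ) : Function.Surjective (gψ K hK n) :=
  AcycExt.ψ_surjective (Φ X) (zSh X) K hK acyc _ (e X) n

theorem gψ_succ_eq_zero_iff (n : ℕ) (z : Γ(K.cycles (n + 1), ⊤)) :
    gψ K hK (n + 1) z = 0 ↔ ∃ y : Γ(K.X n, ⊤), (K.toCycles n (n + 1)).app ⊤ y = z :=
  AcycExt.ψ_succ_eq_zero_iff (Φ X) (zSh X) K hK acyc _ (e X) n z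

end global

section cmp

variable {X Y : Scheme.{u}} (f : X ⟶ Y) [HasInjectiveResolutions X.Modules]

open RpushCmp

/-- `θ` over the whole space. -/
noncomputable def tθ (C : CochainComplex X.Modules ℕ) (n : ℕ) :
    Γ(C.cycles n, ⊤) →+ Γ((pushCx f C).homology n, ⊤) := θ f C n ⊤

/-- the characterization of the comparison -/
def IsCmp (n : ℕ) (F : X.Modules) (e : Γ((Coh.Rpush f n).obj F, ⊤) ≃+ Coh.HH X F n) : Prop :=
  ∀ z : Γ((injectiveResolution F).cocomplex.cycles n, ⊤),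
    e (((injectiveResolution F).isoRightDerivedObj (Scheme.Modules.pushforward f) n).inv.app ⊤
      (tθ f (injectiveResolution F).cocomplex n z)) =
    Sheaf.H.map ((Φ X).map (isoCycles (injectiveResolution F)).inv) n
      (gψ (injectiveResolution F).cocomplex
        (fun n => (injectiveResolution F).cocomplex_exactAt_succ n) n z)

theorem exists_isCmp (F : X.Modules)
    (hH : ∀ (k m : ℕ), 0 < m → Subsingleton (Coh.HHon Y ((Coh.Rpush f k).obj F) ⊤ m)) (n : ℕ) :
    ∃ e : Γ((Coh.Rpush f n).obj F, ⊤) ≃+ Coh.HH X F n, IsCmp f n F e ∧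
      ∀ (r : Γ(Y, ⊤)) (s : Γ((Coh.Rpush f n).obj F, ⊤)),
        e (r • s) = (show Coh.Γtop X from f.appTop r) • e s := by
  let I : InjectiveResolution F := injectiveResolution F
  let C := I.cocomplex
  have hC : ∀ n, C.ExactAt (n + 1) := I.cocomplex_exactAt_succ
  have hflas : ∀ k, TopCat.Sheaf.IsFlasque (X := X.toTopCat) (Coh.toAb (C.X k)) := fun k =>
    InjMod.isFlasque_of_injective _
  have hac : ∀ (k m : ℕ), 0 < m → Subsingleton (Coh.HH X (C.X k) m) :=
    fun k m hm => subsingleton_HH_of_isFlasque _ (hflas k) m hm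
  have hK : ∀ (k m : ℕ), 0 < m → Subsingleton (Coh.HHon Y ((pushCx f C).X k) ⊤ m) :=
    fun k m hm => subsingleton_HHon_of_isFlasque _ (isFlasque_push f _ (hflas k)) _ m hm
  let i : ∀ k, (Coh.Rpush f k).obj F ≅ (pushCx f C).homology k := fun k =>
    I.isoRightDerivedObj (Scheme.Modules.pushforward f) k
  have hH' : ∀ (k m : ℕ), 0 < m → Subsingleton (Coh.HHon Y ((pushCx f C).homology k) ⊤ m) :=
    fun k m hm => Groth.Agent.Fga.HShift.subsingleton_of_iso
      ((Scheme.Modules.restrictFunctor (⊤ : Y.Opens).ι).mapIso (i k)) m (hH k m hm)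
  have hsur : Function.Surjective (tθ f C n) := θ_surjective f C ⊤ hK hH' n
  obtain ⟨e1, he1⟩ : ∃ e1 : Γ((pushCx f C).homology n, ⊤) ≃+ Coh.HH X (C.cycles 0) n,
      ∀ z, e1 (tθ f C n z) = gψ C hC n z := by
    refine exists_equiv_of_surjective _ _ hsur (gψ_surjective C hC hac n) ?_
    cases n with
    | zero =>
      intro a
      have h1 : tθ f C 0 a = 0 ↔ a = 0 :=
        (injective_iff_map_eq_zero' (tθ f C 0)).1 (θ_zero_injective f C ⊤) a
      have h2 : gψ C hC 0 a = 0 ↔ a = 0 :=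
        (injective_iff_map_eq_zero' _).1 (gψ_zero_injective C hC) a
      exact h1.trans h2.symm
    | succ n =>
      intro a
      have h1 : tθ f C (n + 1) a = 0 ↔ ∃ y : Γ(C.X n, ⊤), (C.toCycles n (n + 1)).app ⊤ y = a :=
        θ_succ_eq_zero_iff f C ⊤ hK hH' n a
      exact h1.trans (gψ_succ_eq_zero_iff C hC hac n a).symm
  let m := Groth.Agent.FormalA.HHLin.HHmapΓ (isoCycles I).inv n
  let m' := Groth.Agent.FormalA.HHLin.HHmapΓ (isoCycles I).hom n
  let e2 : Coh.HH X (C.cycles 0) n ≃+ Coh.HH X F n :=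
    { toFun := m
      invFun := m'
      left_inv := fun x => by
        change Sheaf.H.map ((HHRes.Φ X).mapIso (isoCycles I)).hom n
          (Sheaf.H.map ((HHRes.Φ X).mapIso (isoCycles I)).inv n x) = x
        rw [← Sheaf.H.map_comp_apply, Iso.inv_hom_id, Sheaf.H.map_id_apply]
      right_inv := fun x => by
        change Sheaf.H.map ((HHRes.Φ X).mapIso (isoCycles I)).inv n
          (Sheaf.H.map ((HHRes.Φ X).mapIso (isoCycles I)).hom n x) = x
        rw [← Sheaf.H.map_comp_apply, Iso.hom_inv_id, Sheaf.H.map_id_apply]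
      map_add' := map_add m }
  have h1 : ∀ (r : Γ(Y, ⊤)) (y : Γ((pushCx f C).homology n, ⊤)), e1 (r • y) =
      (show Coh.Γtop X from f.appTop r) • e1 y := by
    intro r y
    obtain ⟨z, rfl⟩ := hsur y
    rw [he1, ← gψ_smul, ← he1]
    congr 1
    exact (θ_smul f C n ⊤ r z).symm
  let e0 : Γ((Coh.Rpush f n).obj F, ⊤) ≃+ Γ((pushCx f C).homology n, ⊤) :=
    { toFun := (i n).hom.app ⊤
      invFun := (i n).inv.app ⊤
      left_inv := fun x => by
        change ((i n).hom ≫ (i n).inv).app ⊤ x = x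
        rw [(i n).hom_inv_id]
        rfl
      right_inv := fun x => by
        change ((i n).inv ≫ (i n).hom).app ⊤ x = x
        rw [(i n).inv_hom_id]
        rfl
      map_add' := map_add _ }
  refine ⟨e0.trans (e1.trans e2), fun z => ?_, fun r s => ?_⟩
  · have h2 : e0 ((i n).inv.app ⊤ (tθ f C n z)) = tθ f C n z := e0.right_inv _
    refine (congrArg (e1.trans e2) h2).trans ?_
    exact congrArg e2 (he1 z)
  · have h0 : e0 (r • s) = r • e0 s := Scheme.Modules.Hom.app_smul (i n).hom r s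
    rw [AddEquiv.trans_apply, AddEquiv.trans_apply, AddEquiv.trans_apply, AddEquiv.trans_apply, h0, h1]
    exact map_smul m _ _

end cmp

end Groth.Agent.LoccohB.TopRepSec
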