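import Groth.Agent.LoccohB.HomBC2
import Groth.Agent.PerfA.TildeSupp
import Groth.Agent.S0366
import Groth.Prelude.Def_DCoh2

/-!
# The dualizing complex of `Spec A` is in degrees `≥ -dim A`
-/

set_option autoImplicit false
universe u

open CategoryTheory CategoryTheory.Limits AlgebraicGeometry Pretriangulated
attribute [local instance] HasDerivedCategory.standard

namespace Groth.Agent.LoccohB.TopRepW

open DerivedCategory

theorem subsingleton_HD (A : Type u) [CommRing A] [IsLocalRing A] [IsNoetherianRing A] (ω : Dual.D A)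
    (hω : Dual.IsDualizing A ω) (hn : Dual.IsNormalized A ω) (dA : ℕ) (hdA : ringKrullDim A = dA)
    (i : ℤ) (hi : i < -(dA : ℤ)) : Subsingleton (Dual.HD A ω i) := by
  rw [HomBC.subsingleton_HD_iff]
  have h1 := (Groth.Agent.S0366.result A ω hω hn A dA
    ((Module.supportDim_self_eq_ringKrullDim (R := A)).trans hdA) i).1
  rw [← not_nontrivial_iff_subsingleton]
  intro h2
  have := (h1 h2).1
  omega

theorem isGE_tildeD (A : Type u) [CommRing A] [IsLocalRing A] [IsNoetherianRing A] (ω : Dual.D A)
    (hω : Dual.IsDualizing A ω) (hn : Dual.IsNormalized A ω) (dA : ℕ) (hdA : ringKrullDim A = dA)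
    [PreservesFiniteLimits (tilde.functor (CommRingCat.of A))]
    (W : DCoh.D (Spec (CommRingCat.of A)))
    (e : W ≅ (DCoh.tildeD (CommRingCat.of A)).obj ω) : W.IsGE (-(dA : ℤ)) := by
  rw [isGE_iff]
  intro i hi
  have h1 : IsZero ((homologyFunctor (ModuleCat.{u} A) i).obj ω) :=
    (HomBC.isZero_homology_iff ω i).2 (subsingleton_HD A ω hω hn dA hdA i hi)
  have h2 : IsZero ((tilde.functor (CommRingCat.of A)).obj
      ((homologyFunctor (ModuleCat.{u} A) i).obj ω)) := Functor.map_isZero (tilde.functor _) h1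
  have h3 : IsZero (DCoh.HD ((DCoh.tildeD (CommRingCat.of A)).obj ω) i) :=
    h2.of_iso (PerfA.TildeSupp.HDtilde (R := CommRingCat.of A) ω i)
  exact h3.of_iso ((homologyFunctor (Spec (CommRingCat.of A)).Modules i).mapIso e)

end Groth.Agent.LoccohB.TopRepW
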