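import Groth.Agent.S0366
import Groth.Agent.PerfB.TildeTorsion
import Groth.Agent.Localalg.DRingHom
import Mathlib.RingTheory.KrullDimension.Module

/-!
# A normalized dualizing complex of `A` lives in degrees `≥ -dim A`
-/

set_option autoImplicit false

universe u

open CategoryTheory CategoryTheory.Limits AlgebraicGeometry

attribute [local instance] HasDerivedCategory.standard

namespace Groth.Agent.LoccohB.TopW540

theorem isGE_of_isNormalized (A : Type u) [CommRing A] [IsLocalRing A] [IsNoetherianRing A] (ω : Dual.D A)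
    (hω : Dual.IsDualizing A ω) (hn : Dual.IsNormalized A ω) (dA : ℕ) (hdA : ringKrullDim A = dA) :
    ω.IsGE (-(dA : ℤ)) := by
  rw [DerivedCategory.isGE_iff]
  intro i hi
  by_contra h
  have h1 : Nontrivial (Dual.HD A ω i) := by
    by_contra h2
    rw [not_nontrivial_iff_subsingleton] at h2
    exact h (ModuleCat.isZero_of_subsingleton _)
  have h2 : Nontrivial (Dual.inD A A ⟶ ω⟦i⟧) :=
    (Localalg.DRingHom.ringEquiv A ω i).toEquiv.nontrivial
  have h3 := (S0366.result A ω hω hn A dA (by rw [Module.supportDim_self_eq_ringKrullDim, hdA]) i).1 h2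
  lia

theorem isGE_tildeD (R : CommRingCat.{u}) [PreservesFiniteLimits (tilde.functor R)]
    (K : DerivedCategory (ModuleCat.{u} R)) (n : ℤ) [K.IsGE n] : ((DCoh.tildeD R).obj K).IsGE n := by
  rw [DerivedCategory.isGE_iff]
  intro i hi
  exact IsZero.of_iso ((tilde.functor R).map_isZero (DerivedCategory.isZero_of_isGE K n i hi))
    (PerfB.TildeTorsion.homologyTildeIso R K i)

/-- Global sections of `H^i` of the derived tilde. -/
noncomputable def ΓHDIso (R : CommRingCat.{u}) [PreservesFiniteLimits (tilde.functor R)]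
    (K : DerivedCategory (ModuleCat.{u} R)) (W : DCoh.D (Spec R)) (e : W ≅ (DCoh.tildeD R).obj K) (i : ℤ) :
    moduleSpecΓFunctor.obj (DCoh.HD W i) ≅ (DerivedCategory.homologyFunctor (ModuleCat.{u} R) i).obj K :=
  moduleSpecΓFunctor.mapIso ((DerivedCategory.homologyFunctor _ i).mapIso e ≪≫
    PerfB.TildeTorsion.homologyTildeIso R K i) ≪≫
    (tilde.toTildeΓNatIso.app ((DerivedCategory.homologyFunctor (ModuleCat.{u} R) i).obj K)).symm

end Groth.Agent.LoccohB.TopW540
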