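import Groth.Agent.LoccohB.DCompCrit
import Groth.Agent.LoccohB.HomCxHD
import Groth.Agent.PerfA.HomologyCoprod
import Mathlib.Algebra.Category.ModuleCat.AB
import Mathlib.Algebra.Category.Grp.AB

/-!
# `RHom(T, N)` is derived complete for `T` torsion
-/

set_option autoImplicit false
set_option backward.isDefEq.respectTransparency false

universe u

open CategoryTheory Limits Pretriangulated

attribute [local instance] HasDerivedCategory.standard

namespace Groth.Agent.LoccohB.TorsSeq

open LocTri DCompCrit FInv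

variable {A : Type u} [CommRing A]

section Module

variable (f : A) {M S : ModuleCat.{u} A} (ι : ℕ → (M ⟶ S))

/-- `1 - σ` is bijective when `σ` is locally nilpotent. -/
lemma bijective_of_locNilp {M : Type*} [AddCommGroup M] [Module A M] (σ : M →ₗ[A] M)
    (h : ∀ x, ∃ n : ℕ, (σ ^ n) x = 0) (t : M →ₗ[A] M) (ht : t = LinearMap.id - σ) : Function.Bijective t := by
  subst ht
  constructor
  · refine (injective_iff_map_eq_zero _).2 fun x hx => ?_
    have h1 : σ x = x := by
      have : x - σ x = 0 := hx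
      rw [sub_eq_zero] at this
      exact this.symm
    have h2 : ∀ n : ℕ, (σ ^ n) x = x := by
      intro n
      induction n with
      | zero => simp
      | succ n ih => rw [pow_succ, Module.End.mul_apply, h1, ih]
    obtain ⟨n, hn⟩ := h x
    rw [← h2 n, hn]
  · intro y
    obtain ⟨n, hn⟩ := h y
    refine ⟨∑ j ∈ Finset.range n, (σ ^ j) y, ?_⟩
    have h3 : ∀ n : ℕ, (LinearMap.id - σ : M →ₗ[A] M) (∑ j ∈ Finset.range n, (σ ^ j) y) = y - (σ ^ n) y := by
      intro n
      induction n with
      | zero => simp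
      | succ n ih =>
        rw [Finset.sum_range_succ, map_add, ih, pow_succ', Module.End.mul_apply]
        simp
    rw [h3, hn, sub_zero]

lemma isIso_tel (hM : ElTor f M) (hι : ∀ {Z : ModuleCat.{u} A} (a b : S ⟶ Z), (∀ k, ι k ≫ a = ι k ≫ b) → a = b)
    (σ t : S ⟶ S) (hσ : ∀ k, ι k ≫ σ = f • ι (k + 1)) (ht : t = 𝟙 S - σ) : IsIso t := by
  rw [ConcreteCategory.isIso_iff_bijective]
  refine bijective_of_locNilp (M := S) σ.hom ?_ t.hom (by rw [ht]; rfl)
  have hpow : ∀ (n k : ℕ) (m : M), (σ.hom ^ n) ((ι k).hom m) = (ι (k + n)).hom (f ^ n • m) := by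
    intro n
    induction n with
    | zero => intro k m; simp
    | succ n ih =>
      intro k m
      rw [pow_succ, Module.End.mul_apply]
      have h1 : σ.hom ((ι k).hom m) = (ι (k + 1)).hom (f • m) := by
        have := ConcreteCategory.congr_hom (hσ k) m
        rw [map_smul]
        exact this
      rw [h1, ih, smul_smul, ← pow_succ]
      congr 2
      congr 1
      omega
  let N : Submodule A S :=
    { carrier := {x | ∃ n : ℕ, (σ.hom ^ n) x = 0}
      zero_mem' := ⟨0, by simp⟩
      add_mem' := by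
        rintro x y ⟨n, hn⟩ ⟨m, hm⟩
        refine ⟨n + m, ?_⟩
        rw [map_add, pow_add, Module.End.mul_apply, Module.End.mul_apply, hm, map_zero, add_zero]
        rw [← Module.End.mul_apply, ← pow_add, add_comm, pow_add, Module.End.mul_apply, hn, map_zero]
      smul_mem' := by
        rintro c x ⟨n, hn⟩
        exact ⟨n, by rw [map_smul, hn, smul_zero]⟩ }
  have h1 : ModuleCat.ofHom N.mkQ = 0 := by
    apply hι
    intro k
    ext m
    change N.mkQ ((ι k).hom m) = 0
    rw [Submodule.mkQ_apply, Submodule.Quotient.mk_eq_zero]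
    obtain ⟨n, hn⟩ := hM m
    exact ⟨n, by rw [hpow, hn, map_zero]⟩
  intro x
  have h2 : N.mkQ x = 0 := ConcreteCategory.congr_hom h1 x
  rw [Submodule.mkQ_apply, Submodule.Quotient.mk_eq_zero] at h2
  exact h2

end Module

/-- `Hom(X, N)^ℕ ⟶ Hom(X, N)^ℕ`, `(y_k) ↦ (y_k - f y_{k+1})` is bijective for `X` with `f`-power torsion cohomology. -/
theorem seqMap_hom_bijective (f : A) (X N : Dual.D A) (hX : ∀ i, ElTor f (Dual.HD A X i)) :
    Function.Bijective (seqMap (M := (X ⟶ N)) f) := by
  let S : Dual.D A := ∐ (fun _ : ℕ => X)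
  let ι : ℕ → (X ⟶ S) := Sigma.ι (fun _ : ℕ => X)
  let σ : S ⟶ S := Sigma.desc (fun k => f • ι (k + 1))
  let t : S ⟶ S := 𝟙 S - σ
  have hσ : ∀ k, ι k ≫ σ = f • ι (k + 1) := fun k => Sigma.ι_desc _ _
  have ht : IsIso t := by
    rw [DerivedCategory.isIso_iff]
    intro i
    let H := DerivedCategory.homologyFunctor (ModuleCat.{u} A) i
    refine isIso_tel f (fun k => H.map (ι k)) (hX i) ?_ (H.map σ) (H.map t) ?_ ?_
    · intro Z a b hab
      have hc := isColimitOfPreserves H (coproductIsCoproduct (fun _ : ℕ => X))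
      exact hc.hom_ext fun j => hab j.as
    · intro k
      rw [← Functor.map_comp, hσ, Functor.map_smul]
    · rw [Functor.map_sub, CategoryTheory.Functor.map_id]
  let E : (S ⟶ N) ≃ (ℕ → (X ⟶ N)) :=
    { toFun := fun g k => ι k ≫ g
      invFun := fun y => Sigma.desc y
      left_inv := fun g => Sigma.hom_ext _ _ fun k => Sigma.ι_desc _ _
      right_inv := fun y => funext fun k => Sigma.ι_desc _ _ }
  have h1 : seqMap (M := (X ⟶ N)) f = E ∘ (fun g => t ≫ g) ∘ E.symm := by
    funext y
    obtain ⟨g, rfl⟩ := E.surjective y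
    funext k
    simp only [Function.comp, Equiv.symm_apply_apply]
    change ι k ≫ g - f • (ι (k + 1) ≫ g) = ι k ≫ (𝟙 S - σ) ≫ g
    rw [Preadditive.sub_comp, Preadditive.comp_sub, Category.id_comp, ← Category.assoc, hσ, Linear.smul_comp]
  rw [h1]
  refine E.bijective.comp (Function.Bijective.comp ?_ E.symm.bijective)
  exact ⟨fun a b h => (cancel_epi t).1 h, fun g => ⟨inv t ≫ g, by simp⟩⟩

/-- The Hom complex out of a torsion complex is derived complete. -/
theorem isDerivedComplete_homCx (I : Ideal A) (G J : DRing.Cx A) [J.IsKInjective] (hG : IsTors I (DRing.toD G)) :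
    DRing.IsDerivedComplete I (DRing.toD (DRing.homCx G J)) := by
  apply isDerivedComplete_of_seq
  intro f hf n
  let e : (DerivedCategory.Q.obj G ⟶ (DerivedCategory.Q.obj J)⟦n⟧) ≃ₗ[A] Dual.HD A (DRing.toD (DRing.homCx G J)) n :=
    (HomCxHD.homologyEquiv G J n (HomCxHD.computes_of_isKInjective G J)).symm ≪≫ₗ
      (HomCxHD.hdEquiv (DRing.homCx G J) n).symm
  exact seqMap_bijective_of_equiv f e (seqMap_hom_bijective f _ _ (fun i => hG.elTor hf i))

end Groth.Agent.LoccohB.TorsSeq
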