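import Groth.Agent.LoccohB.DQCohTri
import Groth.Agent.Dcoh.DerSch
import Groth.Agent.PerfA.PerfLocal

/-!
# Vanishing of objects of `D(O_X)` on opens
-/

set_option autoImplicit false

universe u

open CategoryTheory CategoryTheory.Limits AlgebraicGeometry Pretriangulated

attribute [local instance] HasDerivedCategory.standard

namespace Groth.Agent.LoccohB.VanOn

open PerfA.Restrict

variable {X Y : Scheme.{u}}

/-- `K` has zero stalks at `x`. -/
def vanAt (K : DCoh.D X) (x : X) : Prop := ∀ i : ℤ, IsZero ((stalkAb x).obj (DCoh.HD K i))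

/-- `K|_U = 0`. -/
def vanOn (U : X.Opens) (K : DCoh.D X) : Prop := IsZero ((restrictD U.ι).obj K)

lemma vanAt_restrictD (j : X ⟶ Y) [IsOpenImmersion j] (K : DCoh.D Y) (x : X) :
    vanAt ((restrictD j).obj K) x ↔ vanAt K (j x) :=
  forall_congr' fun i =>
    (((stalkAb x).mapIso (HDrestrict j K i)) ≪≫ (stalkRestrict j x).app (DCoh.HD K i)).isZero_iff

lemma isZero_iff_vanAt (K : DCoh.D X) : IsZero K ↔ ∀ x, vanAt K x := by
  rw [PerfA.ExactD.isZero_iff]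
  constructor
  · intro h x i
    exact (isZero_iff_stalk _).1 (h i) x
  · intro h i
    exact (isZero_iff_stalk _).2 (fun x => h x i)

lemma isZero_restrictD_iff (j : X ⟶ Y) [IsOpenImmersion j] (K : DCoh.D Y) :
    IsZero ((restrictD j).obj K) ↔ ∀ x, vanAt K (j x) := by
  rw [isZero_iff_vanAt]
  exact forall_congr' fun x => vanAt_restrictD j K x

lemma vanOn_iff_vanAt (U : X.Opens) (K : DCoh.D X) : vanOn U K ↔ ∀ x ∈ U, vanAt K x := by
  rw [vanOn, isZero_restrictD_iff]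
  exact ⟨fun h x hx => h ⟨x, hx⟩, fun h x => h x.1 x.2⟩

lemma vanOn_iff (U : X.Opens) (K : DCoh.D X) :
    vanOn U K ↔ ∀ i : ℤ, IsZero ((DCoh.HD K i).restrict U.ι) := by
  rw [vanOn, PerfA.ExactD.isZero_iff]
  exact forall_congr' fun i => (HDrestrict U.ι K i).isZero_iff

lemma vanOn_restrictD (j : X ⟶ Y) [IsOpenImmersion j] (V : Y.Opens) (K : DCoh.D Y)
    (h : vanOn V K) : vanOn (j ⁻¹ᵁ V) ((restrictD j).obj K) := by
  rw [vanOn_iff_vanAt] at h ⊢
  intro x hx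
  rw [vanAt_restrictD]
  exact h _ hx

lemma vanOn_mono {U V : X.Opens} (h : U ≤ V) {K : DCoh.D X} (hK : vanOn V K) : vanOn U K := by
  rw [vanOn_iff_vanAt] at hK ⊢
  exact fun x hx => hK x (h hx)

lemma vanOn_sup {U V : X.Opens} {K : DCoh.D X} (h₁ : vanOn U K) (h₂ : vanOn V K) :
    vanOn (U ⊔ V) K := by
  rw [vanOn_iff_vanAt] at *
  rintro x (hx | hx)
  exacts [h₁ x hx, h₂ x hx]

lemma vanOn_of_local {U : X.Opens} {K : DCoh.D X}
    (h : ∀ x ∈ U, ∃ V : X.Opens, x ∈ V ∧ vanOn V K) : vanOn U K := by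
  rw [vanOn_iff_vanAt]
  intro x hx
  obtain ⟨V, hxV, hV⟩ := h x hx
  exact (vanOn_iff_vanAt V K).1 hV x hxV

lemma vanOn_of_iso {U : X.Opens} {K L : DCoh.D X} (e : K ≅ L) (h : vanOn U K) : vanOn U L :=
  h.of_iso ((restrictD U.ι).mapIso e.symm)

lemma vanOn_iff_of_iso {U : X.Opens} {K L : DCoh.D X} (e : K ≅ L) : vanOn U K ↔ vanOn U L :=
  ⟨vanOn_of_iso e, vanOn_of_iso e.symm⟩

lemma vanOn_bot (K : DCoh.D X) : vanOn ⊥ K := by
  rw [vanOn_iff_vanAt]
  intro x hx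
  exact hx.elim

lemma isZero_of_vanOn_top {K : DCoh.D X} (h : vanOn ⊤ K) : IsZero K := by
  rw [isZero_iff_vanAt]
  exact fun x => (vanOn_iff_vanAt _ _).1 h x trivial

lemma vanOn_ext₁ {U : X.Opens} (T : Triangle (DCoh.D X)) (hT : T ∈ distTriang _)
    (h₂ : vanOn U T.obj₂) (h₃ : vanOn U T.obj₃) : vanOn U T.obj₁ :=
  Triangle.isZero₁_of_isZero₂₃ _ ((restrictD U.ι).map_distinguished T hT) h₂ h₃

lemma vanOn_ext₂ {U : X.Opens} (T : Triangle (DCoh.D X)) (hT : T ∈ distTriang _)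
    (h₁ : vanOn U T.obj₁) (h₃ : vanOn U T.obj₃) : vanOn U T.obj₂ :=
  Triangle.isZero₂_of_isZero₁₃ _ ((restrictD U.ι).map_distinguished T hT) h₁ h₃

lemma vanOn_ext₃ {U : X.Opens} (T : Triangle (DCoh.D X)) (hT : T ∈ distTriang _)
    (h₁ : vanOn U T.obj₁) (h₂ : vanOn U T.obj₂) : vanOn U T.obj₃ :=
  Triangle.isZero₃_of_isZero₁₂ _ ((restrictD U.ι).map_distinguished T hT) h₁ h₂

lemma vanOn_shift {U : X.Opens} {K : DCoh.D X} (h : vanOn U K) (n : ℤ) : vanOn U (K⟦n⟧) :=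
  ((shiftFunctor _ n).map_isZero h).of_iso (((restrictD U.ι).commShiftIso n).app K)

instance additive_Rpush (f : X ⟶ Y) [DCoh.HasRpush f] : (DCoh.Rpush f).Additive := by
  letI := Dcoh.DerSch.rpushCommShift f
  haveI := Dcoh.DerSch.rpush_isTriangulated f
  infer_instance

/-- Open base change: if `K` vanishes on `f⁻¹ V` then `Rf_* K` vanishes on `V`. -/
theorem vanOn_Rpush (f : X ⟶ Y) [DCoh.HasRpush f] (V : Y.Opens) (K : DCoh.D X)
    (h : vanOn (f ⁻¹ᵁ V) K) : vanOn V ((DCoh.Rpush f).obj K) := by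
  have := Dcoh.DerSch.hasRpush (f ∣_ V)
  obtain ⟨e⟩ := Dcoh.DerSch.exists_rpushRestrictIso f (f ∣_ V) (f ⁻¹ᵁ V).ι V.ι
    (isPullback_morphismRestrict f V).flip
  exact ((DCoh.Rpush (f ∣_ V)).map_isZero h).of_iso (e.app K)

end Groth.Agent.LoccohB.VanOn
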